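import Groth.Agent.H65.WeilRestrCore

/-!
# Scheme-level Weil restriction along a finite free morphism of affine schemes

`exists_res`: for affine `U`, `U₁`, `V`, an étale `g₁ : U₁ ⟶ U`, a finite free `π : V ⟶ U₁` and an
arbitrary `τ : V ⟶ U`, the functor `T ↦ {μ : V ×_{U₁} T ⟶ U₁ | μ ≫ g₁ = pr_V ≫ τ}` on affine
`U₁`-schemes is represented by an affine étale `U₁`-scheme `U₂`.
-/

set_option autoImplicit false
universe u
open CategoryTheory CategoryTheory.Limits AlgebraicGeometry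
open scoped TensorProduct

namespace Groth.Agent.H65.WeilRestrSch

open Groth.Agent.H65.WeilRestrCore

/-- Every ring map out of the global sections of an affine scheme `Y` is induced by a morphism
to `Y`. -/
theorem exists_hom_appTop_eq {Z Y : Scheme.{u}} [IsAffine Y] (σ : Γ(Y, ⊤) ⟶ Γ(Z, ⊤)) :
    ∃ s : Z ⟶ Y, s.appTop = σ := by
  refine ⟨Z.toSpecΓ ≫ Spec.map σ ≫ Y.isoSpec.inv, ?_⟩
  have h1 : Y.isoSpec.inv.appTop ≫ (Scheme.ΓSpecIso Γ(Y, ⊤)).hom = 𝟙 _ := by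
    rw [← Scheme.toSpecΓ_appTop, ← Scheme.Hom.comp_appTop, Scheme.toSpecΓ_isoSpec_inv]
    rfl
  rw [Scheme.Hom.comp_appTop, Scheme.Hom.comp_appTop, Scheme.toSpecΓ_appTop, Category.assoc,
    Scheme.ΓSpecIso_naturality, ← Category.assoc, h1, Category.id_comp]

/-- A pushout square of commutative rings identifies the apex with the tensor product. -/
theorem exists_ringEquiv_of_isPushout {K B C P : CommRingCat.{u}} (f : K ⟶ B) (a : K ⟶ C)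
    (j₁ : B ⟶ P) (j₂ : C ⟶ P) (h : IsPushout f a j₁ j₂) [Algebra K B] [Algebra K C]
    (hf : algebraMap K B = f.hom) (ha : algebraMap K C = a.hom) :
    ∃ e : B ⊗[K] C ≃+* P, (∀ b : B, e (b ⊗ₜ[K] (1 : C)) = j₁.hom b) ∧
      ∀ c : C, e ((1 : B) ⊗ₜ[K] c) = j₂.hom c := by
  have h' : IsPushout (CommRingCat.ofHom (algebraMap K B)) (CommRingCat.ofHom (algebraMap K C))
      j₁ j₂ := by
    rw [hf, ha]; exact h
  let e := (CommRingCat.isPushout_tensorProduct K B C).isoIsPushout _ _ h'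
  refine ⟨e.commRingCatIsoToRingEquiv, fun b => ?_, fun c => ?_⟩
  · have := (CommRingCat.isPushout_tensorProduct K B C).inl_isoIsPushout_hom _ _ h'
    exact congrArg (fun ψ => ψ.hom b) this
  · have := (CommRingCat.isPushout_tensorProduct K B C).inr_isoIsPushout_hom _ _ h'
    exact congrArg (fun ψ => ψ.hom c) this

section Univ

variable {U U₁ V U₂ : Scheme.{u}} [IsAffine U] [IsAffine U₁] [IsAffine V] [IsAffine U₂]
  (g₁ : U₁ ⟶ U) (π : V ⟶ U₁) (τ : V ⟶ U) (p : U₂ ⟶ U₁)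
  [Algebra Γ(U, ⊤) Γ(U₁, ⊤)] [Algebra Γ(U₁, ⊤) Γ(V, ⊤)] [Algebra Γ(U, ⊤) Γ(V, ⊤)]
  [Algebra Γ(U₁, ⊤) Γ(U₂, ⊤)]

omit [IsAffine U₁] [IsAffine V] [IsAffine U₂] in
/-- The comparison of the two tensor descriptions along a morphism of pullbacks. -/
theorem appTop_comp_equiv
    {T : Scheme.{u}} (a : T ⟶ U₁) [Algebra Γ(U₁, ⊤) Γ(T, ⊤)]
    (e₂ : Γ(V, ⊤) ⊗[Γ(U₁, ⊤)] Γ(U₂, ⊤) ≃+* Γ(pullback π p, ⊤))
    (he₂l : ∀ v : Γ(V, ⊤), e₂ (v ⊗ₜ 1) = (pullback.fst π p).appTop.hom v)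
    (he₂r : ∀ w : Γ(U₂, ⊤), e₂ (1 ⊗ₜ w) = (pullback.snd π p).appTop.hom w)
    (eT : Γ(V, ⊤) ⊗[Γ(U₁, ⊤)] Γ(T, ⊤) ≃+* Γ(pullback π a, ⊤))
    (heTl : ∀ v : Γ(V, ⊤), eT (v ⊗ₜ 1) = (pullback.fst π a).appTop.hom v)
    (heTr : ∀ c : Γ(T, ⊤), eT (1 ⊗ₜ c) = (pullback.snd π a).appTop.hom c)
    (b : T ⟶ U₂) (φ : Γ(U₂, ⊤) →ₐ[Γ(U₁, ⊤)] Γ(T, ⊤))
    (hφ : ∀ w, φ w = b.appTop.hom w)
    (x : pullback π a ⟶ pullback π p) (hx1 : x ≫ pullback.fst π p = pullback.fst π a)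
    (hx2 : x ≫ pullback.snd π p = pullback.snd π a ≫ b)
    (z : Γ(V, ⊤) ⊗[Γ(U₁, ⊤)] Γ(U₂, ⊤)) :
    x.appTop.hom (e₂ z) =
      eT (Algebra.TensorProduct.map (AlgHom.id Γ(V, ⊤) Γ(V, ⊤)) φ z) := by
  induction z using TensorProduct.induction_on with
  | zero => simp
  | tmul v w =>
    have h1 : v ⊗ₜ[Γ(U₁, ⊤)] w = (v ⊗ₜ 1) * (1 ⊗ₜ w) := by
      rw [Algebra.TensorProduct.tmul_mul_tmul, mul_one, one_mul]
    have h2 : v ⊗ₜ[Γ(U₁, ⊤)] (φ w) = (v ⊗ₜ 1) * (1 ⊗ₜ (φ w)) := by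
      rw [Algebra.TensorProduct.tmul_mul_tmul, mul_one, one_mul]
    rw [Algebra.TensorProduct.map_tmul, AlgHom.id_apply, h1, h2, map_mul, map_mul, map_mul,
      he₂l, he₂r, heTl, heTr, hφ]
    have e1 : x.appTop.hom ((pullback.fst π p).appTop.hom v) = (pullback.fst π a).appTop.hom v := by
      rw [← hx1, Scheme.Hom.comp_appTop]; rfl
    have e2 : x.appTop.hom ((pullback.snd π p).appTop.hom w) =
        (pullback.snd π a).appTop.hom (b.appTop.hom w) := by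
      have := congrArg (fun ψ => ψ.appTop.hom w) hx2
      simp only [Scheme.Hom.comp_appTop] at this
      exact this
    rw [e1, e2]
  | add z z' hz hz' => rw [map_add, map_add, map_add, map_add, hz, hz']

/-- From a ring-level Weil restriction datum on `Γ(U₂)` to the scheme-level universal property. -/
theorem univ_of_isRes
    (hg : algebraMap Γ(U, ⊤) Γ(U₁, ⊤) = g₁.appTop.hom)
    (hπ : algebraMap Γ(U₁, ⊤) Γ(V, ⊤) = π.appTop.hom)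
    (hτ : algebraMap Γ(U, ⊤) Γ(V, ⊤) = τ.appTop.hom)
    (hp : algebraMap Γ(U₁, ⊤) Γ(U₂, ⊤) = p.appTop.hom)
    (lam' : Γ(U₁, ⊤) →+* Γ(V, ⊤) ⊗[Γ(U₁, ⊤)] Γ(U₂, ⊤))
    (hres : IsRes Γ(U, ⊤) Γ(U₁, ⊤) Γ(V, ⊤) Γ(U₂, ⊤) lam') :
    ∃ lam : pullback π p ⟶ U₁, lam ≫ g₁ = pullback.fst π p ≫ τ ∧
      ∀ (T : Scheme.{u}) [IsAffine T] (a : T ⟶ U₁) (μ : pullback π a ⟶ U₁),
        μ ≫ g₁ = pullback.fst π a ≫ τ →
        ∃! b : T ⟶ U₂, b ≫ p = a ∧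
          ∀ x : pullback π a ⟶ pullback π p, x ≫ pullback.fst π p = pullback.fst π a →
            x ≫ pullback.snd π p = pullback.snd π a ≫ b → x ≫ lam = μ := by
  obtain ⟨e₂, he₂l, he₂r⟩ := exists_ringEquiv_of_isPushout π.appTop p.appTop
    (pullback.fst π p).appTop (pullback.snd π p).appTop
    (isPushout_appTop_of_isPullback (IsPullback.of_hasPullback π p)) hπ hp
  obtain ⟨lam, hlam⟩ := exists_hom_appTop_eq (Z := pullback π p) (Y := U₁)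
    (CommRingCat.ofHom (e₂.toRingHom.comp lam'))
  have hlam' : ∀ k : Γ(U₁, ⊤), lam.appTop.hom k = e₂ (lam' k) := by
    intro k; rw [hlam]; rfl
  refine ⟨lam, ?_, ?_⟩
  · apply ext_of_isAffine
    rw [Scheme.Hom.comp_appTop, Scheme.Hom.comp_appTop]
    ext r
    change lam.appTop.hom (g₁.appTop.hom r) = (pullback.fst π p).appTop.hom (τ.appTop.hom r)
    rw [hlam', ← hg, hres.1 r, he₂l, hτ]
  · intro T _ a μ hμ
    let _ : Algebra Γ(U₁, ⊤) Γ(T, ⊤) := a.appTop.hom.toAlgebra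
    have ha : algebraMap Γ(U₁, ⊤) Γ(T, ⊤) = a.appTop.hom := rfl
    obtain ⟨eT, heTl, heTr⟩ := exists_ringEquiv_of_isPushout π.appTop a.appTop
      (pullback.fst π a).appTop (pullback.snd π a).appTop
      (isPushout_appTop_of_isPullback (IsPullback.of_hasPullback π a)) hπ ha
    let μ' : Γ(U₁, ⊤) →+* Γ(V, ⊤) ⊗[Γ(U₁, ⊤)] Γ(T, ⊤) := eT.symm.toRingHom.comp μ.appTop.hom
    have hμ' : ∀ r : Γ(U, ⊤), μ' (algebraMap Γ(U, ⊤) Γ(U₁, ⊤) r) =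
        algebraMap Γ(U, ⊤) Γ(V, ⊤) r ⊗ₜ[Γ(U₁, ⊤)] (1 : Γ(T, ⊤)) := by
      intro r
      change eT.symm (μ.appTop.hom (algebraMap Γ(U, ⊤) Γ(U₁, ⊤) r)) = _
      rw [RingEquiv.symm_apply_eq, heTl, hg, hτ]
      have := congrArg (fun ψ => ψ.appTop.hom r) hμ
      simp only [Scheme.Hom.comp_appTop] at this
      exact this
    obtain ⟨φ, hφ, huniq⟩ := hres.2 Γ(T, ⊤) μ' hμ'
    -- the criterion `x ≫ lam = μ ↔ (id ⊗ φ₁) ∘ lam' = μ'`
    have crit : ∀ (b₁ : T ⟶ U₂) (φ₁ : Γ(U₂, ⊤) →ₐ[Γ(U₁, ⊤)] Γ(T, ⊤))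
        (_ : ∀ w, φ₁ w = b₁.appTop.hom w) (x : pullback π a ⟶ pullback π p)
        (_ : x ≫ pullback.fst π p = pullback.fst π a)
        (_ : x ≫ pullback.snd π p = pullback.snd π a ≫ b₁),
        x ≫ lam = μ ↔
          (Algebra.TensorProduct.map (AlgHom.id Γ(V, ⊤) Γ(V, ⊤)) φ₁).toRingHom.comp lam' = μ' := by
      intro b₁ φ₁ hφ₁ x hx1 hx2
      have hcomp := appTop_comp_equiv π p a e₂ he₂l he₂r eT heTl heTr b₁ φ₁ hφ₁ x hx1 hx2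
      constructor
      · intro h
        apply RingHom.ext
        intro k
        change (Algebra.TensorProduct.map (AlgHom.id Γ(V, ⊤) Γ(V, ⊤)) φ₁) (lam' k) =
          eT.symm (μ.appTop.hom k)
        rw [RingEquiv.eq_symm_apply, ← hcomp, ← hlam', ← h, Scheme.Hom.comp_appTop]
        rfl
      · intro h
        apply ext_of_isAffine
        rw [Scheme.Hom.comp_appTop]
        ext k
        change x.appTop.hom (lam.appTop.hom k) = μ.appTop.hom k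
        rw [hlam', hcomp]
        have := RingHom.congr_fun h k
        change (Algebra.TensorProduct.map (AlgHom.id Γ(V, ⊤) Γ(V, ⊤)) φ₁) (lam' k) =
          eT.symm (μ.appTop.hom k) at this
        rw [this, RingEquiv.apply_symm_apply]
    obtain ⟨b, hb⟩ := exists_hom_appTop_eq (Z := T) (Y := U₂) (CommRingCat.ofHom φ.toRingHom)
    have hbφ : ∀ w, φ w = b.appTop.hom w := by
      intro w; rw [hb]; rfl
    have hbp : b ≫ p = a := by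
      apply ext_of_isAffine
      rw [Scheme.Hom.comp_appTop]
      ext k
      change b.appTop.hom (p.appTop.hom k) = a.appTop.hom k
      rw [← hbφ, ← hp, AlgHom.commutes]
      rfl
    refine ⟨b, ⟨hbp, fun x hx1 hx2 => (crit b φ hbφ x hx1 hx2).mpr hφ⟩, ?_⟩
    rintro b' ⟨hb'p, hb'x⟩
    -- the algebra map attached to `b'`
    let φ' : Γ(U₂, ⊤) →ₐ[Γ(U₁, ⊤)] Γ(T, ⊤) :=
      { b'.appTop.hom with
        commutes' := fun k => by
          change b'.appTop.hom (algebraMap Γ(U₁, ⊤) Γ(U₂, ⊤) k) = a.appTop.hom k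
          rw [hp, ← hb'p, Scheme.Hom.comp_appTop]
          rfl }
    have hφ'b : ∀ w, φ' w = b'.appTop.hom w := fun w => rfl
    let x' : pullback π a ⟶ pullback π p :=
      pullback.lift (pullback.fst π a) (pullback.snd π a ≫ b')
        (by rw [Category.assoc, hb'p, pullback.condition])
    have hx'1 : x' ≫ pullback.fst π p = pullback.fst π a := pullback.lift_fst _ _ _
    have hx'2 : x' ≫ pullback.snd π p = pullback.snd π a ≫ b' := pullback.lift_snd _ _ _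
    have h1 := (crit b' φ' hφ'b x' hx'1 hx'2).mp (hb'x x' hx'1 hx'2)
    have h2 : φ' = φ := huniq φ' h1
    apply ext_of_isAffine
    ext w
    change b'.appTop.hom w = b.appTop.hom w
    rw [← hbφ, ← h2]
    rfl

end Univ

/-- **Scheme-level Weil restriction (existence and universal property).** -/
theorem exists_res_univ {U U₁ V : Scheme.{u}} [IsAffine U] [IsAffine U₁] [IsAffine V]
    (g₁ : U₁ ⟶ U) [Etale g₁] (π : V ⟶ U₁) [IsFinite π]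
    (hfree : letI := π.appTop.hom.toAlgebra; Module.Free Γ(U₁, ⊤) Γ(V, ⊤)) (τ : V ⟶ U) :
    ∃ (U₂ : Scheme.{u}) (p : U₂ ⟶ U₁) (lam : pullback π p ⟶ U₁), IsAffine U₂ ∧ Etale p ∧
      lam ≫ g₁ = pullback.fst π p ≫ τ ∧
      ∀ (T : Scheme.{u}) [IsAffine T] (a : T ⟶ U₁) (μ : pullback π a ⟶ U₁),
        μ ≫ g₁ = pullback.fst π a ≫ τ →
        ∃! b : T ⟶ U₂, b ≫ p = a ∧
          ∀ x : pullback π a ⟶ pullback π p, x ≫ pullback.fst π p = pullback.fst π a →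
            x ≫ pullback.snd π p = pullback.snd π a ≫ b → x ≫ lam = μ := by
  letI a1 : Algebra Γ(U, ⊤) Γ(U₁, ⊤) := g₁.appTop.hom.toAlgebra
  letI a2 : Algebra Γ(U₁, ⊤) Γ(V, ⊤) := π.appTop.hom.toAlgebra
  letI a3 : Algebra Γ(U, ⊤) Γ(V, ⊤) := τ.appTop.hom.toAlgebra
  haveI : Module.Free Γ(U₁, ⊤) Γ(V, ⊤) := hfree
  haveI : Module.Finite Γ(U₁, ⊤) Γ(V, ⊤) := Scheme.Hom.finite_appTop π
  haveI : Algebra.Etale Γ(U, ⊤) Γ(U₁, ⊤) :=
    (HasRingHomProperty.iff_of_isAffine (P := @Etale) (f := g₁)).mp inferInstance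
  obtain ⟨p, hp⟩ := exists_hom_appTop_eq (Z := Spec (.of (W Γ(U, ⊤) Γ(U₁, ⊤) Γ(V, ⊤)))) (Y := U₁)
    (CommRingCat.ofHom (algebraMap Γ(U₁, ⊤) (W Γ(U, ⊤) Γ(U₁, ⊤) Γ(V, ⊤))) ≫
      (Scheme.ΓSpecIso (.of (W Γ(U, ⊤) Γ(U₁, ⊤) Γ(V, ⊤)))).inv)
  letI a4 : Algebra Γ(U₁, ⊤) Γ(Spec (.of (W Γ(U, ⊤) Γ(U₁, ⊤) Γ(V, ⊤))), ⊤) :=
    p.appTop.hom.toAlgebra
  let θ : W Γ(U, ⊤) Γ(U₁, ⊤) Γ(V, ⊤) ≃ₐ[Γ(U₁, ⊤)]
      Γ(Spec (.of (W Γ(U, ⊤) Γ(U₁, ⊤) Γ(V, ⊤))), ⊤) :=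
    { (Scheme.ΓSpecIso (.of (W Γ(U, ⊤) Γ(U₁, ⊤) Γ(V, ⊤)))).symm.commRingCatIsoToRingEquiv with
      commutes' := fun k => by
        change (Scheme.ΓSpecIso (.of (W Γ(U, ⊤) Γ(U₁, ⊤) Γ(V, ⊤)))).inv.hom
          (algebraMap Γ(U₁, ⊤) (W Γ(U, ⊤) Γ(U₁, ⊤) Γ(V, ⊤)) k) = p.appTop.hom k
        rw [hp]
        rfl }
  have hres := (isRes_W Γ(U, ⊤) Γ(U₁, ⊤) Γ(V, ⊤)).of_equiv θ
  obtain ⟨lam, hlam, huniv⟩ := univ_of_isRes g₁ π τ p rfl rfl rfl rfl _ hres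
  refine ⟨_, p, lam, inferInstance, ?_, hlam, huniv⟩
  rw [HasRingHomProperty.iff_of_isAffine (P := @Etale)]
  change Algebra.Etale Γ(U₁, ⊤) Γ(Spec (.of (W Γ(U, ⊤) Γ(U₁, ⊤) Γ(V, ⊤))), ⊤)
  exact Algebra.Etale.of_equiv θ

end Groth.Agent.H65.WeilRestrSch
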