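import Groth.Agent.H65.AlgSpBoot
import Groth.Agent.H53.Points

/-!
# Bootstrap, second part: covers representable by algebraic spaces

* `exists_iso_yon_of_isPullback_of_lft`: a fibre product `P = h_A ×_F h_B` which is an algebraic space
  and whose étale charts are locally of finite type over `A × B` is representable by a scheme.
* `isAlgSpace_of_repBySpWith_cover`: a sheaf `F` with a surjective étale map `X ⟶ F` from an algebraic
  space which is representable by algebraic spaces is an algebraic space.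
-/

set_option autoImplicit false
universe u
open CategoryTheory CategoryTheory.Limits AlgebraicGeometry Opposite

namespace Groth.Agent.H65.AlgSpBoot

open AlgSp

variable {S : Scheme.{u}}

/-- A fibre product `P = h_A ×_F h_B` which is an algebraic space and all of whose étale charts are
locally of finite type over `A × B` is representable by a scheme. -/
theorem exists_iso_yon_of_isPullback_of_lft {P F : Sp S} {A B : Over S}
    {fst : P ⟶ (yon S).obj A} {snd : P ⟶ (yon S).obj B} {f : (yon S).obj A ⟶ F}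
    {g : (yon S).obj B ⟶ F} (sq : IsPullback fst snd f g) (hP : IsAlgSpace P)
    (hl : ∀ ⦃U₁ : Over S⦄ (c : (yon S).obj U₁ ⟶ P) (x : U₁ ⟶ A ⨯ B), RepWith @Etale c →
      c ≫ fst = (yon S).map (x ≫ prod.fst) → c ≫ snd = (yon S).map (x ≫ prod.snd) →
      LocallyOfFiniteType x.left) :
    ∃ G : Over S, Nonempty ((yon S).obj G ≅ P) := by
  let m : P ⟶ (yon S).obj (A ⨯ B) := prod.lift fst snd ≫ inv (prodComparison (yon S) A B)
  have hm1 : m ≫ (yon S).map (prod.fst : A ⨯ B ⟶ A) = fst := by
    rw [Category.assoc, ← prodComparison_fst, IsIso.inv_hom_id_assoc, prod.lift_fst]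
  have hm2 : m ≫ (yon S).map (prod.snd : A ⨯ B ⟶ B) = snd := by
    rw [Category.assoc, ← prodComparison_snd, IsIso.inv_hom_id_assoc, prod.lift_snd]
  have hmono : Mono m := by
    refine ⟨fun {Z} u v huv => ?_⟩
    have e1 : u ≫ fst = v ≫ fst := by rw [← hm1, ← Category.assoc, huv, Category.assoc]
    have e2 : u ≫ snd = v ≫ snd := by rw [← hm2, ← Category.assoc, huv, Category.assoc]
    exact sq.hom_ext e1 e2
  have hlft : LocP @LocallyOfFiniteType m := by
    intro U₁ V₁ c d k hc hd hcomm
    obtain ⟨d₀, rfl⟩ := (yon S).map_surjective d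
    suffices h : LocallyOfFiniteType (k ≫ d₀).left by
      rw [Over.comp_left] at h
      exact locallyOfFiniteType_of_comp k.left d₀.left
    refine hl c (k ≫ d₀) hc ?_ ?_
    · rw [← hm1, ← Category.assoc, hcomm, ← Functor.map_comp, ← Functor.map_comp]
    · rw [← hm2, ← Category.assoc, hcomm, ← Functor.map_comp, ← Functor.map_comp]
  obtain ⟨hrep, -, -⟩ := (Groth.Agent.S10613.result
    (X := ⟨P, hP⟩) (Y := (AlgSp.ofScheme S).obj (A ⨯ B)) (ObjectProperty.homMk m)).2.2.2
    ⟨hlft, hmono⟩
  obtain ⟨G, s, fst', sq'⟩ := hrep (𝟙 ((yon S).obj (A ⨯ B)))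
  have sq'' : IsPullback fst' ((yon S).map s) m (𝟙 ((yon S).obj (A ⨯ B))) := sq'
  have hiso : IsIso fst' := sq''.isIso_fst_of_isIso
  exact ⟨G, ⟨asIso fst'⟩⟩

/-- A sheaf `F` with a map `p : X ⟶ F` from an algebraic space which is representable by algebraic
spaces, surjective and étale is an algebraic space. -/
theorem isAlgSpace_of_repBySpWith_cover {F X : Sp S} (hX : IsAlgSpace X) (p : X ⟶ F)
    (hp : RepBySpWith (IsSurjectiveMor ⊓ IsEtaleMor) p.hom) : IsAlgSpace F := by
  obtain ⟨U₀, c, hcE, hcS⟩ := hX.atlas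
  have key : ∀ ⦃T : Over S⦄ (ξ : (yon S).obj T ⟶ F), ∃ (G : Over S)
      (fst : (yon S).obj G ⟶ (yon S).obj U₀) (s : G ⟶ T),
      IsPullback fst ((yon S).map s) (c ≫ p) ξ ∧ Etale s.left ∧ Surjective s.left := by
    intro T ξ
    have sq : IsPullback (pullback.fst p ξ) (pullback.snd p ξ) p ξ := IsPullback.of_hasPullback _ _
    obtain ⟨h, hA, hQ⟩ := hp ξ.hom _ _ (sq.map (sheafToPresheaf (J S) (Type (u + 1))))
    have hA' : IsAlgSpace (pullback p ξ) := hA
    have hsurj : IsSurjectiveMor (pullback.snd p ξ) := hQ.1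
    have het : IsEtaleMor (pullback.snd p ξ) := hQ.2
    have sq2 : IsPullback (pullback.fst c (pullback.fst p ξ)) (pullback.snd c (pullback.fst p ξ)) c
        (pullback.fst p ξ) := IsPullback.of_hasPullback _ _
    have hF'' : IsAlgSpace (pullback c (pullback.fst p ξ)) :=
      Groth.Agent.H49.isAlgSpace_of_isPullback sq2 hX.diag (IsAlgSpace.yon_obj U₀) hA'
    have hsE : RepWith @Etale (pullback.snd c (pullback.fst p ξ)) :=
      MorphismProperty.of_isPullback (P := RepWith (S := S) @Etale) sq2 hcE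
    have hsS : RepWith @Surjective (pullback.snd c (pullback.fst p ξ)) :=
      MorphismProperty.of_isPullback (P := RepWith (S := S) @Surjective) sq2 hcS
    have sqB := sq2.paste_vert sq
    obtain ⟨G, ⟨e⟩⟩ := exists_iso_yon_of_isPullback_of_lft sqB hF'' (by
      intro U₁ c₁ x hc₁ h1 h2
      have h3 : RepWith @Etale ((c₁ ≫ pullback.snd c (pullback.fst p ξ)) ≫ pullback.snd p ξ) :=
        het _ ((RepWith @Etale).comp_mem _ _ hc₁ hsE)
      rw [Category.assoc, h2] at h3
      have h4 : Etale (x ≫ prod.snd).left := (repWith_yon_map_iff _ _).1 h3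
      rw [Over.comp_left] at h4
      exact locallyOfFiniteType_of_comp x.left (prod.snd : U₀ ⨯ T ⟶ T).left)
    obtain ⟨s, hs'⟩ := (yon S).map_surjective
      (e.hom ≫ pullback.snd c (pullback.fst p ξ) ≫ pullback.snd p ξ)
    have sqL : IsPullback e.hom (e.hom ≫ pullback.snd c (pullback.fst p ξ) ≫ pullback.snd p ξ)
        (pullback.snd c (pullback.fst p ξ) ≫ pullback.snd p ξ) (𝟙 _) :=
      IsPullback.of_horiz_isIso ⟨by simp⟩
    have sqC := sqL.paste_horiz sqB
    rw [Category.id_comp, ← hs'] at sqC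
    have hE' : RepWith @Etale (e.hom ≫ pullback.snd c (pullback.fst p ξ)) :=
      MorphismProperty.RespectsIso.precomp _ _ _ hsE
    have hS' : RepWith @Surjective (e.hom ≫ pullback.snd c (pullback.fst p ξ)) :=
      MorphismProperty.RespectsIso.precomp _ _ _ hsS
    have hcomp : (e.hom ≫ pullback.snd c (pullback.fst p ξ)) ≫ pullback.snd p ξ = (yon S).map s := by
      rw [Category.assoc, hs']
    refine ⟨G, e.hom ≫ pullback.fst c (pullback.fst p ξ), s, sqC, ?_, ?_⟩
    · have h3 := het _ hE'
      rw [hcomp] at h3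
      exact (repWith_yon_map_iff _ _).1 h3
    · refine ⟨fun t => ?_⟩
      obtain ⟨y, hy⟩ := hsurj (Points.ofScheme T t)
      obtain ⟨u, rfl⟩ := Groth.Agent.H53.exists_ofPt_eq_of_repWith_surjective _ hS' y
      refine ⟨u, ?_⟩
      rw [Points.map_ofPt, hcomp] at hy
      have := congrArg (Points.toScheme T) hy
      rwa [Points.toScheme_ofPt, Points.toScheme_ofScheme] at this
  refine isAlgSpace_of_yon_cover (c ≫ p) ?_ ?_
  · refine MorphismProperty.relative.of_exists fun T ξ => ?_
    obtain ⟨G, fst, s, sq, h1, -⟩ := key ξ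
    exact ⟨G, fst, s, sq, h1⟩
  · refine MorphismProperty.relative.of_exists fun T ξ => ?_
    obtain ⟨G, fst, s, sq, -, h2⟩ := key ξ
    exact ⟨G, fst, s, sq, h2⟩

end Groth.Agent.H65.AlgSpBoot
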