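import Mathlib.AlgebraicGeometry.Morphisms.FlatDescent
import Mathlib.AlgebraicGeometry.Morphisms.LocalFlatDescent
import Mathlib.AlgebraicGeometry.Morphisms.FinitePresentation
import Mathlib.AlgebraicGeometry.Morphisms.Etale

/-!
# Descent of properties of morphisms along a jointly surjective family of flat lfp morphisms
-/

set_option autoImplicit false
universe u
open CategoryTheory CategoryTheory.Limits AlgebraicGeometry

namespace Groth.Agent.H65.FppfDesc

/-- A property of morphisms of schemes which is Zariski local on the target and descends along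
fppf coverings descends along a jointly surjective family of flat locally finitely presented
morphisms. -/
theorem of_fppf_family (P : MorphismProperty Scheme.{u}) [IsZariskiLocalAtTarget P]
    [P.DescendsAlong (@Surjective ⊓ @Flat ⊓ @LocallyOfFinitePresentation)]
    {X T : Scheme.{u}} (f : X ⟶ T) {ι : Type*} (T' W : ι → Scheme.{u}) (v : ∀ i, T' i ⟶ T)
    (hfl : ∀ i, Flat (v i)) (hlfp : ∀ i, LocallyOfFinitePresentation (v i))
    (hs : ∀ t : T, ∃ i, t ∈ Set.range (v i)) (w₁ : ∀ i, W i ⟶ X) (w₂ : ∀ i, W i ⟶ T' i)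
    (sq : ∀ i, IsPullback (w₁ i) (w₂ i) f (v i)) (h : ∀ i, P (w₂ i)) : P f := by
  let I : ι → T.Opens := fun i => ⟨Set.range (v i), (v i).isOpenMap.isOpen_range⟩
  have hI : iSup I = ⊤ := by
    rw [eq_top_iff]
    intro t _
    obtain ⟨i, hi⟩ := hs t
    exact TopologicalSpace.Opens.mem_iSup.2 ⟨i, hi⟩
  refine IsZariskiLocalAtTarget.of_iSup_eq_top I hI fun i => ?_
  have hr : Set.range (v i) ⊆ Set.range (I i).ι := by
    rw [Scheme.Opens.range_ι]
    exact fun _ h => h
  let v' : T' i ⟶ (I i).toScheme := IsOpenImmersion.lift (I i).ι (v i) hr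
  have hv' : v' ≫ (I i).ι = v i := IsOpenImmersion.lift_fac _ _ _
  have hr₁ : Set.range (w₁ i) ⊆ Set.range (f ⁻¹ᵁ I i).ι := by
    rw [Scheme.Opens.range_ι]
    rintro _ ⟨w, rfl⟩
    change f (w₁ i w) ∈ Set.range (v i)
    rw [← Scheme.Hom.comp_apply, (sq i).w, Scheme.Hom.comp_apply]
    exact ⟨_, rfl⟩
  let w₁' : W i ⟶ (f ⁻¹ᵁ I i).toScheme := IsOpenImmersion.lift (f ⁻¹ᵁ I i).ι (w₁ i) hr₁
  have hw₁' : w₁' ≫ (f ⁻¹ᵁ I i).ι = w₁ i := IsOpenImmersion.lift_fac _ _ _
  have hcomm : w₂ i ≫ v' = w₁' ≫ (f ∣_ I i) := by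
    rw [← cancel_mono (I i).ι, Category.assoc, hv', Category.assoc, morphismRestrict_ι,
      ← Category.assoc, hw₁', (sq i).w]
  have sq' : IsPullback (w₂ i) w₁' v' (f ∣_ I i) := by
    refine (IsPullback.of_right ?_ hcomm.symm (isPullback_morphismRestrict f (I i)).flip).flip
    rw [hw₁', hv']
    exact sq i
  have hfl' : Flat v' := by
    have : Flat (v' ≫ (I i).ι) := by rw [hv']; exact hfl i
    exact MorphismProperty.of_postcomp (W := @Flat) (W' := @IsOpenImmersion) v' (I i).ι
      inferInstance this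
  have hlfp' : LocallyOfFinitePresentation v' := by
    have : LocallyOfFinitePresentation (v' ≫ (I i).ι) := by rw [hv']; exact hlfp i
    exact MorphismProperty.of_postcomp (W := @LocallyOfFinitePresentation)
      (W' := @IsOpenImmersion) v' (I i).ι inferInstance this
  have hsurj' : Surjective v' := by
    refine ⟨fun y => ?_⟩
    obtain ⟨x, hx⟩ := y.2
    refine ⟨x, ?_⟩
    apply (I i).ι.isOpenEmbedding.injective
    rw [← Scheme.Hom.comp_apply, hv']
    exact hx
  exact MorphismProperty.DescendsAlong.of_isPullback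
    (Q := @Surjective ⊓ @Flat ⊓ @LocallyOfFinitePresentation) sq' ⟨⟨hsurj', hfl'⟩, hlfp'⟩ (h i)

end Groth.Agent.H65.FppfDesc
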