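import Groth.Agent.H65.FppfDescGeneral
import Groth.Agent.H65.FppfFamilyDescent
import Groth.Agent.H65.AlgSpBoot2
import Groth.Agent.H53.SheafSurj

/-!
# Quotients by étale equivalence relations

Let `g : h_U ⟶ Q` be an epimorphism of fppf sheaves whose kernel pair is `h_R` for an étale
equivalence relation `s, t : R ⟶ U` of schemes.  Then `g` is representable, étale and surjective;
hence `Q` is an algebraic space.  For `ξ : h_T ⟶ Q` the sheaf `F = h_U ×_Q h_T` is a subsheaf of
`h_{U × T}`; fppf locally on `T` the section `ξ` lifts to `U` and `F` becomes the scheme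
`R ×_U T'`, a monomorphism locally of finite type into `U × T'`.  fppf descent of separated locally
quasi-finite schemes (`isAlgSpace_of_fppf_descent`) shows that `F` is an algebraic space, and then it
is a scheme by `exists_iso_yon_of_isPullback_of_lft`.
-/

set_option autoImplicit false
universe u
open CategoryTheory CategoryTheory.Limits AlgebraicGeometry Opposite

namespace Groth.Agent.H65.QuotEtale

open AlgSp

variable {S : Scheme.{u}}

/-- Maps into `h_{A × B}` are determined by their components. -/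
theorem yon_prod_hom_ext {X : Sp S} {A B : Over S} (u v : X ⟶ (yon S).obj (A ⨯ B))
    (h1 : u ≫ (yon S).map prod.fst = v ≫ (yon S).map prod.fst)
    (h2 : u ≫ (yon S).map prod.snd = v ≫ (yon S).map prod.snd) : u = v := by
  rw [← cancel_mono (prodComparison (yon S) A B)]
  apply Limits.prod.hom_ext
  · rw [Category.assoc, Category.assoc, prodComparison_fst]
    exact h1
  · rw [Category.assoc, Category.assoc, prodComparison_snd]
    exact h2

section Fix

variable {Q : Sp S} {R U : Over S} (s t : R ⟶ U) (g : (yon S).obj U ⟶ Q)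
  (sqR : IsPullback ((yon S).map t) ((yon S).map s) g g) {T : Over S} (ξ : (yon S).obj T ⟶ Q)

/-- The canonical map `h_U ×_Q h_T ⟶ h_{U × T}`. -/
noncomputable def toProd : pullback g ξ ⟶ (yon S).obj (U ⨯ T) :=
  prod.lift (pullback.fst g ξ) (pullback.snd g ξ) ≫ inv (prodComparison (yon S) U T)

theorem toProd_fst : toProd g ξ ≫ (yon S).map (prod.fst : U ⨯ T ⟶ U) = pullback.fst g ξ := by
  rw [toProd, Category.assoc, ← prodComparison_fst, IsIso.inv_hom_id_assoc, prod.lift_fst]

theorem toProd_snd : toProd g ξ ≫ (yon S).map (prod.snd : U ⨯ T ⟶ T) = pullback.snd g ξ := by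
  rw [toProd, Category.assoc, ← prodComparison_snd, IsIso.inv_hom_id_assoc, prod.lift_snd]

variable {T' : Over S} (v : T' ⟶ T) (l : T' ⟶ U)

include sqR in
/-- Over a scheme `T'` on which `ξ` lifts to `l : T' ⟶ U`, the fibre product `h_U ×_Q h_{T'}` is
`R ×_{s, U, l} T'`. -/
theorem isPullback_lift (hl : (yon S).map l ≫ g = (yon S).map v ≫ ξ) :
    IsPullback ((yon S).map (pullback.fst s l ≫ t)) ((yon S).map (pullback.snd s l)) g
      ((yon S).map v ≫ ξ) := by
  have h1 := ((IsPullback.of_hasPullback s l).map (yon S)).paste_horiz sqR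
  rw [← Functor.map_comp, hl] at h1
  exact h1

/-- The comparison map `h_{R ×_U T'} ⟶ h_U ×_Q h_T`. -/
noncomputable def tV (hl : (yon S).map l ≫ g = (yon S).map v ≫ ξ) :
    (yon S).obj (pullback s l) ⟶ pullback g ξ :=
  pullback.lift ((yon S).map (pullback.fst s l ≫ t)) ((yon S).map (pullback.snd s l ≫ v)) (by
    have h1 := ((IsPullback.of_hasPullback s l).map (yon S)).w
    rw [Functor.map_comp, Functor.map_comp, Category.assoc, Category.assoc, ← hl,
      ← Category.assoc, ← Category.assoc, ← h1, Category.assoc, Category.assoc, sqR.w])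

theorem tV_fst (hl : (yon S).map l ≫ g = (yon S).map v ≫ ξ) :
    tV s t g sqR ξ v l hl ≫ pullback.fst g ξ = (yon S).map (pullback.fst s l ≫ t) :=
  pullback.lift_fst _ _ _

theorem tV_snd (hl : (yon S).map l ≫ g = (yon S).map v ≫ ξ) :
    tV s t g sqR ξ v l hl ≫ pullback.snd g ξ = (yon S).map (pullback.snd s l ≫ v) :=
  pullback.lift_snd _ _ _

theorem isPullback_tV (hl : (yon S).map l ≫ g = (yon S).map v ≫ ξ) :
    IsPullback (tV s t g sqR ξ v l hl) ((yon S).map (pullback.snd s l)) (pullback.snd g ξ)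
      ((yon S).map v) := by
  refine IsPullback.of_right ?_ ?_ (IsPullback.of_hasPullback g ξ)
  · rw [tV_fst]
    exact isPullback_lift s t g sqR ξ v l hl
  · rw [tV_snd, Functor.map_comp]

/-- The product form of the local description. -/
theorem isPullback_tV_prod (hl : (yon S).map l ≫ g = (yon S).map v ≫ ξ) :
    IsPullback (tV s t g sqR ξ v l hl)
      ((yon S).map (prod.lift (pullback.fst s l ≫ t) (pullback.snd s l)))
      (toProd g ξ) ((yon S).map (prod.map (𝟙 U) v)) := by
  have hR := (Groth.Agent.H50.isPullback_prod_snd_with_id v U).map (yon S)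
  refine (IsPullback.of_right ?_ ?_ hR).flip
  · rw [← Functor.map_comp, prod.lift_snd, toProd_snd]
    exact (isPullback_tV s t g sqR ξ v l hl).flip
  · apply yon_prod_hom_ext
    · rw [Category.assoc, Category.assoc, toProd_fst, tV_fst, ← Functor.map_comp,
        ← Functor.map_comp, prod.map_fst, Category.comp_id, prod.lift_fst]
    · rw [Category.assoc, Category.assoc, toProd_snd, tV_snd, ← Functor.map_comp,
        ← Functor.map_comp, prod.map_snd, ← Category.assoc, prod.lift_snd]

end Fix


section Main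

variable {Q : Sp S} {R U : Over S} (s t : R ⟶ U) (g : (yon S).obj U ⟶ Q)

/-- Sections of `Q` lift to `U` locally for a pointwise-indexed fppf family. -/
theorem exists_lifts [Epi g] {T : Over S} (ξ : (yon S).obj T ⟶ Q) :
    ∃ (T' : T.left → Over S) (v : ∀ p, T' p ⟶ T) (l : ∀ p, T' p ⟶ U),
      (∀ p, Flat (v p).left) ∧ (∀ p, LocallyOfFinitePresentation (v p).left) ∧
      (∀ p, p ∈ Set.range (v p).left) ∧
      ∀ p, (yon S).map (l p) ≫ g = (yon S).map (v p) ≫ ξ := by
  have hg : Sheaf.IsLocallySurjective g := (Sheaf.isLocallySurjective_iff_epi g).2 inferInstance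
  obtain ⟨R', hR', hlift⟩ := Groth.Agent.H53.exists_fppf_lifts g hg ξ
  have key : ∀ p : T.left, ∃ (U' : Scheme.{u}) (v₀ : U' ⟶ T.left), R' v₀ ∧ p ∈ Set.range v₀ :=
    fun p => (Presieve.mem_comap_jointlySurjectivePrecoverage_iff Scheme.forget).1 hR'.1 p
  choose U' v₀ hv₀ hp using key
  have key2 : ∀ p, ∃ l : Over.mk (v₀ p ≫ T.hom) ⟶ U,
      (yon S).map l ≫ g = (yon S).map (Over.homMk (v₀ p) : Over.mk (v₀ p ≫ T.hom) ⟶ T) ≫ ξ :=
    fun p => by
      obtain ⟨σ, hσ⟩ := hlift (v₀ p) (hv₀ p)
      obtain ⟨l, rfl⟩ := (yon S).map_surjective σ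
      exact ⟨l, hσ⟩
  choose l hl using key2
  refine ⟨fun p => Over.mk (v₀ p ≫ T.hom), fun p => Over.homMk (v₀ p), l, fun p => ?_, fun p => ?_,
    fun p => ?_, hl⟩
  · exact (hR'.2 (hv₀ p)).1
  · exact (hR'.2 (hv₀ p)).2
  · exact hp p

/-- `h_U ×_Q h_T ⟶ h_{U × T}` is a monomorphism. -/
theorem mono_toProd {T : Over S} (ξ : (yon S).obj T ⟶ Q) : Mono (toProd g ξ) := by
  refine ⟨fun {Z} u v huv => ?_⟩
  apply pullback.hom_ext
  · rw [← toProd_fst, ← Category.assoc, huv, Category.assoc]
  · rw [← toProd_snd, ← Category.assoc, huv, Category.assoc]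

/-- The local model `R ×_U T' ⟶ U × T'` is a monomorphism of schemes, locally of finite type. -/
theorem local_model_props (sqR : IsPullback ((yon S).map t) ((yon S).map s) g g)
    (hsE : Etale s.left) {T : Over S} (ξ : (yon S).obj T ⟶ Q) {T' : Over S} (v : T' ⟶ T)
    (l : T' ⟶ U) (hl : (yon S).map l ≫ g = (yon S).map v ≫ ξ) :
    Etale (pullback.snd s l).left ∧
    Mono (prod.lift (pullback.fst s l ≫ t) (pullback.snd s l) : pullback s l ⟶ U ⨯ T').left ∧
    LocallyOfFiniteType
      (prod.lift (pullback.fst s l ≫ t) (pullback.snd s l) : pullback s l ⟶ U ⨯ T').left := by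
  have hE : Etale (pullback.snd s l).left :=
    MorphismProperty.of_isPullback
      (P := MorphismProperty.inverseImage (@Etale : MorphismProperty Scheme.{u}) (Over.forget S))
      (IsPullback.of_hasPullback s l) hsE
  have hm := mono_toProd g ξ
  have sqC := isPullback_tV_prod s t g sqR ξ v l hl
  have hm2 : Mono ((yon S).map (prod.lift (pullback.fst s l ≫ t) (pullback.snd s l))) :=
    PullbackCone.mono_snd_of_is_pullback_of_mono sqC.isLimit
  have hm3 : Mono (prod.lift (pullback.fst s l ≫ t) (pullback.snd s l) : pullback s l ⟶ U ⨯ T') :=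
    Functor.mono_of_mono_map (yon S) hm2
  refine ⟨hE, inferInstance, ?_⟩
  have e : (prod.lift (pullback.fst s l ≫ t) (pullback.snd s l) : pullback s l ⟶ U ⨯ T').left ≫
      (prod.snd : U ⨯ T' ⟶ T').left = (pullback.snd s l).left := by
    rw [← Over.comp_left, prod.lift_snd]
  have : LocallyOfFiniteType
      ((prod.lift (pullback.fst s l ≫ t) (pullback.snd s l) : pullback s l ⟶ U ⨯ T').left ≫
      (prod.snd : U ⨯ T' ⟶ T').left) := by
    rw [e]; infer_instance
  exact locallyOfFiniteType_of_comp _ (prod.snd : U ⨯ T' ⟶ T').left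

/-- The fibre product `h_U ×_Q h_T` is an algebraic space. -/
theorem isAlgSpace_pullback [Epi g] (sqR : IsPullback ((yon S).map t) ((yon S).map s) g g)
    (hsE : Etale s.left) {T : Over S} (ξ : (yon S).obj T ⟶ Q) : IsAlgSpace (pullback g ξ) := by
  obtain ⟨T', v, l, hfl, hlfp, hp, hl⟩ := exists_lifts g ξ
  have hprops := fun p => local_model_props s t g sqR hsE ξ (v p) (l p) (hl p)
  refine FppfDesc.isAlgSpace_of_fppf_descent (toProd g ξ) (fun p => U ⨯ T' p)
    (fun p => pullback s (l p)) (fun p => prod.map (𝟙 U) (v p)) (fun p => ?_) (fun p => ?_)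
    (fun p => prod.lift (pullback.fst s (l p) ≫ t) (pullback.snd s (l p)))
    (fun p => ?_) (fun p => ?_) (fun p => ?_)
    (fun p => tV s t g sqR ξ (v p) (l p) (hl p))
    (fun p => isPullback_tV_prod s t g sqR ξ (v p) (l p) (hl p)) ?_
  · exact MorphismProperty.of_isPullback
      (P := MorphismProperty.inverseImage (@Flat : MorphismProperty Scheme.{u}) (Over.forget S))
      (Groth.Agent.H50.isPullback_prod_snd_with_id (v p) U) (hfl p)
  · exact MorphismProperty.of_isPullback
      (P := MorphismProperty.inverseImage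
        (@LocallyOfFinitePresentation : MorphismProperty Scheme.{u}) (Over.forget S))
      (Groth.Agent.H50.isPullback_prod_snd_with_id (v p) U) (hlfp p)
  · have := (hprops p).2.1
    infer_instance
  · have := (hprops p).2.1
    have := (hprops p).2.2
    infer_instance
  · exact (hprops p).2.2
  · intro x
    let p₀ : T.left := Points.toScheme T (Points.map (pullback.snd g ξ) x)
    obtain ⟨u', hu'⟩ := hp p₀
    have sq := isPullback_tV s t g sqR ξ (v p₀) (l p₀) (hl p₀)
    obtain ⟨z, hz1, hz2⟩ := Groth.Agent.H53.exists_point_of_isPullback sq x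
      (Points.ofScheme _ u') (by
        rw [← Points.ofPt_eq_map_ofScheme, ← Points.ofScheme_toScheme T (Points.ofPt _ u'),
          Points.toScheme_ofPt, hu', Points.ofScheme_toScheme])
    refine ⟨p₀, Points.toScheme _ z, ?_⟩
    rw [Points.ofPt_eq_map_ofScheme, Points.ofScheme_toScheme, hz1]

/-- The second projection of `h_U ×_Q h_T` is étale on étale charts. -/
theorem etale_of_chart [Epi g] (sqR : IsPullback ((yon S).map t) ((yon S).map s) g g)
    (hsE : Etale s.left) {T : Over S} (ξ : (yon S).obj T ⟶ Q) {U₁ : Over S}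
    (c₁ : (yon S).obj U₁ ⟶ pullback g ξ) (hc₁ : RepWith @Etale c₁) (x₂ : U₁ ⟶ T)
    (hx₂ : c₁ ≫ pullback.snd g ξ = (yon S).map x₂) : Etale x₂.left := by
  obtain ⟨T', v, l, hfl, hlfp, hp, hl⟩ := exists_lifts g ξ
  have key : ∀ p, ∃ (W : Over S) (w₁ : W ⟶ U₁) (w₂ : W ⟶ T' p),
      IsPullback w₁.left w₂.left x₂.left (v p).left ∧ Etale w₂.left := fun p => by
    obtain ⟨W, pW, qW, sqW⟩ := Groth.Agent.H53.exists_pullback_yon
      (tV s t g sqR ξ (v p) (l p) (hl p)) c₁ hc₁.rep
    have hpW : Etale pW.left := Groth.Agent.H53.prop_of_isPullback_yon sqW hc₁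
    have h2 := sqW.flip.paste_vert (isPullback_tV s t g sqR ξ (v p) (l p) (hl p))
    rw [hx₂, ← Functor.map_comp] at h2
    have h3 : IsPullback qW (pW ≫ pullback.snd s (l p)) x₂ (v p) :=
      IsPullback.of_map (yon S) ((yon S).map_injective (by
        rw [Functor.map_comp, Functor.map_comp]; exact h2.w)) h2
    refine ⟨W, qW, pW ≫ pullback.snd s (l p), h3.map (Over.forget S), ?_⟩
    rw [Over.comp_left]
    have := (local_model_props s t g sqR hsE ξ (v p) (l p) (hl p)).1
    infer_instance
  choose W w₁ w₂ sq hE using key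
  exact FppfDesc.of_fppf_family @Etale x₂.left (fun p => (T' p).left) (fun p => (W p).left)
    (fun p => (v p).left) hfl hlfp (fun t => ⟨t, hp t⟩) (fun p => (w₁ p).left)
    (fun p => (w₂ p).left) sq hE

/-- The fibre product `h_U ×_Q h_T` is a scheme, étale and surjective over `T`. -/
theorem exists_rep [Epi g] (sqR : IsPullback ((yon S).map t) ((yon S).map s) g g)
    (hsE : Etale s.left) (hsS : Surjective s.left) {T : Over S} (ξ : (yon S).obj T ⟶ Q) :
    ∃ (G : Over S) (fst : (yon S).obj G ⟶ (yon S).obj U) (σ : G ⟶ T),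
      IsPullback fst ((yon S).map σ) g ξ ∧ Etale σ.left ∧ Surjective σ.left := by
  have hF := isAlgSpace_pullback s t g sqR hsE ξ
  obtain ⟨G, ⟨e⟩⟩ := AlgSpBoot.exists_iso_yon_of_isPullback_of_lft
    (IsPullback.of_hasPullback g ξ) hF (fun U₁ c x hc _ h2 => by
      have hE : Etale (x ≫ (prod.snd : U ⨯ T ⟶ T)).left :=
        etale_of_chart s t g sqR hsE ξ c hc (x ≫ prod.snd) h2
      rw [Over.comp_left] at hE
      exact locallyOfFiniteType_of_comp x.left (prod.snd : U ⨯ T ⟶ T).left)
  obtain ⟨σ, hσ⟩ := (yon S).map_surjective (e.hom ≫ pullback.snd g ξ)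
  have sq : IsPullback (pullback.fst g ξ) (pullback.snd g ξ) g ξ := IsPullback.of_hasPullback g ξ
  have sqL : IsPullback e.hom (e.hom ≫ pullback.snd g ξ) (pullback.snd g ξ) (𝟙 _) :=
    IsPullback.of_horiz_isIso ⟨by simp⟩
  have sqB := sqL.paste_horiz sq
  rw [Category.id_comp, ← hσ] at sqB
  refine ⟨G, e.hom ≫ pullback.fst g ξ, σ, sqB, ?_, ?_⟩
  · exact etale_of_chart s t g sqR hsE ξ e.hom ((RepWith @Etale).of_isIso e.hom) σ hσ.symm
  · obtain ⟨T', v, l, hfl, hlfp, hp, hl⟩ := exists_lifts g ξ
    refine ⟨fun p₀ => ?_⟩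
    obtain ⟨u', hu'⟩ := hp p₀
    have hS : Surjective (pullback.snd s (l p₀)).left :=
      MorphismProperty.of_isPullback
        (P := MorphismProperty.inverseImage (@Surjective : MorphismProperty Scheme.{u})
          (Over.forget S))
        (IsPullback.of_hasPullback s (l p₀)) hsS
    obtain ⟨w, hw⟩ := hS.surj u'
    obtain ⟨k, hk⟩ := (yon S).map_surjective (tV s t g sqR ξ (v p₀) (l p₀) (hl p₀) ≫ e.inv)
    have hkσ : k ≫ σ = pullback.snd s (l p₀) ≫ v p₀ := by
      apply (yon S).map_injective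
      rw [Functor.map_comp, hk, hσ, Category.assoc, e.inv_hom_id_assoc, tV_snd]
    refine ⟨k.left w, ?_⟩
    rw [← Scheme.Hom.comp_apply, ← Over.comp_left, hkσ, Over.comp_left, Scheme.Hom.comp_apply, hw,
      hu']

/-- **Quotients by étale equivalence relations.** If `g : h_U ⟶ Q` is an epimorphism of fppf sheaves
whose kernel pair is represented by `s, t : R ⟶ U` with `s` étale and surjective, then `Q` is an
algebraic space (and `g` is an étale atlas). -/
theorem isAlgSpace_of_etale_kernelPair [Epi g]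
    (sqR : IsPullback ((yon S).map t) ((yon S).map s) g g)
    (hsE : Etale s.left) (hsS : Surjective s.left) : IsAlgSpace Q := by
  refine AlgSpBoot.isAlgSpace_of_yon_cover g ?_ ?_
  · refine MorphismProperty.relative.of_exists fun T ξ => ?_
    obtain ⟨G, fst, σ, sq, h1, -⟩ := exists_rep s t g sqR hsE hsS ξ
    exact ⟨G, fst, σ, sq, h1⟩
  · refine MorphismProperty.relative.of_exists fun T ξ => ?_
    obtain ⟨G, fst, σ, sq, -, h2⟩ := exists_rep s t g sqR hsE hsS ξ
    exact ⟨G, fst, σ, sq, h2⟩

end Main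

end Groth.Agent.H65.QuotEtale
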