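import Groth.Agent.H53.Desc.QAffEffective
import Groth.Agent.H53.Epi

/-!
# Effective fppf descent of quasi-affine schemes for sheaves

helper53's `exists_quasiAffine_of_fpqc_descent` assumes that the sheaf `F` is an algebraic space
(used only to see that the comparison map `η : F ⟶ h_U` is an isomorphism, fpqc locally).  When the
covering `W ⟶ Z` is moreover locally of finite presentation, `η` is an isomorphism of fppf sheaves
for formal reasons, and no hypothesis on `F` is needed.
-/

set_option autoImplicit false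
universe u

open TensorProduct CategoryTheory CategoryTheory.Limits AlgebraicGeometry
open AlgSp

namespace Groth.Agent.H65.FppfDesc

variable {S : Scheme.{u}}

/-- A morphism of fppf sheaves whose base change along a locally surjective map is an isomorphism
is an isomorphism. -/
theorem isIso_of_isPullback_of_epi {F G G' P : Sp S} (η : F ⟶ G) (p : G' ⟶ G) [Epi p]
    {fst : P ⟶ F} {snd : P ⟶ G'} (sq : IsPullback fst snd η p) [IsIso snd] : IsIso η := by
  have hepi : Epi η := by
    have h : inv snd ≫ fst ≫ η = p := by rw [sq.w, IsIso.inv_hom_id_assoc]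
    have : Epi ((inv snd ≫ fst) ≫ η) := by rw [Category.assoc, h]; infer_instance
    exact epi_of_epi (inv snd ≫ fst) η
  have hmono : Mono η := by
    apply Groth.Agent.H53.mono_of_forall_yon
    intro T a b hab
    obtain ⟨R, hR, hl⟩ := Groth.Agent.H53.exists_local_lift p (a ≫ η)
    refine Groth.Agent.H53.yon_hom_ext_of_sieve a b R hR fun W w hw => ?_
    obtain ⟨l, hl'⟩ := hl w hw
    have e1 : ((yon S).map w ≫ a) ≫ η = l ≫ p := by rw [Category.assoc, hl']
    have e2 : ((yon S).map w ≫ b) ≫ η = l ≫ p := by rw [Category.assoc, ← hab, hl']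
    have h1 : sq.lift _ _ e1 = sq.lift _ _ e2 := by
      rw [← cancel_mono snd, sq.lift_snd, sq.lift_snd]
    have h2 := congrArg (fun k => k ≫ fst) h1
    simpa using h2
  exact Groth.Agent.H53.sp_isIso_of_mono_of_epi η

open Groth.Agent.H53.Desc

/-- Effective fppf descent of quasi-affine schemes, `Spec` form (no hypothesis on the sheaf `F`).
The proof follows helper53's `exists_quasiAffine_of_fpqc_descent_spec`. -/
theorem exists_quasiAffine_of_fppf_descent_spec {A A' : Type u} [CommRing A] [CommRing A']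
    [Algebra A A'] [Module.FaithfullyFlat A A'] {sZ : Spec (CommRingCat.of A) ⟶ S}
    {V : Over S} (hV : V.left.IsQuasiAffine) (a : V ⟶ ovW A A' sZ)
    {F : Sp S} (hlfp : LocallyOfFinitePresentation (pMap A A'))
    {π : F ⟶ (yon S).obj (ovZ A sZ)} {t : (yon S).obj V ⟶ F}
    (sq : IsPullback t ((yon S).map a) π ((yon S).map (ovc A A' sZ))) :
    ∃ (U : Over S) (i : U ⟶ ovZ A sZ) (e : (yon S).obj U ≅ F),
      U.left.IsQuasiAffine ∧ e.hom ≫ π = (yon S).map i := by
  let B' : Type u := Γ(V.left, ⊤)
  let _ : Algebra A' B' :=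
    ((Scheme.ΓSpecIso (CommRingCat.of A')).inv ≫ a.left.appTop).hom.toAlgebra
  let _ : Algebra A B' := ((algebraMap A' B').comp (algebraMap A A')).toAlgebra
  have : IsScalarTower A A' B' := IsScalarTower.of_algebraMap_eq (fun x => rfl)
  let j : V.left ⟶ Spec (CommRingCat.of B') := V.left.toSpecΓ
  have hj : j ≫ aMap A' B' = a.left := by
    change V.left.toSpecΓ ≫ Spec.map ((Scheme.ΓSpecIso (CommRingCat.of A')).inv ≫ a.left.appTop) =
      a.left
    rw [Spec.map_comp, ← Scheme.toSpecΓ_naturality_assoc]
    erw [toSpecΓ_SpecMap_ΓSpecIso_inv]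
    exact Category.comp_id _
  have hjiso : IsIso j.appTop := by
    change IsIso V.left.toSpecΓ.appTop
    rw [Scheme.toSpecΓ_appTop]
    infer_instance
  have hjopen : IsOpenImmersion j := by
    change IsOpenImmersion V.left.toSpecΓ
    infer_instance
  have hcpt : CompactSpace V.left := inferInstance
  have hqs : QuasiSeparatedSpace V.left := inferInstance
  let D := sheafGenDD sq
  obtain ⟨U₀, i₀, ε₀, hpb, hqa, hinv⟩ := exists_quasiAffine_descent_core D j hj
  let U : Over S := Over.mk (i₀ ≫ sZ)
  let i : U ⟶ ovZ A sZ := Over.homMk i₀ rfl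
  let ε : V ⟶ U := Over.homMk ε₀ (by
    change ε₀ ≫ i₀ ≫ sZ = V.hom
    rw [← Category.assoc, ← hpb.w, Category.assoc]
    exact Over.w (a ≫ ovc A A' sZ))
  have hεi : ε ≫ i = a ≫ ovc A A' sZ := by
    ext
    exact hpb.w.symm
  have sqU : IsPullback a ε (ovc A A' sZ) i := by
    refine IsPullback.of_map (Over.forget S) ?_ hpb
    rw [hεi]
  have hinv' : ∀ {Q : Over S} (v v₁ : Q ⟶ V), (yon S).map v₁ ≫ t = (yon S).map v ≫ t →
      v₁ ≫ ε = v ≫ ε := by
    intro Q v v₁ h
    have hcond := cond_of_eq sq v v₁ h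
    have e1 := eq_Φ_of_eq sq v v₁ h hcond
    ext
    change v₁.left ≫ ε₀ = v.left ≫ ε₀
    rw [← e1]
    exact hinv _ _ hcond
  have hfl : Flat (ovc A A' sZ).left := by
    change Flat (pMap A A')
    infer_instance
  have hsu : Surjective (ovc A A' sZ).left := by
    change Surjective (pMap A A')
    infer_instance
  have hqc : QuasiCompact (ovc A A' sZ).left := by
    change QuasiCompact (pMap A A')
    have : IsAffineHom (pMap A A') := isAffineHom_of_isAffine _
    infer_instance
  obtain ⟨η, h1, h2, hpbη⟩ := exists_eta_gen (ovc A A' sZ) a ε i sqU sq hinv'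
  have haffε : IsAffineHom ε.left := by
    have : IsAffineHom (pMap A A') := isAffineHom_of_isAffine _
    exact MorphismProperty.of_isPullback (P := @IsAffineHom) hpb inferInstance
  have hflε : Flat ε.left :=
    MorphismProperty.of_isPullback (P := @Flat) hpb (inferInstance : Flat (pMap A A'))
  have hsuε : Surjective ε.left :=
    MorphismProperty.of_isPullback (P := @Surjective) hpb (inferInstance : Surjective (pMap A A'))
  have hlfpε : LocallyOfFinitePresentation ε.left :=
    MorphismProperty.of_isPullback (P := @LocallyOfFinitePresentation) hpb hlfp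
  have hls : Sheaf.IsLocallySurjective ((yon S).map ε) :=
    Groth.Agent.H53.isLocallySurjective_of_repWith ((yon S).map ε)
      ((repWith_yon_map_iff _ _).2 hflε) ((repWith_yon_map_iff _ _).2 hlfpε)
      ((repWith_yon_map_iff _ _).2 hsuε)
  have hepi : Epi ((yon S).map ε) := (Sheaf.isLocallySurjective_iff_epi _).1 hls
  have hiso : IsIso η := isIso_of_isPullback_of_epi η ((yon S).map ε) hpbη.flip
  refine ⟨U, i, (asIso η).symm, hqa, ?_⟩
  change inv η ≫ π = _
  rw [IsIso.inv_comp_eq, h2]

/-- Effective descent of quasi-affine schemes along a flat surjective morphism of affine schemes: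
a sheaf `F` over `h_Z` whose base change to `W` is (representable
by) a quasi-affine scheme `V` is representable by a quasi-affine scheme. -/
theorem exists_quasiAffine_of_fppf_descent {Z W V : Over S} (hZ : IsAffine Z.left)
    (hW : IsAffine W.left) (hV : V.left.IsQuasiAffine) (c : W ⟶ Z) (a : V ⟶ W) {F : Sp S}
    (π : F ⟶ (yon S).obj Z) (t : (yon S).obj V ⟶ F)
    (sq : IsPullback t ((yon S).map a) π ((yon S).map c))
    (hfl : Flat c.left) (hsurj : Surjective c.left) (hlfp : LocallyOfFinitePresentation c.left) :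
    ∃ (U : Over S) (i : U ⟶ Z) (e : (yon S).obj U ≅ F),
      U.left.IsQuasiAffine ∧ e.hom ≫ π = (yon S).map i := by
  let A : Type u := Γ(Z.left, ⊤)
  let A' : Type u := Γ(W.left, ⊤)
  let _ : Algebra A A' := c.left.appTop.hom.toAlgebra
  let s : Spec (CommRingCat.of A) ⟶ S := Z.left.isoSpec.inv ≫ Z.hom
  have hc : pMap A A' = Spec.map c.left.appTop := rfl
  have hff : Module.FaithfullyFlat A A' := by
    have h1 : Flat c.left ∧ Surjective c.left := ⟨hfl, hsurj⟩
    rw [Flat.flat_and_surjective_iff_faithfullyFlat_of_isAffine] at h1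
    exact RingHom.faithfullyFlat_algebraMap_iff.1 h1
  let eZ : Z ≅ ovZ A s := Over.isoMk Z.left.isoSpec (by simp [s])
  let eW : W ≅ ovW A A' s := Over.isoMk W.left.isoSpec (by
    change W.left.isoSpec.hom ≫ pMap A A' ≫ Z.left.isoSpec.inv ≫ Z.hom = W.hom
    rw [hc, Scheme.isoSpec_hom_naturality_assoc]
    simp)
  have hcomm1 : eW.hom ≫ ovc A A' s = c ≫ eZ.hom := by
    ext
    change W.left.isoSpec.hom ≫ pMap A A' = c.left ≫ Z.left.isoSpec.hom
    rw [hc, Scheme.isoSpec_hom_naturality]
  have sq' : IsPullback t ((yon S).map (a ≫ eW.hom))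
      (π ≫ (yon S).map eZ.hom) ((yon S).map (ovc A A' s)) := by
    refine IsPullback.of_iso sq (Iso.refl _) (Iso.refl _) ((yon S).mapIso eW)
      ((yon S).mapIso eZ) ?_ ?_ ?_ ?_
    · simp
    · simp
    · simp
    · simp only [Functor.mapIso_hom, ← Functor.map_comp, hcomm1]
  have hlfp' : LocallyOfFinitePresentation (pMap A A') := by
    have h1 : pMap A A' = W.left.isoSpec.inv ≫ c.left ≫ Z.left.isoSpec.hom := by
      rw [hc, ← Scheme.isoSpec_hom_naturality, Iso.inv_hom_id_assoc]
    rw [h1]
    infer_instance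
  obtain ⟨U, i, e, hU, he⟩ := exists_quasiAffine_of_fppf_descent_spec hV (a ≫ eW.hom) hlfp' sq'
  refine ⟨U, i ≫ eZ.inv, e, hU, ?_⟩
  rw [Functor.map_comp, ← he, Category.assoc, Category.assoc, ← Functor.map_comp, Iso.hom_inv_id]
  erw [CategoryTheory.Functor.map_id]
  rw [Category.comp_id]

end Groth.Agent.H65.FppfDesc
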