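import Groth.Agent.H65.FppfDescScheme
import Groth.Agent.H65.QAffFppf

/-!
# fppf descent of affine morphisms is effective (for sheaves on the big fppf site)

Let `π : F ⟶ h_Y` be an fppf sheaf over a scheme `Y` and `c i : Y' i ⟶ Y` a jointly surjective
family of flat, locally finitely presented morphisms such that every `F ×_Y Y' i` is a scheme
`V' i` affine over `Y' i`.  Then `F` is a scheme affine over `Y`.

The local step is `QAffFppf.exists_quasiAffine_of_fppf_descent`; the gluing is the criterion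
`H51.exists_iso_yon_of_forall_point`, and affineness of the result is fpqc descent of
`IsAffineHom` (`H1.isAffineHom_descendsAlong_fpqc`).
-/

set_option autoImplicit false
universe u
open CategoryTheory CategoryTheory.Limits AlgebraicGeometry Opposite

namespace Groth.Agent.H65.FppfDescAffHom

open AlgSp Groth.Agent.H51 Groth.Agent.H65.FppfDesc

variable {S : Scheme.{u}}

section Restrict

variable {Y Y' V' : Over S} (c : Y' ⟶ Y) (a : V' ⟶ Y') {F : Sp S} (π : F ⟶ (yon S).obj Y)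
  (t : (yon S).obj V' ⟶ F)

/-- Restriction of the descent situation to affine opens `Y₁ ⊆ Y`, `Y'₂ ⊆ Y'` with `c(Y'₂) = Y₁`,
for `a` affine: the restricted sheaf is a scheme. -/
theorem exists_iso_yon_pullback_of_affine_opens (hfl : Flat c.left)
    (hlfp : LocallyOfFinitePresentation c.left) (haff : IsAffineHom a.left)
    (sq : IsPullback t ((yon S).map a) π ((yon S).map c)) (Y₁ : Y.left.Opens)
    (Y'₂ : Y'.left.Opens) (hY₁ : IsAffineOpen Y₁) (hY'₂ : IsAffineOpen Y'₂)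
    (e : Y'₂ ≤ c.left ⁻¹ᵁ Y₁) (hs : ∀ y ∈ Y₁, ∃ y' ∈ Y'₂, c.left y' = y) :
    ∃ G : Over S, Nonempty ((yon S).obj G ≅ pullback π ((yon S).map (overOpenι Y Y₁))) := by
  -- the restricted morphisms
  let c₂ : overOpen Y' Y'₂ ⟶ overOpen Y Y₁ := Over.homMk (c.left.resLE Y₁ Y'₂ e) (by
    change c.left.resLE Y₁ Y'₂ e ≫ Y₁.ι ≫ Y.hom = Y'₂.ι ≫ Y'.hom
    rw [Scheme.Hom.resLE_comp_ι_assoc, Over.w c])
  have hc₂ : c₂ ≫ overOpenι Y Y₁ = overOpenι Y' Y'₂ ≫ c := by
    ext
    exact Scheme.Hom.resLE_comp_ι _ _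
  let a₂ : overOpen V' (a.left ⁻¹ᵁ Y'₂) ⟶ overOpen Y' Y'₂ := Over.homMk (a.left ∣_ Y'₂) (by
    change (a.left ∣_ Y'₂) ≫ Y'₂.ι ≫ Y'.hom = (a.left ⁻¹ᵁ Y'₂).ι ≫ V'.hom
    rw [morphismRestrict_ι_assoc, Over.w a])
  have ha₂ : overOpenι V' (a.left ⁻¹ᵁ Y'₂) ≫ a = a₂ ≫ overOpenι Y' Y'₂ := by
    ext
    exact (morphismRestrict_ι _ _).symm
  have sqV : IsPullback (overOpenι V' (a.left ⁻¹ᵁ Y'₂)) a₂ a (overOpenι Y' Y'₂) :=
    IsPullback.of_map (Over.forget S) ha₂ (isPullback_morphismRestrict a.left Y'₂).flip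
  -- properties
  have h1 : Flat c₂.left := IsZariskiLocalAtSource.resLE (P := @Flat) e hfl
  have h2 : LocallyOfFinitePresentation c₂.left :=
    IsZariskiLocalAtSource.resLE (P := @LocallyOfFinitePresentation) e hlfp
  have h3 : Surjective c₂.left := by
    refine ⟨fun y => ?_⟩
    obtain ⟨y', hy', hy'y⟩ := hs y.1 y.2
    refine ⟨⟨y', hy'⟩, ?_⟩
    apply Subtype.ext
    rw [← hy'y]
    exact Scheme.Hom.coe_resLE_apply _ _ _
  have h4 : IsAffine (overOpen V' (a.left ⁻¹ᵁ Y'₂)).left :=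
    (hY'₂.preimage a.left : IsAffineOpen (a.left ⁻¹ᵁ Y'₂))
  have h5 : (overOpen V' (a.left ⁻¹ᵁ Y'₂)).left.IsQuasiAffine := inferInstance
  -- the restricted pullback square
  have sqF : IsPullback (pullback.fst π ((yon S).map (overOpenι Y Y₁)))
      (pullback.snd π ((yon S).map (overOpenι Y Y₁))) π ((yon S).map (overOpenι Y Y₁)) :=
    IsPullback.of_hasPullback _ _
  have comm : ((yon S).map (overOpenι V' (a.left ⁻¹ᵁ Y'₂)) ≫ t) ≫ π =
      (yon S).map (a₂ ≫ c₂) ≫ (yon S).map (overOpenι Y Y₁) := by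
    rw [Category.assoc, sq.w]
    simp only [← Functor.map_comp]
    congr 1
    rw [← Category.assoc, ha₂, Category.assoc, Category.assoc, hc₂]
  let t₂ : (yon S).obj (overOpen V' (a.left ⁻¹ᵁ Y'₂)) ⟶
      pullback π ((yon S).map (overOpenι Y Y₁)) := pullback.lift _ _ comm
  have ht₂1 : t₂ ≫ pullback.fst π ((yon S).map (overOpenι Y Y₁)) =
      (yon S).map (overOpenι V' (a.left ⁻¹ᵁ Y'₂)) ≫ t := pullback.lift_fst _ _ _
  have ht₂2 : t₂ ≫ pullback.snd π ((yon S).map (overOpenι Y Y₁)) =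
      (yon S).map a₂ ≫ (yon S).map c₂ := by
    rw [← Functor.map_comp]
    exact pullback.lift_snd _ _ _
  have sq₂ : IsPullback t₂ ((yon S).map a₂) (pullback.snd π ((yon S).map (overOpenι Y Y₁)))
      ((yon S).map c₂) := by
    refine IsPullback.of_right ?_ ht₂2 sqF
    rw [ht₂1, ← Functor.map_comp, hc₂, Functor.map_comp]
    exact (sqV.map (yon S)).paste_horiz sq
  obtain ⟨U, -, e', -, -⟩ := Groth.Agent.H65.FppfDesc.exists_quasiAffine_of_fppf_descent
    (show IsAffine (overOpen Y Y₁).left from hY₁)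
    (show IsAffine (overOpen Y' Y'₂).left from hY'₂) h5 c₂ a₂ _ t₂ sq₂ h1 h3 h2
  exact ⟨U, ⟨e'⟩⟩

end Restrict

/-- Gluing: a sheaf over `h_Y` which, for a family of flat locally finitely presented morphisms
`c i : Y' i ⟶ Y`, becomes a scheme `V' i` over each `Y' i` (jointly covering the points of `F`) and
is a scheme over every affine open of `Y` which is the image of an affine open of some `Y' i`,
is a scheme. -/
theorem exists_iso_yon_of_local_rep {Y : Over S} {F : Sp S} (π : F ⟶ (yon S).obj Y) {ι : Type u}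
    (Y' V' : ι → Over S) (c : ∀ i, Y' i ⟶ Y) (hfl : ∀ i, Flat (c i).left)
    (hlfp : ∀ i, LocallyOfFinitePresentation (c i).left) (a : ∀ i, V' i ⟶ Y' i)
    (t : ∀ i, (yon S).obj (V' i) ⟶ F)
    (sq : ∀ i, IsPullback (t i) ((yon S).map (a i)) π ((yon S).map (c i)))
    (hcov : ∀ x : Points F, ∃ i v, Points.ofPt (t i) v = x)
    (hloc : ∀ (i : ι) (Y₁ : Y.left.Opens) (Y'₂ : (Y' i).left.Opens), IsAffineOpen Y₁ →
      IsAffineOpen Y'₂ → Y'₂ ≤ (c i).left ⁻¹ᵁ Y₁ → (∀ y ∈ Y₁, ∃ y' ∈ Y'₂, (c i).left y' = y) →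
      ∃ G : Over S, Nonempty ((yon S).obj G ≅ pullback π ((yon S).map (overOpenι Y Y₁)))) :
    ∃ G : Over S, Nonempty ((yon S).obj G ≅ F) := by
  have key : ∀ p : (Σ i, (V' i).left), ∃ (U : Y.left.Opens) (V : (Y' p.1).left.Opens),
      IsAffineOpen U ∧ IsAffineOpen V ∧ (a p.1).left p.2 ∈ V ∧ V ≤ (c p.1).left ⁻¹ᵁ U ∧
        ∀ y ∈ U, ∃ x' ∈ V, (c p.1).left x' = y := fun p => by
    have := hfl p.1
    have := hlfp p.1
    exact exists_affine_surjective_restriction (c p.1).left ((a p.1).left p.2)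
  choose Y₁ Y'₂ hY₁ hY'₂ hmem hle hs using key
  have hopen : ∀ p : (Σ i, (V' i).left), RepWith (S := S) @IsOpenImmersion
      (pullback.fst π ((yon S).map (overOpenι Y (Y₁ p)))) := fun p =>
    MorphismProperty.of_isPullback (P := RepWith (S := S) @IsOpenImmersion)
      (IsPullback.of_hasPullback π ((yon S).map (overOpenι Y (Y₁ p)))).flip
      (repWith_isOpenImmersion_overOpenι Y (Y₁ p))
  have hpt : ∀ (i : ι) (v : (V' i).left), Points.ofPt (t i) v ∈
      Set.range (Points.map (pullback.fst π ((yon S).map (overOpenι Y (Y₁ ⟨i, v⟩))))) := by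
    intro i v
    have hy : (c i).left ((a i).left v) ∈ Y₁ ⟨i, v⟩ := hle ⟨i, v⟩ (hmem ⟨i, v⟩)
    obtain ⟨z, hz1, -⟩ := Groth.Agent.H53.exists_point_of_isPullback
      (IsPullback.of_hasPullback π ((yon S).map (overOpenι Y (Y₁ ⟨i, v⟩))))
      (Points.ofPt (t i) v)
      (Points.ofScheme (overOpen Y (Y₁ ⟨i, v⟩)) ⟨(c i).left ((a i).left v), hy⟩) (by
        rw [Points.map_ofPt, (sq i).w, ← Functor.map_comp, Points.map_ofPt, Category.id_comp,
          ← Category.comp_id ((yon S).map (a i ≫ c i)), Groth.Agent.H53.ofPt_yon_map_comp,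
          ← Category.comp_id ((yon S).map (overOpenι Y (Y₁ ⟨i, v⟩))),
          Groth.Agent.H53.ofPt_yon_map_comp]
        rfl)
    exact ⟨z, hz1⟩
  have hrep : ∀ p : (Σ i, (V' i).left), ∃ G : Over S,
      Nonempty ((yon S).obj G ≅ pullback π ((yon S).map (overOpenι Y (Y₁ p)))) := fun p =>
    hloc p.1 (Y₁ p) (Y'₂ p) (hY₁ p) (hY'₂ p) (hle p) (hs p)
  have hF : IsAlgSpace F := by
    refine AlgSpBoot.isAlgSpace_of_open_cover_points
      (fun p : (Σ i, (V' i).left) => pullback π ((yon S).map (overOpenι Y (Y₁ p))))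
      (fun p => pullback.fst π ((yon S).map (overOpenι Y (Y₁ p)))) ?_ hopen ?_
    · intro p
      obtain ⟨G, ⟨e⟩⟩ := hrep p
      exact (IsAlgSpace.yon_obj G).of_iso e
    · intro x
      obtain ⟨i, v, rfl⟩ := hcov x
      exact ⟨⟨i, v⟩, hpt i v⟩
  obtain ⟨U₀, a₀, -, ha₀S⟩ := hF.atlas
  refine Groth.Agent.H51.exists_iso_yon_of_forall_point a₀ ha₀S fun u => ?_
  obtain ⟨i, v, hv⟩ := hcov (Points.ofPt a₀ u)
  obtain ⟨G, ⟨e⟩⟩ := hrep ⟨i, v⟩
  refine ⟨G, e.hom ≫ pullback.fst π ((yon S).map (overOpenι Y (Y₁ ⟨i, v⟩))), ?_, ?_⟩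
  · exact MorphismProperty.RespectsIso.precomp _ _ _ (hopen ⟨i, v⟩)
  · rw [← hv]
    obtain ⟨z, hz⟩ := hpt i v
    refine ⟨Points.map e.inv z, ?_⟩
    rw [← Points.map_comp, e.inv_hom_id_assoc, hz]

/-- **fppf descent of affine morphisms is effective**: a sheaf over `h_Y` whose base changes along a
jointly surjective family of flat, locally finitely presented morphisms `Y' i ⟶ Y` are schemes
affine over `Y' i` is a scheme affine over `Y`. -/
theorem exists_rep_of_fppf_descent {Y : Over S} {F : Sp S} (π : F ⟶ (yon S).obj Y) {ι : Type u}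
    (Y' V' : ι → Over S) (c : ∀ i, Y' i ⟶ Y) (hfl : ∀ i, Flat (c i).left)
    (hlfp : ∀ i, LocallyOfFinitePresentation (c i).left)
    (hsurj : ∀ y : Y.left, ∃ i, y ∈ Set.range (c i).left) (a : ∀ i, V' i ⟶ Y' i)
    (haff : ∀ i, IsAffineHom (a i).left) (t : ∀ i, (yon S).obj (V' i) ⟶ F)
    (sq : ∀ i, IsPullback (t i) ((yon S).map (a i)) π ((yon S).map (c i))) :
    ∃ (G : Over S) (e : (yon S).obj G ≅ F) (γ : G ⟶ Y), e.hom ≫ π = (yon S).map γ ∧
      IsAffineHom γ.left := by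
  have hcov : ∀ x : Points F, ∃ i v, Points.ofPt (t i) v = x := by
    intro x
    obtain ⟨i, u', hu'⟩ := hsurj (Points.toScheme Y (Points.map π x))
    obtain ⟨z, hz1, -⟩ := Groth.Agent.H53.exists_point_of_isPullback (sq i) x
      (Points.ofScheme _ u') (by
        rw [← Points.ofPt_eq_map_ofScheme, ← Points.ofScheme_toScheme Y (Points.ofPt _ u'),
          Points.toScheme_ofPt, hu', Points.ofScheme_toScheme])
    refine ⟨i, Points.toScheme _ z, ?_⟩
    rw [Points.ofPt_eq_map_ofScheme, Points.ofScheme_toScheme, hz1]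
  obtain ⟨G, ⟨e⟩⟩ := exists_iso_yon_of_local_rep π Y' V' c hfl hlfp a t sq hcov
    (fun i Y₁ Y'₂ hY₁ hY'₂ hle hs => exists_iso_yon_pullback_of_affine_opens (c i) (a i) π (t i)
      (hfl i) (hlfp i) (haff i) (sq i) Y₁ Y'₂ hY₁ hY'₂ hle hs)
  obtain ⟨γ, hγ⟩ := (yon S).map_surjective (e.hom ≫ π)
  have key : ∀ i, ∃ k : V' i ⟶ G, IsPullback k.left (a i).left γ.left (c i).left := fun i => by
    obtain ⟨k, hk⟩ := (yon S).map_surjective (t i ≫ e.inv)
    have h2 : IsPullback (t i ≫ e.inv) ((yon S).map (a i)) (e.hom ≫ π) ((yon S).map (c i)) :=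
      IsPullback.of_iso (sq i) (Iso.refl _) e.symm (Iso.refl _) (Iso.refl _) (by simp) (by simp)
        (by simp) (by simp)
    rw [← hγ, ← hk] at h2
    have h3 : IsPullback k (a i) γ (c i) :=
      IsPullback.of_map (yon S) ((yon S).map_injective (by
        rw [Functor.map_comp, Functor.map_comp]; exact h2.w)) h2
    exact ⟨k, h3.map (Over.forget S)⟩
  choose k sqk using key
  have := Groth.Agent.H1.isAffineHom_descendsAlong_fpqc.{u}
  refine ⟨G, e, γ, hγ.symm, ?_⟩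
  exact of_fppf_family @IsAffineHom γ.left (fun i => (Y' i).left) (fun i => (V' i).left)
    (fun i => (c i).left) hfl hlfp hsurj (fun i => (k i).left) (fun i => (a i).left) sqk haff

end Groth.Agent.H65.FppfDescAffHom
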