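import Mathlib

/-!
# A formal inverse function theorem for multivariate power series

If `a ℓ ℓ' : σ → MvPowerSeries σ R` have zero constant coefficients, `subst ℓ` and `subst ℓ'` are
mutually inverse and `a i - ℓ i` has order at least two, then `subst a` is bijective.
-/

namespace Groth.Agent.H65

open MvPowerSeries

section

variable {σ : Type*} {R : Type*} [CommRing R]

theorem ift_order_pow_sub {x y : MvPowerSeries σ R} (hx : 1 ≤ x.order) (hy : 1 ≤ y.order)
    (hxy : 2 ≤ (x - y).order) (n : ℕ) : (n : ℕ∞) + 1 ≤ (x ^ n - y ^ n).order := by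
  induction n with
  | zero => simp
  | succ n ih =>
    have e : x ^ (n + 1) - y ^ (n + 1) = x * (x ^ n - y ^ n) + (x - y) * y ^ n := by ring
    rw [e]
    refine le_trans ?_ min_order_le_add
    refine le_min ?_ ?_
    · refine le_trans ?_ le_order_mul
      calc ((n + 1 : ℕ) : ℕ∞) + 1 = 1 + ((n : ℕ∞) + 1) := by push_cast; ring
        _ ≤ x.order + (x ^ n - y ^ n).order := add_le_add hx ih
    · refine le_trans ?_ le_order_mul
      have hyn : (n : ℕ∞) ≤ (y ^ n).order := by
        refine le_trans ?_ (le_order_pow n)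
        simpa using le_mul_of_one_le_right' hy
      calc ((n + 1 : ℕ) : ℕ∞) + 1 = 2 + (n : ℕ∞) := by push_cast; ring
        _ ≤ (x - y).order + (y ^ n).order := add_le_add hxy hyn

theorem ift_order_prod_sub {a ℓ : σ → MvPowerSeries σ R} (ha : ∀ i, 1 ≤ (a i).order)
    (hℓ : ∀ i, 1 ≤ (ℓ i).order) (hr : ∀ i, 2 ≤ (a i - ℓ i).order) (e : σ →₀ ℕ) (S : Finset σ) :
    ((∑ s ∈ S, e s : ℕ) : ℕ∞) + 1 ≤
      (∏ s ∈ S, a s ^ e s - ∏ s ∈ S, ℓ s ^ e s).order ∧
    ((∑ s ∈ S, e s : ℕ) : ℕ∞) ≤ (∏ s ∈ S, ℓ s ^ e s).order := by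
  classical
  induction S using Finset.induction_on with
  | empty => simp
  | insert t S ht ih =>
    obtain ⟨ih1, ih2⟩ := ih
    rw [Finset.prod_insert ht, Finset.prod_insert ht, Finset.sum_insert ht]
    have hat : (e t : ℕ∞) ≤ (a t ^ e t).order := by
      refine le_trans ?_ (le_order_pow (e t))
      simpa using le_mul_of_one_le_right' (ha t)
    have hℓt : (e t : ℕ∞) ≤ (ℓ t ^ e t).order := by
      refine le_trans ?_ (le_order_pow (e t))
      simpa using le_mul_of_one_le_right' (hℓ t)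
    refine ⟨?_, ?_⟩
    · have e1 : a t ^ e t * ∏ s ∈ S, a s ^ e s - ℓ t ^ e t * ∏ s ∈ S, ℓ s ^ e s =
          a t ^ e t * (∏ s ∈ S, a s ^ e s - ∏ s ∈ S, ℓ s ^ e s) +
            (a t ^ e t - ℓ t ^ e t) * ∏ s ∈ S, ℓ s ^ e s := by ring
      rw [e1]
      refine le_trans ?_ min_order_le_add
      refine le_min ?_ ?_
      · refine le_trans ?_ le_order_mul
        calc ((e t + ∑ s ∈ S, e s : ℕ) : ℕ∞) + 1
            = (e t : ℕ∞) + (((∑ s ∈ S, e s : ℕ) : ℕ∞) + 1) := by push_cast; ring
          _ ≤ _ := add_le_add hat ih1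
      · refine le_trans ?_ le_order_mul
        calc ((e t + ∑ s ∈ S, e s : ℕ) : ℕ∞) + 1
            = ((e t : ℕ∞) + 1) + ((∑ s ∈ S, e s : ℕ) : ℕ∞) := by push_cast; ring
          _ ≤ _ := add_le_add (ift_order_pow_sub (ha t) (hℓ t) (hr t) (e t)) ih2
    · refine le_trans ?_ le_order_mul
      calc ((e t + ∑ s ∈ S, e s : ℕ) : ℕ∞)
          = (e t : ℕ∞) + ((∑ s ∈ S, e s : ℕ) : ℕ∞) := by push_cast; ring
        _ ≤ _ := add_le_add hℓt ih2

theorem ift_order_monomial_sub {a ℓ : σ → MvPowerSeries σ R} (ha : ∀ i, 1 ≤ (a i).order)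
    (hℓ : ∀ i, 1 ≤ (ℓ i).order) (hr : ∀ i, 2 ≤ (a i - ℓ i).order) (e : σ →₀ ℕ) :
    ((Finsupp.degree e : ℕ) : ℕ∞) + 1 ≤
      ((e.prod fun s n => a s ^ n) - (e.prod fun s n => ℓ s ^ n)).order := by
  have := (ift_order_prod_sub ha hℓ hr e e.support).1
  simpa [Finsupp.prod, Finsupp.degree] using this

end

section

variable {σ : Type*} [Finite σ] {R : Type*} [CommRing R]

theorem ift_order_subst_sub {a ℓ : σ → MvPowerSeries σ R} (ha : ∀ i, constantCoeff (a i) = 0)
    (hℓ : ∀ i, constantCoeff (ℓ i) = 0) (hr : ∀ i, 2 ≤ (a i - ℓ i).order)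
    (f : MvPowerSeries σ R) : f.order + 1 ≤ (subst a f - subst ℓ f).order := by
  have hsa := hasSubst_of_constantCoeff_zero ha
  have hsℓ := hasSubst_of_constantCoeff_zero hℓ
  refine le_order fun d hd => ?_
  rw [map_sub, coeff_subst hsa, coeff_subst hsℓ, sub_eq_zero]
  refine finsum_congr fun e => ?_
  by_cases he : coeff e f = 0
  · simp [he]
  · congr 1
    have h1 : f.order ≤ Finsupp.degree e := order_le he
    have h2 := ift_order_monomial_sub (fun i => one_le_order_iff_constCoeff_eq_zero.2 (ha i))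
      (fun i => one_le_order_iff_constCoeff_eq_zero.2 (hℓ i)) hr e
    have h3 : ((Finsupp.degree d : ℕ) : ℕ∞) <
        ((e.prod fun s n => a s ^ n) - (e.prod fun s n => ℓ s ^ n)).order :=
      lt_of_lt_of_le (lt_of_lt_of_le hd (add_le_add h1 le_rfl)) h2
    have := coeff_of_lt_order h3
    rwa [map_sub, sub_eq_zero] at this

theorem ift_order_le_subst {a : σ → MvPowerSeries σ R} (ha : ∀ i, constantCoeff (a i) = 0)
    (f : MvPowerSeries σ R) : f.order ≤ (subst a f).order := by
  have hsa := hasSubst_of_constantCoeff_zero ha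
  refine le_trans ?_ (le_order_subst hsa f)
  have : (1 : ℕ∞) ≤ ⨅ i, (a i).order :=
    le_iInf fun i => one_le_order_iff_constCoeff_eq_zero.2 (ha i)
  calc f.order = 1 * f.order := (one_mul _).symm
    _ ≤ _ := mul_le_mul' this le_rfl


theorem ift_injective {a ℓ ℓ' : σ → MvPowerSeries σ R} (ha : ∀ i, constantCoeff (a i) = 0)
    (hℓ : ∀ i, constantCoeff (ℓ i) = 0) (hℓ' : ∀ i, constantCoeff (ℓ' i) = 0)
    (h2 : ∀ i, subst ℓ' (ℓ i) = X i) (hr : ∀ i, 2 ≤ (a i - ℓ i).order) :
    Function.Injective (subst a : MvPowerSeries σ R → MvPowerSeries σ R) := by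
  have hsa := hasSubst_of_constantCoeff_zero ha
  have hsℓ := hasSubst_of_constantCoeff_zero hℓ
  have hsℓ' := hasSubst_of_constantCoeff_zero hℓ'
  have ED : ∀ x : MvPowerSeries σ R, subst ℓ' (subst ℓ x) = x := by
    intro x
    rw [subst_comp_subst_apply hsℓ hsℓ']
    have : (fun s => subst ℓ' (ℓ s)) = X := funext h2
    rw [this, subst_self]; rfl
  intro f g hfg
  rw [← sub_eq_zero]
  set h := f - g with hh
  have hθ : subst a h = 0 := by rw [hh, subst_sub hsa, hfg, sub_self]
  have h1 := ift_order_subst_sub ha hℓ hr h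
  rw [hθ, zero_sub, order_neg] at h1
  have h4 : (subst ℓ h).order ≤ h.order := by
    conv_rhs => rw [← ED h]
    exact ift_order_le_subst hℓ' _
  have h5 : h.order + 1 ≤ h.order := h1.trans h4
  rw [← order_eq_top_iff]
  by_contra hne
  exact lt_irrefl _ ((ENat.add_one_le_iff hne).1 h5)

theorem ift_surjective {a ℓ ℓ' : σ → MvPowerSeries σ R} (ha : ∀ i, constantCoeff (a i) = 0)
    (hℓ : ∀ i, constantCoeff (ℓ i) = 0) (hℓ' : ∀ i, constantCoeff (ℓ' i) = 0)
    (h1 : ∀ i, subst ℓ (ℓ' i) = X i) (hr : ∀ i, 2 ≤ (a i - ℓ i).order) :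
    Function.Surjective (subst a : MvPowerSeries σ R → MvPowerSeries σ R) := by
  have hsa := hasSubst_of_constantCoeff_zero ha
  have hsℓ := hasSubst_of_constantCoeff_zero hℓ
  have hsℓ' := hasSubst_of_constantCoeff_zero hℓ'
  have DE : ∀ x : MvPowerSeries σ R, subst ℓ (subst ℓ' x) = x := by
    intro x
    rw [subst_comp_subst_apply hsℓ' hsℓ]
    have : (fun s => subst ℓ (ℓ' s)) = X := funext h1
    rw [this, subst_self]; rfl
  intro f
  let g : ℕ → MvPowerSeries σ R := fun n =>
    Nat.rec 0 (fun _ gn => gn + subst ℓ' (f - subst a gn)) n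
  have gs : ∀ n, g (n + 1) = g n + subst ℓ' (f - subst a (g n)) := fun n => rfl
  have hres : ∀ n : ℕ, (n : ℕ∞) ≤ (f - subst a (g n)).order := by
    intro n
    induction n with
    | zero => simp
    | succ n ih =>
      rw [gs, subst_add hsa]
      set r := f - subst a (g n) with hrdef
      have e : f - (subst a (g n) + subst a (subst ℓ' r)) =
          -(subst a (subst ℓ' r) - subst ℓ (subst ℓ' r)) := by
        rw [DE r, hrdef]; ring
      rw [e, order_neg]
      refine le_trans ?_ (ift_order_subst_sub ha hℓ hr _)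
      push_cast
      exact add_le_add (ih.trans (ift_order_le_subst hℓ' r)) le_rfl
  have hstep : ∀ n : ℕ, (n : ℕ∞) ≤ (g (n + 1) - g n).order := by
    intro n
    rw [gs, add_sub_cancel_left]
    exact (hres n).trans (ift_order_le_subst hℓ' _)
  have hmono : ∀ n k : ℕ, (n : ℕ∞) ≤ (g (n + k) - g n).order := by
    intro n k
    induction k with
    | zero => simp
    | succ k ih =>
      have e : g (n + (k + 1)) - g n = (g (n + k + 1) - g (n + k)) + (g (n + k) - g n) := by
        rw [← add_assoc]; ring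
      rw [e]
      refine le_trans (le_min ?_ ih) min_order_le_add
      exact le_trans (by exact_mod_cast Nat.le_add_right n k) (hstep (n + k))
  let G : MvPowerSeries σ R := fun d => coeff d (g (Finsupp.degree d + 1))
  have hG : ∀ n : ℕ, (n : ℕ∞) ≤ (G - g n).order := by
    intro n
    refine nat_le_order fun d hd => ?_
    have e : coeff d G = coeff d (g (Finsupp.degree d + 1)) := rfl
    rw [map_sub, e, ← map_sub]
    obtain ⟨k, rfl⟩ := Nat.exists_eq_add_of_le (Nat.succ_le_of_lt hd)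
    have := hmono (Finsupp.degree d + 1) k
    rw [← neg_sub, map_neg, neg_eq_zero]
    refine coeff_of_lt_order (lt_of_lt_of_le ?_ this)
    exact_mod_cast Nat.lt_succ_self _
  refine ⟨G, ?_⟩
  rw [← sub_eq_zero, ← order_eq_top_iff]
  refine ENat.eq_top_iff_forall_ge.2 fun n => ?_
  have e : subst a G - f = subst a (G - g n) + -(f - subst a (g n)) := by
    rw [subst_sub hsa]; ring
  rw [e]
  refine le_trans (le_min ?_ ?_) min_order_le_add
  · exact (hG n).trans (ift_order_le_subst ha _)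
  · rw [order_neg]; exact hres n

/-- Formal inverse function theorem: bijectivity. -/
theorem ift_bijective {a ℓ ℓ' : σ → MvPowerSeries σ R} (ha : ∀ i, constantCoeff (a i) = 0)
    (hℓ : ∀ i, constantCoeff (ℓ i) = 0) (hℓ' : ∀ i, constantCoeff (ℓ' i) = 0)
    (h1 : ∀ i, subst ℓ (ℓ' i) = X i) (h2 : ∀ i, subst ℓ' (ℓ i) = X i)
    (hr : ∀ i, 2 ≤ (a i - ℓ i).order) :
    Function.Bijective (subst a : MvPowerSeries σ R → MvPowerSeries σ R) :=
  ⟨ift_injective ha hℓ hℓ' h2 hr, ift_surjective ha hℓ hℓ' h1 hr⟩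

/-- The algebra automorphism given by a substitution satisfying the hypotheses of the formal
inverse function theorem. -/
noncomputable def iftEquiv {a ℓ ℓ' : σ → MvPowerSeries σ R} (ha : ∀ i, constantCoeff (a i) = 0)
    (hℓ : ∀ i, constantCoeff (ℓ i) = 0) (hℓ' : ∀ i, constantCoeff (ℓ' i) = 0)
    (h1 : ∀ i, subst ℓ (ℓ' i) = X i) (h2 : ∀ i, subst ℓ' (ℓ i) = X i)
    (hr : ∀ i, 2 ≤ (a i - ℓ i).order) : MvPowerSeries σ R ≃ₐ[R] MvPowerSeries σ R :=
  AlgEquiv.ofBijective (substAlgHom (hasSubst_of_constantCoeff_zero ha)) (by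
    rw [coe_substAlgHom]; exact ift_bijective ha hℓ hℓ' h1 h2 hr)

theorem iftEquiv_apply {a ℓ ℓ' : σ → MvPowerSeries σ R} (ha : ∀ i, constantCoeff (a i) = 0)
    (hℓ : ∀ i, constantCoeff (ℓ i) = 0) (hℓ' : ∀ i, constantCoeff (ℓ' i) = 0)
    (h1 : ∀ i, subst ℓ (ℓ' i) = X i) (h2 : ∀ i, subst ℓ' (ℓ i) = X i)
    (hr : ∀ i, 2 ≤ (a i - ℓ i).order) (f : MvPowerSeries σ R) :
    iftEquiv ha hℓ hℓ' h1 h2 hr f = subst a f := by
  simp [iftEquiv]

/-- Tangent-to-identity case. -/
theorem ift_bijective_of_tangent {a : σ → MvPowerSeries σ R} (ha : ∀ i, constantCoeff (a i) = 0)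
    (hr : ∀ i, 2 ≤ (a i - X i).order) :
    Function.Bijective (subst a : MvPowerSeries σ R → MvPowerSeries σ R) :=
  ift_bijective (ℓ := X) (ℓ' := X) ha (fun i => constantCoeff_X i) (fun i => constantCoeff_X i)
    (fun i => by rw [subst_self]; rfl) (fun i => by rw [subst_self]; rfl) hr

/-- Existence of a compositional inverse (two-sided). -/
theorem ift_exists_inverse {a ℓ ℓ' : σ → MvPowerSeries σ R} (ha : ∀ i, constantCoeff (a i) = 0)
    (hℓ : ∀ i, constantCoeff (ℓ i) = 0) (hℓ' : ∀ i, constantCoeff (ℓ' i) = 0)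
    (h1 : ∀ i, subst ℓ (ℓ' i) = X i) (h2 : ∀ i, subst ℓ' (ℓ i) = X i)
    (hr : ∀ i, 2 ≤ (a i - ℓ i).order) :
    ∃ b : σ → MvPowerSeries σ R, (∀ i, constantCoeff (b i) = 0) ∧
      (∀ i, subst a (b i) = X i) ∧ (∀ i, subst b (a i) = X i) := by
  have hsa := hasSubst_of_constantCoeff_zero ha
  obtain ⟨hinj, hsurj⟩ := ift_bijective ha hℓ hℓ' h1 h2 hr
  choose b hb using fun i => hsurj (X i)
  have hb0 : ∀ i, constantCoeff (b i) = 0 := by
    intro i
    have e : b i = C (constantCoeff (b i)) + (b i - C (constantCoeff (b i))) := by ring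
    have h0 : constantCoeff (b i - C (constantCoeff (b i))) = 0 := by simp
    have := congrArg constantCoeff (hb i)
    rw [e, subst_add hsa, subst_C, map_add, constantCoeff_subst_eq_zero hsa ha h0,
      constantCoeff_X, add_zero, constantCoeff_C] at this
    exact this
  have hsb := hasSubst_of_constantCoeff_zero hb0
  refine ⟨b, hb0, hb, fun i => hinj ?_⟩
  rw [subst_comp_subst_apply hsb hsa]
  have : (fun s => subst a (b s)) = X := funext hb
  rw [this, subst_self, subst_X hsa]; rfl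


omit [Finite σ] in
/-- For a power series `m` without constant term there is `w` without constant term with
`w + w ^ 2 + w ^ 3 = m` (so `(1 + w) ^ 3 = 1 + m` in characteristic two). -/
theorem exists_add_sq_add_cube_eq (m : MvPowerSeries σ R) (hm : constantCoeff m = 0) :
    ∃ w : MvPowerSeries σ R, constantCoeff w = 0 ∧ w + w ^ 2 + w ^ 3 = m := by
  let p : MvPowerSeries Unit R := X () + X () ^ 2 + X () ^ 3
  have ha : ∀ i : Unit, constantCoeff ((fun _ => p) i) = 0 := by intro i; simp [p]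
  have hX : (1 : ℕ∞) ≤ (X () : MvPowerSeries Unit R).order :=
    one_le_order_iff_constCoeff_eq_zero.2 (constantCoeff_X ())
  have hr : ∀ i : Unit, 2 ≤ ((fun _ => p) i - X i).order := by
    intro i
    have e : p - X i = X () * (X () + X () ^ 2) := by
      show X () + X () ^ 2 + X () ^ 3 - X () = _
      ring
    show 2 ≤ (p - X i).order
    rw [e]
    refine le_trans ?_ le_order_mul
    rw [← one_add_one_eq_two]
    refine add_le_add hX (one_le_order_iff_constCoeff_eq_zero.2 ?_)
    simp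
  obtain ⟨b, hb0, -, hb2⟩ := ift_exists_inverse (ℓ := X) (ℓ' := X) ha
    (fun i => constantCoeff_X i) (fun i => constantCoeff_X i)
    (fun i => by rw [subst_self]; rfl) (fun i => by rw [subst_self]; rfl) hr
  have hsb := hasSubst_of_constantCoeff_zero hb0
  have hψ : b () + b () ^ 2 + b () ^ 3 = X () := by
    have := hb2 ()
    simp only [p] at this
    rwa [subst_add hsb, subst_add hsb, subst_pow hsb, subst_pow hsb, subst_X hsb] at this
  have hsm : HasSubst (fun _ : Unit => m) := hasSubst_of_constantCoeff_zero (fun _ => hm)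
  refine ⟨subst (fun _ : Unit => m) (b ()),
    constantCoeff_subst_eq_zero hsm (fun _ => hm) (hb0 ()), ?_⟩
  rw [← subst_pow hsm, ← subst_pow hsm, ← subst_add hsm, ← subst_add hsm, hψ, subst_X hsm]

end

end Groth.Agent.H65
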