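import Groth.Agent.H64.DiagBCAlg

/-!
# The comparison morphism `𝒳 ×_𝒵 𝒴 ⟶ 𝒳 ×_𝒯 𝒴` is a base change of the diagonal of `𝒵 ⟶ 𝒯`

For `f : 𝒳 ⟶ 𝒵`, `g : 𝒴 ⟶ 𝒵`, `t : 𝒵 ⟶ 𝒯` (categories over `C`), the square

```
𝒳 ×_𝒵 𝒴 ---------> 𝒵
   |                 | Δ_t
   v                 v
𝒳 ×_𝒯 𝒴 ------> 𝒵 ×_𝒯 𝒵
```
is 2-cartesian (for categories fibred in groupoids).
-/

set_option autoImplicit false
open CategoryTheory CategoryTheory.Limits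
universe v₅ u₅ v₄ u₄ v₃ u₃ v₂ u₂ v u

namespace Groth.Agent.H65.AlgStCmp

open Groth.Agent.H32 Groth.Agent.H64

variable {C : Type u} [Category.{v} C]
variable {𝒳 : BasedCategory.{v₂, u₂} C} {𝒴 : BasedCategory.{v₃, u₃} C}
  {𝒵 : BasedCategory.{v₄, u₄} C} {𝒯 : BasedCategory.{v₅, u₅} C}
variable (f : 𝒳 ⥤ᵇ 𝒵) (g : 𝒴 ⥤ᵇ 𝒵) (t : 𝒵 ⥤ᵇ 𝒯)

/-- the canonical 2-isomorphism `t(φ)` -/
def cmpIso : BasedFunctor.comp (FibCat.fpFst f g) (BasedFunctor.comp f t) ≅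
    BasedFunctor.comp (FibCat.fpSnd f g) (BasedFunctor.comp g t) :=
  mkBIso (fun x => t.toFunctor.mapIso x.obj.iso)
    (fun {x x'} m => by
      show t.map (f.map m.hom.fst) ≫ t.map x'.obj.iso.hom =
        t.map x.obj.iso.hom ≫ t.map (g.map m.hom.snd)
      rw [← t.map_comp, ← t.map_comp, m.hom.w])
    (fun x => (BasedFunctor.isHomLift_iff t _ _).mpr (fp_iso_isHomLift f g x))

/-- the comparison functor `𝒳 ×_𝒵 𝒴 ⟶ 𝒳 ×_𝒯 𝒴` -/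
def cmp : FibCat.fp f g ⥤ᵇ FibCat.fp (BasedFunctor.comp f t) (BasedFunctor.comp g t) :=
  FibCat.fpLift (FibCat.fpFst f g) (FibCat.fpSnd f g) (cmpIso f g t)

/-- the functor `𝒳 ×_𝒯 𝒴 ⟶ 𝒵 ×_𝒯 𝒵` -/
def cmpM : FibCat.fp (BasedFunctor.comp f t) (BasedFunctor.comp g t) ⥤ᵇ FibCat.fp t t :=
  FibCat.fpLift (F := t) (G := t)
    (BasedFunctor.comp (FibCat.fpFst (BasedFunctor.comp f t) (BasedFunctor.comp g t)) f)
    (BasedFunctor.comp (FibCat.fpSnd (BasedFunctor.comp f t) (BasedFunctor.comp g t)) g)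
    (mkBIso (fun w => w.obj.iso) (fun m => m.hom.w)
      (fun w => fp_iso_isHomLift (BasedFunctor.comp f t) (BasedFunctor.comp g t) w))

theorem cmp_aux {D : Type*} [Category D] {A B : D} (t1 : A ⟶ A) (h1 : t1 = 𝟙 A)
    (tφ : A ⟶ B) (tφi : B ⟶ A) (h : tφ ≫ tφi = 𝟙 A) : t1 ≫ 𝟙 A = tφ ≫ tφi := by
  subst h1; simp [h]

theorem cmp_aux2 {D : Type*} [Category D] {A A' B B' : D} (φ : A ≅ B) (φ' : A' ≅ B')
    (a : A ⟶ A') (b : B ⟶ B') (h : b ≫ φ'.inv = φ.inv ≫ a) : a ≫ φ'.hom = φ.hom ≫ b := by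
  rw [← Iso.inv_comp_eq, ← Category.assoc, ← h, Category.assoc, Iso.inv_hom_id, Category.comp_id]

/-- the 2-isomorphism of the square -/
def cmpε : BasedFunctor.comp (cmp f g t) (cmpM f g t) ≅
    BasedFunctor.comp (BasedFunctor.comp (FibCat.fpFst f g) f) (FibCat.diag t) :=
  mkBIso
    (fun x => fpIsoMk t t (z := (cmpM f g t).obj ((cmp f g t).obj x))
      (z' := (FibCat.diag t).obj (f.obj x.obj.fst)) (Iso.refl _) x.obj.iso.symm (by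
        show t.map (𝟙 (f.obj x.obj.fst)) ≫ 𝟙 _ = t.map x.obj.iso.hom ≫ t.map x.obj.iso.inv
        exact cmp_aux _ (t.map_id _) _ _ (by rw [← t.map_comp, Iso.hom_inv_id, t.map_id])))
    (fun {x x'} m => by
      apply fp_hom_ext
      · show f.map m.hom.fst ≫ 𝟙 _ = 𝟙 _ ≫ f.map m.hom.fst
        simp
      · show g.map m.hom.snd ≫ x'.obj.iso.inv = x.obj.iso.inv ≫ f.map m.hom.fst
        rw [Iso.comp_inv_eq, Category.assoc, m.hom.w, Iso.inv_hom_id_assoc])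
    (fun x => by
      have : 𝒵.p.IsHomLift (𝟙 ((FibCat.fp f g).p.obj x)) (𝟙 (f.obj x.obj.fst)) :=
        IsHomLift.id (f.w_obj x.obj.fst)
      exact @fp_isHomLift_of_fst _ _ _ _ _ t t _ _ _ _ _ (𝟙 ((FibCat.fp f g).p.obj x)) this)

/-- the comparison functor `𝒳 ×_𝒵 𝒴 ⟶ (𝒳 ×_𝒯 𝒴) ×_{𝒵 ×_𝒯 𝒵} 𝒵` -/
def cmpΛ : FibCat.fp f g ⥤ᵇ FibCat.fp (cmpM f g t) (FibCat.diag t) :=
  FibCat.fpLift (F := cmpM f g t) (G := FibCat.diag t) (cmp f g t)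
    (BasedFunctor.comp (FibCat.fpFst f g) f) (cmpε f g t)

theorem cmpΛ_comp_fpFst :
    BasedFunctor.comp (cmpΛ f g t) (FibCat.fpFst (cmpM f g t) (FibCat.diag t)) = cmp f g t := rfl

theorem cmpΛ_faithful : (cmpΛ f g t).toFunctor.Faithful := by
  refine ⟨fun {x x'} m m' h => ?_⟩
  exact fp_hom_ext f g (congrArg (fun s => s.hom.fst.hom.fst) h)
    (congrArg (fun s => s.hom.fst.hom.snd) h)

theorem cmpΛ_full : (cmpΛ f g t).toFunctor.Full := by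
  refine ⟨fun {x x'} n => ?_⟩
  let n₁ : x.obj.fst ⟶ x'.obj.fst := n.hom.fst.hom.fst
  let n₂ : x.obj.snd ⟶ x'.obj.snd := n.hom.fst.hom.snd
  let n₃ : f.obj x.obj.fst ⟶ f.obj x'.obj.fst := n.hom.snd
  have hw := n.hom.w
  have hw1 : f.map n₁ ≫ 𝟙 _ = 𝟙 _ ≫ n₃ := congrArg (fun s => s.hom.fst) hw
  have hw2 : g.map n₂ ≫ x'.obj.iso.inv = x.obj.iso.inv ≫ n₃ := congrArg (fun s => s.hom.snd) hw
  rw [Category.comp_id, Category.id_comp] at hw1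
  have hw3 : f.map n₁ ≫ x'.obj.iso.hom = x.obj.iso.hom ≫ g.map n₂ := by
    rw [← hw1] at hw2
    exact cmp_aux2 _ _ _ _ hw2
  refine ⟨fpHomMk f g n₁ n₂ hw3, ?_⟩
  apply fp_hom_ext
  · apply fp_hom_ext
    · rfl
    · rfl
  · exact hw1

theorem cmp_aux3 {D : Type*} [Category D] {A B Z : D} (tθ₁ : A ⟶ Z) (ψ : A ⟶ B) (tθ₂ : B ⟶ Z)
    (tθ₂i : Z ⟶ B) (h2 : tθ₂ ≫ tθ₂i = 𝟙 B) (hw : tθ₁ ≫ 𝟙 Z = ψ ≫ tθ₂) (ta : A ⟶ A) (ha : ta = 𝟙 A)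
    (tb : B ⟶ B) (hb : tb = 𝟙 B) : ta ≫ ψ = (tθ₁ ≫ tθ₂i) ≫ tb := by
  subst ha hb
  rw [Category.comp_id] at hw
  rw [hw]
  simp [h2]

theorem cmpΛ_essSurj (h𝒫 : FibCat.IsFibGrpd (FibCat.fp (cmpM f g t) (FibCat.diag t)).p)
    (η : (FibCat.fp (cmpM f g t) (FibCat.diag t)).obj) :
    ∃ (ξ : (FibCat.fp f g).obj) (e : (cmpΛ f g t).obj ξ ≅ η),
      (FibCat.fp (cmpM f g t) (FibCat.diag t)).p.IsHomLift
        (𝟙 ((FibCat.fp (cmpM f g t) (FibCat.diag t)).p.obj η)) e.hom := by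
  let x₁ : 𝒳.obj := η.obj.fst.obj.fst
  let x₂ : 𝒴.obj := η.obj.fst.obj.snd
  let ψ : t.obj (f.obj x₁) ≅ t.obj (g.obj x₂) := η.obj.fst.obj.iso
  let z : 𝒵.obj := η.obj.snd
  let θ₁ : f.obj x₁ ⟶ z := η.obj.iso.hom.hom.fst
  let θ₂ : g.obj x₂ ⟶ z := η.obj.iso.hom.hom.snd
  let θ₁i : z ⟶ f.obj x₁ := η.obj.iso.inv.hom.fst
  let θ₂i : z ⟶ g.obj x₂ := η.obj.iso.inv.hom.snd
  have hθ₁ : θ₁ ≫ θ₁i = 𝟙 _ := congrArg (fun s => s.hom.fst) η.obj.iso.hom_inv_id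
  have hθ₁' : θ₁i ≫ θ₁ = 𝟙 _ := congrArg (fun s => s.hom.fst) η.obj.iso.inv_hom_id
  have hθ₂ : θ₂ ≫ θ₂i = 𝟙 _ := congrArg (fun s => s.hom.snd) η.obj.iso.hom_inv_id
  have hθ₂' : θ₂i ≫ θ₂ = 𝟙 _ := congrArg (fun s => s.hom.snd) η.obj.iso.inv_hom_id
  have hw : t.map θ₁ ≫ 𝟙 _ = ψ.hom ≫ t.map θ₂ := η.obj.iso.hom.hom.w
  -- the isomorphism `φ = θ₁ ≫ θ₂⁻¹ : f x₁ ≅ g x₂`
  let φ : f.obj x₁ ≅ g.obj x₂ :=
    { hom := θ₁ ≫ θ₂i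
      inv := θ₂ ≫ θ₁i
      hom_inv_id := by rw [Category.assoc, reassoc_of% hθ₂', hθ₁]
      inv_hom_id := by rw [Category.assoc, reassoc_of% hθ₁', hθ₂] }
  have hη : (FibCat.fp t t).p.IsHomLift
      (𝟙 ((FibCat.fp (cmpM f g t) (FibCat.diag t)).p.obj η)) η.obj.iso.hom :=
    fp_iso_isHomLift (cmpM f g t) (FibCat.diag t) η
  have hηi : (FibCat.fp t t).p.IsHomLift
      (𝟙 ((FibCat.fp (cmpM f g t) (FibCat.diag t)).p.obj η)) η.obj.iso.inv :=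
    fp_iso_inv_isHomLift (cmpM f g t) (FibCat.diag t) η
  have h1 : 𝒵.p.IsHomLift (𝟙 (𝒳.p.obj x₁)) θ₁ :=
    @fp_fst_isHomLift _ _ _ _ _ t t _ _ η.obj.iso.hom _ _ _ hη
  have h2 : 𝒵.p.IsHomLift (𝟙 (𝒳.p.obj x₁)) θ₂i :=
    @fp_snd_isHomLift _ _ _ _ _ t t _ _ η.obj.iso.inv _ _ _ hηi
  have hφ : 𝒵.p.IsHomLift (𝟙 (𝒳.p.obj x₁)) φ.hom := lift_id_comp_id 𝒵.p h1 h2
  let ξ : (FibCat.fp f g).obj := ⟨{ fst := x₁, snd := x₂, iso := φ }, hφ⟩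
  let m : (cmp f g t).obj ξ ⟶ η.obj.fst :=
    fpHomMk (BasedFunctor.comp f t) (BasedFunctor.comp g t)
      (z := (cmp f g t).obj ξ) (z' := η.obj.fst) (𝟙 x₁) (𝟙 x₂) (by
      show t.map (f.map (𝟙 x₁)) ≫ ψ.hom = t.map (θ₁ ≫ θ₂i) ≫ t.map (g.map (𝟙 x₂))
      rw [t.map_comp]
      exact cmp_aux3 (t.map θ₁) ψ.hom (t.map θ₂) (t.map θ₂i)
        (by rw [← t.map_comp, hθ₂, t.map_id]) hw _ (by rw [f.map_id, t.map_id]) _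
        (by rw [g.map_id, t.map_id]))
  let ν : (cmpΛ f g t).obj ξ ⟶ η :=
    fpHomMk (cmpM f g t) (FibCat.diag t) (z := (cmpΛ f g t).obj ξ) (z' := η) m θ₁ (by
      apply fp_hom_ext
      · show f.map (𝟙 x₁) ≫ θ₁ = 𝟙 _ ≫ θ₁
        rw [f.map_id]
      · show g.map (𝟙 x₂) ≫ θ₂ = (θ₂ ≫ θ₁i) ≫ θ₁
        rw [g.map_id, Category.assoc, hθ₁']
        simp)
  have hν : (FibCat.fp (cmpM f g t) (FibCat.diag t)).p.IsHomLift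
      (𝟙 ((FibCat.fp (cmpM f g t) (FibCat.diag t)).p.obj η)) ν :=
    lift_id_of_map_eq _ ν rfl (𝒳.p.map_id _)
  have hiso : IsIso ν := isIso_of_lift_id _ h𝒫 hν
  exact ⟨ξ, @asIso _ _ _ _ ν hiso, hν⟩

/-- the comparison square is 2-cartesian -/
theorem isEquivOver_cmpΛ (h𝒳 : FibCat.IsFibGrpd 𝒳.p) (h𝒴 : FibCat.IsFibGrpd 𝒴.p)
    (h𝒵 : FibCat.IsFibGrpd 𝒵.p) (h𝒯 : FibCat.IsFibGrpd 𝒯.p) :
    FibCat.IsEquivOver (cmpΛ f g t) := by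
  have h2 : FibCat.IsFibGrpd (FibCat.fp (BasedFunctor.comp f t) (BasedFunctor.comp g t)).p :=
    isFibGrpd_fp _ _ h𝒳 h𝒴 h𝒯
  have h3 : FibCat.IsFibGrpd (FibCat.fp t t).p := isFibGrpd_fp _ _ h𝒵 h𝒵 h𝒯
  have h𝒫 : FibCat.IsFibGrpd (FibCat.fp (cmpM f g t) (FibCat.diag t)).p :=
    isFibGrpd_fp _ _ h2 h𝒵 h3
  have := cmpΛ_faithful f g t
  have := cmpΛ_full f g t
  exact isEquivOver_of_fullyFaithful_of_fiberwise_essSurj (cmpΛ f g t)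
    (fun η => cmpΛ_essSurj f g t h𝒫 η)

end Groth.Agent.H65.AlgStCmp
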