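import Groth.Agent.H65.AlgStQC8

/-!
# A calculus of scheme charts for morphisms of algebraic stacks

* `Calc Q`: classes of morphisms of algebraic spaces for which charts can be composed, base changed
  and refined by étale atlases;
* `exists_refine`: the fibre product of two scheme charts, refined by a scheme;
* `locQ_of_chart`, `exists_chart_of_locQ`, `exists_common_chart`: `LocQ (LocP Q) f` is equivalent
  to: some smooth surjective scheme chart `x` has `x ⋙ f` with `LocP Q`.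
-/

set_option autoImplicit false
open CategoryTheory CategoryTheory.Limits AlgebraicGeometry Opposite
universe u

namespace Groth.Agent.H65.AlgStChartCalc

open AlgSt Groth.Agent.H32 Groth.Agent.H64 Groth.Agent.H64.PTh Groth.Agent.H64.FpRep
  Groth.Agent.H64.Recog Groth.Agent.H64.Pts Groth.Agent.H65.AlgStQC5 Groth.Agent.H65.AlgStQC7

variable {S : Scheme.{u}}

/-- classes of morphisms of algebraic spaces for which the chart calculus works -/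
structure Calc (Q : MorphismProperty (AlgSp.Sp S)) : Prop where
  bc : StableBC Q
  comp : ∀ ⦃X Y Z : AlgSp.Sp S⦄, AlgSp.IsAlgSpace X → AlgSp.IsAlgSpace Y → AlgSp.IsAlgSpace Z →
    ∀ (a : X ⟶ Y) (b : Y ⟶ Z), Q a → Q b → Q (a ≫ b)
  loc : AlgSp.IsLocalOnBase AlgSp.IsFppfCover Q
  atl : ∀ (F : AlgSp.Space S) (W : Over S) (p : (AlgSp.yon S).obj W ⟶ F.obj),
    AlgSp.RepWith @Etale p → AlgSp.RepWith @Surjective p →
    RepByAlgSpWith Q (ofSection (uliftYonedaEquiv.{u+1} p.hom) : FibCat.overCat W ⥤ᵇ ofSp F.obj)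

theorem calc_locP {Q : MorphismProperty Scheme.{u}} (hG : Groth.Agent.H50.GoodClass Q)
    (hl : AlgSp.IsLocalOnBase (AlgSp.IsFppfCover (S := S)) (AlgSp.LocP Q)) :
    Calc (AlgSp.LocP (S := S) Q) where
  bc := stableBC_locP hG
  comp := fun _ _ _ _ hY _ a b ha hb => hG.locP_comp hY a b ha hb
  loc := hl
  atl := fun F _ p hpE _ => repByAlgSpWith_ofSection _ F.property p
    (baseChange_locP_of_etale p hpE hG)

theorem calc_surj : Calc (AlgSp.IsSurjectiveMor (S := S)) where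
  bc := stableBC_surj
  comp := fun _ _ _ _ _ _ _ _ ha hb => Groth.Agent.H49.isSurjectiveMor_comp ha hb
  loc := isLocalOnBase_fppf_surj
  atl := fun F _ p _ hpS => repByAlgSpWith_ofSection _ F.property p
    (baseChange_surj_of_surjective p hpS)

theorem calc_smooth : Calc (AlgSp.LocP (S := S) @Smooth) :=
  calc_locP Groth.Agent.H50.goodClass_smooth isLocalOnBase_fppf_smooth

theorem calc_flat : Calc (AlgSp.LocP (S := S) @Flat) :=
  calc_locP Groth.Agent.H50.goodClass_flat isLocalOnBase_fppf_flat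

theorem calc_lfp : Calc (AlgSp.LocP (S := S) @LocallyOfFinitePresentation) :=
  calc_locP Groth.Agent.H50.goodClass_lfp isLocalOnBase_fppf_lfp

theorem calc_lft : Calc (AlgSp.LocP (S := S) @LocallyOfFiniteType) :=
  calc_locP Groth.Agent.H50.goodClass_lft
    (isLocalOnBase_fppf_of_fpqc (Groth.Agent.S10526.result S))

/-- composition -/
theorem Calc.comp' {Q : MorphismProperty (AlgSp.Sp S)} (hQ : Calc Q) {𝒳 𝒴 𝒵 : AlgSt.Cat S}
    (h𝒳 : FibCat.IsFibGrpd 𝒳.p) (h𝒴 : FibCat.IsFibGrpd 𝒴.p) (f : 𝒳 ⥤ᵇ 𝒴) (g : 𝒴 ⥤ᵇ 𝒵)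
    (hf : RepByAlgSpWith Q f) (hg : RepByAlgSpWith Q g) :
    RepByAlgSpWith Q (BasedFunctor.comp f g) :=
  repByAlgSpWith_comp h𝒳 h𝒴 hQ.bc hQ.comp hQ.loc f g hf hg

/-- the fibre product of two scheme charts `c : U ⟶ 𝒴`, `y : V ⟶ 𝒴` (`y` representable by
algebraic spaces), refined by a scheme `A` -/
theorem exists_refine {𝒴 : AlgSt.Cat S} {U V : Over S} (c : FibCat.overCat U ⥤ᵇ 𝒴)
    (y : FibCat.overCat V ⥤ᵇ 𝒴) (hy : RepByAlgSp1 y) :
    ∃ (A : Over S) (t₁ : FibCat.overCat A ⥤ᵇ FibCat.overCat U)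
      (t₂ : FibCat.overCat A ⥤ᵇ FibCat.overCat V),
      Nonempty (BasedFunctor.comp t₁ c ≅ BasedFunctor.comp t₂ y) ∧
      (∀ Q : MorphismProperty (AlgSp.Sp S), Calc Q → RepByAlgSpWith Q y → RepByAlgSpWith Q t₁) ∧
      (∀ Q : MorphismProperty (AlgSp.Sp S), Calc Q → RepByAlgSpWith Q c → RepByAlgSpWith Q t₂) := by
  obtain ⟨F, e, he⟩ := hy U c
  obtain ⟨A, p, hpE, hpS⟩ := F.property.atlas
  let s : FibCat.overCat A ⥤ᵇ ofSp F.obj := ofSection (uliftYonedaEquiv.{u+1} p.hom)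
  have hF : FibCat.IsFibGrpd (ofSp F.obj).p := Stk.isFibGrpd_ofPsh _
  have hA : FibCat.IsFibGrpd (FibCat.overCat A).p := (isFibSetoid_overCat A).1
  refine ⟨A, BasedFunctor.comp s (BasedFunctor.comp e (FibCat.fpFst c y)),
    BasedFunctor.comp s (BasedFunctor.comp e (FibCat.fpSnd c y)),
    ⟨bwlIso (BasedFunctor.comp s e) (FibCat.fpIso c y)⟩, ?_, ?_⟩
  · intro Q hQ hyQ
    have h1 : RepByAlgSpWith Q (FibCat.fpFst c y) := repByAlgSpWith_fpFst Q y c hyQ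
    have h2 : RepByAlgSpWith Q (BasedFunctor.comp e (FibCat.fpFst c y)) :=
      Groth.Agent.H65.AlgStImmNoeth.repByAlgSpWith_equiv_comp _ e he _ h1
    exact hQ.comp' hA hF s _ (hQ.atl F A p hpE hpS) h2
  · intro Q hQ hcQ
    have h1 : RepByAlgSpWith Q (FibCat.fpSnd c y) :=
      Groth.Agent.H65.AlgStSwap.repByAlgSpWith_fpSnd _ c y hcQ
    have h2 : RepByAlgSpWith Q (BasedFunctor.comp e (FibCat.fpSnd c y)) :=
      Groth.Agent.H65.AlgStImmNoeth.repByAlgSpWith_equiv_comp _ e he _ h1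
    exact hQ.comp' hA hF s _ (hQ.atl F A p hpE hpS) h2

/-- a functor between slices is a morphism of schemes, with the same properties -/
theorem exists_overMap {A V : Over S} (t : FibCat.overCat A ⥤ᵇ FibCat.overCat V) :
    ∃ (h : A ⟶ V), Nonempty (t ≅ AlgSt.overMap h) ∧
      ∀ (Q : MorphismProperty (AlgSp.Sp S)) [Q.RespectsIso], RepByAlgSpWith Q t →
        Q ((AlgSp.yon S).map h) := by
  obtain ⟨h, ⟨γ⟩⟩ := exists_iso_ovMap t
  refine ⟨h, ⟨γ⟩, fun Q _ hQ => ?_⟩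
  exact prop_yon_map_of_overMap _ h (repByAlgSpWith_of_iso γ.symm hQ)

/-- `f` has `LocP Q` on charts as soon as `x ⋙ f` has `LocP Q` for one smooth surjective scheme
chart `x` of the source -/
theorem locQ_of_chart {Q : MorphismProperty Scheme.{u}}
    (hQ : Calc (AlgSp.LocP (S := S) Q)) [(AlgSp.LocP (S := S) Q).RespectsIso]
    {𝒳 𝒴 : AlgSt.Cat S}
    (h𝒳 : FibCat.IsFibGrpd 𝒳.p) (h𝒴 : IsAlgStack Scheme.fppfPrecoverage 𝒴) (f : 𝒳 ⥤ᵇ 𝒴)
    {U : Over S} (x : FibCat.overCat U ⥤ᵇ 𝒳) (hx₁ : RepByAlgSpWith (AlgSp.LocP @Smooth) x)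
    (hx₂ : RepByAlgSpWith AlgSp.IsSurjectiveMor x)
    (hc : RepByAlgSpWith (AlgSp.LocP Q) (BasedFunctor.comp x f)) : LocQ (AlgSp.LocP Q) f := by
  obtain ⟨V, y, hy₁, hy₂⟩ := h𝒴.atlas
  obtain ⟨A, t₁, t₂, ⟨ι⟩, ht₁, ht₂⟩ := exists_refine (BasedFunctor.comp x f) y
    (RepByAlgSpWith.repByAlgSp1 hy₁)
  obtain ⟨h, ⟨γ⟩, hh⟩ := exists_overMap t₂
  have hA : FibCat.IsFibGrpd (FibCat.overCat A).p := (isFibSetoid_overCat A).1
  have hU : FibCat.IsFibGrpd (FibCat.overCat U).p := (isFibSetoid_overCat U).1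
  refine ⟨A, V, BasedFunctor.comp t₁ x, y, h, ι ≪≫ bwrIso γ y, ?_, ?_, hy₁, ?_⟩
  · exact calc_smooth.comp' hA hU t₁ x (ht₁ _ calc_smooth hy₁) hx₁
  · exact calc_surj.comp' hA hU t₁ x (ht₁ _ calc_surj hy₂) hx₂
  · exact hh _ (ht₂ _ hQ hc)

/-- two smooth surjective charts `x₁`, `x₂` of an algebraic stack have a common smooth surjective
refinement `a` such that `a ⋙ f` has `Q₁` and `Q₂` as soon as `x₁ ⋙ f` has `Q₁`, `x₂ ⋙ f` has
`Q₂` (and smooth morphisms have `Q₁`, `Q₂`) -/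
theorem exists_common_chart {Q₁ Q₂ : MorphismProperty (AlgSp.Sp S)} (hQ₁ : Calc Q₁)
    (hQ₂ : Calc Q₂) (hs₁ : AlgSp.LocP (S := S) @Smooth ≤ Q₁) (hs₂ : AlgSp.LocP (S := S) @Smooth ≤ Q₂)
    {𝒳 𝒴 : AlgSt.Cat S} (f : 𝒳 ⥤ᵇ 𝒴)
    {U₁ U₂ : Over S} (x₁ : FibCat.overCat U₁ ⥤ᵇ 𝒳) (x₂ : FibCat.overCat U₂ ⥤ᵇ 𝒳)
    (hx₁s : RepByAlgSpWith (AlgSp.LocP @Smooth) x₁)
    (hx₁j : RepByAlgSpWith AlgSp.IsSurjectiveMor x₁)
    (hx₂s : RepByAlgSpWith (AlgSp.LocP @Smooth) x₂)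
    (hx₂j : RepByAlgSpWith AlgSp.IsSurjectiveMor x₂)
    (h₁ : RepByAlgSpWith Q₁ (BasedFunctor.comp x₁ f))
    (h₂ : RepByAlgSpWith Q₂ (BasedFunctor.comp x₂ f)) :
    ∃ (A : Over S) (a : FibCat.overCat A ⥤ᵇ 𝒳), RepByAlgSpWith (AlgSp.LocP @Smooth) a ∧
      RepByAlgSpWith AlgSp.IsSurjectiveMor a ∧ RepByAlgSpWith Q₁ (BasedFunctor.comp a f) ∧
      RepByAlgSpWith Q₂ (BasedFunctor.comp a f) := by
  obtain ⟨A, t₁, t₂, ⟨ι⟩, ht₁, ht₂⟩ := exists_refine x₁ x₂ (RepByAlgSpWith.repByAlgSp1 hx₂s)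
  have hA : FibCat.IsFibGrpd (FibCat.overCat A).p := (isFibSetoid_overCat A).1
  have hU₁ : FibCat.IsFibGrpd (FibCat.overCat U₁).p := (isFibSetoid_overCat U₁).1
  have hU₂ : FibCat.IsFibGrpd (FibCat.overCat U₂).p := (isFibSetoid_overCat U₂).1
  refine ⟨A, BasedFunctor.comp t₁ x₁, ?_, ?_, ?_, ?_⟩
  · exact calc_smooth.comp' hA hU₁ t₁ x₁ (ht₁ _ calc_smooth hx₂s) hx₁s
  · exact calc_surj.comp' hA hU₁ t₁ x₁ (ht₁ _ calc_surj hx₂j) hx₁j
  · exact hQ₁.comp' hA hU₁ t₁ (BasedFunctor.comp x₁ f)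
      (repByAlgSpWith_mono hs₁ (ht₁ _ calc_smooth hx₂s)) h₁
  · have h3 : RepByAlgSpWith Q₂ (BasedFunctor.comp t₂ (BasedFunctor.comp x₂ f)) :=
      hQ₂.comp' hA hU₂ t₂ (BasedFunctor.comp x₂ f)
        (repByAlgSpWith_mono hs₂ (ht₂ _ calc_smooth hx₁s)) h₂
    exact repByAlgSpWith_of_iso (bwrIso ι f) h3

end Groth.Agent.H65.AlgStChartCalc
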