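import Groth.Agent.H65.AlgStCmp

/-!
# The comparison morphism `𝒳 ×_𝒵 𝒴 ⟶ 𝒳 ×_𝒯 𝒴` has every property the diagonal of `𝒵 ⟶ 𝒯` has
-/

set_option autoImplicit false
universe v₂ u₂ v₃ u₃ v₄ u₄ v₅ u₅ u
open CategoryTheory CategoryTheory.Limits AlgebraicGeometry Opposite

namespace Groth.Agent.H65.AlgStCmp

open AlgSt Groth.Agent.H32 Groth.Agent.H64

variable {S : Scheme.{u}} {𝒳 : BasedCategory.{v₂, u₂} (Over S)} {𝒴 : BasedCategory.{v₃, u₃} (Over S)}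
  {𝒵 : BasedCategory.{v₄, u₄} (Over S)} {𝒯 : BasedCategory.{v₅, u₅} (Over S)}
  (P : MorphismProperty (AlgSp.Sp S))

/-- the comparison `𝒳 ×_𝒵 𝒴 ⟶ 𝒳 ×_𝒯 𝒴` has every property `P` the diagonal of `t : 𝒵 ⟶ 𝒯` has -/
theorem repByAlgSpWith_cmp (h𝒳 : FibCat.IsFibGrpd 𝒳.p) (h𝒴 : FibCat.IsFibGrpd 𝒴.p)
    (h𝒵 : FibCat.IsFibGrpd 𝒵.p) (h𝒯 : FibCat.IsFibGrpd 𝒯.p)
    (f : 𝒳 ⥤ᵇ 𝒵) (g : 𝒴 ⥤ᵇ 𝒵) (t : 𝒵 ⥤ᵇ 𝒯)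
    (h : RepByAlgSpWith P (FibCat.diag t)) : RepByAlgSpWith P (cmp f g t) := by
  have h1 : RepByAlgSpWith P (FibCat.fpFst (cmpM f g t) (FibCat.diag t)) :=
    repByAlgSpWith_fpFst P (FibCat.diag t) (cmpM f g t) h
  exact repByAlgSpWith_of_square P (FibCat.fpFst (cmpM f g t) (FibCat.diag t))
    (cmp f g t) (cmpΛ f g t) (BasedFunctor.id _)
    (isEquivOver_cmpΛ f g t h𝒳 h𝒴 h𝒵 h𝒯) (isEquivOver_id _) (Iso.refl _) h1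

/-- the form with an arbitrary 2-isomorphism whose components are `t(φ)` -/
theorem repByAlgSpWith_fpLift_of_diag (h𝒳 : FibCat.IsFibGrpd 𝒳.p) (h𝒴 : FibCat.IsFibGrpd 𝒴.p)
    (h𝒵 : FibCat.IsFibGrpd 𝒵.p) (h𝒯 : FibCat.IsFibGrpd 𝒯.p)
    (f : 𝒳 ⥤ᵇ 𝒵) (g : 𝒴 ⥤ᵇ 𝒵) (t : 𝒵 ⥤ᵇ 𝒯)
    (e : BasedFunctor.comp (FibCat.fpFst f g) (BasedFunctor.comp f t) ≅
      BasedFunctor.comp (FibCat.fpSnd f g) (BasedFunctor.comp g t))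
    (he : ∀ x, e.hom.toNatTrans.app x = t.map x.obj.iso.hom)
    (h : RepByAlgSpWith P (FibCat.diag t)) :
    RepByAlgSpWith P (FibCat.fpLift (FibCat.fpFst f g) (FibCat.fpSnd f g) e) := by
  have hee : e = cmpIso f g t := by
    apply Iso.ext
    apply bext
    intro x
    exact he x
  rw [hee]
  exact repByAlgSpWith_cmp P h𝒳 h𝒴 h𝒵 h𝒯 f g t h

end Groth.Agent.H65.AlgStCmp
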