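import Groth.Agent.H65.AlgStCmp
import Groth.Agent.H65.AlgStCmpAlg
import Groth.Agent.H65.AlgStChartCalc
import Groth.Agent.H64.Stk.FpPaste
import Groth.Agent.H64.Stk.FpSwap
import Groth.Agent.H64.Fib.DiagSquare
import Groth.Agent.H64.Psh.PDescent
import Groth.Agent.H64.Psh.DiagIff
import Groth.Agent.H50.LfpDiag

/-!
# The morphism `𝒳 ×_𝒯 𝒴 ⟶ 𝒵 ×_𝒯 𝒵` induced by `f : 𝒳 ⟶ 𝒵`, `g : 𝒴 ⟶ 𝒵`, and the diagonal read on an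
atlas
-/

set_option autoImplicit false
open CategoryTheory CategoryTheory.Limits AlgebraicGeometry
universe v₅ u₅ v₄ u₄ v₃ u₃ v₂ u₂ v u

namespace Groth.Agent.H65.AlgStCmp

open Groth.Agent.H32 Groth.Agent.H64

section core

variable {C : Type u} [Category.{v} C]
variable {𝒳 : BasedCategory.{v₂, u₂} C} {𝒴 : BasedCategory.{v₃, u₃} C}
  {𝒵 : BasedCategory.{v₄, u₄} C} {𝒯 : BasedCategory.{v₅, u₅} C}
variable (f : 𝒳 ⥤ᵇ 𝒵) (g : 𝒴 ⥤ᵇ 𝒵) (t : 𝒵 ⥤ᵇ 𝒯)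

/-- `f × id` -/
def cmpM₁ : FibCat.fp (BasedFunctor.comp f t) (BasedFunctor.comp g t) ⥤ᵇ
    FibCat.fp t (BasedFunctor.comp g t) :=
  fpPasteSnd (BasedFunctor.comp g t) t f

/-- `id × g` -/
def cmpM₂ : FibCat.fp t (BasedFunctor.comp g t) ⥤ᵇ FibCat.fp t t :=
  BasedFunctor.comp (fpSwap t (BasedFunctor.comp g t))
    (BasedFunctor.comp (fpPasteSnd t t g) (fpSwap t t))

/-- `f × g = (f × id) ⋙ (id × g)` -/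
def cmpM_iso : cmpM f g t ≅ BasedFunctor.comp (cmpM₁ f g t) (cmpM₂ g t) :=
  fpFunctorIsoMk t t (Iso.refl _) (Iso.refl _) (fun a => by
    show t.map (𝟙 _) ≫ a.obj.iso.hom = a.obj.iso.hom ≫ t.map (𝟙 _)
    rw [t.map_id, t.map_id]
    exact (Category.id_comp _).trans (Category.comp_id _).symm)

end core

open AlgSt Groth.Agent.H64.PTh Groth.Agent.H64.FpRep Groth.Agent.H65.AlgStChartCalc

variable {S : Scheme.{u}}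

/-- postcomposition with an equivalence -/
theorem repByAlgSpWith_comp_equiv' (P : MorphismProperty (AlgSp.Sp S)) {𝒳 𝒴 𝒴' : AlgSt.Cat S}
    (φ : 𝒳 ⥤ᵇ 𝒴) (E : 𝒴 ⥤ᵇ 𝒴') (hE : FibCat.IsEquivOver E) (hφ : RepByAlgSpWith P φ) :
    RepByAlgSpWith P (BasedFunctor.comp φ E) :=
  repByAlgSpWith_of_square' P (BasedFunctor.comp φ E) φ (BasedFunctor.id _) E
    (isEquivOver_id _) hE (Iso.refl _) hφ

theorem repByAlgSpWith_fpPasteSnd (P : MorphismProperty (AlgSp.Sp S)) {𝒳 𝒴 𝒵 𝒲 : AlgSt.Cat S}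
    (f : 𝒳 ⥤ᵇ 𝒴) (g : 𝒵 ⥤ᵇ 𝒴) (z : 𝒲 ⥤ᵇ 𝒵) (hz : RepByAlgSpWith P z) :
    RepByAlgSpWith P (fpPasteSnd f g z) := by
  have h1 : RepByAlgSpWith P (FibCat.fpSnd z (FibCat.fpFst g f)) :=
    Groth.Agent.H65.AlgStSwap.repByAlgSpWith_fpSnd P z _ hz
  exact Groth.Agent.H65.AlgStImmNoeth.repByAlgSpWith_equiv_comp P (fpPaste f g z)
    (isEquivOver_fpPaste f g z) _ h1

/-- `f × g` has `Q` as soon as `f` and `g` do -/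
theorem repByAlgSpWith_cmpM {Q : MorphismProperty (AlgSp.Sp S)} (hQ : Calc Q)
    {𝒳 𝒴 𝒵 𝒯 : AlgSt.Cat S} (h𝒳 : FibCat.IsFibGrpd 𝒳.p) (h𝒴 : FibCat.IsFibGrpd 𝒴.p)
    (h𝒵 : FibCat.IsFibGrpd 𝒵.p) (h𝒯 : FibCat.IsFibGrpd 𝒯.p)
    (f : 𝒳 ⥤ᵇ 𝒵) (g : 𝒴 ⥤ᵇ 𝒵) (t : 𝒵 ⥤ᵇ 𝒯)
    (hf : RepByAlgSpWith Q f) (hg : RepByAlgSpWith Q g) : RepByAlgSpWith Q (cmpM f g t) := by
  have h1 : RepByAlgSpWith Q (cmpM₁ f g t) := repByAlgSpWith_fpPasteSnd Q _ t f hf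
  have h2 : RepByAlgSpWith Q (fpPasteSnd t t g) := repByAlgSpWith_fpPasteSnd Q t t g hg
  have h3 : RepByAlgSpWith Q (BasedFunctor.comp (fpPasteSnd t t g) (fpSwap t t)) :=
    repByAlgSpWith_comp_equiv' Q _ _ (isEquivOver_fpSwap t t) h2
  have h4 : RepByAlgSpWith Q (cmpM₂ g t) :=
    Groth.Agent.H65.AlgStImmNoeth.repByAlgSpWith_equiv_comp Q _
      (isEquivOver_fpSwap t (BasedFunctor.comp g t)) _ h3
  have hs : FibCat.IsFibGrpd (FibCat.fp (BasedFunctor.comp f t) (BasedFunctor.comp g t)).p :=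
    isFibGrpd_fp _ _ h𝒳 h𝒴 h𝒯
  have hm : FibCat.IsFibGrpd (FibCat.fp t (BasedFunctor.comp g t)).p :=
    isFibGrpd_fp _ _ h𝒵 h𝒴 h𝒯
  exact repByAlgSpWith_of_iso (cmpM_iso f g t) (hQ.comp' hs hm _ _ h1 h4)

/-- the diagonal of `f : 𝒳 ⟶ 𝒴` read on an fppf cover `x : 𝒰 ⟶ 𝒳` -/
theorem repByAlgSpWith_diag_of_cover {P : MorphismProperty (AlgSp.Sp S)} (hP : Calc P)
    {𝒳 𝒴 𝒰 : AlgSt.Cat S} (h𝒳 : FibCat.IsFibGrpd 𝒳.p) (h𝒴 : FibCat.IsFibGrpd 𝒴.p)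
    (h𝒰 : FibCat.IsFibGrpd 𝒰.p) (f : 𝒳 ⥤ᵇ 𝒴) (hΔ : RepByAlgSp1 (FibCat.diag f))
    (x : 𝒰 ⥤ᵇ 𝒳) (hxP : RepByAlgSpWith P x)
    (hx₁ : RepByAlgSpWith (AlgSp.LocP @Flat) x)
    (hx₂ : RepByAlgSpWith (AlgSp.LocP @LocallyOfFinitePresentation) x)
    (hx₃ : RepByAlgSpWith AlgSp.IsSurjectiveMor x)
    (hd : RepByAlgSpWith P (FibCat.diag (FibCat.fpFst (BasedFunctor.comp x f)
      (BasedFunctor.comp x f)))) :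
    RepByAlgSpWith P (FibCat.diag f) := by
  have hxx : FibCat.IsFibGrpd (FibCat.fp x x).p := isFibGrpd_fp _ _ h𝒰 h𝒰 h𝒳
  have hss : FibCat.IsFibGrpd (FibCat.fp (BasedFunctor.comp x f) (BasedFunctor.comp x f)).p :=
    isFibGrpd_fp _ _ h𝒰 h𝒰 h𝒴
  have htt : FibCat.IsFibGrpd (FibCat.fp f f).p := isFibGrpd_fp _ _ h𝒳 h𝒳 h𝒴
  have huv : RepByAlgSpWith P (BasedFunctor.comp (cmp x x f)
      (FibCat.fpFst (BasedFunctor.comp x f) (BasedFunctor.comp x f))) :=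
    repByAlgSpWith_fpFst P x x hxP
  have hc : RepByAlgSpWith P (cmp x x f) :=
    repByAlgSpWith_cancel hxx hss h𝒰 hP.bc hP.comp hP.loc (cmp x x f) _ huv hd
  have h' : RepByAlgSpWith P (FibCat.fpFst (cmpM x x f) (FibCat.diag f)) :=
    repByAlgSpWith_of_square' P _ (cmp x x f) (cmpΛ x x f)
      (BasedFunctor.id _) (isEquivOver_cmpΛ x x f h𝒰 h𝒰 h𝒳 h𝒴)
      (isEquivOver_id _) (Iso.refl _) hc
  exact repByAlgSpWith_of_fpFst_fppf h𝒳 htt hss hP.bc hP.loc (FibCat.diag f) hΔ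
    (cmpM x x f) (repByAlgSpWith_cmpM calc_flat h𝒰 h𝒰 h𝒳 h𝒴 x x f hx₁ hx₁)
    (repByAlgSpWith_cmpM calc_lfp h𝒰 h𝒰 h𝒳 h𝒴 x x f hx₂ hx₂)
    (repByAlgSpWith_cmpM calc_surj h𝒰 h𝒰 h𝒳 h𝒴 x x f hx₃ hx₃) h'

end Groth.Agent.H65.AlgStCmp
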