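import Groth.Agent.H65.AlgStCmpAlg
import Groth.Agent.H64.Psh.PComp

/-!
# The diagonal of a composite: `Δ_{g ∘ f} ≅ cmp ∘ Δ_f`, where `cmp : 𝒳 ×_𝒴 𝒳 ⟶ 𝒳 ×_𝒵 𝒳` is a base change
of `Δ_g` (helper65)
-/

set_option autoImplicit false
open CategoryTheory CategoryTheory.Limits
universe v₅ u₅ v₄ u₄ v₃ u₃ v₂ u₂ v u

namespace Groth.Agent.H65.AlgStDiagComp

open Groth.Agent.H32 Groth.Agent.H64 Groth.Agent.H65.AlgStCmp

section core

variable {C : Type u} [Category.{v} C]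
variable {𝒳 : BasedCategory.{v₂, u₂} C} {𝒴 : BasedCategory.{v₃, u₃} C}
  {𝒵 : BasedCategory.{v₄, u₄} C}
variable (f : 𝒳 ⥤ᵇ 𝒴) (g : 𝒴 ⥤ᵇ 𝒵)

theorem diagComp_aux {D : Type*} [Category D] {A : D} (m : A ⟶ A) (hm : m = 𝟙 A) (n : A ⟶ A)
    (hn : n = 𝟙 A) : m ≫ 𝟙 A = n ≫ m := by
  subst hm hn; rfl

/-- `Δ_f ⋙ cmp ≅ Δ_{f ⋙ g}` -/
def diagCompIso : BasedFunctor.comp (FibCat.diag f) (cmp f f g) ≅
    FibCat.diag (BasedFunctor.comp f g) :=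
  mkBIso
    (fun x => fpIsoMk (BasedFunctor.comp f g) (BasedFunctor.comp f g)
      (z := (cmp f f g).obj ((FibCat.diag f).obj x))
      (z' := (FibCat.diag (BasedFunctor.comp f g)).obj x) (Iso.refl _) (Iso.refl _) (by
        show g.map (f.map (𝟙 x)) ≫ 𝟙 _ = g.map (𝟙 (f.obj x)) ≫ g.map (f.map (𝟙 x))
        exact diagComp_aux _ (by rw [f.map_id, g.map_id]) _ (g.map_id _)))
    (fun {x x'} m => by
      apply fp_hom_ext
      · show m ≫ 𝟙 _ = 𝟙 _ ≫ m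
        simp
      · show m ≫ 𝟙 _ = 𝟙 _ ≫ m
        simp)
    (fun x => by
      have : 𝒳.p.IsHomLift (𝟙 (𝒳.p.obj x)) (𝟙 x) := IsHomLift.id rfl
      exact @fp_isHomLift_of_fst _ _ _ _ _ (BasedFunctor.comp f g) (BasedFunctor.comp f g)
        _ _ _ _ _ (𝟙 (𝒳.p.obj x)) this)

end core

section alg

open AlgSt AlgebraicGeometry Groth.Agent.H64.PTh

universe w

variable {S : Scheme.{w}} {𝒳 𝒴 𝒵 : AlgSt.Cat S} (P : MorphismProperty (AlgSp.Sp S))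

/-- if the diagonals of `f` and `g` have `P` (stable under base change and composition, fppf local on
the base) then so does the diagonal of `f ⋙ g` -/
theorem repByAlgSpWith_diag_comp (hPb : StableBC P)
    (hPc : ∀ ⦃X Y Z : AlgSp.Sp S⦄, AlgSp.IsAlgSpace X → AlgSp.IsAlgSpace Y → AlgSp.IsAlgSpace Z →
      ∀ (a : X ⟶ Y) (b : Y ⟶ Z), P a → P b → P (a ≫ b))
    (hP : AlgSp.IsLocalOnBase AlgSp.IsFppfCover P)
    (h𝒳 : FibCat.IsFibGrpd 𝒳.p) (h𝒴 : FibCat.IsFibGrpd 𝒴.p) (h𝒵 : FibCat.IsFibGrpd 𝒵.p)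
    (f : 𝒳 ⥤ᵇ 𝒴) (g : 𝒴 ⥤ᵇ 𝒵) (hf : RepByAlgSpWith P (FibCat.diag f))
    (hg : RepByAlgSpWith P (FibCat.diag g)) :
    RepByAlgSpWith P (FibCat.diag (BasedFunctor.comp f g)) := by
  have h1 : RepByAlgSpWith P (cmp f f g) := repByAlgSpWith_cmp P h𝒳 h𝒳 h𝒴 h𝒵 f f g hg
  have hfp : FibCat.IsFibGrpd (FibCat.fp f f).p := isFibGrpd_fp _ _ h𝒳 h𝒳 h𝒴
  have h2 : RepByAlgSpWith P (BasedFunctor.comp (FibCat.diag f) (cmp f f g)) :=
    repByAlgSpWith_comp h𝒳 hfp hPb hPc hP (FibCat.diag f) (cmp f f g) hf h1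
  exact repByAlgSpWith_of_square P (BasedFunctor.comp (FibCat.diag f) (cmp f f g))
    (FibCat.diag (BasedFunctor.comp f g)) (BasedFunctor.id _) (BasedFunctor.id _)
    (isEquivOver_id _) (isEquivOver_id _) (diagCompIso f g).symm h2

end alg

end Groth.Agent.H65.AlgStDiagComp
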