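import Groth.Agent.H64.AlgStEquiv
import Groth.Agent.H64.DiagBCAlg
import Groth.Prelude.Def_AlgSt4

/-!
# Quasi-compactness of stacks and equivalences (helper65)

`isQuasiCompact_of_isEquivOver`: `AlgSt.IsQuasiCompact` is invariant under equivalences over the base.
`isQuasiCompactMor_fpFst`: base change of a quasi-compact morphism is quasi-compact.
-/

set_option autoImplicit false
universe v₂ u₂ v₃ u₃ v₄ u₄ u
open CategoryTheory CategoryTheory.Limits AlgebraicGeometry Opposite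

namespace Groth.Agent.H65.AlgStQC

open AlgSt Groth.Agent.H32 Groth.Agent.H64

variable {S : Scheme.{u}} {𝒳 : BasedCategory.{v₂, u₂} (Over S)} {𝒴 : BasedCategory.{v₃, u₃} (Over S)}
  {𝒵 : BasedCategory.{v₄, u₄} (Over S)}

theorem isQuasiCompact_of_isEquivOver (e : 𝒳 ⥤ᵇ 𝒴) (he : FibCat.IsEquivOver e)
    (h : IsQuasiCompact 𝒳) : IsQuasiCompact 𝒴 := by
  obtain ⟨U, x, hU, h1, h2⟩ := h
  exact ⟨U, BasedFunctor.comp x e, hU, repByAlgSpWith_comp_equiv _ x e he h1,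
    repByAlgSpWith_comp_equiv _ x e he h2⟩

theorem isQuasiCompactMor_fpFst (K : Precoverage Scheme.{u}) (f : 𝒳 ⥤ᵇ 𝒴) (g : 𝒵 ⥤ᵇ 𝒴)
    (hf : IsQuasiCompactMor K f) : IsQuasiCompactMor K (FibCat.fpFst g f) := by
  intro 𝒲 h𝒲 hqc h
  have h1 := hf 𝒲 h𝒲 hqc (BasedFunctor.comp h g)
  exact isQuasiCompact_of_isEquivOver (fpPaste f g h) (isEquivOver_fpPaste f g h) h1

end Groth.Agent.H65.AlgStQC
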