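import Groth.Agent.H64.Psh.AlgStackRep
import Groth.Agent.H65.AlgStQC
import Groth.Agent.H51.SpCover
import Groth.Agent.H49.AlgSpQC

/-!
# Quasi-compact morphisms representable by algebraic spaces are quasi-compact morphisms of stacks
-/

set_option autoImplicit false
universe u
open CategoryTheory CategoryTheory.Limits AlgebraicGeometry Opposite

namespace Groth.Agent.H65.AlgStQC2

open AlgSt Groth.Agent.H32 Groth.Agent.H64 Groth.Agent.H64.Recog Groth.Agent.H64.FpRep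
  Groth.Agent.H64.PTh

variable {S : Scheme.{u}}

/-- an atlas of the source of a morphism representable by algebraic spaces, built from an atlas of the
target, an algebraic space representing the fibre product and an etale chart of that space
(the proof of `Groth.Agent.H64.PTh.hasAtlas_of_repByAlgSp1`, with the chart as a parameter) -/
theorem atlas_of_chart {𝒳 𝒴 : AlgSt.Cat S} (j : 𝒳 ⥤ᵇ 𝒴)
    {U₀ : Over S} (y₀ : FibCat.overCat U₀ ⥤ᵇ 𝒴)
    (hy₁ : RepByAlgSpWith (AlgSp.LocP @Smooth) y₀) (hy₂ : RepByAlgSpWith AlgSp.IsSurjectiveMor y₀)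
    (F : AlgSp.Space S) (eF : ofSp F.obj ⥤ᵇ FibCat.fp y₀ j) (heF : FibCat.IsEquivOver eF)
    {W : Over S} (p : (AlgSp.yon S).obj W ⟶ F.obj) (hpE : AlgSp.RepWith @Etale p)
    (hpS : AlgSp.RepWith @Surjective p) :
    RepByAlgSpWith (AlgSp.LocP @Smooth)
      (BasedFunctor.comp (ofSection (uliftYonedaEquiv.{u+1} p.hom) :
        FibCat.overCat W ⥤ᵇ ofSp F.obj) (BasedFunctor.comp eF (FibCat.fpSnd y₀ j))) ∧
    RepByAlgSpWith AlgSp.IsSurjectiveMor
      (BasedFunctor.comp (ofSection (uliftYonedaEquiv.{u+1} p.hom) :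
        FibCat.overCat W ⥤ᵇ ofSp F.obj) (BasedFunctor.comp eF (FibCat.fpSnd y₀ j))) := by
  let s : FibCat.overCat W ⥤ᵇ ofSp F.obj := ofSection (uliftYonedaEquiv.{u+1} p.hom)
  have hF : FibCat.IsFibGrpd (ofSp F.obj).p := Stk.isFibGrpd_ofPsh _
  have key : ∀ (Q : MorphismProperty (AlgSp.Sp S)), StableBC Q →
      (∀ ⦃X Y Z : AlgSp.Sp S⦄, AlgSp.IsAlgSpace X → AlgSp.IsAlgSpace Y → AlgSp.IsAlgSpace Z →
        ∀ (a : X ⟶ Y) (b : Y ⟶ Z), Q a → Q b → Q (a ≫ b)) →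
      AlgSp.IsLocalOnBase AlgSp.IsFppfCover Q → RepByAlgSpWith Q s → RepByAlgSpWith Q y₀ →
      RepByAlgSpWith Q (BasedFunctor.comp s (BasedFunctor.comp eF (FibCat.fpSnd y₀ j))) := by
    intro Q hQb hQc hQ hs hy
    have h1 : RepByAlgSpWith Q (FibCat.fpSnd y₀ j) := repByAlgSpWith_fpSnd Q y₀ j hy
    have h2 : RepByAlgSpWith Q (BasedFunctor.comp eF (FibCat.fpSnd y₀ j)) :=
      repByAlgSpWith_of_square Q (FibCat.fpSnd y₀ j) _ eF (BasedFunctor.id _) heF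
        (isEquivOver_id _) (Iso.refl _) h1
    exact repByAlgSpWith_comp (isFibSetoid_overCat W).1 hF hQb hQc hQ s _ hs h2
  refine ⟨?_, ?_⟩
  · exact key _ (stableBC_locP Groth.Agent.H50.goodClass_smooth)
      (fun _ _ _ _ hY _ a b ha hb => Groth.Agent.H50.goodClass_smooth.locP_comp hY a b ha hb)
      isLocalOnBase_fppf_smooth
      (repByAlgSpWith_ofSection _ F.property p
        (baseChange_locP_of_etale p hpE Groth.Agent.H50.goodClass_smooth)) hy₁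
  · exact key _ stableBC_surj
      (fun _ _ _ _ _ _ _ _ ha hb => Groth.Agent.H49.isSurjectiveMor_comp ha hb)
      isLocalOnBase_fppf_surj
      (repByAlgSpWith_ofSection _ F.property p (baseChange_surj_of_surjective p hpS)) hy₂

/-- a morphism representable by algebraic spaces all of whose base changes to schemes are
quasi-compact is a quasi-compact morphism of stacks -/
theorem isQuasiCompactMor_of_repByAlgSpWith {𝒳 𝒴 : AlgSt.Cat S} (f : 𝒳 ⥤ᵇ 𝒴)
    (hP : RepByAlgSpWith AlgSp.IsQuasiCompactMor f) :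
    AlgSt.IsQuasiCompactMor Scheme.fppfPrecoverage f := by
  intro 𝒵 _ hqc z
  obtain ⟨U₀, y₀, hU₀, hy₁, hy₂⟩ := hqc
  have hj : RepByAlgSpWith AlgSp.IsQuasiCompactMor (FibCat.fpFst z f) :=
    repByAlgSpWith_fpFst _ f z hP
  obtain ⟨F, eF, heF, hm⟩ := hj U₀ y₀
  have : IsAffine U₀.left := hU₀
  have hFqc : AlgSp.IsQuasiCompactSp F.obj :=
    hm (AlgSp.IsAlgSpace.yon_obj U₀) (Groth.Agent.H49.isQuasiCompactSp_yon U₀) (𝟙 _) (𝟙 _) _
      (IsPullback.id_horiz _)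
  obtain ⟨W, p, hW, hpE, hpS⟩ :=
    Groth.Agent.H51.isQuasiCompactSp_iff_exists_affine_atlas.mp hFqc
  obtain ⟨h1, h2⟩ := atlas_of_chart (FibCat.fpFst z f) y₀ hy₁ hy₂ F eF heF p hpE hpS
  exact ⟨W, _, hW, h1, h2⟩

/-- quasi-compactness of a morphism of stacks is invariant under precomposition with an
equivalence -/
theorem isQuasiCompactMor_precomp_equiv {𝒳' 𝒳 𝒴 : AlgSt.Cat S} (E : 𝒳' ⥤ᵇ 𝒳)
    (hE : FibCat.IsEquivOver E) (φ : 𝒳 ⥤ᵇ 𝒴)
    (hφ : AlgSt.IsQuasiCompactMor Scheme.fppfPrecoverage φ) :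
    AlgSt.IsQuasiCompactMor Scheme.fppfPrecoverage (BasedFunctor.comp E φ) := by
  intro 𝒲 h𝒲 hqc w
  have h1 := hφ 𝒲 h𝒲 hqc w
  let Ψ : FibCat.fp w (BasedFunctor.comp E φ) ⥤ᵇ FibCat.fp w φ :=
    fpMap w φ w (BasedFunctor.comp E φ) (BasedFunctor.id _) E (BasedFunctor.id _) (Iso.refl _)
      (Iso.refl _)
  have : (BasedFunctor.id 𝒴).toFunctor.Full := (inferInstance : (𝟭 𝒴.obj).Full)
  have : (BasedFunctor.id 𝒴).toFunctor.Faithful := (inferInstance : (𝟭 𝒴.obj).Faithful)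
  have hΨ : FibCat.IsEquivOver Ψ := isEquivOver_fpMap _ _ _ _ _ _ _ _ _ (isEquivOver_id _) hE
  obtain ⟨d⟩ := IsEquivOver.nonempty_data hΨ
  exact Groth.Agent.H65.AlgStQC.isQuasiCompact_of_isEquivOver d.inv (isEquivOver_inv d) h1

/-- base change of a quasi-compact morphism of stacks, second projection -/
theorem isQuasiCompactMor_fpSnd {𝒳 𝒴 𝒵 : AlgSt.Cat S} (f : 𝒳 ⥤ᵇ 𝒵) (g : 𝒴 ⥤ᵇ 𝒵)
    (hf : AlgSt.IsQuasiCompactMor Scheme.fppfPrecoverage f) :
    AlgSt.IsQuasiCompactMor Scheme.fppfPrecoverage (FibCat.fpSnd f g) :=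
  isQuasiCompactMor_precomp_equiv (fpSwap f g) (isEquivOver_fpSwap f g) (FibCat.fpFst g f)
    (Groth.Agent.H65.AlgStQC.isQuasiCompactMor_fpFst _ f g hf)

end Groth.Agent.H65.AlgStQC2
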