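import Groth.Agent.H64.DiagBCAlg
import Groth.Agent.H64.Stk.FpSwap

/-!
# Base change along the other projection (helper65)

`repByAlgSpWith_fpSnd`: if `z : 𝒵 ⟶ 𝒴` is representable by algebraic spaces with property `P` (any `P`),
so is the second projection `𝒵 ×_𝒴 𝒳 ⟶ 𝒳`.  (Swap of helper64's `repByAlgSpWith_fpFst`.)
-/

set_option autoImplicit false
universe v₂ u₂ v₃ u₃ v₄ u₄ u
open CategoryTheory CategoryTheory.Limits AlgebraicGeometry Opposite

namespace Groth.Agent.H65.AlgStSwap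

open AlgSt Groth.Agent.H32 Groth.Agent.H64

variable {S : Scheme.{u}} {𝒳 : BasedCategory.{v₂, u₂} (Over S)} {𝒴 : BasedCategory.{v₃, u₃} (Over S)}
  {𝒵 : BasedCategory.{v₄, u₄} (Over S)} (P : MorphismProperty (AlgSp.Sp S))

theorem repByAlgSpWith_fpSnd (z : 𝒵 ⥤ᵇ 𝒴) (f : 𝒳 ⥤ᵇ 𝒴) (hz : RepByAlgSpWith P z) :
    RepByAlgSpWith P (FibCat.fpSnd z f) := by
  have h1 : RepByAlgSpWith P (FibCat.fpFst f z) := repByAlgSpWith_fpFst P z f hz
  exact repByAlgSpWith_of_square P (FibCat.fpFst f z) (FibCat.fpSnd z f) (fpSwap z f)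
    (BasedFunctor.id _) (isEquivOver_fpSwap z f) (isEquivOver_id _) (Iso.refl _) h1

end Groth.Agent.H65.AlgStSwap
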