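import Groth.Agent.H65.AlgStSchematic
import Groth.Agent.H65.AlgStQC2
import Groth.Agent.H65.AlgStSwap
import Groth.Agent.H64.Psh.SmoothLoc
import Groth.Agent.H64.Psh.QCompact
import Groth.Agent.H64.Psh.PDescent
import Groth.Agent.H64.Psh.DiagLft
import Groth.Agent.H53.NoethFppf
import Groth.Agent.H50.Mor
import Groth.Agent.S10519

/-!
# Immersions into locally Noetherian algebraic stacks
-/

set_option autoImplicit false
open CategoryTheory CategoryTheory.Limits AlgebraicGeometry
universe u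

namespace Groth.Agent.H65.AlgStImmNoeth

open AlgSt Groth.Agent.H32 Groth.Agent.H64 Groth.Agent.H64.PTh Groth.Agent.H64.FpRep
  Groth.Agent.H64.Recog

/-- an immersion into a locally Noetherian scheme is quasi-compact -/
theorem quasiCompact_of_isImmersion_of_isLocallyNoetherian {X Y : Scheme.{u}} (f : X ⟶ Y)
    [IsImmersion f] [IsLocallyNoetherian Y] : QuasiCompact f := by
  rw [← f.liftCoborder_ι]
  infer_instance

variable {S : Scheme.{u}}

/-- local Noetherianity can be read on one smooth surjective chart -/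
theorem smoothLocally_locNoeth_of_chart {𝒳 : AlgSt.Cat S} {U : Over S}
    (x : FibCat.overCat U ⥤ᵇ 𝒳) (hx₁ : RepByAlgSpWith (AlgSp.LocP @Smooth) x)
    (hx₂ : RepByAlgSpWith AlgSp.IsSurjectiveMor x) (hU : IsLocallyNoetherian U.left) :
    SmoothLocally (fun T => IsLocallyNoetherian T) 𝒳 := by
  intro U' x' hx'
  obtain ⟨W, g, g', hg, hg', hs, -⟩ := exists_common_refinement x x' hx₁ hx'
  have hs' : Surjective g'.left := hs hx₂
  have : Smooth g.left := hg
  have : Smooth g'.left := hg'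
  have hW : IsLocallyNoetherian W.left := LocallyOfFiniteType.isLocallyNoetherian g.left
  exact Groth.Agent.H53.isLocallyNoetherian_of_fppf_surjective g'.left

/-- precomposition with an equivalence -/
theorem repByAlgSpWith_equiv_comp (P : MorphismProperty (AlgSp.Sp S)) {𝒲 𝒳 𝒴 : AlgSt.Cat S}
    (E : 𝒲 ⥤ᵇ 𝒳) (hE : FibCat.IsEquivOver E) (g : 𝒳 ⥤ᵇ 𝒴) (hg : RepByAlgSpWith P g) :
    RepByAlgSpWith P (BasedFunctor.comp E g) :=
  repByAlgSpWith_of_square P g (BasedFunctor.comp E g) E (BasedFunctor.id _) hE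
    (isEquivOver_id _) (Iso.refl _) hg

theorem smooth_le_flat : (@Smooth : MorphismProperty Scheme.{u}) ≤ @Flat :=
  fun _ _ g hg => by
    have : Smooth g := hg
    exact (inferInstance : Flat g)

theorem smooth_le_lfp : (@Smooth : MorphismProperty Scheme.{u}) ≤ @LocallyOfFinitePresentation :=
  fun _ _ g hg => by
    have : Smooth g := hg
    exact (inferInstance : LocallyOfFinitePresentation g)

/-- an immersion into a locally Noetherian algebraic stack has locally Noetherian source and is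
quasi-compact -/
theorem imm_locNoeth {𝒳 𝒴 : AlgSt.Cat S} (h𝒳 : FibCat.IsFibGrpd 𝒳.p)
    (h𝒴 : IsAlgStack Scheme.fppfPrecoverage 𝒴) (j : 𝒳 ⥤ᵇ 𝒴) (hj : AlgSt.IsImm j)
    (hN : SmoothLocally (fun T => IsLocallyNoetherian T) 𝒴) :
    SmoothLocally (fun T => IsLocallyNoetherian T) 𝒳 ∧
      RepByAlgSpWith AlgSp.IsQuasiCompactMor j := by
  obtain ⟨V, y, hy₁, hy₂⟩ := h𝒴.atlas
  have hV : IsLocallyNoetherian V.left := hN V y hy₁
  obtain ⟨U, h, E, hE, hh, ⟨α⟩⟩ := Groth.Agent.H65.AlgStSchematic.exists_scheme_chart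
    @IsImmersion j hj V y
  have : IsImmersion h.left := hh
  have hUN : IsLocallyNoetherian U.left := LocallyOfFiniteType.isLocallyNoetherian h.left
  have hqc : QuasiCompact h.left := quasiCompact_of_isImmersion_of_isLocallyNoetherian h.left
  constructor
  · refine smoothLocally_locNoeth_of_chart (BasedFunctor.comp E (FibCat.fpSnd y j)) ?_ ?_ hUN
    · exact repByAlgSpWith_equiv_comp _ E hE _
        (Groth.Agent.H65.AlgStSwap.repByAlgSpWith_fpSnd _ y j hy₁)
    · exact repByAlgSpWith_equiv_comp _ E hE _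
        (Groth.Agent.H65.AlgStSwap.repByAlgSpWith_fpSnd _ y j hy₂)
  · have hV' : FibCat.IsFibGrpd (FibCat.overCat V).p := (isFibSetoid_overCat V).1
    have hPb : StableBC (AlgSp.IsQuasiCompactMor (S := S)) :=
      fun _ _ _ _ _ _ _ _ _ _ _ _ sq ha => Groth.Agent.H49.isQuasiCompactMor_of_isPullback sq ha
    have hP : AlgSp.IsLocalOnBase AlgSp.IsFppfCover (AlgSp.IsQuasiCompactMor (S := S)) :=
      isLocalOnBase_fppf_of_fpqc (Groth.Agent.S10519.result S)
    have h1 : AlgSp.IsQuasiCompactMor ((AlgSp.yon S).map h) :=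
      Groth.Agent.H50.isQuasiCompactMor_of_repWith (le_refl _) _
        ((AlgSp.repWith_yon_map_iff @QuasiCompact h).2 hqc)
    have h2 : RepByAlgSpWith AlgSp.IsQuasiCompactMor (AlgSt.overMap h) :=
      repByAlgSpWith_overMap _ hPb h h1
    have h' : RepByAlgSpWith AlgSp.IsQuasiCompactMor (FibCat.fpFst y j) :=
      repByAlgSpWith_of_square' _ (FibCat.fpFst y j) (AlgSt.overMap h) E (BasedFunctor.id _) hE
        (isEquivOver_id _) α.symm h2
    exact repByAlgSpWith_of_fpFst_fppf h𝒳 h𝒴.isStack.1 hV' hPb hP j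
      (RepByAlgSpWith.repByAlgSp1 hj) y
      (repByAlgSpWith_locP_mono smooth_le_flat y hy₁)
      (repByAlgSpWith_locP_mono smooth_le_lfp y hy₁) hy₂ h'

end Groth.Agent.H65.AlgStImmNoeth
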