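import Groth.Agent.H65.AlgStQC4
import Groth.Agent.H64.Psh.SmoothLoc
import Groth.Agent.H64.Psh.QCompact
import Groth.Agent.H64.Pts.Atlas
import Groth.Agent.H64.AlgStEquiv
import Groth.Agent.H64.Stk.FpPaste

/-!
# fppf descent of quasi-compactness of morphisms of algebraic stacks
-/

set_option autoImplicit false
open CategoryTheory CategoryTheory.Limits AlgebraicGeometry Opposite
universe u

namespace Groth.Agent.H65.AlgStQC5

open AlgSt Groth.Agent.H32 Groth.Agent.H64 Groth.Agent.H64.PTh Groth.Agent.H64.FpRep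
  Groth.Agent.H64.Recog Groth.Agent.H64.Pts

variable {S : Scheme.{u}}

/-- the slice of a scheme is an algebraic stack -/
theorem isAlgStack_overCat (A : Over S) : IsAlgStack Scheme.fppfPrecoverage (FibCat.overCat A) :=
  isAlgStack_of_isEquivOver _ (toOverCat A) (isEquivOver_toOverCat A) (isDM_ofSp (yonSpace A)).1

/-- the slice of a quasi-compact scheme is a quasi-compact stack -/
theorem isQuasiCompact_overCat (A : Over S) [CompactSpace A.left] :
    IsQuasiCompact (FibCat.overCat A) :=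
  isQuasiCompact_of_compact_chart A (BasedFunctor.id _)
    (Groth.Agent.H65.AlgStEquivP.repByAlgSpWith_id _
      (fun U => Groth.Agent.H65.AlgStQC4.locP_smooth_id _))
    (Groth.Agent.H65.AlgStEquivP.repByAlgSpWith_id _
      (fun U => Groth.Agent.H65.AlgStQC4.isSurjectiveMor_id _))

/-- Given a chart `y : U ⟶ 𝒴` from a quasi-compact scheme and an fppf cover `w : W ⟶ 𝒴` from an
algebraic space, there are a quasi-compact scheme `A`, a functor `α : A ⟶ U` surjective on points
and a functor `τ : A ⟶ W` with `α ⋙ y ≅ τ ⋙ w`. -/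
theorem exists_compact_refinement {𝒴 : AlgSt.Cat S} (h𝒴 : FibCat.IsFibGrpd 𝒴.p)
    (W : AlgSp.Space S) (w : ofSp W.obj ⥤ᵇ 𝒴)
    (hw₁ : RepByAlgSpWith (AlgSp.LocP @Flat) w)
    (hw₂ : RepByAlgSpWith (AlgSp.LocP @LocallyOfFinitePresentation) w)
    (hw₃ : RepByAlgSpWith AlgSp.IsSurjectiveMor w)
    (U : Over S) [CompactSpace U.left] (y : FibCat.overCat U ⥤ᵇ 𝒴) :
    ∃ (A : Over S) (_ : CompactSpace A.left) (α : FibCat.overCat A ⥤ᵇ FibCat.overCat U)
      (τ : FibCat.overCat A ⥤ᵇ ofSp W.obj),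
      (∀ u : ↥U.left, ∃ a : ↥A.left, Points.map α (ptU A a) = ptU U u) ∧
      Nonempty (BasedFunctor.comp α y ≅ BasedFunctor.comp τ w) := by
  obtain ⟨F, e, he⟩ := (RepByAlgSpWith.repByAlgSp1 hw₁) U y
  obtain ⟨A₀, p, hpE, hpS⟩ := F.property.atlas
  let s : FibCat.overCat A₀ ⥤ᵇ ofSp F.obj := ofSection (uliftYonedaEquiv.{u+1} p.hom)
  have hF : FibCat.IsFibGrpd (ofSp F.obj).p := Stk.isFibGrpd_ofPsh _
  have hA₀ : FibCat.IsFibGrpd (FibCat.overCat A₀).p := (isFibSetoid_overCat A₀).1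
  let β : FibCat.overCat A₀ ⥤ᵇ FibCat.overCat U :=
    BasedFunctor.comp s (BasedFunctor.comp e (FibCat.fpFst y w))
  have key : ∀ (Q : MorphismProperty (AlgSp.Sp S)), StableBC Q →
      (∀ ⦃X Y Z : AlgSp.Sp S⦄, AlgSp.IsAlgSpace X → AlgSp.IsAlgSpace Y → AlgSp.IsAlgSpace Z →
        ∀ (a : X ⟶ Y) (b : Y ⟶ Z), Q a → Q b → Q (a ≫ b)) →
      AlgSp.IsLocalOnBase AlgSp.IsFppfCover Q → RepByAlgSpWith Q s → RepByAlgSpWith Q w →
      RepByAlgSpWith Q β := by
    intro Q hQb hQc hQ hs hwQ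
    have h1 : RepByAlgSpWith Q (FibCat.fpFst y w) := repByAlgSpWith_fpFst Q w y hwQ
    have h2 : RepByAlgSpWith Q (BasedFunctor.comp e (FibCat.fpFst y w)) :=
      repByAlgSpWith_of_square Q (FibCat.fpFst y w) _ e (BasedFunctor.id _) he
        (isEquivOver_id _) (Iso.refl _) h1
    exact repByAlgSpWith_comp hA₀ hF hQb hQc hQ s _ hs h2
  obtain ⟨k, ⟨γ⟩⟩ := exists_iso_ovMap β
  have tr : ∀ (Q : MorphismProperty (AlgSp.Sp S)),
      RepByAlgSpWith Q β → RepByAlgSpWith Q (AlgSt.overMap k) := by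
    intro Q hG
    exact repByAlgSpWith_of_square Q β (AlgSt.overMap k) (BasedFunctor.id _) (BasedFunctor.id _)
      (isEquivOver_id _) (isEquivOver_id _) γ.symm hG
  have := locP_respectsIso (S := S) @Flat
  have := locP_respectsIso (S := S) @LocallyOfFinitePresentation
  have := isSurjectiveMor_respectsIso (S := S)
  have hkf : Flat k.left := AlgSp.locP_yon_map (prop_yon_map_of_overMap _ k (tr _
    (key _ (stableBC_locP Groth.Agent.H50.goodClass_flat)
      (fun _ _ _ _ hY _ a b ha hb => Groth.Agent.H50.goodClass_flat.locP_comp hY a b ha hb)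
      isLocalOnBase_fppf_flat
      (repByAlgSpWith_ofSection _ F.property p
        (baseChange_locP_of_etale p hpE Groth.Agent.H50.goodClass_flat)) hw₁)))
  have hkp : LocallyOfFinitePresentation k.left :=
    AlgSp.locP_yon_map (prop_yon_map_of_overMap _ k (tr _
    (key _ (stableBC_locP Groth.Agent.H50.goodClass_lfp)
      (fun _ _ _ _ hY _ a b ha hb => Groth.Agent.H50.goodClass_lfp.locP_comp hY a b ha hb)
      isLocalOnBase_fppf_lfp
      (repByAlgSpWith_ofSection _ F.property p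
        (baseChange_locP_of_etale p hpE Groth.Agent.H50.goodClass_lfp)) hw₂)))
  have hks : Surjective k.left := surjective_of_isSurjectiveMor_yon_map k
    (prop_yon_map_of_overMap _ k (tr _
    (key _ stableBC_surj
      (fun _ _ _ _ _ _ _ _ ha hb => Groth.Agent.H49.isSurjectiveMor_comp ha hb)
      isLocalOnBase_fppf_surj
      (repByAlgSpWith_ofSection _ F.property p (baseChange_surj_of_surjective p hpS)) hw₃)))
  -- a quasi-compact open of `A₀` surjecting onto `U`
  obtain ⟨V : A₀.left.Opens, hV, hVe⟩ :=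
    k.left.isOpenMap.exists_opens_image_eq_of_prespectralSpace
    k.left.continuous (U := Set.univ) (by
      intro u _
      exact k.left.surjective u) isOpen_univ isCompact_univ
  let A : Over S := Over.mk (V.ι ≫ A₀.hom)
  let ι : A ⟶ A₀ := Over.homMk V.ι rfl
  have hAc : CompactSpace ↥A.left := isCompact_iff_compactSpace.mp hV
  let r : FibCat.overCat A ⥤ᵇ FibCat.fp y w :=
    BasedFunctor.comp (AlgSt.overMap ι) (BasedFunctor.comp s e)
  refine ⟨A, hAc, BasedFunctor.comp (AlgSt.overMap ι) β,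
    BasedFunctor.comp r (FibCat.fpSnd y w), ?_, ⟨bwlIso r (FibCat.fpIso y w)⟩⟩
  intro u
  have hu : u ∈ k.left '' (V : Set ↥A₀.left) := by
    rw [hVe]
    trivial
  obtain ⟨a₀, ha₀, rfl⟩ := hu
  refine ⟨(⟨a₀, ha₀⟩ : V), ?_⟩
  rw [map_comp, map_overMap_ptU, map_eq_of_hom γ.hom]
  exact map_overMap_ptU k _

end Groth.Agent.H65.AlgStQC5
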