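import Groth.Agent.H65.QuotEtale
import Groth.Agent.H50.Quot
import Groth.Agent.H50.LocPBase
import Groth.Agent.H51.SpOpen
import Groth.Agent.H53.Points
import Groth.Agent.H49.AlgSpCoprod
import Groth.Agent.H65.FppfFamilyDescent
import Groth.Agent.H52.FlatDescent
import Groth.Agent.H49.AlgSpCover

/-!
# The quotient map of an fppf equivalence relation of algebraic spaces

* `exists_glue_of_sieve`: gluing of generalized elements of a sheaf along a covering sieve.
* `isPullback_quotSpπ`: for an equivalence relation `s, t : R ⟶ U` of sheaves, `R = U ×_{U/R} U`.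
* `locP_of_fppf_family`: fppf descent of `LocP P` for morphisms to a scheme.
-/

set_option autoImplicit false
universe u
open CategoryTheory CategoryTheory.Limits AlgebraicGeometry Opposite

namespace Groth.Agent.H65.QuotSpFppf

open AlgSp

variable {S : Scheme.{u}}

/-- Gluing of generalized elements of a sheaf along a covering sieve. -/
theorem exists_glue_of_sieve {F : Sp S} {T : Over S} (W : Sieve T) (hW : W ∈ J S T)
    (r : ∀ ⦃T' : Over S⦄ (g : T' ⟶ T), W g → ((yon S).obj T' ⟶ F))
    (hr : ∀ ⦃T' T'' : Over S⦄ (g : T' ⟶ T) (hg : W g) (k : T'' ⟶ T'),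
      r (k ≫ g) (W.downward_closed hg k) = (yon S).map k ≫ r g hg) :
    ∃ ρ : (yon S).obj T ⟶ F, ∀ ⦃T' : Over S⦄ (g : T' ⟶ T) (hg : W g),
      (yon S).map g ≫ ρ = r g hg := by
  have hF : Presieve.IsSheaf (J S) F.obj := (isSheaf_iff_isSheaf_of_type _ _).1 F.property
  let x : Presieve.FamilyOfElements F.obj W.arrows :=
    fun T' g hg => (GrothendieckTopology.uliftYonedaEquiv.{u + 1} (J S)) (r g hg)
  have hx : x.Compatible := by
    intro Y₁ Y₂ Z k₁ k₂ g₁ g₂ h₁ h₂ comm
    change F.obj.map k₁.op ((GrothendieckTopology.uliftYonedaEquiv.{u + 1} (J S)) (r g₁ h₁)) =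
      F.obj.map k₂.op ((GrothendieckTopology.uliftYonedaEquiv.{u + 1} (J S)) (r g₂ h₂))
    rw [GrothendieckTopology.uliftYonedaEquiv_naturality.{u + 1} (J S), GrothendieckTopology.uliftYonedaEquiv_naturality.{u + 1} (J S)]
    change (GrothendieckTopology.uliftYonedaEquiv.{u + 1} (J S)) ((yon S).map k₁ ≫ r g₁ h₁) =
      (GrothendieckTopology.uliftYonedaEquiv.{u + 1} (J S)) ((yon S).map k₂ ≫ r g₂ h₂)
    rw [← hr g₁ h₁ k₁, ← hr g₂ h₂ k₂]
    congr 1
    have : ∀ (a b : Z ⟶ T) (e : a = b) (ha : W a) (hb : W b), r a ha = r b hb := by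
      rintro a b rfl ha hb
      rfl
    exact this _ _ comm _ _
  obtain ⟨y, hy, -⟩ := hF W hW x hx
  refine ⟨(GrothendieckTopology.uliftYonedaEquiv.{u + 1} (J S)).symm y, fun T' g hg => ?_⟩
  apply (GrothendieckTopology.uliftYonedaEquiv.{u + 1} (J S)).injective
  have h1 := hy g hg
  have h2 := GrothendieckTopology.uliftYonedaEquiv_naturality.{u + 1} (J S) ((GrothendieckTopology.uliftYonedaEquiv.{u + 1} (J S)).symm y) g
  rw [Equiv.apply_symm_apply] at h2
  exact h2.symm.trans h1

/-- For an equivalence relation `s, t : R ⟶ U` of fppf sheaves, `R` is the kernel pair of the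
quotient map `U ⟶ U/R`. -/
theorem isPullback_quotSpπ {R U : Sp S} (s t : R ⟶ U) (hj : IsEqvRelSp s t) :
    IsPullback t s (quotSpπ s t) (quotSpπ s t) := by
  refine Groth.Agent.H51.isPullback_of_forall_yon (quotSp_condition s t).symm ?_
  intro T a b hab
  obtain ⟨W, hW, hloc⟩ :=
    Groth.Agent.H50.locally_rel_of_comp_quotSpπ_eq s t hj.equivalence a b hab
  choose r hr1 hr2 using hloc
  obtain ⟨ρ, hρ⟩ := exists_glue_of_sieve W hW r (by
    intro T' T'' g hg k
    apply hj.injective
    · rw [hr1, Category.assoc, hr1, Functor.map_comp, Category.assoc]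
    · rw [hr2, Category.assoc, hr2, Functor.map_comp, Category.assoc])
  have h1 : ρ ≫ t = a := by
    refine Groth.Agent.H53.yon_hom_ext_of_sieve _ _ W hW fun T' g hg => ?_
    rw [← Category.assoc, hρ g hg, hr1]
  have h2 : ρ ≫ s = b := by
    refine Groth.Agent.H53.yon_hom_ext_of_sieve _ _ W hW fun T' g hg => ?_
    rw [← Category.assoc, hρ g hg, hr2]
  refine ⟨ρ, ⟨h1, h2⟩, ?_⟩
  rintro ρ' ⟨h1', h2'⟩
  exact hj.injective T ρ' ρ (h1'.trans h1.symm) (h2'.trans h2.symm)

/-- An epimorphism of fppf sheaves is surjective on points. -/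
theorem isSurjectiveMor_of_epi {F G : Sp S} (φ : F ⟶ G) [Epi φ] : IsSurjectiveMor φ := by
  intro x
  induction x using Points.ind with | h q => ?_
  obtain ⟨W, hW, hlift⟩ := Groth.Agent.H50.exists_local_lift_of_epi φ q.toHom
  obtain ⟨R', hR', hle⟩ := Groth.Agent.H49.exists_fppf_cover_of_mem W hW
  obtain ⟨U', g, hg, u', hu'⟩ :=
    (Presieve.mem_comap_jointlySurjectivePrecoverage_iff Scheme.forget).1 hR'.1
      (IsLocalRing.closedPoint q.K)
  obtain ⟨y, hy⟩ := hlift _ (hle g hg)
  refine ⟨Points.ofPt y u', ?_⟩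
  rw [Points.map_ofPt, hy, Groth.Agent.H53.ofPt_yon_map_comp, Points.ofPt_toHom]

/-- fppf descent of `LocP P` for a morphism from an algebraic space to a scheme. -/
theorem locP_of_fppf_family {P : MorphismProperty Scheme.{u}} (hG : Groth.Agent.H50.GoodClass P)
    [IsZariskiLocalAtTarget P]
    [P.DescendsAlong (@Surjective ⊓ @Flat ⊓ @LocallyOfFinitePresentation)]
    {X : Sp S} (hX : IsAlgSpace X) {V : Over S} (f : X ⟶ (yon S).obj V) {ι : Type*}
    (T' : ι → Over S) (v : ∀ q, T' q ⟶ V) (hfl : ∀ q, Flat (v q).left)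
    (hlfp : ∀ q, LocallyOfFinitePresentation (v q).left)
    (hcov : ∀ y : V.left, ∃ q, y ∈ Set.range (v q).left)
    (h : ∀ q, LocP P (pullback.snd f ((yon S).map (v q)))) : LocP P f := by
  obtain ⟨A₀, a, haE, haS⟩ := hX.atlas
  refine Groth.Agent.H50.locP_of_source_chart hG.src f A₀ a haE haS ?_
  obtain ⟨x, hx⟩ := (yon S).map_surjective (a ≫ f)
  rw [← hx]
  refine hG.locP_yon_map x ?_
  have key : ∀ q, P (pullback.snd x (v q)).left := fun q => by
    have sqW := (IsPullback.of_hasPullback x (v q)).map (yon S)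
    let k : (yon S).obj (pullback x (v q)) ⟶ pullback f ((yon S).map (v q)) :=
      pullback.lift ((yon S).map (pullback.fst x (v q)) ≫ a) ((yon S).map (pullback.snd x (v q)))
        (by rw [Category.assoc, ← hx]; exact sqW.w)
    have hk1 : k ≫ pullback.fst f ((yon S).map (v q)) = (yon S).map (pullback.fst x (v q)) ≫ a :=
      pullback.lift_fst _ _ _
    have hk2 : k ≫ pullback.snd f ((yon S).map (v q)) = (yon S).map (pullback.snd x (v q)) :=
      pullback.lift_snd _ _ _
    have sqk : IsPullback ((yon S).map (pullback.fst x (v q))) k a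
        (pullback.fst f ((yon S).map (v q))) := by
      refine IsPullback.of_bot ?_ hk1.symm (IsPullback.of_hasPullback f ((yon S).map (v q)))
      rw [hk2, ← hx]
      exact sqW
    have hkE : RepWith @Etale k := MorphismProperty.of_isPullback (P := RepWith (S := S) @Etale) sqk haE
    exact h q k (𝟙 _) (pullback.snd x (v q)) hkE (repWith_id _ _) (by rw [hk2, Category.comp_id])
  exact FppfDesc.of_fppf_family P x.left (fun q => (T' q).left) (fun q => (pullback x (v q)).left)
    (fun q => (v q).left) hfl hlfp hcov (fun q => (pullback.fst x (v q)).left)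
    (fun q => (pullback.snd x (v q)).left)
    (fun q => (IsPullback.of_hasPullback x (v q)).map (Over.forget S)) key

/-- For an fppf-type equivalence relation of algebraic spaces whose quotient is an algebraic space,
the quotient map inherits `LocP P` from `s`. -/
theorem locP_quotSpπ {R U : Sp S} (hR : IsAlgSpace R) (hU : IsAlgSpace U) (s t : R ⟶ U)
    (hj : IsEqvRelSp s t) {P : MorphismProperty Scheme.{u}} (hG : Groth.Agent.H50.GoodClass P)
    [IsZariskiLocalAtTarget P]
    [P.DescendsAlong (@Surjective ⊓ @Flat ⊓ @LocallyOfFinitePresentation)]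
    (hs : LocP P s) (hF : IsAlgSpace (quotSp s t)) : LocP P (quotSpπ s t) := by
  have sqK := isPullback_quotSpπ s t hj
  obtain ⟨V₀, p, hpE, hpS⟩ := hF.atlas
  have sqV : IsPullback (pullback.fst (quotSpπ s t) p) (pullback.snd (quotSpπ s t) p)
      (quotSpπ s t) p := IsPullback.of_hasPullback _ _
  refine Groth.Agent.H50.locP_of_isPullback_atlas P hG.desc (quotSpπ s t) V₀ p hpE hpS
    (pullback.fst (quotSpπ s t) p) (pullback.snd (quotSpπ s t) p) sqV ?_
  have hUV : IsAlgSpace (pullback (quotSpπ s t) p) :=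
    Groth.Agent.H49.isAlgSpace_of_isPullback sqV hF.diag hU (IsAlgSpace.yon_obj V₀)
  obtain ⟨U₀, c₀, hcE, hcS⟩ := hU.atlas
  have : Epi c₀ := (Sheaf.isLocallySurjective_iff_epi c₀).1
    (Groth.Agent.H49.isLocallySurjective_of_repWith_etale_surjective c₀ hcE hcS)
  have : Epi (c₀ ≫ quotSpπ s t) := epi_comp _ _
  obtain ⟨T', v, l, hfl, hlfp, hp, hl⟩ := QuotEtale.exists_lifts (c₀ ≫ quotSpπ s t) p
  refine locP_of_fppf_family hG hUV (pullback.snd (quotSpπ s t) p) T' v hfl hlfp
    (fun y => ⟨y, hp y⟩) (fun q => ?_)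
  have hℓ : ((yon S).map (l q) ≫ c₀) ≫ quotSpπ s t = (yon S).map (v q) ≫ p := by
    rw [Category.assoc]; exact hl q
  have sq_q := IsPullback.of_hasPullback (pullback.snd (quotSpπ s t) p) ((yon S).map (v q))
  have big := sq_q.paste_horiz sqV
  rw [← hℓ] at big
  obtain ⟨k, hk1, hk2⟩ := sqK.exists_lift
    (pullback.fst (pullback.snd (quotSpπ s t) p) ((yon S).map (v q)) ≫
      pullback.fst (quotSpπ s t) p)
    (pullback.snd (pullback.snd (quotSpπ s t) p) ((yon S).map (v q)) ≫
      ((yon S).map (l q) ≫ c₀)) (by rw [Category.assoc]; exact big.w)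
  rw [← hk1] at big
  have sqk := IsPullback.of_right big hk2 sqK
  exact hG.locP_of_isPullback hR hU (IsAlgSpace.yon_obj (T' q)) s _ k _ sqk hs

end Groth.Agent.H65.QuotSpFppf
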