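import Groth.Agent.H65.AlgSpOpenCover
import Groth.Agent.H53.Points
import Groth.Agent.H53.Basic

/-!
# Open covers of sheaves by algebraic spaces, pointwise form

A sheaf `F` with a family of representable open immersions `F i ⟶ F` from algebraic spaces whose
images cover the points of `F` is an algebraic space.
-/

set_option autoImplicit false
universe u
open CategoryTheory CategoryTheory.Limits AlgebraicGeometry Opposite

namespace Groth.Agent.H65.AlgSpBoot

open AlgSp

variable {S : Scheme.{u}}

/-- If representable open immersions `F i ⟶ F` cover the points of `F`, the induced map from the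
coproduct is locally surjective. -/
theorem isLocallySurjective_desc_of_points_cover {F : Sp S} {ι : Type u} (Fi : ι → Sp S)
    (f : ∀ i, Fi i ⟶ F) (hopen : ∀ i, RepWith @IsOpenImmersion (f i))
    (hcov : ∀ x : Points F, ∃ i, x ∈ Set.range (Points.map (f i))) (c : Cofan Fi)
    (hc : IsColimit c) : Sheaf.IsLocallySurjective (Cofan.IsColimit.desc hc f) := by
  set φ := Cofan.IsColimit.desc hc f with hφ
  have hfac : ∀ i, c.inj i ≫ φ = f i := fun i => Cofan.IsColimit.fac hc f i
  refine ⟨fun {Z} s => ?_⟩
  let g : (yon S).obj Z ⟶ F := (J S).uliftYonedaEquiv.symm s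
  have h1 := fun i => (hopen i).rep g
  choose Zi ji bi sqi using h1
  have hji : ∀ i, IsOpenImmersion (ji i).left :=
    fun i => (hopen i).property g (bi i) (ji i) (sqi i)
  have hjs : ∀ z : Z.left, ∃ i y, (ji i).left y = z := by
    intro z
    obtain ⟨i, y, hy⟩ := hcov (Points.ofPt g z)
    obtain ⟨w, -, hw2⟩ := Groth.Agent.H53.exists_point_of_isPullback (sqi i) y
      (Points.ofScheme Z z) (by rw [hy, Points.ofPt_eq_map_ofScheme])
    refine ⟨i, Points.toScheme _ w, ?_⟩
    have h2 := congrArg (Points.toScheme Z) hw2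
    rw [Points.toScheme_ofScheme, ← Points.ofScheme_toScheme _ w, Points.map_ofPt,
      Category.id_comp, Points.toScheme_ofPt] at h2
    exact h2
  let 𝒰 : Z.left.OpenCover :=
    { I₀ := ι
      X := fun i => (Zi i).left
      f := fun i => (ji i).left
      mem₀ := by
        rw [Scheme.presieve₀_mem_precoverage_iff]
        exact ⟨fun z => hjs z, hji⟩ }
  have hmem : (Sieve.overEquiv Z).symm (Sieve.generate
      (Presieve.ofArrows (fun i => (Zi i).left) (fun i => (ji i).left))) ∈ J S Z :=
    GrothendieckTopology.overEquiv_symm_mem_over _ _ _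
      (Precoverage.generate_mem_toGrothendieck (Groth.Agent.H53.openCoverToFppf 𝒰).mem₀)
  refine (J S).superset_covering ?_ hmem
  intro W w hw
  rw [Sieve.overEquiv_symm_iff] at hw
  obtain ⟨W', p, q, ⟨i⟩, hpq⟩ := hw
  have hp : p ≫ (Zi i).hom = W.hom := by
    rw [← Over.w (ji i), ← Category.assoc, hpq]
    exact Over.w w
  let k : W ⟶ Zi i := Over.homMk p hp
  have hk : k ≫ ji i = w := by
    ext
    exact hpq
  refine ⟨(J S).uliftYonedaEquiv ((yon S).map k ≫ bi i ≫ c.inj i), ?_⟩
  have e : ((yon S).map k ≫ bi i ≫ c.inj i) ≫ φ = (yon S).map w ≫ g := by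
    rw [Category.assoc, Category.assoc, hfac, (sqi i).w, ← Category.assoc, ← Functor.map_comp, hk]
  have h3 := congrArg (J S).uliftYonedaEquiv e
  rw [(J S).uliftYonedaEquiv_comp] at h3
  refine h3.trans ?_
  rw [← (J S).uliftYonedaEquiv_naturality g w, Equiv.apply_symm_apply]

/-- A sheaf covered (on points) by open subsheaves which are algebraic spaces is an algebraic
space. -/
theorem isAlgSpace_of_open_cover_points {F : Sp S} {ι : Type u} (Fi : ι → Sp S)
    (f : ∀ i, Fi i ⟶ F) (halg : ∀ i, IsAlgSpace (Fi i))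
    (hopen : ∀ i, RepWith @IsOpenImmersion (f i))
    (hcov : ∀ x : Points F, ∃ i, x ∈ Set.range (Points.map (f i))) : IsAlgSpace F := by
  let c : Cofan Fi := colimit.cocone (Discrete.functor Fi)
  have hc : IsColimit c := colimit.isColimit _
  have hcop : IsAlgSpace c.pt := Groth.Agent.H49.isAlgSpace_coprod hc halg
  have hsurj := isLocallySurjective_desc_of_points_cover Fi f hopen hcov c hc
  obtain ⟨he, hs⟩ := repWith_desc_of_openCover Fi f hopen c hc hsurj
  obtain ⟨U, p, hpE, hpS⟩ := hcop.atlas
  exact isAlgSpace_of_yon_cover (p ≫ Cofan.IsColimit.desc hc f)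
    ((RepWith @Etale).comp_mem _ _ hpE he) ((RepWith @Surjective).comp_mem _ _ hpS hs)

end Groth.Agent.H65.AlgSpBoot
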