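import Groth.Agent.H65.AlgSpBoot
import Groth.Agent.H49.AlgSpCoprod2

/-!
# A sheaf covered by open algebraic subspaces is an algebraic space

If `f i : F i ⟶ F` are representable open immersions and the induced map `∐ F i ⟶ F` is a
surjection of sheaves, then `∐ F i ⟶ F` is representable, étale and surjective: its base change
to `h_T` is `h_{∐ T_i} ⟶ h_T` for the open subschemes `T_i = T ×_F F_i`.
-/

set_option autoImplicit false
universe u
open CategoryTheory CategoryTheory.Limits AlgebraicGeometry Opposite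

namespace Groth.Agent.H65.AlgSpBoot

open AlgSp

variable {S : Scheme.{u}}

theorem exists_isPullback_desc_of_openCover {F : Sp S} {ι : Type u} (Fi : ι → Sp S)
    (f : ∀ i, Fi i ⟶ F) (hopen : ∀ i, RepWith @IsOpenImmersion (f i)) (c : Cofan Fi)
    (hc : IsColimit c) (hsurj : Sheaf.IsLocallySurjective (Cofan.IsColimit.desc hc f))
    ⦃T : Over S⦄ (ξ : (yon S).obj T ⟶ F) :
    ∃ (W : Over S) (fst : (yon S).obj W ⟶ c.pt) (σ : W ⟶ T),
      IsPullback fst ((yon S).map σ) (Cofan.IsColimit.desc hc f) ξ ∧ Etale σ.left ∧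
        Surjective σ.left := by
  set φ := Cofan.IsColimit.desc hc f with hφ
  have hfac : ∀ i, c.inj i ≫ φ = f i := fun i => Cofan.IsColimit.fac hc f i
  -- step 1: the open pieces
  have h1 := fun i => (hopen i).rep ξ
  choose Ti ji bi sqi using h1
  have hji : ∀ i, IsOpenImmersion (ji i).left :=
    fun i => (hopen i).property ξ (bi i) (ji i) (sqi i)
  -- step 2: the pieces as pullbacks of the summands
  have sqP : IsPullback (pullback.fst φ ξ) (pullback.snd φ ξ) φ ξ := IsPullback.of_hasPullback _ _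
  let k : ∀ i, (yon S).obj (Ti i) ⟶ pullback φ ξ := fun i =>
    pullback.lift (bi i ≫ c.inj i) ((yon S).map (ji i)) (by rw [Category.assoc, hfac, (sqi i).w])
  have hk1 : ∀ i, k i ≫ pullback.fst φ ξ = bi i ≫ c.inj i := fun i => pullback.lift_fst _ _ _
  have hk2 : ∀ i, k i ≫ pullback.snd φ ξ = (yon S).map (ji i) := fun i => pullback.lift_snd _ _ _
  have sqk : ∀ i, IsPullback (k i) (bi i) (pullback.fst φ ξ) (c.inj i) := by
    intro i
    refine IsPullback.of_right ?_ (hk1 i) sqP.flip
    rw [hk2, hfac]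
    exact (sqi i).flip
  -- step 3: universality of coproducts
  let dW : Cofan Ti := colimit.cocone (Discrete.functor Ti)
  have hdW : IsColimit dW := colimit.isColimit _
  let c' : Cocone (Discrete.functor Ti ⋙ yon S) :=
    { pt := pullback φ ξ
      ι := Discrete.natTrans (fun i => k i.as) }
  obtain ⟨hc'⟩ := Groth.Agent.H49.nonempty_isColimit_of_isPullback hc c' (fun i => bi i.as)
    (pullback.fst φ ξ) (fun i => sqk i.as)
  obtain ⟨hY⟩ := Groth.Agent.H49.nonempty_isColimit_yon_mapCocone hdW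
  let e : (yon S).obj dW.pt ≅ pullback φ ξ := hY.coconePointUniqueUpToIso hc'
  have he : ∀ i, (yon S).map (dW.inj i) ≫ e.hom = k i :=
    fun i => hY.comp_coconePointUniqueUpToIso_hom hc' ⟨i⟩
  obtain ⟨σ, hσ⟩ := (yon S).map_surjective (e.hom ≫ pullback.snd φ ξ)
  have hσi : ∀ i, dW.inj i ≫ σ = ji i := fun i => (yon S).map_injective (by
    rw [Functor.map_comp, hσ, ← Category.assoc, he, hk2])
  have sqL : IsPullback e.hom (e.hom ≫ pullback.snd φ ξ) (pullback.snd φ ξ) (𝟙 _) :=
    IsPullback.of_horiz_isIso ⟨by simp⟩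
  have sqB := sqL.paste_horiz sqP
  rw [Category.id_comp, ← hσ] at sqB
  refine ⟨dW.pt, e.hom ≫ pullback.fst φ ξ, σ, sqB, ?_, ?_⟩
  · -- étale
    obtain ⟨e', he'⟩ := Groth.Agent.H49.exists_sigma_iso hdW
    have h2 : σ.left = e'.inv ≫ Sigma.desc (fun i => (ji i).left) := by
      rw [Iso.eq_inv_comp]
      apply Sigma.hom_ext
      intro i
      rw [← Category.assoc, he' i, ← Over.comp_left, hσi, Sigma.ι_desc]
    rw [h2]
    have : Etale (Sigma.desc fun i => (ji i).left) :=
      IsZariskiLocalAtSource.sigmaDesc (P := @Etale) (fun i => inferInstance)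
    infer_instance
  · -- surjective
    refine ⟨fun t => ?_⟩
    have hR := hsurj.imageSieve_mem ((J S).uliftYonedaEquiv ξ)
    obtain ⟨R', hR', hle⟩ := Groth.Agent.H49.exists_fppf_cover_of_mem _ hR
    obtain ⟨U', g, hg, z, rfl⟩ :=
      (Presieve.mem_comap_jointlySurjectivePrecoverage_iff Scheme.forget).1 hR'.1 t
    obtain ⟨a, ha⟩ := hle g hg
    let Z : Over S := Over.mk (g ≫ T.hom)
    let gZ : Z ⟶ T := Over.homMk g
    let α : (yon S).obj Z ⟶ c.pt := (J S).uliftYonedaEquiv.symm a
    have hα : α ≫ φ = (yon S).map gZ ≫ ξ := by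
      apply (J S).uliftYonedaEquiv.injective
      rw [(J S).uliftYonedaEquiv_comp, Equiv.apply_symm_apply,
        ← (J S).uliftYonedaEquiv_naturality]
      exact ha
    obtain ⟨w, hw⟩ := (yon S).map_surjective (pullback.lift α ((yon S).map gZ) hα ≫ e.inv)
    have hwσ : w ≫ σ = gZ := (yon S).map_injective (by
      rw [Functor.map_comp, hw, hσ, Category.assoc, e.inv_hom_id_assoc, pullback.lift_snd])
    refine ⟨w.left z, ?_⟩
    have h3 : w.left ≫ σ.left = g := congrArg (fun m => m.left) hwσ
    rw [← Scheme.Hom.comp_apply, h3]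
    rfl

/-- The map from the coproduct of an open cover is representable, étale and surjective. -/
theorem repWith_desc_of_openCover {F : Sp S} {ι : Type u} (Fi : ι → Sp S)
    (f : ∀ i, Fi i ⟶ F) (hopen : ∀ i, RepWith @IsOpenImmersion (f i)) (c : Cofan Fi)
    (hc : IsColimit c) (hsurj : Sheaf.IsLocallySurjective (Cofan.IsColimit.desc hc f)) :
    RepWith @Etale (Cofan.IsColimit.desc hc f) ∧
      RepWith @Surjective (Cofan.IsColimit.desc hc f) := by
  constructor
  · refine MorphismProperty.relative.of_exists fun T ξ => ?_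
    obtain ⟨W, fst, σ, sq, h1, -⟩ := exists_isPullback_desc_of_openCover Fi f hopen c hc hsurj ξ
    exact ⟨W, fst, σ, sq, h1⟩
  · refine MorphismProperty.relative.of_exists fun T ξ => ?_
    obtain ⟨W, fst, σ, sq, -, h2⟩ := exists_isPullback_desc_of_openCover Fi f hopen c hc hsurj ξ
    exact ⟨W, fst, σ, sq, h2⟩

end Groth.Agent.H65.AlgSpBoot
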