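import Groth.Agent.S10613
import Groth.Agent.H49.AlgSpRep
import Groth.Agent.H50.Cat
import Groth.Agent.H53.Charts
import Groth.Agent.H53.LftFppfSource

/-!
# Bootstrap: a sheaf with a representable étale surjective cover by a scheme is an algebraic space

Key lemma: if `g : h_U ⟶ F` is representable, étale and surjective, then every fibre product
`h_T ×_F h_T'` is representable by a scheme.  The fibre product `P` is a subsheaf of `h_{T × T'}`,
it is an algebraic space (the base change of `g` gives an atlas), and `P ⟶ h_{T × T'}` is a
monomorphism locally of finite type; then helper53's S10613 (monomorphism locally of finite type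
of algebraic spaces is representable) applies.
-/

set_option autoImplicit false
universe u
open CategoryTheory CategoryTheory.Limits AlgebraicGeometry Opposite

namespace Groth.Agent.H65.AlgSpBoot

open AlgSp

variable {S : Scheme.{u}}

/-- The diagonal of an object of `Over S` is locally of finite type on underlying schemes. -/
theorem lft_diag_left (U : Over S) : LocallyOfFiniteType (Limits.diag U).left := by
  have h : (Limits.diag U).left ≫ (prod.fst : U ⨯ U ⟶ U).left = 𝟙 _ := by
    rw [← Over.comp_left, prod.lift_fst, Over.id_left]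
  have : LocallyOfFiniteType ((Limits.diag U).left ≫ (prod.fst : U ⨯ U ⟶ U).left) := by
    rw [h]; infer_instance
  exact locallyOfFiniteType_of_comp _ (prod.fst : U ⨯ U ⟶ U).left

/-- Products of étale maps in `Over S` are étale. -/
theorem etale_prodMap_left {A B A' B' : Over S} (p : A ⟶ B) (q : A' ⟶ B') (hp : Etale p.left)
    (hq : Etale q.left) : Etale (prod.map p q).left := by
  have h1 : (MorphismProperty.inverseImage (@Etale : MorphismProperty Scheme.{u}) (Over.forget S)) (prod.map p (𝟙 A')) :=
    MorphismProperty.of_isPullback (P := MorphismProperty.inverseImage (@Etale : MorphismProperty Scheme.{u}) (Over.forget S))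
      (IsPullback.of_prod_fst_with_id p A') hp
  have h2 : (MorphismProperty.inverseImage (@Etale : MorphismProperty Scheme.{u}) (Over.forget S)) (prod.map (𝟙 B) q) :=
    MorphismProperty.of_isPullback (P := MorphismProperty.inverseImage (@Etale : MorphismProperty Scheme.{u}) (Over.forget S))
      (Groth.Agent.H50.isPullback_prod_snd_with_id q B) hq
  have e : prod.map p q = prod.map p (𝟙 A') ≫ prod.map (𝟙 B) q := by simp
  rw [e]
  exact MorphismProperty.comp_mem (MorphismProperty.inverseImage (@Etale : MorphismProperty Scheme.{u}) (Over.forget S)) _ _ h1 h2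

/-- **Key lemma.** If `g : h_U ⟶ F` is representable, étale and surjective, then for all
`a : h_T ⟶ F`, `b : h_T' ⟶ F` the fibre product `h_T ×_F h_T'` is representable by a scheme. -/
theorem exists_iso_yon_pullback {F : Sp S} {U : Over S} (g : (yon S).obj U ⟶ F)
    (he : RepWith @Etale g) (hs : RepWith @Surjective g) {T T' : Over S}
    (a : (yon S).obj T ⟶ F) (b : (yon S).obj T' ⟶ F) :
    ∃ G : Over S, Nonempty ((yon S).obj G ≅ pullback a b) := by
  -- pull back `g` along `a` and `b`
  obtain ⟨V, pV, a', sq1⟩ := he.rep a
  obtain ⟨V', pV', b', sq2⟩ := he.rep b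
  have hpVE : Etale pV.left := he.property a a' pV sq1
  have hpVS : Surjective pV.left := hs.property a a' pV sq1
  have hpV'E : Etale pV'.left := he.property b b' pV' sq2
  obtain ⟨a'', rfl⟩ := (yon S).map_surjective a'
  obtain ⟨b'', rfl⟩ := (yon S).map_surjective b'
  -- the atlas `W = V ×_U V'`
  have sqW : IsPullback ((yon S).map (pullback.fst a'' b'')) ((yon S).map (pullback.snd a'' b''))
      ((yon S).map a'') ((yon S).map b'') := (IsPullback.of_hasPullback a'' b'').map (yon S)
  have sqA := sqW.paste_vert sq2
  rw [sq1.w] at sqA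
  have sqP : IsPullback (pullback.fst a b) (pullback.snd a b) a b := IsPullback.of_hasPullback a b
  let w : (yon S).obj (pullback a'' b'') ⟶ pullback a b :=
    pullback.lift ((yon S).map (pullback.fst a'' b'') ≫ (yon S).map pV)
      ((yon S).map (pullback.snd a'' b'') ≫ (yon S).map pV') (by
        rw [Category.assoc, ← sq1.w, Category.assoc, ← sq2.w, ← Category.assoc, ← Category.assoc,
          sqW.w])
  have hw1 : w ≫ pullback.fst a b = (yon S).map (pullback.fst a'' b'') ≫ (yon S).map pV :=
    pullback.lift_fst _ _ _
  have hw2 : w ≫ pullback.snd a b = (yon S).map (pullback.snd a'' b'') ≫ (yon S).map pV' :=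
    pullback.lift_snd _ _ _
  rw [← hw2] at sqA
  have sqL : IsPullback ((yon S).map (pullback.fst a'' b'')) w ((yon S).map pV)
      (pullback.fst a b) := IsPullback.of_bot sqA hw1.symm sqP
  have hwE : RepWith @Etale w :=
    MorphismProperty.of_isPullback (P := RepWith (S := S) @Etale) sqL ((repWith_yon_map_iff _ _).2 hpVE)
  have hwS : RepWith @Surjective w :=
    MorphismProperty.of_isPullback (P := RepWith (S := S) @Surjective) sqL
      ((repWith_yon_map_iff _ _).2 hpVS)
  -- the monomorphism to the product
  let m : pullback a b ⟶ (yon S).obj (T ⨯ T') :=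
    prod.lift (pullback.fst a b) (pullback.snd a b) ≫ inv (prodComparison (yon S) T T')
  have hm1 : m ≫ (yon S).map (prod.fst : T ⨯ T' ⟶ T) = pullback.fst a b := by
    rw [Category.assoc, ← prodComparison_fst, IsIso.inv_hom_id_assoc, prod.lift_fst]
  have hm2 : m ≫ (yon S).map (prod.snd : T ⨯ T' ⟶ T') = pullback.snd a b := by
    rw [Category.assoc, ← prodComparison_snd, IsIso.inv_hom_id_assoc, prod.lift_snd]
  have hmono : Mono m := by
    refine ⟨fun {Z} u v huv => ?_⟩
    have e1 : u ≫ pullback.fst a b = v ≫ pullback.fst a b := by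
      rw [← hm1, ← Category.assoc, huv, Category.assoc]
    have e2 : u ≫ pullback.snd a b = v ≫ pullback.snd a b := by
      rw [← hm2, ← Category.assoc, huv, Category.assoc]
    exact pullback.hom_ext e1 e2
  -- `P` is an algebraic space
  have hP : IsAlgSpace (pullback a b) :=
    { diag := Groth.Agent.H49.representable_diag_of_diagonal m (IsAlgSpace.yon_obj _).diag
        (Functor.relativelyRepresentable.of_isIso (yon S) (pullback.diagonal m))
      atlas := ⟨_, w, hwE, hwS⟩ }
  -- the chart map `W ⟶ T × T'`
  let wY : pullback a'' b'' ⟶ T ⨯ T' :=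
    prod.lift (pullback.fst a'' b'') (pullback.snd a'' b'') ≫ prod.map pV pV'
  have hwY : w ≫ m = (yon S).map wY := by
    obtain ⟨x, hx⟩ := (yon S).map_surjective (w ≫ m)
    rw [← hx]
    congr 1
    apply Limits.prod.hom_ext
    · apply (yon S).map_injective
      rw [Functor.map_comp, hx, Category.assoc, hm1, hw1, ← Functor.map_comp]
      congr 1
      simp only [wY, prod.lift_map]
      exact (prod.lift_fst _ _).symm
    · apply (yon S).map_injective
      rw [Functor.map_comp, hx, Category.assoc, hm2, hw2, ← Functor.map_comp]
      congr 1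
      simp only [wY, prod.lift_map]
      exact (prod.lift_snd _ _).symm
  have hwYlft : LocallyOfFiniteType wY.left := by
    have h1 : LocallyOfFiniteType (prod.lift (pullback.fst a'' b'') (pullback.snd a'' b'')).left :=
      MorphismProperty.of_isPullback (P := MorphismProperty.inverseImage (@LocallyOfFiniteType : MorphismProperty Scheme.{u}) (Over.forget S))
        (Groth.Agent.H50.isPullback_diag_of_isPullback (IsPullback.of_hasPullback a'' b''))
        (lft_diag_left U)
    have h2 : Etale (prod.map pV pV').left := etale_prodMap_left pV pV' hpVE hpV'E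
    rw [Over.comp_left]
    infer_instance
  -- `m` is locally of finite type
  have hlft : LocP @LocallyOfFiniteType m := by
    intro U₁ V₁ c d k hc hd hcomm
    obtain ⟨d₀, rfl⟩ := (yon S).map_surjective d
    suffices h : LocallyOfFiniteType (k ≫ d₀).left by
      rw [Over.comp_left] at h
      exact locallyOfFiniteType_of_comp k.left d₀.left
    obtain ⟨W₁, p, q, sq⟩ := Groth.Agent.H53.exists_pullback_yon c w hwE.rep
    have hpE : Etale p.left := Groth.Agent.H53.prop_of_isPullback_yon sq hwE
    have hpS : Surjective p.left := Groth.Agent.H53.prop_of_isPullback_yon sq hwS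
    have hqE : Etale q.left := Groth.Agent.H53.prop_of_isPullback_yon sq.flip hc
    have e : p ≫ k ≫ d₀ = q ≫ wY := by
      apply (yon S).map_injective
      rw [Functor.map_comp, Functor.map_comp, ← hcomm, ← Category.assoc, sq.w, Category.assoc,
        hwY, ← Functor.map_comp]
    have h3 : LocallyOfFiniteType (p.left ≫ (k ≫ d₀).left) := by
      rw [← Over.comp_left, e, Over.comp_left]
      infer_instance
    exact Groth.Agent.H53.locallyOfFiniteType_of_fppf_comp p.left (k ≫ d₀).left
  -- apply S10613: a monomorphism locally of finite type is representable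
  obtain ⟨hrep, -, -⟩ := (Groth.Agent.S10613.result
    (X := ⟨pullback a b, hP⟩) (Y := (AlgSp.ofScheme S).obj (T ⨯ T')) (ObjectProperty.homMk m)).2.2.2
    ⟨hlft, hmono⟩
  obtain ⟨G, s, fst', sq'⟩ := hrep (𝟙 ((yon S).obj (T ⨯ T')))
  have sq'' : IsPullback fst' ((yon S).map s) m (𝟙 ((yon S).obj (T ⨯ T'))) := sq'
  have hiso : IsIso fst' := sq''.isIso_fst_of_isIso
  exact ⟨G, ⟨asIso fst'⟩⟩

/-- If `g : h_U ⟶ F` is representable, étale and surjective, then `F` is an algebraic space. -/
theorem isAlgSpace_of_yon_cover {F : Sp S} {U : Over S} (g : (yon S).obj U ⟶ F)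
    (he : RepWith @Etale g) (hs : RepWith @Surjective g) : IsAlgSpace F where
  diag := by
    refine Functor.relativelyRepresentable.diag_of_map_from_obj fun T a T' b => ?_
    obtain ⟨G, ⟨e⟩⟩ := exists_iso_yon_pullback g he hs a b
    have sq : IsPullback (pullback.fst a b) (pullback.snd a b) a b := IsPullback.of_hasPullback a b
    obtain ⟨s, hs'⟩ := (yon S).map_surjective (e.hom ≫ pullback.snd a b)
    have sqL : IsPullback e.hom (e.hom ≫ pullback.snd a b) (pullback.snd a b) (𝟙 _) :=
      IsPullback.of_horiz_isIso ⟨by simp⟩
    have sqB := sqL.paste_horiz sq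
    rw [Category.id_comp, ← hs'] at sqB
    exact ⟨G, s, e.hom ≫ pullback.fst a b, sqB⟩
  atlas := ⟨U, g, he, hs⟩

end Groth.Agent.H65.AlgSpBoot
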