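import Groth.Agent.H65.QuotEtale
import Groth.Agent.H49.AlgSpQuot
import Groth.Agent.H65.AlgSpBoot2
import Mathlib.CategoryTheory.Sites.RegularEpi
import Mathlib.CategoryTheory.Limits.Shapes.KernelPair

/-!
# Algebraic spaces defined with the étale topology

A presheaf on schemes over `S` which is a sheaf for the big étale topology and receives a map
`p : h_U ⟶ F` from a scheme all of whose base changes to schemes are schemes, étale and surjective
over the base, is an algebraic space (in particular an fppf sheaf).  Both `F` and the fppf quotient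
`U/R` (`R = U ×_F U`) are coequalizers of `h_R ⇉ h_U` in étale sheaves, because epimorphisms of
sheaves of sets are regular.
-/

set_option autoImplicit false
universe u
open CategoryTheory CategoryTheory.Limits AlgebraicGeometry Opposite

namespace Groth.Agent.H65.EtSheafSp

open AlgSp

variable {S : Scheme.{u}}

/-- The big étale topology on schemes over `S`. -/
abbrev Je (S : Scheme.{u}) : GrothendieckTopology (Over S) := QuotSh.J Scheme.etalePrecoverage S

theorem etalePrecoverage_le_fppfPrecoverage :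
    Scheme.etalePrecoverage.{u} ≤ Scheme.fppfPrecoverage :=
  Scheme.precoverage_mono fun _ _ f hf => by
    have : Etale f := hf
    exact ⟨inferInstance, inferInstance⟩

theorem Je_le_J : Je S ≤ J S := by
  intro Y R hR
  rw [GrothendieckTopology.mem_over_iff] at hR ⊢
  exact Precoverage.toGrothendieck_mono etalePrecoverage_le_fppfPrecoverage _ hR

/-- fppf sheaves are étale sheaves. -/
theorem isSheaf_Je_of_isSheaf_J {P : PSp S} (h : Presheaf.IsSheaf (J S) P) :
    Presheaf.IsSheaf (Je S) P := by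
  rw [isSheaf_iff_isSheaf_of_type] at h ⊢
  exact Presieve.isSheaf_of_le _ Je_le_J h

theorem singleton_mem_etalePrecoverage {X Y : Scheme.{u}} (f : X ⟶ Y) [Etale f] [Surjective f] :
    Presieve.singleton f ∈ Scheme.etalePrecoverage Y := by
  rw [← Presieve.ofArrows_pUnit.{0}]
  exact (f.cover (P := @Etale) ‹_›).mem₀

/-- A sieve containing an étale surjective morphism is covering for the big étale topology. -/
theorem mem_Je_of_etale_surjective {T G : Over S} (σ : G ⟶ T) (he : Etale σ.left)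
    (hs : Surjective σ.left) (R : Sieve T) (hR : R σ) : R ∈ Je S T := by
  rw [GrothendieckTopology.mem_over_iff]
  refine GrothendieckTopology.superset_covering _ ?_
    (Precoverage.generate_mem_toGrothendieck (singleton_mem_etalePrecoverage σ.left))
  rw [Sieve.generate_le_iff]
  rintro _ _ ⟨⟩
  rw [Sieve.overEquiv_iff]
  let i : Over.mk (σ.left ≫ T.hom) ⟶ G := Over.homMk (𝟙 _) (by simp)
  have hi : i ≫ σ = (Over.homMk σ.left : Over.mk (σ.left ≫ T.hom) ⟶ T) := by
    ext
    simp [i]
  rw [← hi]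
  exact R.downward_closed hR i

/-- A map from `h_U` which admits lifts étale locally is locally surjective for the étale
topology. -/
theorem isLocallySurjective_of_etale_lifts {F : PSp S} {U : Over S} (q : (pyon S).obj U ⟶ F)
    (hcov : ∀ ⦃T : Over S⦄ (ξ : (pyon S).obj T ⟶ F), ∃ (G : Over S)
      (fst : (pyon S).obj G ⟶ (pyon S).obj U) (σ : G ⟶ T), fst ≫ q = (pyon S).map σ ≫ ξ ∧
        Etale σ.left ∧ Surjective σ.left) :
    Presheaf.IsLocallySurjective (Je S) q where
  imageSieve_mem {T} x := by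
    obtain ⟨G, fst, σ, hcomm, he, hs⟩ := hcov (uliftYonedaEquiv.{u + 1}.symm x)
    refine mem_Je_of_etale_surjective σ he hs _ ⟨uliftYonedaEquiv.{u + 1} fst, ?_⟩
    rw [← uliftYonedaEquiv_comp, hcomm]
    have := uliftYonedaEquiv_naturality.{u + 1} (uliftYonedaEquiv.{u + 1}.symm x) σ.op
    rw [Equiv.apply_symm_apply] at this
    exact this.symm

/-- The kernel pair of a map `p : h_U ⟶ F` of presheaves, if represented by a scheme, is an
equivalence relation. -/
theorem isEqvRel_of_isPullback {F : PSp S} {U R₀ : Over S} (p : (pyon S).obj U ⟶ F) (s t : R₀ ⟶ U)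
    (sqP : IsPullback ((pyon S).map t) ((pyon S).map s) p p) : IsEqvRel s t := by
  have key : ∀ (T : Over S) (a b : T ⟶ U), (∃ r : T ⟶ R₀, r ≫ t = a ∧ r ≫ s = b) ↔
      (pyon S).map a ≫ p = (pyon S).map b ≫ p := by
    intro T a b
    constructor
    · rintro ⟨r, rfl, rfl⟩
      rw [Functor.map_comp, Functor.map_comp, Category.assoc, Category.assoc, sqP.w]
    · intro h
      obtain ⟨r, hr⟩ := (pyon S).map_surjective (sqP.lift _ _ h)
      refine ⟨r, ?_, ?_⟩
      · apply (pyon S).map_injective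
        rw [Functor.map_comp, hr, sqP.lift_fst]
      · apply (pyon S).map_injective
        rw [Functor.map_comp, hr, sqP.lift_snd]
  refine ⟨fun T r r' h1 h2 => ?_, fun T => ⟨fun a => (key T a a).2 rfl,
    fun h => (key T _ _).2 ((key T _ _).1 h).symm,
    fun h h' => (key T _ _).2 (((key T _ _).1 h).trans ((key T _ _).1 h'))⟩⟩
  apply (pyon S).map_injective
  apply sqP.hom_ext
  · rw [← Functor.map_comp, ← Functor.map_comp, h1]
  · rw [← Functor.map_comp, ← Functor.map_comp, h2]

/-- **Core lemma**: an étale sheaf with an étale surjective cover by a scheme, representable on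
schemes, is an algebraic space. -/
theorem isAlgSpaceP_of_etale_cover (F : PSp S) (h1 : Presheaf.IsSheaf (Je S) F) (U : Over S)
    (p : (pyon S).obj U ⟶ F)
    (hcov : ∀ ⦃T : Over S⦄ (ξ : (pyon S).obj T ⟶ F), ∃ (G : Over S)
      (fst : (pyon S).obj G ⟶ (pyon S).obj U) (σ : G ⟶ T),
      IsPullback fst ((pyon S).map σ) p ξ ∧ Etale σ.left ∧ Surjective σ.left) :
    IsAlgSpaceP F := by
  -- the kernel pair
  obtain ⟨R₀, fst, s, sqP, hsE, hsS⟩ := hcov p
  obtain ⟨t, rfl⟩ := (pyon S).map_surjective fst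
  have hEqv : IsEqvRel s t := isEqvRel_of_isPullback p s t sqP
  -- the fppf quotient
  have sqR := Groth.Agent.H49.isPullback_quotMap hEqv
  have hQ : IsAlgSpace (QuotSh.quot Scheme.fppfPrecoverage s t) :=
    QuotEtale.isAlgSpace_of_etale_kernelPair s t (Groth.Agent.H49.quotMap s t) sqR hsE hsS
  have hrep := fun {T : Over S} (ξ : (yon S).obj T ⟶ QuotSh.quot Scheme.fppfPrecoverage s t) =>
    QuotEtale.exists_rep s t (Groth.Agent.H49.quotMap s t) sqR hsE hsS ξ
  -- étale sheaves
  let Fe : Sheaf (Je S) (Type (u + 1)) := ⟨F, h1⟩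
  let Qe : Sheaf (Je S) (Type (u + 1)) := ⟨(QuotSh.quot Scheme.fppfPrecoverage s t).obj,
    isSheaf_Je_of_isSheaf_J (QuotSh.quot Scheme.fppfPrecoverage s t).property⟩
  let Ue : Sheaf (Je S) (Type (u + 1)) := ⟨(pyon S).obj U,
    isSheaf_Je_of_isSheaf_J ((yon S).obj U).property⟩
  let Re : Sheaf (Je S) (Type (u + 1)) := ⟨(pyon S).obj R₀,
    isSheaf_Je_of_isSheaf_J ((yon S).obj R₀).property⟩
  let pe : Ue ⟶ Fe := ObjectProperty.homMk p
  let ge : Ue ⟶ Qe := ObjectProperty.homMk (Groth.Agent.H49.quotMap s t).hom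
  let te : Re ⟶ Ue := ObjectProperty.homMk ((pyon S).map t)
  let se : Re ⟶ Ue := ObjectProperty.homMk ((pyon S).map s)
  have kpe : IsPullback te se pe pe := by
    refine IsPullback.of_map (sheafToPresheaf (Je S) (Type (u + 1))) ?_ sqP
    apply ObjectProperty.hom_ext
    exact sqP.w
  have sqR' := sqR.map (sheafToPresheaf (J S) (Type (u + 1)))
  have kge : IsPullback te se ge ge := by
    refine IsPullback.of_map (sheafToPresheaf (Je S) (Type (u + 1))) ?_ sqR'
    apply ObjectProperty.hom_ext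
    exact sqR'.w
  have hpe : Epi pe := by
    have : Sheaf.IsLocallySurjective pe := isLocallySurjective_of_etale_lifts p (fun T ξ => by
      obtain ⟨G, fst, σ, sq, he, hs⟩ := hcov ξ
      exact ⟨G, fst, σ, sq.w, he, hs⟩)
    exact (Sheaf.isLocallySurjective_iff_epi pe).1 this
  have hge : Epi ge := by
    have : Sheaf.IsLocallySurjective ge :=
      isLocallySurjective_of_etale_lifts (Groth.Agent.H49.quotMap s t).hom (fun T ξ => by
        obtain ⟨G, fst, σ, sq, he, hs⟩ := hrep (ObjectProperty.homMk ξ)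
        exact ⟨G, fst.hom, σ, congrArg (fun w => w.hom) sq.w, he, hs⟩)
    exact (Sheaf.isLocallySurjective_iff_epi ge).1 this
  have := IsRegularEpiCategory.regularEpiOfEpi pe
  have := IsRegularEpiCategory.regularEpiOfEpi ge
  let φ : Fe ≅ Qe := IsColimit.coconePointUniqueUpToIso (IsKernelPair.toCoequalizer' kpe) (IsKernelPair.toCoequalizer' kge)
  have iso : F ≅ (QuotSh.quot Scheme.fppfPrecoverage s t).obj :=
    (sheafToPresheaf (Je S) (Type (u + 1))).mapIso φ
  exact IsAlgSpaceP.of_iso ((isAlgSpaceP_obj_iff _).2 hQ) iso.symm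

/-- Variant of `AlgSpBoot.exists_iso_yon_of_isPullback_of_lft`: an algebraic space `P` with a jointly
monomorphic pair of maps to schemes, all of whose étale charts are locally of finite type over the
product, is a scheme. -/
theorem exists_iso_yon_of_jointly_mono_of_lft {P : Sp S} {A B : Over S}
    (fst : P ⟶ (yon S).obj A) (snd : P ⟶ (yon S).obj B)
    (hjm : ∀ ⦃Z : Sp S⦄ (u v : Z ⟶ P), u ≫ fst = v ≫ fst → u ≫ snd = v ≫ snd → u = v)
    (hP : IsAlgSpace P)
    (hl : ∀ ⦃U₁ : Over S⦄ (c : (yon S).obj U₁ ⟶ P) (x : U₁ ⟶ A ⨯ B), RepWith @Etale c →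
      c ≫ fst = (yon S).map (x ≫ prod.fst) → c ≫ snd = (yon S).map (x ≫ prod.snd) →
      LocallyOfFiniteType x.left) :
    ∃ G : Over S, Nonempty ((yon S).obj G ≅ P) := by
  let m : P ⟶ (yon S).obj (A ⨯ B) := prod.lift fst snd ≫ inv (prodComparison (yon S) A B)
  have hm1 : m ≫ (yon S).map (prod.fst : A ⨯ B ⟶ A) = fst := by
    rw [Category.assoc, ← prodComparison_fst, IsIso.inv_hom_id_assoc, prod.lift_fst]
  have hm2 : m ≫ (yon S).map (prod.snd : A ⨯ B ⟶ B) = snd := by
    rw [Category.assoc, ← prodComparison_snd, IsIso.inv_hom_id_assoc, prod.lift_snd]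
  have hmono : Mono m := by
    refine ⟨fun {Z} u v huv => ?_⟩
    have e1 : u ≫ fst = v ≫ fst := by rw [← hm1, ← Category.assoc, huv, Category.assoc]
    have e2 : u ≫ snd = v ≫ snd := by rw [← hm2, ← Category.assoc, huv, Category.assoc]
    exact hjm u v e1 e2
  have hlft : LocP @LocallyOfFiniteType m := by
    intro U₁ V₁ c d k hc hd hcomm
    obtain ⟨d₀, rfl⟩ := (yon S).map_surjective d
    suffices h : LocallyOfFiniteType (k ≫ d₀).left by
      rw [Over.comp_left] at h
      exact locallyOfFiniteType_of_comp k.left d₀.left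
    refine hl c (k ≫ d₀) hc ?_ ?_
    · rw [← hm1, ← Category.assoc, hcomm, ← Functor.map_comp, ← Functor.map_comp]
    · rw [← hm2, ← Category.assoc, hcomm, ← Functor.map_comp, ← Functor.map_comp]
  obtain ⟨hrep, -, -⟩ := (Groth.Agent.S10613.result
    (X := ⟨P, hP⟩) (Y := (AlgSp.ofScheme S).obj (A ⨯ B)) (ObjectProperty.homMk m)).2.2.2
    ⟨hlft, hmono⟩
  obtain ⟨G, s, fst', sq'⟩ := hrep (𝟙 ((yon S).obj (A ⨯ B)))
  have sq'' : IsPullback fst' ((yon S).map s) m (𝟙 ((yon S).obj (A ⨯ B))) := sq'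
  have hiso : IsIso fst' := sq''.isIso_fst_of_isIso
  exact ⟨G, ⟨asIso fst'⟩⟩

/-- An étale sheaf with a surjective étale map from an algebraic space, representable by
algebraic spaces, is an algebraic space. -/
theorem isAlgSpaceP_of_repBySpWith_etale_cover (F : PSp S) (h1 : Presheaf.IsSheaf (Je S) F)
    (X : Sp S) (hX : IsAlgSpace X) (p : X.obj ⟶ F)
    (h2 : RepBySpWith (IsSurjectiveMor ⊓ IsEtaleMor) p) : IsAlgSpaceP F := by
  obtain ⟨U₀, c₀, hcE, hcS⟩ := hX.atlas
  refine isAlgSpaceP_of_etale_cover F h1 U₀ (c₀.hom ≫ p) fun T ξ => ?_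
  have sq : IsPullback (pullback.fst p ξ) (pullback.snd p ξ) p ξ := IsPullback.of_hasPullback _ _
  obtain ⟨h, hA, hQ⟩ := h2 ξ _ _ sq
  let As : Sp S := ⟨pullback p ξ, h⟩
  let fstA : As ⟶ X := ObjectProperty.homMk (pullback.fst p ξ)
  let sndA : As ⟶ (yon S).obj T := ObjectProperty.homMk (pullback.snd p ξ)
  have hA' : IsAlgSpace As := hA
  have hsurj : IsSurjectiveMor sndA := hQ.1
  have het : IsEtaleMor sndA := hQ.2
  have sq2 : IsPullback (pullback.fst c₀ fstA) (pullback.snd c₀ fstA) c₀ fstA :=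
    IsPullback.of_hasPullback _ _
  have hA'' : IsAlgSpace (pullback c₀ fstA) :=
    Groth.Agent.H49.isAlgSpace_of_isPullback sq2 hX.diag (IsAlgSpace.yon_obj U₀) hA'
  have hεE : RepWith @Etale (pullback.snd c₀ fstA) :=
    MorphismProperty.of_isPullback (P := RepWith (S := S) @Etale) sq2 hcE
  have hεS : RepWith @Surjective (pullback.snd c₀ fstA) :=
    MorphismProperty.of_isPullback (P := RepWith (S := S) @Surjective) sq2 hcS
  -- joint monicity
  have hjm : ∀ ⦃Z : Sp S⦄ (u v : Z ⟶ pullback c₀ fstA),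
      u ≫ pullback.fst c₀ fstA = v ≫ pullback.fst c₀ fstA →
      u ≫ pullback.snd c₀ fstA ≫ sndA = v ≫ pullback.snd c₀ fstA ≫ sndA → u = v := by
    intro Z u v e1 e2
    refine sq2.hom_ext e1 ?_
    apply ObjectProperty.hom_ext
    apply sq.hom_ext
    · have e3 : (u ≫ pullback.snd c₀ fstA) ≫ fstA = (v ≫ pullback.snd c₀ fstA) ≫ fstA := by
        rw [Category.assoc, Category.assoc, ← sq2.w, ← Category.assoc, e1, Category.assoc]
      exact congrArg (fun w => w.hom) e3
    · have e4 : (u ≫ pullback.snd c₀ fstA) ≫ sndA = (v ≫ pullback.snd c₀ fstA) ≫ sndA := by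
        rw [Category.assoc, Category.assoc, e2]
      exact congrArg (fun w => w.hom) e4
  obtain ⟨G, ⟨e⟩⟩ := exists_iso_yon_of_jointly_mono_of_lft (pullback.fst c₀ fstA)
    (pullback.snd c₀ fstA ≫ sndA) hjm hA'' (by
      intro U₁ c₁ x hc₁ _ hx2
      have h3 : RepWith @Etale ((c₁ ≫ pullback.snd c₀ fstA) ≫ sndA) :=
        het _ ((RepWith @Etale).comp_mem _ _ hc₁ hεE)
      rw [Category.assoc, hx2] at h3
      have h4 : Etale (x ≫ prod.snd).left := (repWith_yon_map_iff _ _).1 h3
      rw [Over.comp_left] at h4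
      exact locallyOfFiniteType_of_comp x.left (prod.snd : U₀ ⨯ T ⟶ T).left)
  obtain ⟨σ, hσ⟩ := (yon S).map_surjective (e.hom ≫ pullback.snd c₀ fstA ≫ sndA)
  obtain ⟨lG, hlG⟩ := (yon S).map_surjective (e.hom ≫ pullback.fst c₀ fstA)
  have hE' : RepWith @Etale (e.hom ≫ pullback.snd c₀ fstA) :=
    MorphismProperty.RespectsIso.precomp _ _ _ hεE
  have hS' : RepWith @Surjective (e.hom ≫ pullback.snd c₀ fstA) :=
    MorphismProperty.RespectsIso.precomp _ _ _ hεS
  have hcomp : (e.hom ≫ pullback.snd c₀ fstA) ≫ sndA = (yon S).map σ := by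
    rw [Category.assoc, hσ]
  -- the pullback square of presheaves
  have sq2' := sq2.map (sheafToPresheaf (J S) (Type (u + 1)))
  have sqB : IsPullback (pullback.fst c₀ fstA).hom
      ((pullback.snd c₀ fstA).hom ≫ pullback.snd p ξ) (c₀.hom ≫ p) ξ := sq2'.paste_vert sq
  have sqC : IsPullback ((pyon S).map lG) ((pyon S).map σ) (c₀.hom ≫ p) ξ := by
    have h5 : (pyon S).map lG = e.hom.hom ≫ (pullback.fst c₀ fstA).hom :=
      congrArg (fun w => w.hom) hlG
    have h6 : (pyon S).map σ = e.hom.hom ≫ (pullback.snd c₀ fstA).hom ≫ pullback.snd p ξ :=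
      congrArg (fun w => w.hom) hσ
    rw [h5, h6]
    have hiso : IsIso e.hom.hom :=
      inferInstanceAs (IsIso ((sheafToPresheaf (J S) (Type (u + 1))).map e.hom))
    have sqL : IsPullback e.hom.hom
        (e.hom.hom ≫ (pullback.snd c₀ fstA).hom ≫ pullback.snd p ξ)
        ((pullback.snd c₀ fstA).hom ≫ pullback.snd p ξ) (𝟙 _) :=
      IsPullback.of_horiz_isIso ⟨by simp⟩
    have := sqL.paste_horiz sqB
    rwa [Category.id_comp] at this
  refine ⟨G, (pyon S).map lG, σ, sqC, ?_, ?_⟩
  · have h3 := het _ hE'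
    rw [hcomp] at h3
    exact (repWith_yon_map_iff _ _).1 h3
  · refine ⟨fun t => ?_⟩
    obtain ⟨y, hy⟩ := hsurj (Points.ofScheme T t)
    obtain ⟨u, rfl⟩ := Groth.Agent.H53.exists_ofPt_eq_of_repWith_surjective _ hS' y
    refine ⟨u, ?_⟩
    rw [Points.map_ofPt, hcomp] at hy
    have := congrArg (Points.toScheme T) hy
    rwa [Points.toScheme_ofPt, Points.toScheme_ofScheme] at this

end Groth.Agent.H65.EtSheafSp
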