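import Groth.Agent.H65.AlgStGraph

/-!
# The graph `𝒳 ⟶ 𝒳 ×_𝒯 𝒴` of a morphism over `𝒯` has every property the diagonal of `𝒴 ⟶ 𝒯` has
-/

set_option autoImplicit false
universe v₂ u₂ v₃ u₃ v₅ u₅ u
open CategoryTheory CategoryTheory.Limits AlgebraicGeometry Opposite

namespace Groth.Agent.H65.AlgStGraph

open AlgSt Groth.Agent.H32 Groth.Agent.H64

variable {S : Scheme.{u}} {𝒳 : BasedCategory.{v₂, u₂} (Over S)} {𝒴 : BasedCategory.{v₃, u₃} (Over S)}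
  {𝒯 : BasedCategory.{v₅, u₅} (Over S)}
  (P : MorphismProperty (AlgSp.Sp S))

/-- the graph `𝒳 ⟶ 𝒳 ×_𝒯 𝒴` has every property `P` the diagonal of `q : 𝒴 ⟶ 𝒯` has -/
theorem repByAlgSpWith_graph (h𝒳 : FibCat.IsFibGrpd 𝒳.p) (h𝒴 : FibCat.IsFibGrpd 𝒴.p)
    (h𝒯 : FibCat.IsFibGrpd 𝒯.p)
    (p : 𝒳 ⥤ᵇ 𝒯) (q : 𝒴 ⥤ᵇ 𝒯) (g : 𝒳 ⥤ᵇ 𝒴)
    (e : BasedFunctor.comp (BasedFunctor.id 𝒳) p ≅ BasedFunctor.comp g q)
    (h : RepByAlgSpWith P (FibCat.diag q)) :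
    RepByAlgSpWith P (FibCat.fpLift (BasedFunctor.id 𝒳) g e) := by
  have h1 : RepByAlgSpWith P (FibCat.fpFst (graphM p q g e) (FibCat.diag q)) :=
    repByAlgSpWith_fpFst P (FibCat.diag q) (graphM p q g e) h
  exact repByAlgSpWith_of_square P (FibCat.fpFst (graphM p q g e) (FibCat.diag q))
    (graph p q g e) (graphΛ p q g e) (BasedFunctor.id _)
    (isEquivOver_graphΛ p q g e h𝒳 h𝒴 h𝒯) (isEquivOver_id _) (Iso.refl _) h1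

end Groth.Agent.H65.AlgStGraph
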