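import Groth.Agent.H65.AlgStSection
import Groth.Agent.H64.Psh.OverCatRep
import Groth.Agent.H64.Stk.FpSwap

/-!
# Equivalences over the base are representable by algebraic spaces with every property of identities
-/

set_option autoImplicit false
universe v₂ u₂ v₃ u₃ u
open CategoryTheory CategoryTheory.Limits AlgebraicGeometry Opposite

namespace Groth.Agent.H65.AlgStEquivP

open AlgSt Groth.Agent.H32 Groth.Agent.H64 Groth.Agent.H64.FpRep Groth.Agent.H65.AlgStSection

variable {S : Scheme.{u}}

theorem spMapOfOver_toOverCat (U : Over S) : spMapOfOver (toOverCat U) = 𝟙 _ := by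
  apply ObjectProperty.hom_ext
  ext T x
  obtain ⟨T⟩ := T
  apply ULift.ext
  show secHom (toOverCat U) ⟨T, x⟩ = x.down
  exact Category.id_comp _

variable {𝒳 : BasedCategory.{v₂, u₂} (Over S)} {𝒴 : BasedCategory.{v₃, u₃} (Over S)}
  (P : MorphismProperty (AlgSp.Sp S))

/-- the identity functor has every property `P` that identities of representable sheaves have -/
theorem repByAlgSpWith_id (hP : ∀ U : Over S, P (𝟙 ((AlgSp.yon S).obj U))) :
    RepByAlgSpWith P (BasedFunctor.id 𝒴) := by
  intro U y
  refine ⟨yonSpace U, BasedFunctor.comp (toOverCat U)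
    (BasedFunctor.comp (secB y) (fpSwap (BasedFunctor.id 𝒴) y)),
    isEquivOver_comp (isEquivOver_toOverCat U)
      (isEquivOver_comp (isEquivOver_secB y) (isEquivOver_fpSwap _ _)), ?_⟩
  show P (spMapOfOver (toOverCat U))
  rw [spMapOfOver_toOverCat]
  exact hP U

/-- an equivalence over the base has every property `P` that identities of representable sheaves
have -/
theorem repByAlgSpWith_of_isEquivOver (hP : ∀ U : Over S, P (𝟙 ((AlgSp.yon S).obj U)))
    (a : 𝒳 ⥤ᵇ 𝒴) (ha : FibCat.IsEquivOver a) : RepByAlgSpWith P a :=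
  repByAlgSpWith_of_square P (BasedFunctor.id 𝒴) a a (BasedFunctor.id 𝒴) ha (isEquivOver_id _)
    (Iso.refl _) (repByAlgSpWith_id P hP)

end Groth.Agent.H65.AlgStEquivP
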