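import Groth.Agent.H1.Descent
import Mathlib.AlgebraicGeometry.Morphisms.QuasiFinite
import Mathlib.AlgebraicGeometry.Pullbacks
import Mathlib.RingTheory.LocalRing.ResidueField.Fiber

/-!
# Locally quasi-finite morphisms and the self fibre product

If the first projection `X ×_Y X ⟶ X` of a morphism `j : X ⟶ Y` of schemes is locally quasi-finite
then so is `j`.
-/

set_option autoImplicit false

universe u

open CategoryTheory CategoryTheory.Limits AlgebraicGeometry MorphismProperty

namespace Groth.Agent.H65.LqfSelf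

open TensorProduct in
theorem quasiFinite_of_tensorProduct_self {A B : Type*} [CommRing A] [CommRing B] [Algebra A B]
    [H : Algebra.QuasiFinite B (B ⊗[A] B)] : Algebra.QuasiFinite A B := by
  refine ⟨fun p hp ↦ ?_⟩
  by_cases hex : ∃ P : PrimeSpectrum B, P.asIdeal.under A = p
  · obtain ⟨P, hPp⟩ := hex
    have : P.asIdeal.LiesOver p := ⟨hPp.symm⟩
    let := Localization.AtPrime.algebraOfLiesOver p P.asIdeal
    let e : P.asIdeal.Fiber (B ⊗[A] B) ≃ₐ[P.asIdeal.ResidueField]
        P.asIdeal.ResidueField ⊗[p.ResidueField] (p.Fiber B) :=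
      (Algebra.TensorProduct.cancelBaseChange _ _ _ _ _).trans
        (Algebra.TensorProduct.cancelBaseChange _ _ _ _ _).symm
    have h1 : Module.Finite P.asIdeal.ResidueField (P.asIdeal.Fiber (B ⊗[A] B)) := inferInstance
    have h2 : Module.Finite P.asIdeal.ResidueField
        (P.asIdeal.ResidueField ⊗[p.ResidueField] (p.Fiber B)) :=
      .of_surjective e.toLinearMap e.surjective
    exact Module.Finite.of_finite_tensorProduct_of_faithfullyFlat P.asIdeal.ResidueField
  · have hE : IsEmpty (PrimeSpectrum (p.Fiber B)) := by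
      refine ⟨fun q => hex ?_⟩
      obtain ⟨⟨P, hP⟩, -⟩ := (PrimeSpectrum.preimageEquivFiber A B ⟨p, hp⟩).surjective q
      exact ⟨P, congrArg PrimeSpectrum.asIdeal hP⟩
    have : Subsingleton (p.Fiber B) := PrimeSpectrum.isEmpty_iff_subsingleton.mp hE
    infer_instance

/-- the hypothesis passes to open subschemes of source and target -/
theorem fst_self_of_square {X' Y' X Y : Scheme.{u}} (j' : X' ⟶ Y') (j : X ⟶ Y) (ι : X' ⟶ X)
    (c : Y' ⟶ Y) [IsOpenImmersion ι] [Mono c] (w : j' ≫ c = ι ≫ j)
    (h : LocallyQuasiFinite (pullback.fst j j)) : LocallyQuasiFinite (pullback.fst j' j') := by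
  have h1 : pullback.map j' j' j j ι ι c w w ≫ pullback.fst j j = pullback.fst j' j' ≫ ι :=
    pullback.lift_fst _ _ _
  have h2 : LocallyQuasiFinite (pullback.map j' j' j j ι ι c w w ≫ pullback.fst j j) :=
    inferInstance
  rw [h1] at h2
  exact LocallyQuasiFinite.of_comp _ ι

set_option backward.isDefEq.respectTransparency false in
/-- if the first projection `X ×_Y X ⟶ X` is locally quasi-finite then so is `X ⟶ Y` -/
theorem locallyQuasiFinite_of_fst_self {X Y : Scheme.{u}} (j : X ⟶ Y)
    (h : LocallyQuasiFinite (pullback.fst j j)) : LocallyQuasiFinite j := by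
  change id _
  wlog hY : ∃ R, Y = Spec R
  · refine (IsZariskiLocalAtTarget.iff_of_openCover Y.affineCover).mpr fun i ↦
      this (pullback.snd j (Y.affineCover.f i)) (fst_self_of_square _ j (pullback.fst _ _)
        (Y.affineCover.f i) pullback.condition.symm h) ⟨_, rfl⟩
  obtain ⟨R, rfl⟩ := hY
  wlog hX : ∃ S, X = Spec S
  · refine (IsZariskiLocalAtSource.iff_of_openCover X.affineCover).mpr fun i ↦
      this _ (X.affineCover.f i ≫ j) (fst_self_of_square _ j (X.affineCover.f i) (𝟙 _)
        (by simp) h) ⟨_, rfl⟩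
  obtain ⟨S, rfl⟩ := hX
  obtain ⟨φ, rfl⟩ := Spec.map_surjective j
  algebraize [φ.hom]
  simp only [HasRingHomProperty.Spec_iff, id_eq]
  have h' : LocallyQuasiFinite (Spec.map (CommRingCat.ofHom
      (Algebra.TensorProduct.includeLeftRingHom : S →+* TensorProduct R S S))) := by
    rw [← pullbackSpecIso_inv_fst]
    have : LocallyQuasiFinite (pullback.fst (Spec.map (CommRingCat.ofHom (algebraMap R S)))
        (Spec.map (CommRingCat.ofHom (algebraMap R S)))) := h
    infer_instance
  rw [HasRingHomProperty.Spec_iff (P := @LocallyQuasiFinite)] at h'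
  have h'' : Algebra.QuasiFinite S (TensorProduct R S S) := by
    rw [← RingHom.quasiFinite_algebraMap]
    exact h'
  have := quasiFinite_of_tensorProduct_self (A := R) (B := S)
  rw [← RingHom.quasiFinite_algebraMap] at this
  exact this

end Groth.Agent.H65.LqfSelf
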