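import Groth.Agent.H64.Et.RepAt
import Groth.Agent.H64.OverMapRep
import Groth.Agent.H64.Psh.PCompare
import Groth.Agent.H65.AlgStChartCalc
import Groth.Agent.H65.AlgStEquivP
import Groth.Agent.H65.LqfSelf
import Groth.Agent.S10541

/-!
# Locally quasi-finite morphisms of stacks and the self fibre product

A functor `g : 𝒳 ⟶ 𝒲` representable by algebraic spaces and locally of finite type, whose base
change `𝒳 ×_𝒲 𝒳 ⟶ 𝒳` along itself is locally quasi-finite, is locally quasi-finite.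
-/

set_option autoImplicit false
open CategoryTheory CategoryTheory.Limits AlgebraicGeometry Opposite
universe u

namespace Groth.Agent.H65.AlgStLqfSelf

open AlgSt Groth.Agent.H32 Groth.Agent.H64 Groth.Agent.H64.PTh Groth.Agent.H64.FpRep
  Groth.Agent.H64.Recog Groth.Agent.H64.Et Groth.Agent.H65.AlgStChartCalc

variable {S : Scheme.{u}}

theorem calc_lqf :
    Calc (AlgSp.LocP (S := S) (@LocallyQuasiFinite ⊓ @LocallyOfFiniteType)) :=
  calc_locP Groth.Agent.H50.goodClass_lqf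
    (isLocalOnBase_fppf_of_fpqc (Groth.Agent.S10541.result S).1)

/-- pointwise form of the composition lemma -/
theorem repAt_comp {P : MorphismProperty (AlgSp.Sp S)} {𝒳 𝒴 𝒵 : AlgSt.Cat S}
    (h𝒳 : FibCat.IsFibGrpd 𝒳.p) (h𝒴 : FibCat.IsFibGrpd 𝒴.p)
    (hPb : StableBC P)
    (hPc : ∀ ⦃X Y Z : AlgSp.Sp S⦄, AlgSp.IsAlgSpace X → AlgSp.IsAlgSpace Y → AlgSp.IsAlgSpace Z →
      ∀ (a : X ⟶ Y) (b : Y ⟶ Z), P a → P b → P (a ≫ b))
    (hP : AlgSp.IsLocalOnBase AlgSp.IsFppfCover P)
    (f : 𝒳 ⥤ᵇ 𝒴) (g : 𝒴 ⥤ᵇ 𝒵) (hf : RepByAlgSpWith P f) {U : Over S}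
    (z : FibCat.overCat U ⥤ᵇ 𝒵) (hg : RepAt P g z) :
    RepAt P (BasedFunctor.comp f g) z := by
  obtain ⟨G₀, eg, heg, hPb₀⟩ := hg
  obtain ⟨V, a, e, he, ⟨α⟩, hPa⟩ := hasP_of_repByAlgSpWith h𝒳 h𝒴 hPb hP f hf G₀
    (BasedFunctor.comp eg (FibCat.fpSnd z g))
  obtain ⟨Ψ, hΨ, hΨ1⟩ := isEquivOver_fpMap_left f (FibCat.fpSnd z g) eg heg
  obtain ⟨e', he', h1⟩ := exists_equiv_spMapOfOver_eq (fpPaste₂ f g z) (isEquivOver_fpPaste₂ f g z)
    (BasedFunctor.comp (FibCat.fpFst (FibCat.fpSnd z g) f) (FibCat.fpFst z g))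
    (BasedFunctor.comp e Ψ) (isEquivOver_comp he hΨ)
  refine ⟨V, e', he', ?_⟩
  have h0 : BasedFunctor.comp e' (FibCat.fpFst z (BasedFunctor.comp f g)) =
      BasedFunctor.comp e' (BasedFunctor.comp (fpPaste₂ f g z)
        (BasedFunctor.comp (FibCat.fpFst (FibCat.fpSnd z g) f) (FibCat.fpFst z g))) := rfl
  have h2 : BasedFunctor.comp (BasedFunctor.comp e Ψ)
      (BasedFunctor.comp (FibCat.fpFst (FibCat.fpSnd z g) f) (FibCat.fpFst z g)) =
      BasedFunctor.comp (BasedFunctor.comp e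
        (FibCat.fpFst (BasedFunctor.comp eg (FibCat.fpSnd z g)) f))
        (BasedFunctor.comp eg (FibCat.fpFst z g)) :=
    congrArg (fun t => BasedFunctor.comp e (BasedFunctor.comp t (FibCat.fpFst z g))) hΨ1
  have h3 : spMapOfOver (F := V.obj) (U := U) (BasedFunctor.comp (BasedFunctor.comp e
        (FibCat.fpFst (BasedFunctor.comp eg (FibCat.fpSnd z g)) f))
        (BasedFunctor.comp eg (FibCat.fpFst z g))) =
      spMapOfOver (F := V.obj) (U := U) (BasedFunctor.comp (ofSpMap a.hom)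
        (BasedFunctor.comp eg (FibCat.fpFst z g))) :=
    spMapOfOver_eq_of_hom (BasedCategory.whiskerRight α.hom
      (BasedFunctor.comp eg (FibCat.fpFst z g)))
  have h4 : spMapOfOver (F := V.obj) (U := U)
      (BasedFunctor.comp e' (FibCat.fpFst z (BasedFunctor.comp f g))) =
      a.hom ≫ spMapOfOver (BasedFunctor.comp eg (FibCat.fpFst z g)) :=
    (congrArg (spMapOfOver (F := V.obj) (U := U)) h0).trans
      (h1.trans ((congrArg (spMapOfOver (F := V.obj) (U := U)) h2).trans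
        (h3.trans (spMapOfOver_ofSpMap_comp a.hom _))))
  rw [h4]
  exact hPc V.property G₀.property (AlgSp.IsAlgSpace.yon_obj U) _ _ hPa hPb₀

/-- the section map of `toOverCat ⋙ overMap h` is `h` -/
theorem spMapOfOver_toOverCat_overMap {A T : Over S} (h : A ⟶ T) :
    spMapOfOver (BasedFunctor.comp (toOverCat A) (AlgSt.overMap h)) = (AlgSp.yon S).map h := by
  have h1 : BasedFunctor.comp (toOverCat A) (AlgSt.overMap h) =
      BasedFunctor.comp (ofSpMap ((AlgSp.yon S).map h)) (toOverCat T) := rfl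
  rw [h1, spMapOfOver_ofSpMap_comp, Groth.Agent.H65.AlgStEquivP.spMapOfOver_toOverCat,
    Category.comp_id]

/-- if the base change of `h` along itself has `Q` as a functor between slices, the first
projection of `A ×_T A` has `Q` -/
theorem prop_fst_of_repAt_self (Q : MorphismProperty (AlgSp.Sp S)) [Q.RespectsIso] {A T : Over S}
    (h : A ⟶ T) (hr : RepAt Q (AlgSt.overMap h) (AlgSt.overMap h)) :
    Q ((AlgSp.yon S).map (pullback.fst h h)) := by
  obtain ⟨F', e', he', hQ⟩ := hr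
  let E : ofSp ((AlgSp.yon S).obj (pullback h h)) ⥤ᵇ
      FibCat.fp (AlgSt.overMap h) (AlgSt.overMap h) :=
    BasedFunctor.comp (toOverCat (pullback h h)) (ovPbLift h h)
  have hE : FibCat.IsEquivOver E :=
    isEquivOver_comp (isEquivOver_toOverCat _) (isEquivOver_ovPbLift h h)
  obtain ⟨ψ, hψ, hcomp⟩ := exists_iso_spMapOfOver
    (FibCat.fpFst (AlgSt.overMap h) (AlgSt.overMap h)) e' he' E
  have : IsIso ψ := hψ hE
  have h1 : Q (spMapOfOver (BasedFunctor.comp E
      (FibCat.fpFst (AlgSt.overMap h) (AlgSt.overMap h)))) := by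
    rw [hcomp]
    exact (Q.cancel_left_of_respectsIso ψ _).2 hQ
  have h2 : BasedFunctor.comp E (FibCat.fpFst (AlgSt.overMap h) (AlgSt.overMap h)) =
      BasedFunctor.comp (toOverCat (pullback h h)) (AlgSt.overMap (pullback.fst h h)) := rfl
  rw [h2, spMapOfOver_toOverCat_overMap] at h1
  exact h1

set_option backward.isDefEq.respectTransparency false in
/-- scheme form: `h` is locally quasi-finite as soon as the first projection of `A ×_T A` (in
schemes over `S`) is -/
theorem locallyQuasiFinite_of_over {A T : Over S} (h : A ⟶ T)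
    (hq : LocallyQuasiFinite (pullback.fst h h).left) : LocallyQuasiFinite h.left := by
  apply Groth.Agent.H65.LqfSelf.locallyQuasiFinite_of_fst_self
  have e := PreservesPullback.iso_hom_fst (Over.forget S) h h
  have h1 : LocallyQuasiFinite ((PreservesPullback.iso (Over.forget S) h h).hom ≫
      pullback.fst ((Over.forget S).map h) ((Over.forget S).map h)) := by
    rw [e]
    exact hq
  exact (MorphismProperty.cancel_left_of_respectsIso @LocallyQuasiFinite _ _).1 h1

set_option backward.isDefEq.respectTransparency false in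
theorem repWith_etale_id (T : Over S) : AlgSp.RepWith @Etale (𝟙 ((AlgSp.yon S).obj T)) :=
  AlgSp.repWith_id _ T

/-- a functor representable by algebraic spaces and locally of finite type whose base change along
itself is locally quasi-finite is locally quasi-finite -/
theorem repByAlgSpWith_lqf_of_fpFst_self {𝒳 𝒲 : AlgSt.Cat S} (g : 𝒳 ⥤ᵇ 𝒲)
    (hlft : RepByAlgSpWith (AlgSp.LocP @LocallyOfFiniteType) g)
    (hself : RepByAlgSpWith (AlgSp.LocP (@LocallyQuasiFinite ⊓ @LocallyOfFiniteType))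
      (FibCat.fpFst g g)) :
    RepByAlgSpWith (AlgSp.LocP (@LocallyQuasiFinite ⊓ @LocallyOfFiniteType)) g := by
  intro T t
  obtain ⟨F, e, he, -⟩ := hlft T t
  refine ⟨F, e, he, ?_⟩
  have hQi := locP_respectsIso (S := S) (@LocallyQuasiFinite ⊓ @LocallyOfFiniteType)
  have hLi := locP_respectsIso (S := S) @LocallyOfFiniteType
  obtain ⟨A, p, hpE, hpS⟩ := F.property.atlas
  let s : FibCat.overCat A ⥤ᵇ ofSp F.obj := ofSection (uliftYonedaEquiv.{u+1} p.hom)
  let Φ : ofSp F.obj ⥤ᵇ FibCat.overCat T := BasedFunctor.comp e (FibCat.fpFst t g)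
  let t₁ : FibCat.overCat A ⥤ᵇ FibCat.overCat T := BasedFunctor.comp s Φ
  let z : FibCat.overCat A ⥤ᵇ 𝒳 := BasedFunctor.comp s (BasedFunctor.comp e (FibCat.fpSnd t g))
  have ι : BasedFunctor.comp t₁ t ≅ BasedFunctor.comp z g :=
    bwlIso (BasedFunctor.comp s e) (FibCat.fpIso t g)
  have hF : FibCat.IsFibGrpd (ofSp F.obj).p := Stk.isFibGrpd_ofPsh _
  have hA : FibCat.IsFibGrpd (FibCat.overCat A).p := (isFibSetoid_overCat A).1
  obtain ⟨h, ⟨γ⟩, hh⟩ := exists_overMap t₁
  -- the chart square commutes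
  have comm : p ≫ spMapOfOver Φ = (AlgSp.yon S).map h ≫ 𝟙 _ := by
    rw [Category.comp_id, ← spMapOfOver_toOverCat_overMap h, ← spMapOfOver_ofSpMap_comp]
    obtain ⟨β⟩ := nonempty_ofSection_iso p
    have β' : BasedFunctor.comp (toOverCat A) (AlgSt.overMap h) ≅
        BasedFunctor.comp (ofSpMap p) Φ :=
      (bwlIso (toOverCat A) γ.symm) ≪≫ bwlIso (toOverCat A) (bwrIso β Φ)
    exact (spMapOfOver_eq_of_hom β'.hom).symm
  -- `h` is locally of finite type
  have hΦl : RepByAlgSpWith (AlgSp.LocP @LocallyOfFiniteType) Φ :=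
    Groth.Agent.H65.AlgStImmNoeth.repByAlgSpWith_equiv_comp _ e he _
      (repByAlgSpWith_fpFst _ g t hlft)
  have ht₁l : RepByAlgSpWith (AlgSp.LocP @LocallyOfFiniteType) t₁ :=
    calc_lft.comp' hA hF s Φ (calc_lft.atl F A p hpE hpS) hΦl
  have hlfth : LocallyOfFiniteType h.left := AlgSp.locP_yon_map (hh _ ht₁l)
  -- `h` is locally quasi-finite
  have r1 : RepAt (AlgSp.LocP (@LocallyQuasiFinite ⊓ @LocallyOfFiniteType)) (FibCat.fpFst g g) z :=
    hself A z
  have r2 := (repAt_fpFst_iff _ g g z).1 r1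
  have r3 : RepAt (AlgSp.LocP (@LocallyQuasiFinite ⊓ @LocallyOfFiniteType)) g
      (BasedFunctor.comp t₁ t) := repAt_of_iso _ g ι.symm r2
  have r4 := (repAt_fpFst_iff _ g t t₁).2 r3
  have r5 : RepAt (AlgSp.LocP (@LocallyQuasiFinite ⊓ @LocallyOfFiniteType)) Φ t₁ :=
    (repAt_of_square _ (FibCat.fpFst t g) Φ e (BasedFunctor.id _) he (isEquivOver_id _)
      (Iso.refl _) t₁).2 r4
  have r6 : RepAt (AlgSp.LocP (@LocallyQuasiFinite ⊓ @LocallyOfFiniteType)) t₁ t₁ :=
    repAt_comp hA hF calc_lqf.bc calc_lqf.comp calc_lqf.loc s Φ (calc_lqf.atl F A p hpE hpS) t₁ r5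
  have r7 : RepAt (AlgSp.LocP (@LocallyQuasiFinite ⊓ @LocallyOfFiniteType)) (AlgSt.overMap h)
      t₁ :=
    (repAt_of_square _ t₁ (AlgSt.overMap h) (BasedFunctor.id _) (BasedFunctor.id _)
      (isEquivOver_id _) (isEquivOver_id _) γ.symm t₁).2 r6
  have r8 : RepAt (AlgSp.LocP (@LocallyQuasiFinite ⊓ @LocallyOfFiniteType)) (AlgSt.overMap h)
      (AlgSt.overMap h) := repAt_of_iso _ _ γ r7
  have r9 := prop_fst_of_repAt_self _ h r8
  have r10 : (@LocallyQuasiFinite ⊓ @LocallyOfFiniteType : MorphismProperty Scheme.{u})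
      (pullback.fst h h).left := AlgSp.locP_yon_map r9
  have hlqfh : LocallyQuasiFinite h.left := locallyQuasiFinite_of_over h r10.1
  exact Groth.Agent.H50.goodClass_lqf.locP_of_one_chart (spMapOfOver Φ) p (𝟙 _) h hpE hpS
    (repWith_etale_id T) comm ⟨hlqfh, hlfth⟩

end Groth.Agent.H65.AlgStLqfSelf
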