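import Mathlib

/-!
# Kernel of the evaluation `P[t] → K`, `t ↦ τ`, when `τ` is a fraction

Let `ψ : P → K` be a ring hom and `τ ∈ K` with relations `ψ u * τ = ψ v` for `(u, v)`
in a set `Rel`.  If for a distinguished relation `(u1, v1)` the element `v1` is
regular modulo `ker ψ + (u : (u, v) ∈ Rel)`, then the kernel of `eval₂ ψ τ` is generated by
`ker ψ` and the linear polynomials `u t - v`.
-/

namespace Groth.Agent.H65

open Polynomial

theorem ker_eval₂_adjoin {P K : Type*} [CommRing P] [CommRing K]
    (ψ : P →+* K) (τ : K) (Rel : Set (P × P))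
    (hrel : ∀ uv ∈ Rel, ψ uv.1 * τ = ψ uv.2)
    (u1 v1 : P) (h1 : (u1, v1) ∈ Rel)
    (hreg : ∀ r : P, r * v1 ∈ RingHom.ker ψ ⊔ Ideal.span (Prod.fst '' Rel) →
      r ∈ RingHom.ker ψ ⊔ Ideal.span (Prod.fst '' Rel)) :
    RingHom.ker (eval₂RingHom ψ τ) =
      Ideal.map C (RingHom.ker ψ) ⊔
        Ideal.span ((fun uv : P × P => C uv.1 * X - C uv.2) '' Rel) := by
  set 𝔎 : Ideal P[X] := Ideal.map C (RingHom.ker ψ) ⊔
        Ideal.span ((fun uv : P × P => C uv.1 * X - C uv.2) '' Rel) with h𝔎
  set 𝔓 : Ideal P := RingHom.ker ψ ⊔ Ideal.span (Prod.fst '' Rel) with h𝔓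
  have hle : 𝔎 ≤ RingHom.ker (eval₂RingHom ψ τ) := by
    refine sup_le ?_ ?_
    · rw [Ideal.map_le_iff_le_comap]
      intro r hr
      rw [RingHom.mem_ker] at hr
      simp [Ideal.mem_comap, RingHom.mem_ker, hr]
    · rw [Ideal.span_le]
      rintro _ ⟨uv, huv, rfl⟩
      simp [RingHom.mem_ker, hrel uv huv]
  refine le_antisymm ?_ hle
  have hregpow : ∀ (m : ℕ) (r : P), r * v1 ^ m ∈ 𝔓 → r ∈ 𝔓 := by
    intro m
    induction m with
    | zero => intro r hr; simpa using hr
    | succ m ih =>
      intro r hr
      apply ih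
      apply hreg
      rwa [mul_assoc, ← pow_succ]
  have key : ∀ (n : ℕ) (p : P[X]), p.natDegree ≤ n → eval₂ ψ τ p = 0 → p ∈ 𝔎 := by
    intro n
    induction n with
    | zero =>
      intro p hp h0
      rw [eq_C_of_natDegree_le_zero hp] at h0 ⊢
      rw [eval₂_C] at h0
      exact Ideal.mem_sup_left (Ideal.mem_map_of_mem C (RingHom.mem_ker.2 h0))
    | succ n ih =>
      intro p hp h0
      -- the leading coefficient lies in 𝔓
      have ha : p.coeff (n + 1) ∈ 𝔓 := by
        apply hregpow (n + 1)
        set s : P := ∑ k ∈ Finset.range (n + 2), p.coeff k * u1 ^ (n + 1 - k) * v1 ^ k with hs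
        have hs0 : ψ s = 0 := by
          have e1 : ψ s = ψ u1 ^ (n + 1) * eval₂ ψ τ p := by
            rw [eval₂_eq_sum_range' ψ (n := n + 2) (by omega) τ, hs, map_sum, Finset.mul_sum]
            refine Finset.sum_congr rfl fun k hk => ?_
            have hk' : k ≤ n + 1 := by
              have := Finset.mem_range.1 hk; omega
            rw [map_mul, map_mul, map_pow, map_pow, ← hrel _ h1, mul_pow]
            have : ψ u1 ^ (n + 1) = ψ u1 ^ (n + 1 - k) * ψ u1 ^ k := by
              rw [← pow_add]; congr 1; omega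
            rw [this]; ring
          rw [e1, h0, mul_zero]
        have hsplit : p.coeff (n + 1) * v1 ^ (n + 1) =
            s - u1 * ∑ k ∈ Finset.range (n + 1), p.coeff k * u1 ^ (n - k) * v1 ^ k := by
          rw [hs, Finset.sum_range_succ, Finset.mul_sum]
          have : ∑ k ∈ Finset.range (n + 1), p.coeff k * u1 ^ (n + 1 - k) * v1 ^ k =
              ∑ k ∈ Finset.range (n + 1), u1 * (p.coeff k * u1 ^ (n - k) * v1 ^ k) := by
            refine Finset.sum_congr rfl fun k hk => ?_
            have hk' : k ≤ n := by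
              have := Finset.mem_range.1 hk; omega
            have : n + 1 - k = (n - k) + 1 := by omega
            rw [this, pow_succ]; ring
          rw [this]; simp
        rw [hsplit]
        refine sub_mem (Ideal.mem_sup_left (RingHom.mem_ker.2 hs0)) ?_
        refine Ideal.mul_mem_right _ _ (Ideal.mem_sup_right (Ideal.subset_span ?_))
        exact ⟨(u1, v1), h1, rfl⟩
      -- the ideal of leading coefficients of elements of 𝔎 of degree ≤ n+1
      let 𝔏 : Ideal P :=
        { carrier := {a | ∃ g ∈ 𝔎, g.natDegree ≤ n + 1 ∧ g.coeff (n + 1) = a}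
          add_mem' := by
            rintro a b ⟨g, hg, hgd, rfl⟩ ⟨g', hg', hgd', rfl⟩
            exact ⟨g + g', add_mem hg hg', (natDegree_add_le _ _).trans (max_le hgd hgd'),
              coeff_add _ _ _⟩
          zero_mem' := ⟨0, zero_mem _, by simp, by simp⟩
          smul_mem' := by
            rintro c a ⟨g, hg, hgd, rfl⟩
            exact ⟨C c * g, Ideal.mul_mem_left _ _ hg, (natDegree_C_mul_le _ _).trans hgd,
              by simp⟩ }
      have h𝔏 : 𝔓 ≤ 𝔏 := by
        refine sup_le ?_ ?_
        · intro a ha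
          refine ⟨C a * X ^ (n + 1), ?_, natDegree_C_mul_X_pow_le _ _, by simp⟩
          exact Ideal.mul_mem_right _ _ (Ideal.mem_sup_left (Ideal.mem_map_of_mem C ha))
        · rw [Ideal.span_le]
          rintro _ ⟨uv, huv, rfl⟩
          refine ⟨X ^ n * (C uv.1 * X - C uv.2), ?_, ?_, ?_⟩
          · exact Ideal.mul_mem_left _ _ (Ideal.mem_sup_right (Ideal.subset_span ⟨uv, huv, rfl⟩))
          · refine (natDegree_mul_le).trans ?_
            have h1' : (C uv.1 * X - C uv.2 : P[X]).natDegree ≤ 1 := by
              refine (natDegree_sub_le _ _).trans (max_le ?_ ?_)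
              · exact (natDegree_C_mul_le _ _).trans natDegree_X_le
              · simp
            have h2' : (X ^ n : P[X]).natDegree ≤ n := natDegree_X_pow_le n
            omega
          · rw [show n + 1 = 1 + n by ring, coeff_X_pow_mul]
            simp
      obtain ⟨g, hg, hgd, hgc⟩ := h𝔏 ha
      have hpg : p - g ∈ 𝔎 := by
        apply ih
        · rw [natDegree_le_iff_coeff_eq_zero]
          intro N hN
          rcases Nat.lt_or_ge (n + 1) N with h | h
          · rw [coeff_sub, coeff_eq_zero_of_natDegree_lt (lt_of_le_of_lt hp h),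
              coeff_eq_zero_of_natDegree_lt (lt_of_le_of_lt hgd h), sub_zero]
          · have : N = n + 1 := by omega
            rw [this, coeff_sub, hgc, sub_self]
        · rw [eval₂_sub, h0, zero_sub, neg_eq_zero]
          exact RingHom.mem_ker.1 (hle hg)
      have : p = (p - g) + g := by ring
      rw [this]
      exact add_mem hpg hg
  intro p hp
  exact key p.natDegree p le_rfl (RingHom.mem_ker.1 hp)

end Groth.Agent.H65
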