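import Groth.Agent.H65.AlgStCompST

/-!
# Affine-tested properties of morphisms of algebraic spaces (affine, integral, finite) and
composition of morphisms of stacks representable by algebraic spaces with such a property
-/

set_option autoImplicit false
open CategoryTheory CategoryTheory.Limits Opposite AlgebraicGeometry
universe u

namespace Groth.Agent.H65.AlgStAffTest

open Groth.Agent.H32 Groth.Agent.H64 Groth.Agent.H64.PTh AlgSt Groth.Agent.H65.AlgStCompST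

variable {S : Scheme.{u}}

/-- morphisms of sheaves all of whose base changes to affine schemes `Z` are representable by a scheme
`W` with `i : W ⟶ Z` satisfying `R` -/
def AffTest (R : ∀ ⦃W Z : Over S⦄, (W ⟶ Z) → Prop) : MorphismProperty (AlgSp.Sp S) := fun F G f =>
  ∀ ⦃Z : Over S⦄, IsAffine Z.left → ∀ (g : (AlgSp.yon S).obj Z ⟶ G),
    ∃ (W : Over S) (i : W ⟶ Z) (fst : (AlgSp.yon S).obj W ⟶ F),
      IsPullback fst ((AlgSp.yon S).map i) f g ∧ R i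

variable (R : ∀ ⦃W Z : Over S⦄, (W ⟶ Z) → Prop)

theorem schemeTestable_affTest : SchemeTestable (AffTest R) := by
  intro V Z _ _ a h T hT g
  obtain ⟨W, i, fst, sq, hR⟩ := h T g hT (𝟙 _)
  refine ⟨W, i, fst ≫ pullback.fst a g, ?_, hR⟩
  have := sq.paste_horiz (IsPullback.of_hasPullback a g)
  simpa using this

theorem stableBC_affTest : StableBC (AffTest R) := by
  intro X₁ Y₁ X₂ Y₂ _ _ _ _ a b a' b' sq ha T hT g
  obtain ⟨W, i, fst, sq₀, hR⟩ := ha hT (g ≫ b)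
  refine ⟨W, i, sq.lift fst ((AlgSp.yon S).map i ≫ g) (by rw [sq₀.w, Category.assoc]), ?_, hR⟩
  refine IsPullback.of_right ?_ (sq.lift_snd _ _ _) sq
  rw [sq.lift_fst]
  exact sq₀

theorem comp_affTest
    (hR1 : ∀ ⦃W Z : Over S⦄ (i : W ⟶ Z), IsAffine Z.left → R i → IsAffine W.left)
    (hR2 : ∀ ⦃W₂ W₁ Z : Over S⦄ (i₂ : W₂ ⟶ W₁) (i₁ : W₁ ⟶ Z), R i₂ → R i₁ → R (i₂ ≫ i₁))
    ⦃X Y Z : AlgSp.Sp S⦄ (a : X ⟶ Y) (b : Y ⟶ Z) (ha : AffTest R a) (hb : AffTest R b) :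
    AffTest R (a ≫ b) := by
  intro T hT g
  obtain ⟨W₁, i₁, fst₁, sq₁, hR₁⟩ := hb hT g
  obtain ⟨W₂, i₂, fst₂, sq₂, hR₂⟩ := ha (hR1 i₁ hT hR₁) fst₁
  refine ⟨W₂, i₂ ≫ i₁, fst₂, ?_, hR2 i₂ i₁ hR₂ hR₁⟩
  rw [Functor.map_comp]
  exact sq₂.paste_vert sq₁

/-- composition of morphisms of stacks representable by algebraic spaces with an affine-tested
property -/
theorem repByAlgSpWith_comp_affTest
    (hR1 : ∀ ⦃W Z : Over S⦄ (i : W ⟶ Z), IsAffine Z.left → R i → IsAffine W.left)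
    (hR2 : ∀ ⦃W₂ W₁ Z : Over S⦄ (i₂ : W₂ ⟶ W₁) (i₁ : W₁ ⟶ Z), R i₂ → R i₁ → R (i₂ ≫ i₁))
    {𝒳 𝒴 𝒵 : AlgSt.Cat S} (h𝒳 : FibCat.IsFibGrpd 𝒳.p) (h𝒴 : FibCat.IsFibGrpd 𝒴.p)
    (f : 𝒳 ⥤ᵇ 𝒴) (g : 𝒴 ⥤ᵇ 𝒵) (hf : RepByAlgSpWith (AffTest R) f)
    (hg : RepByAlgSpWith (AffTest R) g) : RepByAlgSpWith (AffTest R) (BasedFunctor.comp f g) :=
  repByAlgSpWith_comp' h𝒳 h𝒴 (stableBC_affTest R)
    (fun _ _ _ _ _ _ a b ha hb => comp_affTest R hR1 hR2 a b ha hb)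
    (schemeTestable_affTest R) f g hf hg

theorem isAffineMor_eq :
    (AlgSp.IsAffineMor : MorphismProperty (AlgSp.Sp S)) = AffTest (fun W _ _ => IsAffine W.left) :=
  rfl

theorem isIntegralMor_eq :
    (AlgSp.IsIntegralMor : MorphismProperty (AlgSp.Sp S)) =
      AffTest (fun W _ i => IsAffine W.left ∧ IsIntegralHom i.left) := rfl

theorem isFiniteMor_eq :
    (AlgSp.IsFiniteMor : MorphismProperty (AlgSp.Sp S)) =
      AffTest (fun W _ i => IsAffine W.left ∧ IsFinite i.left) := rfl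

variable {𝒳 𝒴 𝒵 : AlgSt.Cat S}

theorem repByAlgSpWith_isAffineMor_comp (h𝒳 : FibCat.IsFibGrpd 𝒳.p) (h𝒴 : FibCat.IsFibGrpd 𝒴.p)
    (f : 𝒳 ⥤ᵇ 𝒴) (g : 𝒴 ⥤ᵇ 𝒵) (hf : RepByAlgSpWith AlgSp.IsAffineMor f)
    (hg : RepByAlgSpWith AlgSp.IsAffineMor g) :
    RepByAlgSpWith AlgSp.IsAffineMor (BasedFunctor.comp f g) :=
  repByAlgSpWith_comp_affTest (fun W _ _ => IsAffine W.left) (fun _ _ _ _ h => h)
    (fun _ _ _ _ _ h _ => h) h𝒳 h𝒴 f g hf hg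

theorem repByAlgSpWith_isIntegralMor_comp (h𝒳 : FibCat.IsFibGrpd 𝒳.p)
    (h𝒴 : FibCat.IsFibGrpd 𝒴.p)
    (f : 𝒳 ⥤ᵇ 𝒴) (g : 𝒴 ⥤ᵇ 𝒵) (hf : RepByAlgSpWith AlgSp.IsIntegralMor f)
    (hg : RepByAlgSpWith AlgSp.IsIntegralMor g) :
    RepByAlgSpWith AlgSp.IsIntegralMor (BasedFunctor.comp f g) :=
  repByAlgSpWith_comp_affTest (fun W _ i => IsAffine W.left ∧ IsIntegralHom i.left)
    (fun _ _ _ _ h => h.1)
    (fun _ _ _ i₂ i₁ h₂ h₁ => ⟨h₂.1, by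
      have := h₂.2
      have := h₁.2
      show IsIntegralHom (i₂.left ≫ i₁.left)
      infer_instance⟩) h𝒳 h𝒴 f g hf hg

theorem repByAlgSpWith_isFiniteMor_comp (h𝒳 : FibCat.IsFibGrpd 𝒳.p)
    (h𝒴 : FibCat.IsFibGrpd 𝒴.p)
    (f : 𝒳 ⥤ᵇ 𝒴) (g : 𝒴 ⥤ᵇ 𝒵) (hf : RepByAlgSpWith AlgSp.IsFiniteMor f)
    (hg : RepByAlgSpWith AlgSp.IsFiniteMor g) :
    RepByAlgSpWith AlgSp.IsFiniteMor (BasedFunctor.comp f g) :=
  repByAlgSpWith_comp_affTest (fun W _ i => IsAffine W.left ∧ IsFinite i.left)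
    (fun _ _ _ _ h => h.1)
    (fun _ _ _ i₂ i₁ h₂ h₁ => ⟨h₂.1, by
      have := h₂.2
      have := h₁.2
      show IsFinite (i₂.left ≫ i₁.left)
      infer_instance⟩) h𝒳 h𝒴 f g hf hg

end Groth.Agent.H65.AlgStAffTest
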