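import Groth.Agent.H65.AlgStFppfCover
import Groth.Agent.H64.FPtFp

/-!
# Chart calculus, continued: refinement with control of points; lifting objects fppf locally
-/

set_option autoImplicit false
open CategoryTheory CategoryTheory.Limits AlgebraicGeometry Opposite
universe u

namespace Groth.Agent.H65.AlgStChartCalc

open AlgSt Groth.Agent.H32 Groth.Agent.H64 Groth.Agent.H64.PTh Groth.Agent.H64.FpRep
  Groth.Agent.H64.Recog Groth.Agent.H64.Pts Groth.Agent.H65.AlgStQC5 Groth.Agent.H65.AlgStQC7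

variable {S : Scheme.{u}}

/-- `exists_refine` with control of points: every pair of points of `U`, `V` with the same image in
`𝒴` comes from a point of `A`.  The refinement is given by morphisms of schemes. -/
theorem exists_refine_pts {𝒴 : AlgSt.Cat S} (h𝒴 : FibCat.IsFibGrpd 𝒴.p) {U V : Over S}
    (c : FibCat.overCat U ⥤ᵇ 𝒴) (y : FibCat.overCat V ⥤ᵇ 𝒴) (hy : RepByAlgSp1 y) :
    ∃ (A : Over S) (k : A ⟶ U) (h : A ⟶ V),
      Nonempty (BasedFunctor.comp (AlgSt.overMap k) c ≅ BasedFunctor.comp (AlgSt.overMap h) y) ∧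
      (∀ Q : MorphismProperty (AlgSp.Sp S), Calc Q → RepByAlgSpWith Q y →
        RepByAlgSpWith Q (AlgSt.overMap k)) ∧
      (∀ Q : MorphismProperty (AlgSp.Sp S), Calc Q → RepByAlgSpWith Q c →
        RepByAlgSpWith Q (AlgSt.overMap h)) ∧
      (∀ (u : ↥U.left) (v : ↥V.left), Points.ofChart c u = Points.ofChart y v →
        ∃ a : ↥A.left, k.left a = u ∧ h.left a = v) := by
  obtain ⟨F, e, he⟩ := hy U c
  obtain ⟨A, p, hpE, hpS⟩ := F.property.atlas
  let s : FibCat.overCat A ⥤ᵇ ofSp F.obj := ofSection (uliftYonedaEquiv.{u+1} p.hom)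
  have hF : FibCat.IsFibGrpd (ofSp F.obj).p := Stk.isFibGrpd_ofPsh _
  have hA : FibCat.IsFibGrpd (FibCat.overCat A).p := (isFibSetoid_overCat A).1
  have hU : FibCat.IsFibGrpd (FibCat.overCat U).p := (isFibSetoid_overCat U).1
  have hV : FibCat.IsFibGrpd (FibCat.overCat V).p := (isFibSetoid_overCat V).1
  let t₁ : FibCat.overCat A ⥤ᵇ FibCat.overCat U :=
    BasedFunctor.comp s (BasedFunctor.comp e (FibCat.fpFst c y))
  let t₂ : FibCat.overCat A ⥤ᵇ FibCat.overCat V :=
    BasedFunctor.comp s (BasedFunctor.comp e (FibCat.fpSnd c y))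
  obtain ⟨k, ⟨γ₁⟩⟩ := exists_iso_ovMap t₁
  obtain ⟨h, ⟨γ₂⟩⟩ := exists_iso_ovMap t₂
  have ι : BasedFunctor.comp t₁ c ≅ BasedFunctor.comp t₂ y :=
    bwlIso (BasedFunctor.comp s e) (FibCat.fpIso c y)
  have hs₁ : ∀ Q : MorphismProperty (AlgSp.Sp S), Calc Q → RepByAlgSpWith Q s :=
    fun Q hQ => hQ.atl F A p hpE hpS
  refine ⟨A, k, h, ⟨bwrIso γ₁.symm c ≪≫ ι ≪≫ bwrIso γ₂ y⟩, ?_, ?_, ?_⟩
  · intro Q hQ hyQ
    have h1 : RepByAlgSpWith Q (FibCat.fpFst c y) := repByAlgSpWith_fpFst Q y c hyQ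
    have h2 : RepByAlgSpWith Q (BasedFunctor.comp e (FibCat.fpFst c y)) :=
      Groth.Agent.H65.AlgStImmNoeth.repByAlgSpWith_equiv_comp _ e he _ h1
    exact repByAlgSpWith_of_iso γ₁.symm (hQ.comp' hA hF s _ (hs₁ Q hQ) h2)
  · intro Q hQ hcQ
    have h1 : RepByAlgSpWith Q (FibCat.fpSnd c y) :=
      Groth.Agent.H65.AlgStSwap.repByAlgSpWith_fpSnd _ c y hcQ
    have h2 : RepByAlgSpWith Q (BasedFunctor.comp e (FibCat.fpSnd c y)) :=
      Groth.Agent.H65.AlgStImmNoeth.repByAlgSpWith_equiv_comp _ e he _ h1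
    exact repByAlgSpWith_of_iso γ₂.symm (hQ.comp' hA hF s _ (hs₁ Q hQ) h2)
  · intro u v huv
    obtain ⟨w, hw₁, hw₂⟩ := exists_points_fp_of_map_eq hV h𝒴 hU y c (ptU U u) (ptU V v) huv
    obtain ⟨r, rfl⟩ := (map_bijective_of_isEquivOver he).2 w
    have hss : AlgSt.IsSurjective s :=
      (isSurjective_iff_repByAlgSpWith hA hF s
        (RepByAlgSpWith.repByAlgSp1 (hs₁ _ calc_surj))).2 (hs₁ _ calc_surj)
    obtain ⟨β, rfl⟩ := hss r
    obtain ⟨a, rfl⟩ := (ptU_bijective A).2 β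
    refine ⟨a, ?_, ?_⟩
    · apply (ptU_bijective U).1
      have e1 : Points.map t₁ (ptU A a) = Points.map (AlgSt.overMap k) (ptU A a) :=
        map_eq_of_hom γ₁.hom _
      have e2 : Points.map t₁ (ptU A a) = ptU U u := by
        rw [← hw₁]
        show Points.map (BasedFunctor.comp s (BasedFunctor.comp e (FibCat.fpFst c y))) _ = _
        rw [map_comp, map_comp]
      rw [← map_overMap_ptU, ← e1, e2]
    · apply (ptU_bijective V).1
      have e1 : Points.map t₂ (ptU A a) = Points.map (AlgSt.overMap h) (ptU A a) :=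
        map_eq_of_hom γ₂.hom _
      have e2 : Points.map t₂ (ptU A a) = ptU V v := by
        rw [← hw₂]
        show Points.map (BasedFunctor.comp s (BasedFunctor.comp e (FibCat.fpSnd c y))) _ = _
        rw [map_comp, map_comp]
      rw [← map_overMap_ptU, ← e1, e2]

end Groth.Agent.H65.AlgStChartCalc
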