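import Groth.Agent.H64.DiagBCAlg

/-!
# `𝒫 ×_𝒵 𝒫 ⟶ 𝒳 ×_𝒴 𝒳` (for `𝒫 = 𝒵 ×_𝒴 𝒳`) is a base change of `g : 𝒵 ⟶ 𝒴`

The square
```
𝒫 ×_𝒵 𝒫 ---z₁---> 𝒵
|                 | g
v  diagBCq        v
𝒳 ×_𝒴 𝒳 --f∘pr₁-> 𝒴
```
is 2-cartesian (for categories fibred in groupoids).
-/

set_option autoImplicit false
open CategoryTheory CategoryTheory.Limits
universe v₅ u₅ v₄ u₄ v₃ u₃ v₂ u₂ v u

namespace Groth.Agent.H65.AlgStDiagBCq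

open Groth.Agent.H32 Groth.Agent.H64

section core

variable {C : Type u} [Category.{v} C]
variable {𝒳 : BasedCategory.{v₂, u₂} C} {𝒴 : BasedCategory.{v₃, u₃} C}
  {𝒵 : BasedCategory.{v₄, u₄} C}
variable (f : 𝒳 ⥤ᵇ 𝒴) (g : 𝒵 ⥤ᵇ 𝒴)

/-- `𝒳 ×_𝒴 𝒳 ⟶ 𝒴`, `(x₁, x₂, θ) ↦ f x₁` -/
def toBase : FibCat.fp f f ⥤ᵇ 𝒴 := BasedFunctor.comp (FibCat.fpFst f f) f

/-- `𝒫 ×_𝒵 𝒫 ⟶ 𝒵`, the `𝒵`-component of the first factor -/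
def firstZ : FibCat.fp (FibCat.fpFst g f) (FibCat.fpFst g f) ⥤ᵇ 𝒵 :=
  BasedFunctor.comp (FibCat.fpFst (FibCat.fpFst g f) (FibCat.fpFst g f)) (FibCat.fpFst g f)

theorem bcq_aux0 {D : Type*} [Category D] {A A' B B' : D} (φ : A ≅ B) (φ' : A' ≅ B')
    (gb : A ⟶ A') (fa : B ⟶ B') (w : gb ≫ φ'.hom = φ.hom ≫ fa) :
    fa ≫ φ'.inv = φ.inv ≫ gb := by
  rw [Iso.comp_inv_eq, Category.assoc, w, Iso.inv_hom_id_assoc]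

/-- the 2-isomorphism of the square -/
def bcqIso : BasedFunctor.comp (diagBCq f g) (toBase f) ≅ BasedFunctor.comp (firstZ f g) g :=
  mkBIso (fun d => d.obj.fst.obj.iso.symm)
    (fun {d d'} m => by
      show f.map m.hom.fst.hom.snd ≫ d'.obj.fst.obj.iso.inv =
        d.obj.fst.obj.iso.inv ≫ g.map m.hom.fst.hom.fst
      exact bcq_aux0 _ _ _ _ m.hom.fst.hom.w)
    (fun d => by
      have h1 : 𝒴.p.IsHomLift (𝟙 (𝒵.p.obj d.obj.fst.obj.fst)) d.obj.fst.obj.iso.hom :=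
        fp_iso_isHomLift g f d.obj.fst
      exact lift_inv_of_iso 𝒴.p d.obj.fst.obj.iso h1)

/-- the comparison functor `𝒫 ×_𝒵 𝒫 ⟶ (𝒳 ×_𝒴 𝒳) ×_𝒴 𝒵` -/
def bcqΛ : FibCat.fp (FibCat.fpFst g f) (FibCat.fpFst g f) ⥤ᵇ FibCat.fp (toBase f) g :=
  FibCat.fpLift (F := toBase f) (G := g) (diagBCq f g) (firstZ f g) (bcqIso f g)

theorem bcqΛ_comp_fpFst :
    BasedFunctor.comp (bcqΛ f g) (FibCat.fpFst (toBase f) g) = diagBCq f g := rfl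

theorem bcqΛ_faithful : (bcqΛ f g).toFunctor.Faithful := by
  refine ⟨fun {d d'} m m' h => ?_⟩
  have h1 : m.hom.fst.hom.snd = m'.hom.fst.hom.snd := congrArg (fun s => s.hom.fst.hom.fst) h
  have h2 : m.hom.snd.hom.snd = m'.hom.snd.hom.snd := congrArg (fun s => s.hom.fst.hom.snd) h
  have h3 : m.hom.fst.hom.fst = m'.hom.fst.hom.fst := congrArg (fun s => s.hom.snd) h
  have w : m.hom.fst.hom.fst ≫ d'.obj.iso.hom = d.obj.iso.hom ≫ m.hom.snd.hom.fst := m.hom.w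
  have w' : m'.hom.fst.hom.fst ≫ d'.obj.iso.hom = d.obj.iso.hom ≫ m'.hom.snd.hom.fst := m'.hom.w
  have h4 : m.hom.snd.hom.fst = m'.hom.snd.hom.fst :=
    (cancel_epi d.obj.iso.hom).1
      (w.symm.trans ((congrArg (fun s => s ≫ d'.obj.iso.hom) h3).trans w'))
  apply fp_hom_ext
  · exact fp_hom_ext _ _ h3 h1
  · exact fp_hom_ext _ _ h4 h2

theorem bcq_aux1 {D : Type*} [Category D] {A A' B B' : D} (φ : A ≅ B) (φ' : A' ≅ B')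
    (gb : A ⟶ A') (fa : B ⟶ B') (w : fa ≫ φ'.inv = φ.inv ≫ gb) :
    gb ≫ φ'.hom = φ.hom ≫ fa := by
  rw [← Iso.inv_comp_eq, ← Category.assoc, ← w, Category.assoc, Iso.inv_hom_id, Category.comp_id]

theorem bcq_aux2 {D : Type*} [Category D] {A₁ A₂ B₁ B₂ A₁' A₂' B₁' B₂' : D}
    (φ₁ : A₁ ≅ B₁) (φ₂ : A₂ ≅ B₂) (φ₁' : A₁' ≅ B₁') (φ₂' : A₂' ≅ B₂')
    (gψ : A₁ ⟶ A₂) (gψi : A₂ ⟶ A₁) (hψ : gψi ≫ gψ = 𝟙 _) (gψ' : A₁' ⟶ A₂')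
    (fa₁ : B₁ ⟶ B₁') (fa₂ : B₂ ⟶ B₂') (gb₁ : A₁ ⟶ A₁')
    (hw1 : fa₁ ≫ φ₁'.inv = φ₁.inv ≫ gb₁)
    (hw2 : fa₁ ≫ (φ₁'.inv ≫ gψ' ≫ φ₂'.hom) = (φ₁.inv ≫ gψ ≫ φ₂.hom) ≫ fa₂) :
    (gψi ≫ gb₁ ≫ gψ') ≫ φ₂'.hom = φ₂.hom ≫ fa₂ := by
  have h : φ₁.inv ≫ (gb₁ ≫ gψ' ≫ φ₂'.hom) = φ₁.inv ≫ (gψ ≫ φ₂.hom ≫ fa₂) := by
    rw [← Category.assoc, ← hw1, Category.assoc, hw2]
    simp only [Category.assoc]
  have h' := (cancel_epi φ₁.inv).1 h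
  simp only [Category.assoc]
  rw [h', ← Category.assoc, hψ, Category.id_comp]

theorem bcqΛ_full : (bcqΛ f g).toFunctor.Full := by
  refine ⟨fun {d d'} n => ?_⟩
  let a₁ : d.obj.fst.obj.snd ⟶ d'.obj.fst.obj.snd := n.hom.fst.hom.fst
  let a₂ : d.obj.snd.obj.snd ⟶ d'.obj.snd.obj.snd := n.hom.fst.hom.snd
  let b₁ : d.obj.fst.obj.fst ⟶ d'.obj.fst.obj.fst := n.hom.snd
  have hw1 : f.map a₁ ≫ d'.obj.fst.obj.iso.inv = d.obj.fst.obj.iso.inv ≫ g.map b₁ := n.hom.w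
  have hw2 : f.map a₁ ≫ (d'.obj.fst.obj.iso.inv ≫ g.map d'.obj.iso.hom ≫ d'.obj.snd.obj.iso.hom) =
      (d.obj.fst.obj.iso.inv ≫ g.map d.obj.iso.hom ≫ d.obj.snd.obj.iso.hom) ≫ f.map a₂ :=
    n.hom.fst.hom.w
  let b₂ : d.obj.snd.obj.fst ⟶ d'.obj.snd.obj.fst := d.obj.iso.inv ≫ b₁ ≫ d'.obj.iso.hom
  let m₁ : d.obj.fst ⟶ d'.obj.fst := fpHomMk g f b₁ a₁ (bcq_aux1 _ _ _ _ hw1)
  let m₂ : d.obj.snd ⟶ d'.obj.snd := fpHomMk g f b₂ a₂ (by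
    show g.map (d.obj.iso.inv ≫ b₁ ≫ d'.obj.iso.hom) ≫ d'.obj.snd.obj.iso.hom =
      d.obj.snd.obj.iso.hom ≫ f.map a₂
    rw [g.map_comp, g.map_comp]
    exact bcq_aux2 d.obj.fst.obj.iso d.obj.snd.obj.iso d'.obj.fst.obj.iso d'.obj.snd.obj.iso
      (g.map d.obj.iso.hom) (g.map d.obj.iso.inv)
      (by rw [← g.map_comp, Iso.inv_hom_id, g.map_id]) (g.map d'.obj.iso.hom) (f.map a₁)
      (f.map a₂) (g.map b₁) hw1 hw2)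
  let m : d ⟶ d' := fpHomMk (FibCat.fpFst g f) (FibCat.fpFst g f) m₁ m₂ (by
    show b₁ ≫ d'.obj.iso.hom = d.obj.iso.hom ≫ (d.obj.iso.inv ≫ b₁ ≫ d'.obj.iso.hom)
    exact (Iso.hom_inv_id_assoc _ _).symm)
  refine ⟨m, ?_⟩
  apply fp_hom_ext
  · apply fp_hom_ext
    · rfl
    · rfl
  · rfl

theorem bcq_aux3 {D : Type*} [Category D] {A B B₂ : D} (χ : B ≅ A) (θ : B ⟶ B₂)
    (f1 : B ⟶ B) (h1 : f1 = 𝟙 B) (g1 : A ⟶ A) (hg1 : g1 = 𝟙 A) (f2 : B₂ ⟶ B₂) (h2 : f2 = 𝟙 B₂) :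
    f1 ≫ θ = (χ.hom ≫ g1 ≫ χ.inv ≫ θ) ≫ f2 := by
  subst h1 hg1 h2
  simp

theorem bcq_aux4 {D : Type*} [Category D] {A B : D} (χ : B ⟶ A)
    (f1 : B ⟶ B) (h1 : f1 = 𝟙 B) (g1 : A ⟶ A) (hg1 : g1 = 𝟙 A) :
    f1 ≫ χ = χ ≫ g1 := by
  subst h1 hg1
  simp

theorem bcqΛ_essSurj (h𝒫 : FibCat.IsFibGrpd (FibCat.fp (toBase f) g).p)
    (η : (FibCat.fp (toBase f) g).obj) :
    ∃ (ξ : (FibCat.fp (FibCat.fpFst g f) (FibCat.fpFst g f)).obj) (ε : (bcqΛ f g).obj ξ ≅ η),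
      (FibCat.fp (toBase f) g).p.IsHomLift (𝟙 ((FibCat.fp (toBase f) g).p.obj η)) ε.hom := by
  let t : (FibCat.fp f f).obj := η.obj.fst
  let x₁ : 𝒳.obj := t.obj.fst
  let x₂ : 𝒳.obj := t.obj.snd
  let θ : f.obj x₁ ≅ f.obj x₂ := t.obj.iso
  let z : 𝒵.obj := η.obj.snd
  let χ : f.obj x₁ ≅ g.obj z := η.obj.iso
  have hχ : 𝒴.p.IsHomLift (𝟙 (𝒳.p.obj x₁)) χ.hom := fp_iso_isHomLift (toBase f) g η
  have hθ : 𝒴.p.IsHomLift (𝟙 (𝒳.p.obj x₁)) θ.hom := fp_iso_isHomLift f f t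
  have hz : 𝒳.p.obj x₁ = 𝒵.p.obj z :=
    (lift_codomain_eq 𝒴.p hχ).symm.trans (g.w_obj z)
  have hχi : 𝒴.p.IsHomLift (𝟙 (𝒵.p.obj z)) χ.inv :=
    lift_id_congr 𝒴.p (lift_inv_of_iso 𝒴.p χ hχ) hz
  have hθ' : 𝒴.p.IsHomLift (𝟙 (𝒵.p.obj z)) θ.hom := lift_id_congr 𝒴.p hθ hz
  let p₁ : (FibCat.fp g f).obj := ⟨{ fst := z, snd := x₁, iso := χ.symm }, hχi⟩
  let p₂ : (FibCat.fp g f).obj :=
    ⟨{ fst := z, snd := x₂, iso := χ.symm ≪≫ θ }, lift_id_comp_id 𝒴.p hχi hθ'⟩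
  let d : (FibCat.fp (FibCat.fpFst g f) (FibCat.fpFst g f)).obj :=
    ⟨{ fst := p₁, snd := p₂, iso := Iso.refl z }, IsHomLift.id rfl⟩
  let m : (diagBCq f g).obj d ⟶ t :=
    fpHomMk f f (z := (diagBCq f g).obj d) (z' := t) (𝟙 x₁) (𝟙 x₂) (by
      show f.map (𝟙 x₁) ≫ θ.hom = (χ.hom ≫ g.map (𝟙 z) ≫ χ.inv ≫ θ.hom) ≫ f.map (𝟙 x₂)
      exact bcq_aux3 χ θ.hom _ (f.map_id _) _ (g.map_id _) _ (f.map_id _))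
  let ν : (bcqΛ f g).obj d ⟶ η :=
    fpHomMk (toBase f) g (z := (bcqΛ f g).obj d) (z' := η) m (𝟙 z) (by
      show f.map (𝟙 x₁) ≫ χ.hom = χ.hom ≫ g.map (𝟙 z)
      exact bcq_aux4 χ.hom _ (f.map_id _) _ (g.map_id _))
  have hν : (FibCat.fp (toBase f) g).p.IsHomLift
      (𝟙 ((FibCat.fp (toBase f) g).p.obj η)) ν :=
    lift_id_of_map_eq _ ν rfl (𝒳.p.map_id _)
  have hiso : IsIso ν := isIso_of_lift_id _ h𝒫 hν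
  exact ⟨d, @asIso _ _ _ _ ν hiso, hν⟩

/-- the square is 2-cartesian -/
theorem isEquivOver_bcqΛ (h𝒳 : FibCat.IsFibGrpd 𝒳.p) (h𝒴 : FibCat.IsFibGrpd 𝒴.p)
    (h𝒵 : FibCat.IsFibGrpd 𝒵.p) : FibCat.IsEquivOver (bcqΛ f g) := by
  have h3 : FibCat.IsFibGrpd (FibCat.fp f f).p := isFibGrpd_fp _ _ h𝒳 h𝒳 h𝒴
  have h𝒫 : FibCat.IsFibGrpd (FibCat.fp (toBase f) g).p := isFibGrpd_fp _ _ h3 h𝒵 h𝒴
  have := bcqΛ_faithful f g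
  have := bcqΛ_full f g
  exact isEquivOver_of_fullyFaithful_of_fiberwise_essSurj (bcqΛ f g)
    (fun η => bcqΛ_essSurj f g h𝒫 η)

end core

section alg

open AlgSt AlgebraicGeometry

universe w

variable {S : Scheme.{w}} {𝒳 : BasedCategory.{v₂, u₂} (Over S)} {𝒴 : BasedCategory.{v₃, u₃} (Over S)}
  {𝒵 : BasedCategory.{v₄, u₄} (Over S)} (Q : MorphismProperty (AlgSp.Sp S))

/-- `𝒫 ×_𝒵 𝒫 ⟶ 𝒳 ×_𝒴 𝒳` has every property (of morphisms representable by algebraic spaces) that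
`g : 𝒵 ⟶ 𝒴` has -/
theorem repByAlgSpWith_diagBCq (h𝒳 : FibCat.IsFibGrpd 𝒳.p) (h𝒴 : FibCat.IsFibGrpd 𝒴.p)
    (h𝒵 : FibCat.IsFibGrpd 𝒵.p) (f : 𝒳 ⥤ᵇ 𝒴) (g : 𝒵 ⥤ᵇ 𝒴) (hg : RepByAlgSpWith Q g) :
    RepByAlgSpWith Q (diagBCq f g) := by
  have h1 : RepByAlgSpWith Q (FibCat.fpFst (toBase f) g) :=
    repByAlgSpWith_fpFst Q g (toBase f) hg
  exact repByAlgSpWith_of_square Q (FibCat.fpFst (toBase f) g) (diagBCq f g) (bcqΛ f g)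
    (BasedFunctor.id _) (isEquivOver_bcqΛ f g h𝒳 h𝒴 h𝒵) (isEquivOver_id _) (Iso.refl _) h1

end alg

end Groth.Agent.H65.AlgStDiagBCq
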