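import Groth.Agent.H65.AlgStDiagBCq
import Groth.Agent.H65.AlgStDiagComp
import Groth.Agent.H64.Psh.PDescent
import Groth.Agent.H64.Psh.AlgStackRep
import Groth.Agent.H64.Fib.DiagRep

/-!
# The diagonal of a morphism of algebraic stacks

* `repByAlgSp1_diag`: the diagonal of any morphism of algebraic stacks is representable by algebraic
  spaces;
* `repByAlgSpWith_diag_of_fpFst_fppf`: a property of the diagonal (stable under base change, fppf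
  local on the base) descends along a representable fppf cover `w : 𝒵 ⟶ 𝒴` of the target.
-/

set_option autoImplicit false
open CategoryTheory CategoryTheory.Limits AlgebraicGeometry
universe u

namespace Groth.Agent.H65.AlgStDiagDesc

open AlgSt Groth.Agent.H32 Groth.Agent.H64 Groth.Agent.H64.PTh Groth.Agent.H65.AlgStCmp
  Groth.Agent.H65.AlgStDiagComp Groth.Agent.H65.AlgStDiagBCq

variable {S : Scheme.{u}}

theorem comp_toSelf {𝒳 𝒴 : AlgSt.Cat S} (f : 𝒳 ⥤ᵇ 𝒴) :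
    BasedFunctor.comp f (FibCat.toSelf 𝒴) = FibCat.toSelf 𝒳 :=
  basedFunctor_ext f.w

/-- the diagonal of any morphism of algebraic stacks is representable by algebraic spaces -/
theorem repByAlgSp1_diag {𝒳 𝒴 : AlgSt.Cat S} (h𝒳 : FibCat.IsFibGrpd 𝒳.p)
    (h𝒴 : FibCat.IsFibGrpd 𝒴.p) (hΔ𝒳 : RepByAlgSp1 (FibCat.diag (FibCat.toSelf 𝒳)))
    (hΔ𝒴 : RepByAlgSp1 (FibCat.diag (FibCat.toSelf 𝒴))) (f : 𝒳 ⥤ᵇ 𝒴) :
    RepByAlgSp1 (FibCat.diag f) := by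
  have hj : RepByAlgSp1 (cmp f f (FibCat.toSelf 𝒴)) :=
    (repByAlgSp1_iff_top _).2 (repByAlgSpWith_cmp ⊤ h𝒳 h𝒳 h𝒴 (isFibGrpd_selfOver _) f f
      (FibCat.toSelf 𝒴) ((repByAlgSp1_iff_top _).1 hΔ𝒴))
  have h1 : RepByAlgSp1 (FibCat.diag (BasedFunctor.comp f (FibCat.toSelf 𝒴))) := by
    rw [comp_toSelf f]
    exact hΔ𝒳
  have hxj : RepByAlgSp1 (BasedFunctor.comp (FibCat.diag f) (cmp f f (FibCat.toSelf 𝒴))) :=
    repByAlgSp1_of_iso (diagCompIso f (FibCat.toSelf 𝒴)) h1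
  exact repByAlgSp1_of_comp (FibCat.diag f) (cmp f f (FibCat.toSelf 𝒴)) hj hxj

/-- descent of a property of the diagonal along a representable fppf cover of the target -/
theorem repByAlgSpWith_diag_of_fpFst_fppf {P : MorphismProperty (AlgSp.Sp S)}
    {𝒳 𝒴 𝒵 : AlgSt.Cat S} (h𝒳 : FibCat.IsFibGrpd 𝒳.p) (h𝒴 : FibCat.IsFibGrpd 𝒴.p)
    (h𝒵 : FibCat.IsFibGrpd 𝒵.p) (hPb : StableBC P)
    (hP : AlgSp.IsLocalOnBase AlgSp.IsFppfCover P)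
    (f : 𝒳 ⥤ᵇ 𝒴) (hd : RepByAlgSp1 (FibCat.diag f)) (w : 𝒵 ⥤ᵇ 𝒴)
    (hw₁ : RepByAlgSpWith (AlgSp.LocP @Flat) w)
    (hw₂ : RepByAlgSpWith (AlgSp.LocP @LocallyOfFinitePresentation) w)
    (hw₃ : RepByAlgSpWith AlgSp.IsSurjectiveMor w)
    (h : RepByAlgSpWith P (FibCat.diag (FibCat.fpFst w f))) :
    RepByAlgSpWith P (FibCat.diag f) := by
  have h1 : FibCat.IsFibGrpd (FibCat.fp w f).p := isFibGrpd_fp _ _ h𝒵 h𝒳 h𝒴
  have h2 : FibCat.IsFibGrpd (FibCat.fp (FibCat.fpFst w f) (FibCat.fpFst w f)).p :=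
    isFibGrpd_fp _ _ h1 h1 h𝒵
  have h3 : FibCat.IsFibGrpd (FibCat.fp f f).p := isFibGrpd_fp _ _ h𝒳 h𝒳 h𝒴
  have h' : RepByAlgSpWith P (FibCat.fpFst (diagBCq f w) (FibCat.diag f)) :=
    repByAlgSpWith_of_square' P (FibCat.fpFst (diagBCq f w) (FibCat.diag f))
      (FibCat.diag (FibCat.fpFst w f)) (diagBCΛ f w) (BasedFunctor.id _)
      (isEquivOver_diagBCΛ f w h𝒳 h𝒴 h𝒵) (isEquivOver_id _) (Iso.refl _) h
  exact repByAlgSpWith_of_fpFst_fppf h𝒳 h3 h2 hPb hP (FibCat.diag f) hd (diagBCq f w)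
    (repByAlgSpWith_diagBCq _ h𝒳 h𝒴 h𝒵 f w hw₁) (repByAlgSpWith_diagBCq _ h𝒳 h𝒴 h𝒵 f w hw₂)
    (repByAlgSpWith_diagBCq _ h𝒳 h𝒴 h𝒵 f w hw₃) h'

end Groth.Agent.H65.AlgStDiagDesc
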