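import Groth.Agent.H65.AlgStLocQRows
import Groth.Agent.H64.Psh.PDescent

/-!
# fppf covers by algebraic stacks refine to fppf covers by schemes
-/

set_option autoImplicit false
open CategoryTheory CategoryTheory.Limits AlgebraicGeometry Opposite
universe u

namespace Groth.Agent.H65.AlgStFppfCover

open AlgSt Groth.Agent.H32 Groth.Agent.H64 Groth.Agent.H64.PTh Groth.Agent.H64.FpRep
  Groth.Agent.H64.Recog Groth.Agent.H64.Pts Groth.Agent.H65.AlgStQC5 Groth.Agent.H65.AlgStQC7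
  Groth.Agent.H65.AlgStQC8 Groth.Agent.H65.AlgStChartCalc

variable {S : Scheme.{u}}

/-- a flat, locally finitely presented morphism of algebraic stacks has a smooth surjective scheme
chart `a` of the source such that `a ⋙ z` is flat and locally finitely presented -/
theorem exists_flat_lfp_chart {𝒵 𝒴 : AlgSt.Cat S} (z : 𝒵 ⥤ᵇ 𝒴)
    (hz₁ : LocQ (AlgSp.LocP @Flat) z) (hz₂ : LocQ (AlgSp.LocP @LocallyOfFinitePresentation) z) :
    ∃ (A : Over S) (a : FibCat.overCat A ⥤ᵇ 𝒵), RepByAlgSpWith (AlgSp.LocP @Smooth) a ∧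
      RepByAlgSpWith AlgSp.IsSurjectiveMor a ∧
      RepByAlgSpWith (AlgSp.LocP @Flat) (BasedFunctor.comp a z) ∧
      RepByAlgSpWith (AlgSp.LocP @LocallyOfFinitePresentation) (BasedFunctor.comp a z) := by
  obtain ⟨U₁, x₁, hx₁s, hx₁j, hc₁⟩ := exists_chart_of_locQ Groth.Agent.H50.goodClass_flat
    Groth.Agent.H65.AlgStImmNoeth.smooth_le_flat isLocalOnBase_fppf_flat z hz₁
  obtain ⟨U₂, x₂, hx₂s, hx₂j, hc₂⟩ := exists_chart_of_locQ Groth.Agent.H50.goodClass_lfp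
    Groth.Agent.H65.AlgStImmNoeth.smooth_le_lfp isLocalOnBase_fppf_lfp z hz₂
  exact exists_common_chart calc_flat calc_lfp
    (fun _ _ b hb => locP_mono Groth.Agent.H65.AlgStImmNoeth.smooth_le_flat b hb)
    (fun _ _ b hb => locP_mono Groth.Agent.H65.AlgStImmNoeth.smooth_le_lfp b hb)
    z x₁ x₂ hx₁s hx₁j hx₂s hx₂j hc₁ hc₂

/-- an fppf cover by an algebraic stack refines to an fppf cover by a scheme -/
theorem exists_fppf_scheme_cover {𝒵 𝒴 : AlgSt.Cat S}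
    (h𝒵 : FibCat.IsFibGrpd 𝒵.p) (h𝒴 : FibCat.IsFibGrpd 𝒴.p) (z : 𝒵 ⥤ᵇ 𝒴)
    (hz₁ : LocQ (AlgSp.LocP @Flat) z) (hz₂ : LocQ (AlgSp.LocP @LocallyOfFinitePresentation) z)
    (hz₃ : AlgSt.IsSurjective z) :
    ∃ (A : Over S) (a : FibCat.overCat A ⥤ᵇ 𝒵), RepByAlgSpWith (AlgSp.LocP @Smooth) a ∧
      RepByAlgSpWith AlgSp.IsSurjectiveMor a ∧
      RepByAlgSpWith (AlgSp.LocP @Flat) (BasedFunctor.comp a z) ∧
      RepByAlgSpWith (AlgSp.LocP @LocallyOfFinitePresentation) (BasedFunctor.comp a z) ∧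
      RepByAlgSpWith AlgSp.IsSurjectiveMor (BasedFunctor.comp a z) := by
  obtain ⟨A, a, ha₁, ha₂, h1, h2⟩ := exists_flat_lfp_chart z hz₁ hz₂
  refine ⟨A, a, ha₁, ha₂, h1, h2, ?_⟩
  have hA : FibCat.IsFibGrpd (FibCat.overCat A).p := (isFibSetoid_overCat A).1
  refine (isSurjective_iff_repByAlgSpWith hA h𝒴 _ (RepByAlgSpWith.repByAlgSp1 h1)).1 ?_
  intro η
  obtain ⟨ζ, rfl⟩ := hz₃ η
  obtain ⟨u, rfl⟩ := isSurjective_of_chart h𝒵 a ha₂ ζ
  exact ⟨u, map_comp _ _ _⟩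

/-- descent of `RepByAlgSpWith P` along a base change by an fppf cover by an algebraic stack -/
theorem repByAlgSpWith_of_fpFst_of_fppf {P : MorphismProperty (AlgSp.Sp S)}
    {𝒳 𝒴 𝒵 : AlgSt.Cat S}
    (h𝒳 : FibCat.IsFibGrpd 𝒳.p) (h𝒴 : FibCat.IsFibGrpd 𝒴.p) (h𝒵 : FibCat.IsFibGrpd 𝒵.p)
    (hPb : StableBC P) (hP : AlgSp.IsLocalOnBase AlgSp.IsFppfCover P)
    (f : 𝒳 ⥤ᵇ 𝒴) (hf : RepByAlgSp1 f) (z : 𝒵 ⥤ᵇ 𝒴)
    (hz₁ : LocQ (AlgSp.LocP @Flat) z) (hz₂ : LocQ (AlgSp.LocP @LocallyOfFinitePresentation) z)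
    (hz₃ : AlgSt.IsSurjective z)
    (h' : RepByAlgSpWith P (FibCat.fpFst z f)) : RepByAlgSpWith P f := by
  obtain ⟨A, a, -, -, h1, h2, h3⟩ := exists_fppf_scheme_cover h𝒵 h𝒴 z hz₁ hz₂ hz₃
  have hA : FibCat.IsFibGrpd (FibCat.overCat A).p := (isFibSetoid_overCat A).1
  have h4 : RepByAlgSpWith P (FibCat.fpFst a (FibCat.fpFst z f)) :=
    repByAlgSpWith_fpFst P (FibCat.fpFst z f) a h'
  have h5 : RepByAlgSpWith P (FibCat.fpFst (BasedFunctor.comp a z) f) :=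
    Groth.Agent.H65.AlgStImmNoeth.repByAlgSpWith_equiv_comp P (fpPaste f z a)
      (isEquivOver_fpPaste f z a) _ h4
  exact repByAlgSpWith_of_fpFst_fppf h𝒳 h𝒴 hA hPb hP f hf (BasedFunctor.comp a z) h1 h2 h3 h5

end Groth.Agent.H65.AlgStFppfCover
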