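import Groth.Agent.H64.LocQ.LftST
import Groth.Agent.H64.LocQ.FlatDescent
import Groth.Agent.H53.LftFppfSource2
import Groth.Agent.H53.LfpFppfSource

set_option autoImplicit false
universe u
open CategoryTheory CategoryTheory.Limits AlgebraicGeometry Opposite

/-! Locally of finite type / presentation descends along fppf morphisms of algebraic stacks on the
source. -/

namespace Groth.Agent.H65.AlgStFppfSource

open AlgSt Groth.Agent.H32 Groth.Agent.H64 Groth.Agent.H64.Recog Groth.Agent.H64.FpRep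
  Groth.Agent.H64.PTh Groth.Agent.H64.LocQ Groth.Agent.H64.Pts

variable {S : Scheme.{u}} {𝒳 𝒴 𝒵 : AlgSt.Cat S}

/-- descent on the source along an fppf surjective morphism of algebraic stacks, for a property
`LocP Q` smooth local on the source-and-target which descends along fppf surjective morphisms of
schemes on the source -/
theorem locQ_of_comp_of_fppf {Q : MorphismProperty Scheme.{u}}
    (hG : Groth.Agent.H50.GoodClass Q)
    (hST : AlgSp.IsSmoothLocalST (AlgSp.LocP (S := S) Q))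
    (hdesc : ∀ {X Y Z : Scheme.{u}} (k : X ⟶ Y) (h : Y ⟶ Z), Flat k →
      LocallyOfFinitePresentation k → Function.Surjective k → Q (k ≫ h) → Q h)
    (h𝒳 : IsAlgStack Scheme.fppfPrecoverage 𝒳)
    (h𝒴 : IsAlgStack Scheme.fppfPrecoverage 𝒴) (h𝒵 : IsAlgStack Scheme.fppfPrecoverage 𝒵)
    (f : 𝒳 ⥤ᵇ 𝒴) (g : 𝒴 ⥤ᵇ 𝒵) (hf₁ : LocQ (AlgSp.LocP @Flat) f)
    (hf₂ : LocQ (AlgSp.LocP @LocallyOfFinitePresentation) f) (hf₃ : IsSurjective f)
    (hfg : LocQ (AlgSp.LocP Q) (BasedFunctor.comp f g)) : LocQ (AlgSp.LocP Q) g := by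
  have hX := h𝒳.isStack.1
  have hY := h𝒴.isStack.1
  have hZ := h𝒵.isStack.1
  obtain ⟨V, W, y, z, hg, αg, hy, hys, hz, -, hℓg, -⟩ := exists_good_square h𝒴 h𝒵 g
  obtain ⟨U, x, hf, αf, hx, hℓf, hℓfs, -⟩ := exists_good_square_over h𝒳 h𝒴 f y hy
  have hflat_f : Flat hf.left :=
    AlgSp.locP_yon_map (prop_of_locQ isSmoothLocalST_flat hX hY f hf₁ x y hf αf hy hℓf)
  have hlfp_f : LocallyOfFinitePresentation hf.left :=
    AlgSp.locP_yon_map (prop_of_locQ isSmoothLocalST_lfp hX hY f hf₂ x y hf αf hy hℓf)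
  have hsurj : Function.Surjective hf.left := surjective_of_square hX hY f hf₃ x y hf αf hℓf hℓfs
  have hℓ := sm_lift_comp f g x y z hf hg αf αg hX hY hZ hℓf hℓg
  have hQ_c : Q (hf ≫ hg).left :=
    AlgSp.locP_yon_map (prop_of_locQ hST hX hZ _ hfg x z (hf ≫ hg)
      (compIso f g x y z hf hg αf αg) hz hℓ)
  have hQ_g : Q hg.left := hdesc hf.left hg.left hflat_f hlfp_f hsurj hQ_c
  exact ⟨V, W, y, z, hg, αg, hy, hys, hz, hG.locP_yon_map hg hQ_g⟩

theorem lft_desc {X Y Z : Scheme.{u}} (k : X ⟶ Y) (h : Y ⟶ Z) (h1 : Flat k)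
    (h2 : LocallyOfFinitePresentation k) (h3 : Function.Surjective k)
    (h4 : LocallyOfFiniteType (k ≫ h)) : LocallyOfFiniteType h :=
  Groth.Agent.H53.locallyOfFiniteType_of_fppf_family h (fun _ : Unit => X) (fun _ => k)
    (fun _ => h1) (fun _ => h2) (fun _ => h4) (fun y => ⟨(), h3 y⟩)

theorem lfp_desc {X Y Z : Scheme.{u}} (k : X ⟶ Y) (h : Y ⟶ Z) (h1 : Flat k)
    (h2 : LocallyOfFinitePresentation k) (h3 : Function.Surjective k)
    (h4 : LocallyOfFinitePresentation (k ≫ h)) : LocallyOfFinitePresentation h :=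
  Groth.Agent.H53.locallyOfFinitePresentation_of_fppf_family h (fun _ : Unit => X) (fun _ => k)
    (fun _ => h1) (fun _ => h2) (fun _ => h4) (fun y => ⟨(), h3 y⟩)

/-- locally of finite type descends along fppf surjective morphisms on the source -/
theorem locQ_lft_of_comp_of_fppf (h𝒳 : IsAlgStack Scheme.fppfPrecoverage 𝒳)
    (h𝒴 : IsAlgStack Scheme.fppfPrecoverage 𝒴) (h𝒵 : IsAlgStack Scheme.fppfPrecoverage 𝒵)
    (f : 𝒳 ⥤ᵇ 𝒴) (g : 𝒴 ⥤ᵇ 𝒵) (hf₁ : LocQ (AlgSp.LocP @Flat) f)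
    (hf₂ : LocQ (AlgSp.LocP @LocallyOfFinitePresentation) f) (hf₃ : IsSurjective f)
    (hfg : LocQ (AlgSp.LocP @LocallyOfFiniteType) (BasedFunctor.comp f g)) :
    LocQ (AlgSp.LocP @LocallyOfFiniteType) g :=
  locQ_of_comp_of_fppf Groth.Agent.H50.goodClass_lft isSmoothLocalST_lft
    (fun k h h1 h2 h3 h4 => lft_desc k h h1 h2 h3 h4) h𝒳 h𝒴 h𝒵 f g hf₁ hf₂ hf₃ hfg

/-- locally of finite presentation descends along fppf surjective morphisms on the source -/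
theorem locQ_lfp_of_comp_of_fppf (h𝒳 : IsAlgStack Scheme.fppfPrecoverage 𝒳)
    (h𝒴 : IsAlgStack Scheme.fppfPrecoverage 𝒴) (h𝒵 : IsAlgStack Scheme.fppfPrecoverage 𝒵)
    (f : 𝒳 ⥤ᵇ 𝒴) (g : 𝒴 ⥤ᵇ 𝒵) (hf₁ : LocQ (AlgSp.LocP @Flat) f)
    (hf₂ : LocQ (AlgSp.LocP @LocallyOfFinitePresentation) f) (hf₃ : IsSurjective f)
    (hfg : LocQ (AlgSp.LocP @LocallyOfFinitePresentation) (BasedFunctor.comp f g)) :
    LocQ (AlgSp.LocP @LocallyOfFinitePresentation) g :=
  locQ_of_comp_of_fppf Groth.Agent.H50.goodClass_lfp isSmoothLocalST_lfp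
    (fun k h h1 h2 h3 h4 => lfp_desc k h h1 h2 h3 h4) h𝒳 h𝒴 h𝒵 f g hf₁ hf₂ hf₃ hfg

end Groth.Agent.H65.AlgStFppfSource
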