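import Groth.Agent.H64.DiagBCAlg

/-!
# The graph `𝒳 ⟶ 𝒳 ×_𝒯 𝒴` of a morphism over `𝒯` is a base change of the diagonal of `𝒴 ⟶ 𝒯`

For `p : 𝒳 ⟶ 𝒯`, `q : 𝒴 ⟶ 𝒯`, `g : 𝒳 ⟶ 𝒴` and `e : p ≅ g ⋙ q`, the square

```
𝒳 ----g----> 𝒴
|            | Δ_q
v            v
𝒳 ×_𝒯 𝒴 --> 𝒴 ×_𝒯 𝒴
```
is 2-cartesian (for categories fibred in groupoids).
-/

set_option autoImplicit false
open CategoryTheory CategoryTheory.Limits
universe v₅ u₅ v₄ u₄ v₃ u₃ v₂ u₂ v u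

namespace Groth.Agent.H65.AlgStGraph

open Groth.Agent.H32 Groth.Agent.H64

variable {C : Type u} [Category.{v} C]
variable {𝒳 : BasedCategory.{v₂, u₂} C} {𝒴 : BasedCategory.{v₃, u₃} C}
  {𝒯 : BasedCategory.{v₅, u₅} C}
variable (p : 𝒳 ⥤ᵇ 𝒯) (q : 𝒴 ⥤ᵇ 𝒯) (g : 𝒳 ⥤ᵇ 𝒴)
  (e : BasedFunctor.comp (BasedFunctor.id 𝒳) p ≅ BasedFunctor.comp g q)

/-- the graph of `g` -/
def graph : 𝒳 ⥤ᵇ FibCat.fp p q := FibCat.fpLift (BasedFunctor.id 𝒳) g e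

theorem graph_aux {D : Type*} [Category D] {A A' B B' E E' : D} (qg : A ⟶ A') (ei : A ⟶ E)
    (ei' : A' ⟶ E') (pm : E ⟶ E') (ψ : E ≅ B) (ψ' : E' ≅ B') (qm : B ⟶ B')
    (h1 : qg ≫ ei' = ei ≫ pm) (h2 : pm ≫ ψ'.hom = ψ.hom ≫ qm) :
    qg ≫ (ei' ≫ ψ'.hom) = (ei ≫ ψ.hom) ≫ qm := by
  rw [← Category.assoc, h1, Category.assoc, h2, Category.assoc]

/-- the functor `g × id : 𝒳 ×_𝒯 𝒴 ⟶ 𝒴 ×_𝒯 𝒴` -/
def graphM : FibCat.fp p q ⥤ᵇ FibCat.fp q q :=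
  FibCat.fpLift (F := q) (G := q) (BasedFunctor.comp (FibCat.fpFst p q) g) (FibCat.fpSnd p q)
    (mkBIso (fun w => (bappIso e w.obj.fst).symm ≪≫ w.obj.iso)
      (fun {w w'} m => by
        show q.map (g.map m.hom.fst) ≫ (bapp e.inv w'.obj.fst ≫ w'.obj.iso.hom) =
          (bapp e.inv w.obj.fst ≫ w.obj.iso.hom) ≫ q.map m.hom.snd
        exact graph_aux _ _ _ (p.map m.hom.fst) _ _ _ (bapp_naturality e.inv m.hom.fst) m.hom.w)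
      (fun w => by
        have h1 : 𝒯.p.IsHomLift (𝟙 (𝒳.p.obj w.obj.fst)) (bapp e.inv w.obj.fst) :=
          bapp_isHomLift e.inv w.obj.fst
        have h2 : 𝒯.p.IsHomLift (𝟙 (𝒳.p.obj w.obj.fst)) w.obj.iso.hom := fp_iso_isHomLift p q w
        exact lift_id_comp_id 𝒯.p h1 h2))

theorem graphM_obj_iso_hom (w : (FibCat.fp p q).obj) :
    ((graphM p q g e).obj w).obj.iso.hom = bapp e.inv w.obj.fst ≫ w.obj.iso.hom := rfl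

theorem graph_obj_iso_hom (x : 𝒳.obj) :
    ((graph p q g e).obj x).obj.iso.hom = bapp e.hom x := rfl

theorem graph_aux1 {D : Type*} [Category D] {A B : D} (q1 : A ⟶ A) (h1 : q1 = 𝟙 A)
    (ei : A ⟶ B) (eh : B ⟶ A) (h : ei ≫ eh = 𝟙 A) : q1 ≫ 𝟙 A = (ei ≫ eh) ≫ q1 := by
  subst h1; simp [h]

/-- the 2-isomorphism of the square -/
def graphε : BasedFunctor.comp (graph p q g e) (graphM p q g e) ≅
    BasedFunctor.comp g (FibCat.diag q) :=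
  mkBIso
    (fun x => fpIsoMk q q (z := (graphM p q g e).obj ((graph p q g e).obj x))
      (z' := (FibCat.diag q).obj (g.obj x)) (Iso.refl _) (Iso.refl _) (by
        show q.map (𝟙 (g.obj x)) ≫ 𝟙 _ = (bapp e.inv x ≫ bapp e.hom x) ≫ q.map (𝟙 (g.obj x))
        exact graph_aux1 _ (q.map_id _) _ _ (bapp_iso_inv_hom e x)))
    (fun {x x'} m => by
      apply fp_hom_ext
      · show g.map m ≫ 𝟙 _ = 𝟙 _ ≫ g.map m
        simp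
      · show g.map m ≫ 𝟙 _ = 𝟙 _ ≫ g.map m
        simp)
    (fun x => by
      have : 𝒴.p.IsHomLift (𝟙 (𝒳.p.obj x)) (𝟙 (g.obj x)) := IsHomLift.id (g.w_obj x)
      exact @fp_isHomLift_of_fst _ _ _ _ _ q q _ _ _ _ _ (𝟙 (𝒳.p.obj x)) this)

/-- the comparison functor `𝒳 ⟶ (𝒳 ×_𝒯 𝒴) ×_{𝒴 ×_𝒯 𝒴} 𝒴` -/
def graphΛ : 𝒳 ⥤ᵇ FibCat.fp (graphM p q g e) (FibCat.diag q) :=
  FibCat.fpLift (F := graphM p q g e) (G := FibCat.diag q) (graph p q g e) g (graphε p q g e)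

theorem graphΛ_faithful : (graphΛ p q g e).toFunctor.Faithful := by
  refine ⟨fun {x x'} m m' h => ?_⟩
  exact congrArg (fun s => s.hom.fst.hom.fst) h

theorem graphΛ_full : (graphΛ p q g e).toFunctor.Full := by
  refine ⟨fun {x x'} n => ?_⟩
  let n₁ : x ⟶ x' := n.hom.fst.hom.fst
  let n₂ : g.obj x ⟶ g.obj x' := n.hom.fst.hom.snd
  let n₃ : g.obj x ⟶ g.obj x' := n.hom.snd
  have hw := n.hom.w
  have hw1 : g.map n₁ ≫ 𝟙 _ = 𝟙 _ ≫ n₃ := congrArg (fun s => s.hom.fst) hw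
  have hw2 : n₂ ≫ 𝟙 _ = 𝟙 _ ≫ n₃ := congrArg (fun s => s.hom.snd) hw
  rw [Category.comp_id, Category.id_comp] at hw1 hw2
  refine ⟨n₁, ?_⟩
  apply fp_hom_ext
  · apply fp_hom_ext
    · rfl
    · exact hw1.trans hw2.symm
  · exact hw1

theorem graph_aux2 {D : Type*} [Category D] {E A B Z : D} (eh : E ⟶ A) (ei : A ⟶ E)
    (he : eh ≫ ei = 𝟙 E) (ψ : E ⟶ B) (qθ₁ : A ⟶ Z) (qθ₂ : B ⟶ Z) (qθ₂i : Z ⟶ B)
    (h2 : qθ₂ ≫ qθ₂i = 𝟙 B) (hw : qθ₁ ≫ 𝟙 Z = (ei ≫ ψ) ≫ qθ₂) (p1 : E ⟶ E) (hp : p1 = 𝟙 E) :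
    p1 ≫ ψ = eh ≫ (qθ₁ ≫ qθ₂i) := by
  subst hp
  rw [Category.comp_id] at hw
  rw [hw]
  simp only [Category.assoc]
  rw [h2, Category.comp_id, reassoc_of% he, Category.id_comp]

theorem graphΛ_essSurj (h𝒫 : FibCat.IsFibGrpd (FibCat.fp (graphM p q g e) (FibCat.diag q)).p)
    (η : (FibCat.fp (graphM p q g e) (FibCat.diag q)).obj) :
    ∃ (ξ : 𝒳.obj) (ε : (graphΛ p q g e).obj ξ ≅ η),
      (FibCat.fp (graphM p q g e) (FibCat.diag q)).p.IsHomLift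
        (𝟙 ((FibCat.fp (graphM p q g e) (FibCat.diag q)).p.obj η)) ε.hom := by
  let x : 𝒳.obj := η.obj.fst.obj.fst
  let y : 𝒴.obj := η.obj.fst.obj.snd
  let ψ : p.obj x ≅ q.obj y := η.obj.fst.obj.iso
  let y' : 𝒴.obj := η.obj.snd
  let θ₁ : g.obj x ⟶ y' := η.obj.iso.hom.hom.fst
  let θ₂ : y ⟶ y' := η.obj.iso.hom.hom.snd
  let θ₂i : y' ⟶ y := η.obj.iso.inv.hom.snd
  have hθ₂ : θ₂ ≫ θ₂i = 𝟙 _ := congrArg (fun s => s.hom.snd) η.obj.iso.hom_inv_id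
  have hθ₂' : θ₂i ≫ θ₂ = 𝟙 _ := congrArg (fun s => s.hom.snd) η.obj.iso.inv_hom_id
  have hw : q.map θ₁ ≫ 𝟙 _ = (bapp e.inv x ≫ ψ.hom) ≫ q.map θ₂ := η.obj.iso.hom.hom.w
  let m : (graph p q g e).obj x ⟶ η.obj.fst :=
    fpHomMk p q (z := (graph p q g e).obj x) (z' := η.obj.fst) (𝟙 x) (θ₁ ≫ θ₂i) (by
      show p.map (𝟙 x) ≫ ψ.hom = bapp e.hom x ≫ q.map (θ₁ ≫ θ₂i)
      rw [q.map_comp]
      exact graph_aux2 (bapp e.hom x) (bapp e.inv x) (bapp_iso_hom_inv e x) ψ.hom (q.map θ₁)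
        (q.map θ₂) (q.map θ₂i) (by rw [← q.map_comp, hθ₂, q.map_id]) hw _ (p.map_id _))
  let ν : (graphΛ p q g e).obj x ⟶ η :=
    fpHomMk (graphM p q g e) (FibCat.diag q) (z := (graphΛ p q g e).obj x) (z' := η) m θ₁ (by
      apply fp_hom_ext
      · show g.map (𝟙 x) ≫ θ₁ = 𝟙 _ ≫ θ₁
        rw [g.map_id]
      · show (θ₁ ≫ θ₂i) ≫ θ₂ = 𝟙 _ ≫ θ₁
        rw [Category.assoc, hθ₂']
        simp)
  have hν : (FibCat.fp (graphM p q g e) (FibCat.diag q)).p.IsHomLift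
      (𝟙 ((FibCat.fp (graphM p q g e) (FibCat.diag q)).p.obj η)) ν :=
    lift_id_of_map_eq _ ν rfl (𝒳.p.map_id _)
  have hiso : IsIso ν := isIso_of_lift_id _ h𝒫 hν
  exact ⟨x, @asIso _ _ _ _ ν hiso, hν⟩

/-- the graph square is 2-cartesian -/
theorem isEquivOver_graphΛ (h𝒳 : FibCat.IsFibGrpd 𝒳.p) (h𝒴 : FibCat.IsFibGrpd 𝒴.p)
    (h𝒯 : FibCat.IsFibGrpd 𝒯.p) : FibCat.IsEquivOver (graphΛ p q g e) := by
  have h2 : FibCat.IsFibGrpd (FibCat.fp p q).p := isFibGrpd_fp _ _ h𝒳 h𝒴 h𝒯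
  have h3 : FibCat.IsFibGrpd (FibCat.fp q q).p := isFibGrpd_fp _ _ h𝒴 h𝒴 h𝒯
  have h𝒫 : FibCat.IsFibGrpd (FibCat.fp (graphM p q g e) (FibCat.diag q)).p :=
    isFibGrpd_fp _ _ h2 h𝒴 h3
  have := graphΛ_faithful p q g e
  have := graphΛ_full p q g e
  exact isEquivOver_of_fullyFaithful_of_fiberwise_essSurj (graphΛ p q g e)
    (fun η => graphΛ_essSurj p q g e h𝒫 η)

end Groth.Agent.H65.AlgStGraph
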