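import Groth.Agent.H65.AlgStEquivP
import Groth.Agent.H53.Charts
import Groth.Agent.H50.Mor
import Groth.Agent.H49.AlgSpClosed
import Groth.Prelude.Def_AlgSp4
import Groth.Agent.H64.UnramQF

/-!
# Identities of representable sheaves are proper, unramified, ... (helper65)
-/

set_option autoImplicit false
universe u
open CategoryTheory CategoryTheory.Limits AlgebraicGeometry Opposite

namespace Groth.Agent.H65.AlgStIdProps

open AlgSp

variable {S : Scheme.{u}}

/-- the identity is `P` etale-locally on source and target, for `P` containing the etale morphisms -/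
theorem locP_id_of_etale_le (P : MorphismProperty Scheme.{u})
    (hP : (@Etale : MorphismProperty Scheme.{u}) ≤ P) (Y : Sp S) : LocP P (𝟙 Y) :=
  fun U V a b h ha hb hc =>
    hP _ _ _ (Groth.Agent.H53.etale_left_of_repWith_etale a b ha hb h (by rw [← hc, Category.comp_id]))

theorem etale_le_unramified :
    (@Etale : MorphismProperty Scheme.{u}) ≤
      ((@LocallyOfFiniteType ⊓ @FormallyUnramified : MorphismProperty Scheme.{u})) := by
  intro A B e he
  have : Etale e := he
  exact ⟨inferInstance, inferInstance⟩

theorem etale_le_lft : (@Etale : MorphismProperty Scheme.{u}) ≤ @LocallyOfFiniteType := by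
  intro A B e he
  have : Etale e := he
  exact (inferInstance : LocallyOfFiniteType e)

theorem etale_le_lqf :
    (@Etale : MorphismProperty Scheme.{u}) ≤
      ((@LocallyQuasiFinite ⊓ @LocallyOfFiniteType : MorphismProperty Scheme.{u})) := by
  intro A B e he
  have : Etale e := he
  exact ⟨Groth.Agent.H64.locallyQuasiFinite_of_unramified e, inferInstance⟩

theorem locP_unramified_id (Y : Sp S) :
    LocP (@LocallyOfFiniteType ⊓ @FormallyUnramified) (𝟙 Y) :=
  locP_id_of_etale_le _ etale_le_unramified Y

theorem isSeparatedMor_id_yon (U : Over S) : IsSeparatedMor (𝟙 ((yon S).obj U)) := by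
  rw [← (yon S).map_id]
  exact (isSeparatedMor_yon_map_iff (𝟙 U)).mpr (by
    show IsSeparated (𝟙 U.left)
    infer_instance)

theorem isQuasiCompactMor_id_yon (U : Over S) : IsQuasiCompactMor (𝟙 ((yon S).obj U)) :=
  Groth.Agent.H50.isQuasiCompactMor_of_repWith (P := @QuasiCompact) le_rfl _ (repWith_id _ U)

theorem isUnivClosedMor_id_yon (U : Over S) : IsUnivClosedMor (𝟙 ((yon S).obj U)) :=
  Groth.Agent.H49.isUnivClosedMor_of_repWith (repWith_id _ U)

theorem isProperMor_id_yon (U : Over S) : IsProperMor (𝟙 ((yon S).obj U)) :=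
  ⟨isSeparatedMor_id_yon U,
    ⟨locP_id_of_etale_le _ etale_le_lft _, isQuasiCompactMor_id_yon U⟩,
    isUnivClosedMor_id_yon U⟩

end Groth.Agent.H65.AlgStIdProps
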