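import Groth.Agent.H65.AlgStGraphAlg

/-!
# A section of `f : 𝒳 ⟶ 𝒯` has every property the diagonal of `f` has

`s : 𝒯 ⟶ 𝒳` with `s ⋙ f ≅ 𝟭` is the graph `𝒯 ⟶ 𝒯 ×_𝒯 𝒳` of `s` over `𝒯` followed by the equivalence
`𝒯 ×_𝒯 𝒳 ≃ 𝒳`.
-/

set_option autoImplicit false
open CategoryTheory CategoryTheory.Limits
universe v₅ u₅ v₄ u₄ v₃ u₃ v₂ u₂ v u

namespace Groth.Agent.H65.AlgStSection

open Groth.Agent.H32 Groth.Agent.H64

section core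

variable {C : Type u} [Category.{v} C]
variable {𝒳 : BasedCategory.{v₂, u₂} C} {𝒯 : BasedCategory.{v₅, u₅} C}
variable (f : 𝒳 ⥤ᵇ 𝒯)

/-- the canonical functor `𝒳 ⟶ 𝒯 ×_𝒯 𝒳`, `x ↦ (f x, x, 𝟙)` -/
def secB : 𝒳 ⥤ᵇ FibCat.fp (BasedFunctor.id 𝒯) f :=
  FibCat.fpLift (F := BasedFunctor.id 𝒯) (G := f) f (BasedFunctor.id 𝒳)
    (mkBIso (fun x => Iso.refl (f.obj x))
      (fun {x x'} m => by
        show f.map m ≫ 𝟙 _ = 𝟙 _ ≫ f.map m
        simp)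
      (fun x => IsHomLift.id (f.w_obj x)))

theorem secB_faithful : (secB f).toFunctor.Faithful := by
  refine ⟨fun {x x'} m m' h => ?_⟩
  exact congrArg (fun s => s.hom.snd) h

theorem secB_full : (secB f).toFunctor.Full := by
  refine ⟨fun {x x'} n => ?_⟩
  let n₁ : f.obj x ⟶ f.obj x' := n.hom.fst
  let n₂ : x ⟶ x' := n.hom.snd
  have hw : n₁ ≫ 𝟙 _ = 𝟙 _ ≫ f.map n₂ := n.hom.w
  rw [Category.comp_id, Category.id_comp] at hw
  refine ⟨n₂, ?_⟩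
  apply fp_hom_ext
  · exact hw.symm
  · rfl

theorem secB_essSurj (η : (FibCat.fp (BasedFunctor.id 𝒯) f).obj) :
    ∃ (ξ : 𝒳.obj) (ε : (secB f).obj ξ ≅ η),
      (FibCat.fp (BasedFunctor.id 𝒯) f).p.IsHomLift
        (𝟙 ((FibCat.fp (BasedFunctor.id 𝒯) f).p.obj η)) ε.hom := by
  let τ : 𝒯.obj := η.obj.fst
  let x : 𝒳.obj := η.obj.snd
  let ψ : τ ≅ f.obj x := η.obj.iso
  let ε : (secB f).obj x ≅ η :=
    fpIsoMk (BasedFunctor.id 𝒯) f (z := (secB f).obj x) (z' := η) ψ.symm (Iso.refl x) (by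
      show ψ.inv ≫ ψ.hom = 𝟙 _ ≫ f.map (𝟙 x)
      rw [Iso.inv_hom_id, f.map_id, Category.id_comp])
  refine ⟨x, ε, ?_⟩
  have h1 : 𝒯.p.IsHomLift (𝟙 (𝒯.p.obj τ)) ε.hom.hom.fst :=
    fp_iso_inv_isHomLift (BasedFunctor.id 𝒯) f η
  exact @fp_isHomLift_of_fst _ _ _ _ _ (BasedFunctor.id 𝒯) f _ _ ε.hom _ _ (𝟙 (𝒯.p.obj τ)) h1

theorem isEquivOver_secB : FibCat.IsEquivOver (secB f) := by
  have := secB_faithful f
  have := secB_full f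
  exact isEquivOver_of_fullyFaithful_of_fiberwise_essSurj (secB f) (fun η => secB_essSurj f η)

variable (s : 𝒯 ⥤ᵇ 𝒳) (e : BasedFunctor.comp s f ≅ BasedFunctor.id 𝒯)

/-- the 2-isomorphism `𝟭 ⋙ 𝟭 ≅ s ⋙ f` -/
def secIso : BasedFunctor.comp (BasedFunctor.id 𝒯) (BasedFunctor.id 𝒯) ≅ BasedFunctor.comp s f :=
  mkBIso (fun τ => (bappIso e τ).symm)
    (fun {τ τ'} m => bapp_naturality e.inv m)
    (fun τ => bapp_isHomLift e.inv τ)

/-- the graph of the section over `𝒯` -/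
def secGraph : 𝒯 ⥤ᵇ FibCat.fp (BasedFunctor.id 𝒯) f :=
  FibCat.fpLift (BasedFunctor.id 𝒯) s (secIso f s e)

/-- the 2-isomorphism `s ⋙ secB ≅ 𝟭 ⋙ secGraph` -/
def secSq : BasedFunctor.comp s (secB f) ≅
    BasedFunctor.comp (BasedFunctor.id 𝒯) (secGraph f s e) :=
  mkBIso
    (fun τ => fpIsoMk (BasedFunctor.id 𝒯) f (z := (secB f).obj (s.obj τ))
      (z' := (secGraph f s e).obj τ) (bappIso e τ) (Iso.refl _) (by
        show bapp e.hom τ ≫ bapp e.inv τ = 𝟙 _ ≫ f.map (𝟙 (s.obj τ))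
        rw [bapp_iso_hom_inv, f.map_id, Category.id_comp]
        rfl))
    (fun {τ τ'} m => by
      apply fp_hom_ext
      · exact bapp_naturality e.hom m
      · show s.map m ≫ 𝟙 _ = 𝟙 _ ≫ s.map m
        simp)
    (fun τ => by
      have : 𝒯.p.IsHomLift (𝟙 (𝒯.p.obj τ)) (bapp e.hom τ) := bapp_isHomLift e.hom τ
      exact @fp_isHomLift_of_fst _ _ _ _ _ (BasedFunctor.id 𝒯) f _ _ _ _ _ (𝟙 (𝒯.p.obj τ)) this)

end core

section alg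

open AlgSt AlgebraicGeometry

universe w

variable {S : Scheme.{w}} {𝒳 : BasedCategory.{v₂, u₂} (Over S)} {𝒯 : BasedCategory.{v₅, u₅} (Over S)}
  (P : MorphismProperty (AlgSp.Sp S))

/-- a section of `f` has every property `P` the diagonal of `f` has -/
theorem repByAlgSpWith_section (h𝒳 : FibCat.IsFibGrpd 𝒳.p) (h𝒯 : FibCat.IsFibGrpd 𝒯.p)
    (f : 𝒳 ⥤ᵇ 𝒯) (s : 𝒯 ⥤ᵇ 𝒳) (e : BasedFunctor.comp s f ≅ BasedFunctor.id 𝒯)
    (h : RepByAlgSpWith P (FibCat.diag f)) : RepByAlgSpWith P s := by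
  have h1 : RepByAlgSpWith P (secGraph f s e) :=
    Groth.Agent.H65.AlgStGraph.repByAlgSpWith_graph P h𝒯 h𝒳 h𝒯 (BasedFunctor.id 𝒯) f s
      (secIso f s e) h
  exact repByAlgSpWith_of_square P (secGraph f s e) s (BasedFunctor.id 𝒯) (secB f)
    (isEquivOver_id _) (isEquivOver_secB f) (secSq f s e) h1

end alg

end Groth.Agent.H65.AlgStSection
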