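import Groth.Agent.H65.AlgStImmNoeth
import Groth.Agent.H65.AlgStDiagComp
import Groth.Agent.H65.AlgStIdProps
import Groth.Agent.H65.AlgStSection
import Groth.Agent.H65.AlgStQC
import Groth.Agent.H64.MonoFF
import Groth.Agent.H32.Diag
import Groth.Agent.H64.Psh.DiagOfComp
import Groth.Agent.S10520

/-!
# Immersions of algebraic stacks are quasi-separated; Noetherian stacks
-/

set_option autoImplicit false
open CategoryTheory CategoryTheory.Limits AlgebraicGeometry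
universe u

namespace Groth.Agent.H65.AlgStImmNoeth

open AlgSt Groth.Agent.H32 Groth.Agent.H64 Groth.Agent.H64.PTh Groth.Agent.H64.FpRep
  Groth.Agent.H64.Recog

variable {S : Scheme.{u}}

/-- composition of quasi-separated morphisms (categories fibred in groupoids) -/
theorem isQuasiSeparatedMor_comp {𝒳 𝒴 𝒵 : AlgSt.Cat S} (h𝒳 : FibCat.IsFibGrpd 𝒳.p)
    (h𝒴 : FibCat.IsFibGrpd 𝒴.p) (h𝒵 : FibCat.IsFibGrpd 𝒵.p) (f : 𝒳 ⥤ᵇ 𝒴) (g : 𝒴 ⥤ᵇ 𝒵)
    (hf : AlgSt.IsQuasiSeparatedMor f) (hg : AlgSt.IsQuasiSeparatedMor g) :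
    AlgSt.IsQuasiSeparatedMor (BasedFunctor.comp f g) := by
  refine Groth.Agent.H65.AlgStDiagComp.repByAlgSpWith_diag_comp _ ?_ ?_
    (isLocalOnBase_fppf_of_fpqc ?_) h𝒳 h𝒴 h𝒵 f g hf hg
  · intro X₁ Y₁ X₂ Y₂ hX₁ hY₁ hX₂ hY₂ a b a' b' sq ha
    exact ⟨Groth.Agent.H49.isQuasiCompactMor_of_isPullback sq ha.1,
      MorphismProperty.of_isPullback (P := (AlgSp.RepWith @QuasiCompact).diagonal) sq ha.2⟩
  · intro X Y Z hX hY hZ a b ha hb
    exact ⟨Groth.Agent.H49.isQuasiCompactMor_comp hY hZ ha.1 hb.1,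
      (AlgSp.RepWith @QuasiCompact).diagonal.comp_mem a b ha.2 hb.2⟩
  · intro ι Y Yi g hY hYi hcov X f hX Xi p q hXi sq
    have h1 := Groth.Agent.S10519.result S Yi g hY hYi hcov f hX Xi p q hXi sq
    have h2 := Groth.Agent.S10520.result S Yi g hY hYi hcov f hX Xi p q hXi sq
    constructor
    · rintro ⟨a, b⟩ i
      exact ⟨h1.mp a i, h2.mp b i⟩
    · intro h
      exact ⟨h1.mpr fun i => (h i).1, h2.mpr fun i => (h i).2⟩

theorem isQuasiSeparatedMor_id_yon (U : Over S) :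
    AlgSp.IsQuasiSeparatedMor (𝟙 ((AlgSp.yon S).obj U)) := by
  rw [← (AlgSp.yon S).map_id]
  exact (AlgSp.isQuasiSeparatedMor_yon_map_iff (𝟙 U)).mpr (by
    show QuasiSeparated (𝟙 U.left)
    infer_instance)

/-- an immersion is a monomorphism -/
theorem isMono_of_isImm {𝒳 𝒴 : AlgSt.Cat S} (j : 𝒳 ⥤ᵇ 𝒴) (hj : AlgSt.IsImm j) : AlgSt.IsMono j :=
  repByAlgSpWith_mono_space (fun F U a ha =>
    Groth.Agent.H50.mono_of_repWith (P := @IsImmersion) (fun _ _ g hg => by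
      have : IsImmersion g := hg
      exact (inferInstance : Mono g)) a.hom ha) j hj

/-- a monomorphism is quasi-separated -/
theorem isQuasiSeparatedMor_of_isMono {𝒳 𝒴 : AlgSt.Cat S} (h𝒳 : FibCat.IsFibGrpd 𝒳.p)
    (h𝒴 : FibCat.IsFibGrpd 𝒴.p) (j : 𝒳 ⥤ᵇ 𝒴) (hj : AlgSt.IsMono j) :
    AlgSt.IsQuasiSeparatedMor j := by
  obtain ⟨h1, h2⟩ := Groth.Agent.H64.full_faithful_of_isMono h𝒳 h𝒴 j hj
  have hd : FibCat.IsEquivOver (FibCat.diag j) :=
    Groth.Agent.H32.isEquivOver_diag_of_fullyFaithful j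
  exact Groth.Agent.H65.AlgStEquivP.repByAlgSpWith_of_isEquivOver _
    (fun U => ⟨Groth.Agent.H65.AlgStIdProps.isQuasiCompactMor_id_yon U,
      isQuasiSeparatedMor_id_yon U⟩) _ hd

/-- a monomorphism into a stack quasi-separated over the base has source quasi-separated over
the base -/
theorem isQuasiSeparatedOver_of_isMono {𝒳 𝒴 : AlgSt.Cat S} (h𝒳 : FibCat.IsFibGrpd 𝒳.p)
    (h𝒴 : FibCat.IsFibGrpd 𝒴.p) (j : 𝒳 ⥤ᵇ 𝒴) (hj : AlgSt.IsMono j)
    (h : AlgSt.IsQuasiSeparatedOver 𝒴) : AlgSt.IsQuasiSeparatedOver 𝒳 := by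
  unfold AlgSt.IsQuasiSeparatedOver
  rw [toSelf_eq_comp j]
  exact isQuasiSeparatedMor_comp h𝒳 h𝒴 (isFibGrpd_selfOver _) j (FibCat.toSelf 𝒴)
    (isQuasiSeparatedMor_of_isMono h𝒳 h𝒴 j hj) h

/-- the source of a quasi-compact morphism to a quasi-compact algebraic stack is quasi-compact -/
theorem isQuasiCompact_of_isQuasiCompactMor {𝒳 𝒴 : AlgSt.Cat S}
    (h𝒴 : IsAlgStack Scheme.fppfPrecoverage 𝒴) (j : 𝒳 ⥤ᵇ 𝒴)
    (hj : AlgSt.IsQuasiCompactMor Scheme.fppfPrecoverage j) (hq : AlgSt.IsQuasiCompact 𝒴) :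
    AlgSt.IsQuasiCompact 𝒳 := by
  have h1 : AlgSt.IsQuasiCompact (FibCat.fp (BasedFunctor.id 𝒴) j) := hj 𝒴 h𝒴 hq (BasedFunctor.id 𝒴)
  obtain ⟨d⟩ := IsEquivOver.nonempty_data (Groth.Agent.H65.AlgStSection.isEquivOver_secB j)
  exact Groth.Agent.H65.AlgStQC.isQuasiCompact_of_isEquivOver d.inv (isEquivOver_inv d) h1

end Groth.Agent.H65.AlgStImmNoeth
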