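import Groth.Agent.H64.Fib.InertiaDiag
import Groth.Agent.H64.Fib.DiagSquare
import Groth.Agent.H64.Psh.SepTFAE
import Groth.Agent.H64.Psh.QSepTFAE
import Groth.Agent.H64.Psh.DiagOfComp
import Groth.Agent.H65.AlgStSection
import Groth.Agent.H65.AlgStImmNoeth

/-!
# Relative inertia of a morphism of algebraic stacks

`I_{𝒳/𝒴} ≃ 𝒳 ×_{Δ, 𝒳 ×_𝒴 𝒳, Δ} 𝒳` (helper64's `inertiaE`), under which the structure functor is the
base change of the diagonal and the neutral section is the second diagonal.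
-/

set_option autoImplicit false
open CategoryTheory CategoryTheory.Limits AlgebraicGeometry
universe v₄ u₄ v₃ u₃ v₂ u₂ v u

namespace Groth.Agent.H65.AlgStInertia

open Groth.Agent.H32 Groth.Agent.H64

section core

variable {C : Type u} [Category.{v} C] {𝒳 : BasedCategory.{v₂, u₂} C}
  {𝒴 : BasedCategory.{v₃, u₃} C} (F : 𝒳 ⥤ᵇ 𝒴)

/-- under `inertiaE` the neutral section is the second diagonal -/
def neutralIso : BasedFunctor.comp (FibCat.inertiaNeutral F) (inertiaE F) ≅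
    FibCat.diag (FibCat.diag F) :=
  fpFunctorIsoMk (FibCat.diag F) (FibCat.diag F) (Iso.refl _) (Iso.refl _) (fun a => by
    apply fp_hom_ext
    · show (𝟙 a ≫ 𝟙 a : a ⟶ a) = 𝟙 a ≫ 𝟙 a
      rfl
    · show (𝟙 a ≫ 𝟙 a : a ⟶ a) = 𝟙 a ≫ 𝟙 a
      rfl)

theorem neutral_comp_toBase :
    BasedFunctor.comp (FibCat.inertiaNeutral F) (FibCat.inertiaToBase F) = BasedFunctor.id 𝒳 :=
  basedFunctor_ext rfl

end core

open AlgSt Groth.Agent.H64.PTh Groth.Agent.H64.FpRep

variable {S : Scheme.{u}} {𝒳 𝒴 : AlgSt.Cat S}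

theorem isFibGrpd_inertia (h𝒳 : FibCat.IsFibGrpd 𝒳.p) (h𝒴 : FibCat.IsFibGrpd 𝒴.p) (f : 𝒳 ⥤ᵇ 𝒴) :
    FibCat.IsFibGrpd (FibCat.inertia f).p := by
  have hfp : FibCat.IsFibGrpd (FibCat.fp f f).p := isFibGrpd_fp _ _ h𝒳 h𝒳 h𝒴
  have hdd : FibCat.IsFibGrpd (FibCat.fp (FibCat.diag f) (FibCat.diag f)).p :=
    isFibGrpd_fp _ _ h𝒳 h𝒳 hfp
  obtain ⟨d⟩ := IsEquivOver.nonempty_data (isEquivOver_inertiaE f)
  obtain ⟨d'⟩ := IsEquivOver.nonempty_data (isEquivOver_inv d)
  exact isFibGrpd_of_equivOverData d' hdd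

/-- the structure functor of the inertia has `P` iff the base change of the diagonal along itself
does -/
theorem repByAlgSpWith_inertiaToBase_iff (P : MorphismProperty (AlgSp.Sp S)) (f : 𝒳 ⥤ᵇ 𝒴) :
    RepByAlgSpWith P (FibCat.inertiaToBase f) ↔
      RepByAlgSpWith P (FibCat.fpFst (FibCat.diag f) (FibCat.diag f)) := by
  have e : BasedFunctor.comp (FibCat.inertiaToBase f) (BasedFunctor.id 𝒳) ≅
      BasedFunctor.comp (inertiaE f) (FibCat.fpFst (FibCat.diag f) (FibCat.diag f)) :=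
    eqToIso (inertiaE_comp_fpFst f).symm
  constructor
  · intro h
    exact repByAlgSpWith_of_square' P _ (FibCat.inertiaToBase f) (inertiaE f) (BasedFunctor.id 𝒳)
      (isEquivOver_inertiaE f) (isEquivOver_id _) e h
  · intro h
    exact repByAlgSpWith_of_square P _ (FibCat.inertiaToBase f) (inertiaE f) (BasedFunctor.id 𝒳)
      (isEquivOver_inertiaE f) (isEquivOver_id _) e h

/-- the neutral section of the inertia has `P` iff the second diagonal does -/
theorem repByAlgSpWith_inertiaNeutral_iff (P : MorphismProperty (AlgSp.Sp S)) (f : 𝒳 ⥤ᵇ 𝒴) :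
    RepByAlgSpWith P (FibCat.inertiaNeutral f) ↔
      RepByAlgSpWith P (FibCat.diag (FibCat.diag f)) := by
  have e : BasedFunctor.comp (FibCat.inertiaNeutral f) (inertiaE f) ≅
      BasedFunctor.comp (BasedFunctor.id 𝒳) (FibCat.diag (FibCat.diag f)) := neutralIso f
  constructor
  · intro h
    exact repByAlgSpWith_of_square' P _ (FibCat.inertiaNeutral f) (BasedFunctor.id 𝒳) (inertiaE f)
      (isEquivOver_id _) (isEquivOver_inertiaE f) e h
  · intro h
    exact repByAlgSpWith_of_square P _ (FibCat.inertiaNeutral f) (BasedFunctor.id 𝒳) (inertiaE f)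
      (isEquivOver_id _) (isEquivOver_inertiaE f) e h

/-- a property stable under base change passes from the diagonal to the inertia -/
theorem repByAlgSpWith_inertiaToBase_of_diag (P : MorphismProperty (AlgSp.Sp S)) (f : 𝒳 ⥤ᵇ 𝒴)
    (h : RepByAlgSpWith P (FibCat.diag f)) : RepByAlgSpWith P (FibCat.inertiaToBase f) :=
  (repByAlgSpWith_inertiaToBase_iff P f).2 (repByAlgSpWith_fpFst P _ _ h)

theorem repByAlgSp1_inertiaToBase (f : 𝒳 ⥤ᵇ 𝒴) (hd : RepByAlgSp1 (FibCat.diag f)) :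
    RepByAlgSp1 (FibCat.inertiaToBase f) := by
  have h1 : RepByAlgSpWith ⊤ (FibCat.diag f) := fun U y => by
    obtain ⟨F, e, he⟩ := hd U y
    exact ⟨F, e, he, trivial⟩
  exact RepByAlgSpWith.repByAlgSp1 (repByAlgSpWith_inertiaToBase_of_diag ⊤ f h1)

/-- the neutral section has every property of the diagonal of the structure functor -/
theorem repByAlgSpWith_inertiaNeutral_of_diag (P : MorphismProperty (AlgSp.Sp S))
    (h𝒳 : FibCat.IsFibGrpd 𝒳.p) (h𝒴 : FibCat.IsFibGrpd 𝒴.p) (f : 𝒳 ⥤ᵇ 𝒴)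
    (h : RepByAlgSpWith P (FibCat.diag (FibCat.inertiaToBase f))) :
    RepByAlgSpWith P (FibCat.inertiaNeutral f) :=
  Groth.Agent.H65.AlgStSection.repByAlgSpWith_section P (isFibGrpd_inertia h𝒳 h𝒴 f) h𝒳
    (FibCat.inertiaToBase f) (FibCat.inertiaNeutral f) (eqToIso (neutral_comp_toBase f)) h

end Groth.Agent.H65.AlgStInertia
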