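import Groth.Agent.H65.AlgStChartCalc
import Groth.Agent.H53.NoethFppf

/-!
# Consequences of the chart calculus: rows about `LocQ (LocP Q)`
-/

set_option autoImplicit false
open CategoryTheory CategoryTheory.Limits AlgebraicGeometry Opposite
universe u

namespace Groth.Agent.H65.AlgStLocQRows

open AlgSt Groth.Agent.H32 Groth.Agent.H64 Groth.Agent.H64.PTh Groth.Agent.H64.FpRep
  Groth.Agent.H64.Recog Groth.Agent.H64.Pts Groth.Agent.H65.AlgStQC5 Groth.Agent.H65.AlgStQC7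
  Groth.Agent.H65.AlgStQC8 Groth.Agent.H65.AlgStChartCalc

variable {S : Scheme.{u}}

theorem exists_chart_lft {𝒳 𝒴 : AlgSt.Cat S} (f : 𝒳 ⥤ᵇ 𝒴)
    (hf : LocQ (AlgSp.LocP @LocallyOfFiniteType) f) :
    ∃ (U : Over S) (x : FibCat.overCat U ⥤ᵇ 𝒳), RepByAlgSpWith (AlgSp.LocP @Smooth) x ∧
      RepByAlgSpWith AlgSp.IsSurjectiveMor x ∧
      RepByAlgSpWith (AlgSp.LocP @LocallyOfFiniteType) (BasedFunctor.comp x f) :=
  exists_chart_of_locQ Groth.Agent.H50.goodClass_lft smooth_le_lft calc_lft.loc f hf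

/-- if `f ⋙ g` is locally of finite type then so is `f` -/
theorem locQ_lft_of_comp {𝒳 𝒴 𝒵 : AlgSt.Cat S} (h𝒳 : IsAlgStack Scheme.fppfPrecoverage 𝒳)
    (h𝒴 : IsAlgStack Scheme.fppfPrecoverage 𝒴) (h𝒵 : IsAlgStack Scheme.fppfPrecoverage 𝒵)
    (f : 𝒳 ⥤ᵇ 𝒴) (g : 𝒴 ⥤ᵇ 𝒵)
    (h : LocQ (AlgSp.LocP @LocallyOfFiniteType) (BasedFunctor.comp f g)) :
    LocQ (AlgSp.LocP @LocallyOfFiniteType) f := by
  obtain ⟨U, x, hx₁, hx₂, hc⟩ := exists_chart_lft _ h
  have hU : FibCat.IsFibGrpd (FibCat.overCat U).p := (isFibSetoid_overCat U).1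
  have h1 : RepByAlgSpWith (AlgSp.LocP @LocallyOfFiniteType) (BasedFunctor.comp x f) :=
    repByAlgSpWith_cancel hU h𝒴.isStack.1 h𝒵.isStack.1 calc_lft.bc calc_lft.comp calc_lft.loc
      (BasedFunctor.comp x f) g hc (locP_lft_diag h𝒴 h𝒵 g)
  have := locP_respectsIso (S := S) @LocallyOfFiniteType
  exact locQ_of_chart calc_lft h𝒳.isStack.1 h𝒴 f x hx₁ hx₂ h1

/-- a flat, locally finitely presented morphism of algebraic stacks is open -/
theorem isOpenMor_of_locQ {𝒳 𝒴 : AlgSt.Cat S} (h𝒳 : IsAlgStack Scheme.fppfPrecoverage 𝒳)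
    (h𝒴 : IsAlgStack Scheme.fppfPrecoverage 𝒴) (f : 𝒳 ⥤ᵇ 𝒴)
    (h1 : LocQ (AlgSp.LocP @Flat) f) (h2 : LocQ (AlgSp.LocP @LocallyOfFinitePresentation) f) :
    IsOpenMor f := by
  obtain ⟨U₁, x₁, hx₁s, hx₁j, hc₁⟩ := exists_chart_of_locQ Groth.Agent.H50.goodClass_flat
    Groth.Agent.H65.AlgStImmNoeth.smooth_le_flat isLocalOnBase_fppf_flat f h1
  obtain ⟨U₂, x₂, hx₂s, hx₂j, hc₂⟩ := exists_chart_of_locQ Groth.Agent.H50.goodClass_lfp
    Groth.Agent.H65.AlgStImmNoeth.smooth_le_lfp isLocalOnBase_fppf_lfp f h2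
  obtain ⟨A, a, has, haj, hf1, hf2⟩ := exists_common_chart calc_flat calc_lfp
    (fun _ _ b hb => locP_mono Groth.Agent.H65.AlgStImmNoeth.smooth_le_flat b hb)
    (fun _ _ b hb => locP_mono Groth.Agent.H65.AlgStImmNoeth.smooth_le_lfp b hb)
    f x₁ x₂ hx₁s hx₁j hx₂s hx₂j hc₁ hc₂
  have ho : IsOpenMap (Points.ofChart (BasedFunctor.comp a f)) :=
    isOpenMap_ofChart h𝒴.isStack.1 (BasedFunctor.comp a f) hf1 hf2
  have hc : Continuous (Points.ofChart a) := continuous_ofChart h𝒳 a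
  have hs := surjective_ofChart h𝒳.isStack.1 a haj
  intro O hO
  have : Points.map f '' O =
      Points.ofChart (BasedFunctor.comp a f) '' (Points.ofChart a ⁻¹' O) := by
    ext η
    constructor
    · rintro ⟨ξ, hξ, rfl⟩
      obtain ⟨u, rfl⟩ := hs ξ
      exact ⟨u, hξ, rfl⟩
    · rintro ⟨u, hu, rfl⟩
      exact ⟨Points.ofChart a u, hu, rfl⟩
  rw [this]
  exact ho _ (hO.preimage hc)

/-- data extracted from a locally finite type morphism to a locally Noetherian stack -/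
theorem exists_noeth_square {𝒳 𝒴 : AlgSt.Cat S}
    (h𝒴 : IsAlgStack Scheme.fppfPrecoverage 𝒴) (f : 𝒳 ⥤ᵇ 𝒴)
    (hf : LocQ (AlgSp.LocP @LocallyOfFiniteType) f)
    (hN : SmoothLocally (fun T => IsLocallyNoetherian T) 𝒴) :
    ∃ (U V A : Over S) (x : FibCat.overCat U ⥤ᵇ 𝒳) (y : FibCat.overCat V ⥤ᵇ 𝒴)
      (k : A ⟶ U) (h : A ⟶ V)
      (_ : BasedFunctor.comp (BasedFunctor.comp (AlgSt.overMap k) x) f ≅
        BasedFunctor.comp (AlgSt.overMap h) y),
      RepByAlgSpWith (AlgSp.LocP @Smooth) x ∧ RepByAlgSpWith AlgSp.IsSurjectiveMor x ∧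
      RepByAlgSpWith (AlgSp.LocP @Smooth) y ∧ IsLocallyNoetherian V.left ∧
      Smooth k.left ∧ Surjective k.left ∧ LocallyOfFiniteType h.left := by
  obtain ⟨U, x, hx₁, hx₂, hc⟩ := exists_chart_lft f hf
  obtain ⟨V, y, hy₁, hy₂⟩ := h𝒴.atlas
  have hV : IsLocallyNoetherian V.left := hN V y hy₁
  obtain ⟨A, t₁, t₂, ⟨ι⟩, ht₁, ht₂⟩ := exists_refine (BasedFunctor.comp x f) y
    (RepByAlgSpWith.repByAlgSp1 hy₁)
  have := locP_respectsIso (S := S) @LocallyOfFiniteType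
  have := locP_respectsIso (S := S) @Smooth
  have := isSurjectiveMor_respectsIso (S := S)
  obtain ⟨h, ⟨γ⟩, hh⟩ := exists_overMap t₂
  obtain ⟨k, ⟨γ'⟩, hk⟩ := exists_overMap t₁
  refine ⟨U, V, A, x, y, k, h, bwrIso (bwrIso γ'.symm x) f ≪≫ ι ≪≫ bwrIso γ y,
    hx₁, hx₂, hy₁, hV, ?_, ?_, ?_⟩
  · exact AlgSp.locP_yon_map (hk _ (ht₁ _ calc_smooth hy₁))
  · exact surjective_of_isSurjectiveMor_yon_map k (hk _ (ht₁ _ calc_surj hy₂))
  · exact AlgSp.locP_yon_map (hh _ (ht₂ _ calc_lft hc))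

/-- the source of a locally finite type morphism to a locally Noetherian stack is locally
Noetherian -/
theorem smoothLocally_locNoeth_of_locQ_lft {𝒳 𝒴 : AlgSt.Cat S}
    (h𝒴 : IsAlgStack Scheme.fppfPrecoverage 𝒴) (f : 𝒳 ⥤ᵇ 𝒴)
    (hf : LocQ (AlgSp.LocP @LocallyOfFiniteType) f)
    (hN : SmoothLocally (fun T => IsLocallyNoetherian T) 𝒴) :
    SmoothLocally (fun T => IsLocallyNoetherian T) 𝒳 := by
  obtain ⟨U, V, A, x, y, k, h, -, hx₁, hx₂, -, hV, hk₁, hk₂, hh⟩ :=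
    exists_noeth_square h𝒴 f hf hN
  have hA : IsLocallyNoetherian A.left := LocallyOfFiniteType.isLocallyNoetherian h.left
  have : Flat k.left := inferInstance
  have : LocallyOfFinitePresentation k.left := inferInstance
  have hU : IsLocallyNoetherian U.left :=
    Groth.Agent.H53.isLocallyNoetherian_of_fppf_surjective k.left
  exact Groth.Agent.H65.AlgStImmNoeth.smoothLocally_locNoeth_of_chart x hx₁ hx₂ hU

/-- a locally finite type morphism to a locally Noetherian stack is locally of finite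
presentation -/
theorem locQ_lfp_of_locNoeth {𝒳 𝒴 : AlgSt.Cat S} (h𝒳 : FibCat.IsFibGrpd 𝒳.p)
    (h𝒴 : IsAlgStack Scheme.fppfPrecoverage 𝒴) (f : 𝒳 ⥤ᵇ 𝒴)
    (hN : SmoothLocally (fun T => IsLocallyNoetherian T) 𝒴)
    (hf : LocQ (AlgSp.LocP @LocallyOfFiniteType) f) :
    LocQ (AlgSp.LocP @LocallyOfFinitePresentation) f := by
  obtain ⟨U, V, A, x, y, k, h, ι, hx₁, hx₂, hy₁, hV, hk₁, hk₂, hh⟩ :=
    exists_noeth_square h𝒴 f hf hN
  have hA : FibCat.IsFibGrpd (FibCat.overCat A).p := (isFibSetoid_overCat A).1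
  have hU : FibCat.IsFibGrpd (FibCat.overCat U).p := (isFibSetoid_overCat U).1
  have hlfp : LocallyOfFinitePresentation h.left := inferInstance
  refine ⟨A, V, BasedFunctor.comp (AlgSt.overMap k) x, y, h, ι, ?_, ?_, hy₁, ?_⟩
  · refine calc_smooth.comp' hA hU _ x (repByAlgSpWith_overMap _ calc_smooth.bc k ?_) hx₁
    have := Groth.Agent.H50.goodClass_smooth.{u}.comp
    exact Groth.Agent.H50.locP_of_repWith _ Groth.Agent.H50.goodClass_smooth.etale_le _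
      ((AlgSp.repWith_yon_map_iff @Smooth k).2 hk₁)
  · refine calc_surj.comp' hA hU _ x (repByAlgSpWith_overMap _ calc_surj.bc k ?_) hx₂
    have := hk₂
    exact isSurjectiveMor_yon_map k
  · have := Groth.Agent.H50.goodClass_lfp.{u}.comp
    exact Groth.Agent.H50.locP_of_repWith _ Groth.Agent.H50.goodClass_lfp.etale_le _
      ((AlgSp.repWith_yon_map_iff @LocallyOfFinitePresentation h).2 hlfp)

end Groth.Agent.H65.AlgStLocQRows
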