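import Groth.Agent.H65.AlgStCmpM
import Groth.Agent.H65.AlgStLocQRows

/-!
# The diagonal of a locally finite type morphism of algebraic stacks is locally of finite
presentation; cancellation for locally finitely presented morphisms
-/

set_option autoImplicit false
open CategoryTheory CategoryTheory.Limits AlgebraicGeometry
universe u

namespace Groth.Agent.H65.AlgStLfpDiag

open AlgSt Groth.Agent.H32 Groth.Agent.H64 Groth.Agent.H64.PTh Groth.Agent.H64.FpRep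
  Groth.Agent.H64.Recog Groth.Agent.H65.AlgStChartCalc Groth.Agent.H65.AlgStCmp
  Groth.Agent.H65.AlgStLocQRows Groth.Agent.H65.AlgStQC8

variable {S : Scheme.{u}}

theorem repByAlgSpWith_lfp_diag {𝒳 𝒴 : AlgSt.Cat S}
    (h𝒳 : IsAlgStack Scheme.fppfPrecoverage 𝒳) (h𝒴 : IsAlgStack Scheme.fppfPrecoverage 𝒴)
    (f : 𝒳 ⥤ᵇ 𝒴) (hf : LocQ (AlgSp.LocP @LocallyOfFiniteType) f) :
    RepByAlgSpWith (AlgSp.LocP @LocallyOfFinitePresentation) (FibCat.diag f) := by
  obtain ⟨U, x, hx₁, hx₂, hc⟩ := exists_chart_lft f hf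
  have hX := h𝒳.isStack.1
  have hY := h𝒴.isStack.1
  have hU : FibCat.IsFibGrpd (FibCat.overCat U).p := (isFibSetoid_overCat U).1
  have hss : FibCat.IsFibGrpd (FibCat.fp (BasedFunctor.comp x f) (BasedFunctor.comp x f)).p :=
    isFibGrpd_fp _ _ hU hU hY
  have hΔ : RepByAlgSp1 (FibCat.diag f) := repByAlgSp1_diag hX hY h𝒳.diag h𝒴.diag f
  have h1 : RepByAlgSpWith (AlgSp.LocP @LocallyOfFiniteType)
      (FibCat.fpFst (BasedFunctor.comp x f) (BasedFunctor.comp x f)) :=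
    repByAlgSpWith_fpFst _ _ _ hc
  have h2 : RepByAlgSpWith (AlgSp.LocP (S := S) @LocallyOfFinitePresentation).diagonal
      (FibCat.fpFst (BasedFunctor.comp x f) (BasedFunctor.comp x f)) :=
    repByAlgSpWith_mono_space (fun F T a ha =>
      Groth.Agent.H50.locP_lfp_diagonal F.property (yonSpace T).property a.hom ha) _ h1
  have hd := repByAlgSpWith_diag_of_diagonal (AlgSp.LocP @LocallyOfFinitePresentation)
    calc_lfp.bc hss hU _ h2
  exact repByAlgSpWith_diag_of_cover calc_lfp hX hY hU f hΔ x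
    (repByAlgSpWith_locP_mono Groth.Agent.H65.AlgStImmNoeth.smooth_le_lfp x hx₁)
    (repByAlgSpWith_locP_mono Groth.Agent.H65.AlgStImmNoeth.smooth_le_flat x hx₁)
    (repByAlgSpWith_locP_mono Groth.Agent.H65.AlgStImmNoeth.smooth_le_lfp x hx₁) hx₂ hd

/-- the diagonal of a locally finite type morphism is locally of finite presentation -/
theorem locQ_lfp_diag {𝒳 𝒴 : AlgSt.Cat S}
    (h𝒳 : IsAlgStack Scheme.fppfPrecoverage 𝒳) (h𝒴 : IsAlgStack Scheme.fppfPrecoverage 𝒴)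
    (f : 𝒳 ⥤ᵇ 𝒴) (hf : LocQ (AlgSp.LocP @LocallyOfFiniteType) f) :
    LocQ (AlgSp.LocP @LocallyOfFinitePresentation) (FibCat.diag f) := by
  have h := repByAlgSpWith_lfp_diag h𝒳 h𝒴 f hf
  obtain ⟨U, x, hx₁, hx₂⟩ := h𝒳.atlas
  have hU : FibCat.IsFibGrpd (FibCat.overCat U).p := (isFibSetoid_overCat U).1
  have hfp : IsAlgStack Scheme.fppfPrecoverage (FibCat.fp f f) :=
    isAlgStack_fp h𝒴.isStack.1 h𝒴.diag h𝒳 h𝒳 f f
  have := locP_respectsIso (S := S) @LocallyOfFinitePresentation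
  refine locQ_of_chart calc_lfp h𝒳.isStack.1 hfp (FibCat.diag f) x hx₁ hx₂ ?_
  exact calc_lfp.comp' hU h𝒳.isStack.1 x _
    (repByAlgSpWith_locP_mono Groth.Agent.H65.AlgStImmNoeth.smooth_le_lfp x hx₁) h

/-- if `f ⋙ g` is locally of finite presentation and `g` is locally of finite type then `f` is
locally of finite presentation -/
theorem locQ_lfp_of_comp {𝒳 𝒴 𝒵 : AlgSt.Cat S}
    (h𝒳 : IsAlgStack Scheme.fppfPrecoverage 𝒳) (h𝒴 : IsAlgStack Scheme.fppfPrecoverage 𝒴)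
    (h𝒵 : IsAlgStack Scheme.fppfPrecoverage 𝒵) (f : 𝒳 ⥤ᵇ 𝒴) (g : 𝒴 ⥤ᵇ 𝒵)
    (h : LocQ (AlgSp.LocP @LocallyOfFinitePresentation) (BasedFunctor.comp f g))
    (hg : LocQ (AlgSp.LocP @LocallyOfFiniteType) g) :
    LocQ (AlgSp.LocP @LocallyOfFinitePresentation) f := by
  obtain ⟨U, x, hx₁, hx₂, hc⟩ := exists_chart_of_locQ Groth.Agent.H50.goodClass_lfp
    Groth.Agent.H65.AlgStImmNoeth.smooth_le_lfp isLocalOnBase_fppf_lfp _ h
  have hU : FibCat.IsFibGrpd (FibCat.overCat U).p := (isFibSetoid_overCat U).1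
  have h1 : RepByAlgSpWith (AlgSp.LocP @LocallyOfFinitePresentation) (BasedFunctor.comp x f) :=
    repByAlgSpWith_cancel hU h𝒴.isStack.1 h𝒵.isStack.1 calc_lfp.bc calc_lfp.comp calc_lfp.loc
      (BasedFunctor.comp x f) g hc (repByAlgSpWith_lfp_diag h𝒴 h𝒵 g hg)
  have := locP_respectsIso (S := S) @LocallyOfFinitePresentation
  exact locQ_of_chart calc_lfp h𝒳.isStack.1 h𝒴 f x hx₁ hx₂ h1

end Groth.Agent.H65.AlgStLfpDiag
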