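import Groth.Agent.H65.AlgStChartCalc2

/-!
# Lifting objects fppf locally along a jointly surjective flat lfp family
-/

set_option autoImplicit false
open CategoryTheory CategoryTheory.Limits AlgebraicGeometry Opposite
universe u

namespace Groth.Agent.H65.AlgStLiftFppf

open AlgSt Groth.Agent.H32 Groth.Agent.H64 Groth.Agent.H64.PTh Groth.Agent.H64.FpRep
  Groth.Agent.H64.Recog Groth.Agent.H64.Pts Groth.Agent.H65.AlgStQC5 Groth.Agent.H65.AlgStQC7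
  Groth.Agent.H65.AlgStChartCalc Groth.Agent.H65.AlgStFppfCover

variable {S : Scheme.{u}}

theorem exists_fppf_cover_lifting {𝒳 : AlgSt.Cat S}
    (h𝒳 : IsAlgStack Scheme.fppfPrecoverage 𝒳)
    (J : Type u) (𝒳' : J → AlgSt.Cat S)
    (h𝒳' : ∀ j, IsAlgStack Scheme.fppfPrecoverage (𝒳' j))
    (f : ∀ j, 𝒳' j ⥤ᵇ 𝒳)
    (hf₁ : ∀ j, LocQ (AlgSp.LocP @Flat) (f j))
    (hf₂ : ∀ j, LocQ (AlgSp.LocP @LocallyOfFinitePresentation) (f j))
    (hf₃ : ∀ p : Points 𝒳, ∃ j, p ∈ Set.range (Points.map (f j)))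
    (U : Over S) (x : FibCat.overCat U ⥤ᵇ 𝒳) :
    ∃ (ι : Type u) (V : ι → Over S) (g : ∀ i, V i ⟶ U) (c : ι → J),
      (Presieve.ofArrows (fun i ↦ (V i).left) fun i ↦ (g i).left) ∈
        Scheme.fppfPrecoverage U.left ∧
      ∀ i, ∃ x' : FibCat.overCat (V i) ⥤ᵇ 𝒳' (c i),
        Nonempty (BasedFunctor.comp x' (f (c i)) ≅ BasedFunctor.comp (AlgSt.overMap (g i)) x) := by
  have H : ∀ j, ∃ (A : Over S) (a : FibCat.overCat A ⥤ᵇ 𝒳' j),
      RepByAlgSpWith (AlgSp.LocP @Smooth) a ∧ RepByAlgSpWith AlgSp.IsSurjectiveMor a ∧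
      RepByAlgSpWith (AlgSp.LocP @Flat) (BasedFunctor.comp a (f j)) ∧
      RepByAlgSpWith (AlgSp.LocP @LocallyOfFinitePresentation) (BasedFunctor.comp a (f j)) :=
    fun j => exists_flat_lfp_chart (f j) (hf₁ j) (hf₂ j)
  choose A a ha₁ ha₂ ha₃ ha₄ using H
  have H2 := fun j => exists_refine_pts h𝒳.isStack.1 x (BasedFunctor.comp (a j) (f j))
    (RepByAlgSpWith.repByAlgSp1 (ha₃ j))
  choose B k h hι hk hh hpts using H2
  have := locP_respectsIso (S := S) @Flat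
  have := locP_respectsIso (S := S) @LocallyOfFinitePresentation
  refine ⟨J, B, k, fun j => j, ?_, ?_⟩
  · rw [Scheme.fppfPrecoverage, Scheme.ofArrows_mem_precoverage_iff]
    refine ⟨fun u => ?_, fun j => ⟨?_, ?_⟩⟩
    · obtain ⟨j, q, hq⟩ := hf₃ (Points.ofChart x u)
      obtain ⟨v, rfl⟩ := surjective_ofChart (h𝒳' j).isStack.1 (a j) (ha₂ j) q
      obtain ⟨b, hb, -⟩ := hpts j u v (by rw [← hq]; rfl)
      exact ⟨j, b, hb⟩
    · exact AlgSp.locP_yon_map (prop_yon_map_of_overMap _ (k j) (hk j _ calc_flat (ha₃ j)))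
    · exact AlgSp.locP_yon_map (prop_yon_map_of_overMap _ (k j) (hk j _ calc_lfp (ha₄ j)))
  · intro j
    obtain ⟨ι⟩ := hι j
    exact ⟨BasedFunctor.comp (AlgSt.overMap (h j)) (a j), ⟨ι.symm⟩⟩

end Groth.Agent.H65.AlgStLiftFppf
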