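import Groth.Agent.H64.LocQ.CoreBC
import Groth.Agent.H65.AlgStFppfCover
import Groth.Agent.H65.AlgStChartCalc

set_option autoImplicit false
universe u
open CategoryTheory CategoryTheory.Limits AlgebraicGeometry Opposite

/-! Descent of `LocQ P` along base change by an fppf cover by an algebraic stack, for `P` smooth
local on the source-and-target and fppf local on the base. -/

namespace Groth.Agent.H65.AlgStLocQFppf

open AlgSt Groth.Agent.H32 Groth.Agent.H64 Groth.Agent.H64.Recog Groth.Agent.H64.FpRep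
  Groth.Agent.H64.PTh Groth.Agent.H64.LocQ Groth.Agent.H65.AlgStChartCalc
  Groth.Agent.H65.AlgStFppfCover

variable {S : Scheme.{u}} {𝒳 𝒴 𝒵 : AlgSt.Cat S}

/-- base change of a chart square with smooth lift along a chart of `𝒵` over the target chart -/
theorem exists_bc_lift
    (f : 𝒳 ⥤ᵇ 𝒴) (z : 𝒵 ⥤ᵇ 𝒴) {U V B : Over S}
    (x : FibCat.overCat U ⥤ᵇ 𝒳) (y : FibCat.overCat V ⥤ᵇ 𝒴) (h : U ⟶ V)
    (α : BasedFunctor.comp x f ≅ BasedFunctor.comp (AlgSt.overMap h) y)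
    (hℓ : Sm (FibCat.fpLift x (AlgSt.overMap h) α))
    (β₁ : B ⟶ V) (y' : FibCat.overCat B ⥤ᵇ 𝒵)
    (ι : BasedFunctor.comp (ovMap β₁) y ≅ BasedFunctor.comp y' z) :
    ∃ ℓ' : FibCat.overCat (pullback h β₁) ⥤ᵇ FibCat.fp (FibCat.fpFst z f) y',
      Sm ℓ' ∧ Nonempty (BasedFunctor.comp ℓ' (FibCat.fpSnd (FibCat.fpFst z f) y') ≅
        ovMap (pullback.snd h β₁)) := by
  let ℓ : FibCat.overCat U ⥤ᵇ FibCat.fp f y := FibCat.fpLift x (AlgSt.overMap h) α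
  let π : FibCat.fp f y ⥤ᵇ FibCat.overCat V := FibCat.fpSnd f y
  let c₁ : FibCat.overCat (pullback h β₁) ⥤ᵇ FibCat.fp (ovMap h) (ovMap β₁) := ovPbLift h β₁
  have hc₁ : FibCat.IsEquivOver c₁ := isEquivOver_ovPbLift h β₁
  let c₂ : FibCat.fp (BasedFunctor.comp ℓ π) (ovMap β₁) ⥤ᵇ FibCat.fp π (ovMap β₁) :=
    fpPasteSnd (ovMap β₁) π ℓ
  have hc₂ : Sm c₂ := rep_fpPasteSnd _ (ovMap β₁) π ℓ hℓ
  have he₃ : FibCat.IsEquivOver (fpPaste₂ (ovMap β₁) y f) := isEquivOver_fpPaste₂ (ovMap β₁) y f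
  obtain ⟨d⟩ := IsEquivOver.nonempty_data he₃
  have : (BasedFunctor.id 𝒳).toFunctor.Full := (inferInstance : (𝟭 𝒳.obj).Full)
  have : (BasedFunctor.id 𝒳).toFunctor.Faithful := (inferInstance : (𝟭 𝒳.obj).Faithful)
  have : (BasedFunctor.id 𝒴).toFunctor.Full := (inferInstance : (𝟭 𝒴.obj).Full)
  have : (BasedFunctor.id 𝒴).toFunctor.Faithful := (inferInstance : (𝟭 𝒴.obj).Faithful)
  let ι' : BasedFunctor.comp (BasedFunctor.comp (ovMap β₁) y) (BasedFunctor.id 𝒴) ≅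
      BasedFunctor.comp (BasedFunctor.id (FibCat.overCat B)) (BasedFunctor.comp y' z) := ι
  let c₄ : FibCat.fp f (BasedFunctor.comp (ovMap β₁) y) ⥤ᵇ FibCat.fp f (BasedFunctor.comp y' z) :=
    fpMap f (BasedFunctor.comp y' z) f (BasedFunctor.comp (ovMap β₁) y) (BasedFunctor.id _)
      (BasedFunctor.id _) (BasedFunctor.id _) (Iso.refl _) ι'
  have hc₄ : FibCat.IsEquivOver c₄ :=
    isEquivOver_fpMap _ _ _ _ _ _ _ _ _ (isEquivOver_id _) (isEquivOver_id _)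
  let c₅ : FibCat.fp f (BasedFunctor.comp y' z) ⥤ᵇ FibCat.fp (FibCat.fpFst z f) y' :=
    BasedFunctor.comp (fpSwap f (BasedFunctor.comp y' z))
      (BasedFunctor.comp (fpPaste f z y') (fpSwap y' (FibCat.fpFst z f)))
  have hc₅ : FibCat.IsEquivOver c₅ :=
    isEquivOver_comp (isEquivOver_fpSwap _ _)
      (isEquivOver_comp (isEquivOver_fpPaste f z y') (isEquivOver_fpSwap _ _))
  let E : FibCat.fp π (ovMap β₁) ⥤ᵇ FibCat.fp (FibCat.fpFst z f) y' :=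
    BasedFunctor.comp d.inv (BasedFunctor.comp c₄ c₅)
  have hE : FibCat.IsEquivOver E :=
    isEquivOver_comp (isEquivOver_inv d) (isEquivOver_comp hc₄ hc₅)
  let c₁₂ : FibCat.overCat (pullback h β₁) ⥤ᵇ FibCat.fp π (ovMap β₁) := BasedFunctor.comp c₁ c₂
  have hc₁₂ : Sm c₁₂ := rep_equiv_comp _ c₁ hc₁ c₂ hc₂
  refine ⟨BasedFunctor.comp c₁₂ E, repByAlgSpWith_comp_equiv _ c₁₂ E hE hc₁₂, ⟨?_⟩⟩
  let q : FibCat.fp π (ovMap β₁) ⥤ᵇ FibCat.overCat B := FibCat.fpSnd π (ovMap β₁)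
  have h1 : BasedFunctor.comp (BasedFunctor.comp c₁₂ E) (FibCat.fpSnd (FibCat.fpFst z f) y') =
      BasedFunctor.comp c₁₂ (BasedFunctor.comp
        (BasedFunctor.comp d.inv (fpPaste₂ (ovMap β₁) y f)) q) := rfl
  have h2 : BasedFunctor.comp c₁₂ (BasedFunctor.comp (BasedFunctor.id _) q) =
      ovMap (pullback.snd h β₁) := rfl
  exact eqToIso h1 ≪≫ bwlIso c₁₂ (bwrIso d.counit q) ≪≫ eqToIso h2

/-- Let `P` be smooth local on the source-and-target and fppf local on the base, `f : 𝒳 → 𝒴` a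
morphism of algebraic stacks and `𝒵 → 𝒴` flat, surjective and locally of finite presentation. If
`𝒵 ×_𝒴 𝒳 → 𝒵` has `P`, so does `f`. -/
theorem locQ_of_fpFst_of_fppf {P : MorphismProperty (AlgSp.Sp S)} (hP : AlgSp.IsSmoothLocalST P)
    (hP₂ : AlgSp.IsLocalOnBase AlgSp.IsFppfCover P)
    (h𝒳 : IsAlgStack Scheme.fppfPrecoverage 𝒳) (h𝒴 : IsAlgStack Scheme.fppfPrecoverage 𝒴)
    (h𝒵 : IsAlgStack Scheme.fppfPrecoverage 𝒵) (f : 𝒳 ⥤ᵇ 𝒴) (z : 𝒵 ⥤ᵇ 𝒴)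
    (hz₁ : LocQ (AlgSp.LocP @Flat) z) (hz₂ : LocQ (AlgSp.LocP @LocallyOfFinitePresentation) z)
    (hz₃ : AlgSt.IsSurjective z) (hf : LocQ P (FibCat.fpFst z f)) : LocQ P f := by
  have hX := h𝒳.isStack.1
  have hY := h𝒴.isStack.1
  have hZ := h𝒵.isStack.1
  obtain ⟨U, V, x, y, h, α, hx, hxs, hy, -, hℓ, -⟩ := exists_good_square h𝒳 h𝒴 f
  refine ⟨U, V, x, y, h, α, hx, hxs, hy, ?_⟩
  -- an fppf scheme cover of `𝒴` through `𝒵`
  obtain ⟨A, a, ha₁, -, hw₁, hw₂, hw₃⟩ := exists_fppf_scheme_cover hZ hY z hz₁ hz₂ hz₃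
  have hA := isFibGrpd_overCat A
  obtain ⟨B, t₁, t₂, ⟨ι₀⟩, ht₁, ht₂⟩ := exists_refine y (BasedFunctor.comp a z)
    (RepByAlgSpWith.repByAlgSp1 hw₁)
  have hB := isFibGrpd_overCat B
  obtain ⟨β₁, ⟨γ⟩, hβ₁⟩ := exists_overMap t₁
  have := locP_respectsIso (S := S) @Flat
  have := locP_respectsIso (S := S) @LocallyOfFinitePresentation
  have := isSurjectiveMor_respectsIso (S := S)
  have hβ₁f : AlgSp.LocP @Flat ((AlgSp.yon S).map β₁) := hβ₁ _ (ht₁ _ calc_flat hw₁)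
  have hβ₁p : AlgSp.LocP @LocallyOfFinitePresentation ((AlgSp.yon S).map β₁) :=
    hβ₁ _ (ht₁ _ calc_lfp hw₂)
  have hβ₁s : AlgSp.IsSurjectiveMor ((AlgSp.yon S).map β₁) := hβ₁ _ (ht₁ _ calc_surj hw₃)
  let y' : FibCat.overCat B ⥤ᵇ 𝒵 := BasedFunctor.comp t₂ a
  have hy' : Sm y' := sm_comp hB hA t₂ a (ht₂ _ calc_smooth hy) ha₁
  have ι : BasedFunctor.comp (ovMap β₁) y ≅ BasedFunctor.comp y' z := bwrIso γ.symm y ≪≫ ι₀
  obtain ⟨ℓ', hℓ', ⟨e'⟩⟩ := exists_bc_lift f z x y h α hℓ β₁ y' ι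
  -- `P` for the base change of `h`
  have h𝒳' : IsAlgStack Scheme.fppfPrecoverage (FibCat.fp z f) :=
    isAlgStack_fp h𝒴.isStack.1 h𝒴.diag h𝒵 h𝒳 z f
  obtain ⟨U₀, V₀, x₀, y₀, h₀, α₀, hx₀, hxs₀, hy₀, hPh₀⟩ := hf
  obtain ⟨U₁, ℓ₁, k₁, hℓ₁, hℓ₁s, ⟨e₁⟩, hk₁⟩ :=
    exists_chart hP h𝒳'.isStack.1 hZ (FibCat.fpFst z f) x₀ y₀ h₀ α₀ hx₀ hxs₀ hy₀ hPh₀ y' hy'
  have h𝒬 : FibCat.IsFibGrpd (FibCat.fp (FibCat.fpFst z f) y').p :=
    isFibGrpd_fp _ _ h𝒳'.isStack.1 hB hZ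
  have hP' : P ((AlgSp.yon S).map (pullback.snd h β₁)) :=
    transfer hP h𝒬 (FibCat.fpSnd (FibCat.fpFst z f) y') ℓ₁ ℓ' hℓ₁ hℓ₁s hℓ' k₁ _ e₁ e' hk₁
  -- fppf descent on the base
  have hcov : AlgSp.IsFppfCover (fun _ : PUnit.{u+1} => (AlgSp.yon S).obj B)
      (fun _ => (AlgSp.yon S).map β₁) := by
    refine ⟨fun _ => ⟨hβ₁f, hβ₁p⟩, fun pt => ?_⟩
    obtain ⟨v, hv⟩ := hβ₁s pt
    exact ⟨PUnit.unit, v, hv⟩
  refine (hP₂ (fun _ : PUnit.{u+1} => (AlgSp.yon S).obj B) (fun _ => (AlgSp.yon S).map β₁)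
    (AlgSp.IsAlgSpace.yon_obj V) (fun _ => AlgSp.IsAlgSpace.yon_obj B) hcov
    ((AlgSp.yon S).map h) (AlgSp.IsAlgSpace.yon_obj U)
    (fun _ => (AlgSp.yon S).obj (pullback h β₁))
    (fun _ => (AlgSp.yon S).map (pullback.snd h β₁))
    (fun _ => (AlgSp.yon S).map (pullback.fst h β₁))
    (fun _ => AlgSp.IsAlgSpace.yon_obj _)
    (fun _ => (IsPullback.of_hasPullback h β₁).map (AlgSp.yon S))).2 (fun _ => hP')

end Groth.Agent.H65.AlgStLocQFppf
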