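import Groth.Agent.H64.Pts.Compact
import Groth.Agent.H64.Pts.Atlas

/-!
# Points of locally Noetherian algebraic stacks
-/

set_option autoImplicit false
open CategoryTheory CategoryTheory.Limits AlgebraicGeometry Opposite
universe u

namespace Groth.Agent.H65.AlgStNoethPts

/-- a continuous image of a Noetherian quasi-sober space is quasi-sober -/
theorem quasiSober_of_surjective {X Y : Type*} [TopologicalSpace X] [TopologicalSpace Y]
    [TopologicalSpace.NoetherianSpace X] [QuasiSober X] (f : X → Y) (hf : Continuous f)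
    (hs : Function.Surjective f) : QuasiSober Y := by
  refine ⟨fun {T} hT hTc => ?_⟩
  have hc : IsClosed (f ⁻¹' T) := hTc.preimage hf
  obtain ⟨𝒮, hfin, hcl, hirr, hU⟩ :=
    TopologicalSpace.NoetherianSpace.exists_finite_set_isClosed_irreducible hc
  have : Nonempty X := by
    obtain ⟨y, -⟩ := hT.nonempty
    obtain ⟨x, -⟩ := hs y
    exact ⟨x⟩
  choose! g hg using fun (t : Set X) (ht : t ∈ 𝒮) => QuasiSober.sober (hirr t ht) (hcl t ht)
  have hmem : ∀ t ∈ 𝒮, f (g t) ∈ T := by
    intro t ht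
    have h1 : g t ∈ t := (hg t ht).mem
    have h2 : g t ∈ f ⁻¹' T := by
      rw [hU]
      exact ⟨t, ht, h1⟩
    exact h2
  have hsub : T ⊆ ⋃₀ ((fun t => closure {f (g t)}) '' 𝒮) := by
    intro y hy
    obtain ⟨x, rfl⟩ := hs y
    have hx : x ∈ f ⁻¹' T := hy
    rw [hU] at hx
    obtain ⟨t, ht, hxt⟩ := hx
    refine ⟨closure {f (g t)}, ⟨t, ht, rfl⟩, ?_⟩
    have h1 : x ∈ closure {g t} := by
      rw [(hg t ht).def]
      exact hxt
    have h2 := image_closure_subset_closure_image hf (s := {g t}) ⟨x, h1, rfl⟩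
    simpa using h2
  have hfin' : ((fun t => closure {f (g t)}) '' 𝒮).Finite := hfin.image _
  obtain ⟨z, hz, hTz⟩ := (isIrreducible_iff_sUnion_isClosed.1 hT) hfin'.toFinset
    (by
      intro z hz
      rw [Set.Finite.mem_toFinset] at hz
      obtain ⟨t, -, rfl⟩ := hz
      exact isClosed_closure)
    (by
      rw [Set.Finite.coe_toFinset]
      exact hsub)
  rw [Set.Finite.mem_toFinset] at hz
  obtain ⟨t, ht, rfl⟩ := hz
  refine ⟨f (g t), ?_⟩
  exact subset_antisymm (closure_minimal (Set.singleton_subset_iff.2 (hmem t ht)) hTc) hTz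

open AlgSt Groth.Agent.H64 Groth.Agent.H64.Pts

variable {S : Scheme.{u}} {𝒳 : AlgSt.Cat S}

/-- the image of an affine open of a locally Noetherian smooth chart is open, Noetherian and
quasi-sober -/
theorem chart_image (h𝒳 : IsAlgStack Scheme.fppfPrecoverage 𝒳) {U : Over S}
    (y : FibCat.overCat U ⥤ᵇ 𝒳) (hy : RepByAlgSpWith (AlgSp.LocP @Smooth) y)
    [IsLocallyNoetherian U.left] (V : U.left.affineOpens) :
    IsOpen (Points.ofChart y '' (V.1 : Set ↥U.left)) ∧
      TopologicalSpace.NoetherianSpace ↥(Points.ofChart y '' (V.1 : Set ↥U.left)) ∧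
      QuasiSober ↥(Points.ofChart y '' (V.1 : Set ↥U.left)) := by
  have hc : Continuous (Points.ofChart y) := continuous_ofChart h𝒳 y
  have ho : IsOpenMap (Points.ofChart y) := isOpenMap_ofChart_of_smooth h𝒳.isStack.1 y hy
  have : IsNoetherianRing Γ(U.left, V.1) := IsLocallyNoetherian.component_noetherian V
  have hN : TopologicalSpace.NoetherianSpace ↥V.1 := noetherianSpace_of_isAffineOpen V.1 V.2
  have hQ : QuasiSober ↥V.1 := V.1.isOpenEmbedding'.quasiSober
  let r : ↥V.1 → ↥(Points.ofChart y '' (V.1 : Set ↥U.left)) :=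
    fun v => ⟨Points.ofChart y v.1, ⟨v.1, v.2, rfl⟩⟩
  have hr : Continuous r := (hc.comp continuous_subtype_val).subtype_mk _
  have hrs : Function.Surjective r := by
    rintro ⟨_, ⟨v, hv, rfl⟩⟩
    exact ⟨⟨v, hv⟩, rfl⟩
  exact ⟨ho _ V.1.2, TopologicalSpace.noetherianSpace_of_surjective r hr hrs,
    quasiSober_of_surjective r hr hrs⟩

end Groth.Agent.H65.AlgStNoethPts
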