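import Groth.Agent.H65.AlgStQC
import Groth.Agent.H65.AlgStQC2
import Groth.Agent.H64.Pts.Compact
import Groth.Agent.H64.Pts.Surj
import Groth.Agent.H64.Psh.FpAlg
import Groth.Agent.H64.Fib.DiagRep
import Groth.Agent.H64.Stk.FpPaste2

/-!
# Quasi-compact morphisms of algebraic stacks and surjections
-/

set_option autoImplicit false
open CategoryTheory CategoryTheory.Limits AlgebraicGeometry
universe u

namespace Groth.Agent.H65.AlgStQC3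

open AlgSt Groth.Agent.H32 Groth.Agent.H64 Groth.Agent.H64.PTh Groth.Agent.H64.FpRep
  Groth.Agent.H64.Recog Groth.Agent.H64.Pts

variable {S : Scheme.{u}}

/-- in a 2-commutative triangle `f ⋙ q ≅ p` with `f` surjective and `p` quasi-compact, `q` is
quasi-compact -/
theorem isQuasiCompactMor_of_triangle {𝒳 𝒴 𝒵 : AlgSt.Cat S}
    (h𝒳 : IsAlgStack Scheme.fppfPrecoverage 𝒳) (h𝒴 : IsAlgStack Scheme.fppfPrecoverage 𝒴)
    (h𝒵 : IsAlgStack Scheme.fppfPrecoverage 𝒵) (f : 𝒳 ⥤ᵇ 𝒴) (p : 𝒳 ⥤ᵇ 𝒵) (q : 𝒴 ⥤ᵇ 𝒵)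
    (e : BasedFunctor.comp f q ≅ p) (hf : AlgSt.IsSurjective f)
    (hp : AlgSt.IsQuasiCompactMor Scheme.fppfPrecoverage p) :
    AlgSt.IsQuasiCompactMor Scheme.fppfPrecoverage q := by
  intro 𝒲 h𝒲 hq g
  have h1 : IsQuasiCompact (FibCat.fp g p) := hp 𝒲 h𝒲 hq g
  obtain ⟨Ψ, hΨ⟩ := exists_equiv_fp_of_iso (Iso.refl g) e.symm
  have h2 : IsQuasiCompact (FibCat.fp g (BasedFunctor.comp f q)) :=
    Groth.Agent.H65.AlgStQC.isQuasiCompact_of_isEquivOver Ψ hΨ h1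
  have h3 : IsQuasiCompact (FibCat.fp (FibCat.fpSnd g q) f) :=
    Groth.Agent.H65.AlgStQC.isQuasiCompact_of_isEquivOver (fpPaste₂ f q g)
      (isEquivOver_fpPaste₂ f q g) h2
  have hA : IsAlgStack Scheme.fppfPrecoverage (FibCat.fp g q) :=
    isAlgStack_fp h𝒵.isStack.1 h𝒵.diag h𝒲 h𝒴 g q
  have hB : IsAlgStack Scheme.fppfPrecoverage (FibCat.fp (FibCat.fpSnd g q) f) :=
    isAlgStack_fp h𝒴.isStack.1 h𝒴.diag hA h𝒳 (FibCat.fpSnd g q) f
  have hs : AlgSt.IsSurjective (FibCat.fpFst (FibCat.fpSnd g q) f) :=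
    isSurjective_fpFst h𝒳.isStack.1 h𝒴.isStack.1 hA.isStack.1 f (FibCat.fpSnd g q) hf
  exact isQuasiCompact_of_isSurjective hB hA _ hs h3

end Groth.Agent.H65.AlgStQC3
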