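import Groth.Agent.H65.AlgStQC3
import Groth.Agent.H65.AlgStEquivP
import Groth.Agent.H65.AlgStIdProps
import Groth.Agent.H65.AlgStSection
import Groth.Agent.H64.Pts.Compare
import Groth.Agent.H64.Psh.PDescent
import Groth.Agent.H64.Psh.AtlasLemma

/-!
# Quasi-compact morphisms of stacks that are representable by algebraic spaces

The converse of `AlgStQC2.isQuasiCompactMor_of_repByAlgSpWith`.
-/

set_option autoImplicit false
open CategoryTheory CategoryTheory.Limits AlgebraicGeometry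
universe u

namespace Groth.Agent.H65.AlgStQC4

open AlgSt Groth.Agent.H32 Groth.Agent.H64 Groth.Agent.H64.PTh Groth.Agent.H64.FpRep
  Groth.Agent.H64.Recog Groth.Agent.H64.Pts

variable {S : Scheme.{u}}

/-- an algebraic space whose category is a quasi-compact stack is quasi-compact -/
theorem isQuasiCompactSp_of_isQuasiCompact_ofSp (F : AlgSp.Space S)
    (h : IsQuasiCompact (ofSp F.obj)) : AlgSp.IsQuasiCompactSp F.obj := by
  obtain ⟨W, x, hW, -, hx₂⟩ := h
  have : IsAffine W.left := hW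
  have hWg : FibCat.IsFibGrpd (FibCat.overCat W).p := (isFibSetoid_overCat W).1
  have hF : FibCat.IsFibGrpd (ofSp F.obj).p := Stk.isFibGrpd_ofPsh _
  have hxs : IsSurjective x :=
    (isSurjective_iff_repByAlgSpWith hWg hF x (RepByAlgSpWith.repByAlgSp1 hx₂)).2 hx₂
  let Φ : ofSp ((AlgSp.yon S).obj W) ⥤ᵇ ofSp F.obj := BasedFunctor.comp (toOverCat W) x
  let p : (AlgSp.yon S).obj W ⟶ F.obj := ObjectProperty.homMk (pshMapOf Φ)
  obtain ⟨β⟩ : Nonempty (ofSpMap p ≅ Φ) := nonempty_iso_ofPshMap Φ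
  have hΦ : Function.Surjective (Points.map Φ) := by
    intro ξ
    obtain ⟨η, hη⟩ := hxs ξ
    obtain ⟨ζ, hζ⟩ := (map_bijective_of_isEquivOver (isEquivOver_toOverCat W)).2 η
    exact ⟨ζ, by rw [map_comp, hζ, hη]⟩
  have hp : AlgSp.IsSurjectiveMor p := by
    intro r'
    obtain ⟨s, hs⟩ := hΦ (σ F.obj r')
    obtain ⟨r, rfl⟩ := σ_surjective s
    refine ⟨r, ?_⟩
    apply σ_injective
    rw [← σ_map, map_eq_of_hom β.hom, hs]
  exact Groth.Agent.H49.isQuasiCompactSp_of_surjective' (AlgSp.IsAlgSpace.yon_obj W) F.property p hp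
    (Groth.Agent.H49.isQuasiCompactSp_yon W)

theorem locP_smooth_id (Y : AlgSp.Sp S) : AlgSp.LocP @Smooth (𝟙 Y) :=
  Groth.Agent.H65.AlgStIdProps.locP_id_of_etale_le _ (fun _ _ g hg => by
    have : Etale g := hg
    exact (inferInstance : Smooth g)) Y

theorem isSurjectiveMor_id (Y : AlgSp.Sp S) : AlgSp.IsSurjectiveMor (𝟙 Y) := by
  intro y
  exact ⟨y, by rw [AlgSp.Points.map_id]⟩

/-- the category of an affine scheme is a quasi-compact stack -/
theorem isQuasiCompact_ofSp_yon (Z : Over S) (hZ : IsAffine Z.left) :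
    IsQuasiCompact (ofSp ((AlgSp.yon S).obj Z)) :=
  ⟨Z, ofOverCat Z, hZ,
    Groth.Agent.H65.AlgStEquivP.repByAlgSpWith_of_isEquivOver _ (fun U => locP_smooth_id _) _
      (isEquivOver_ofOverCat Z),
    Groth.Agent.H65.AlgStEquivP.repByAlgSpWith_of_isEquivOver _ (fun U => isSurjectiveMor_id _) _
      (isEquivOver_ofOverCat Z)⟩

/-- a quasi-compact morphism of stacks which is representable by algebraic spaces has quasi-compact
base changes to schemes -/
theorem repByAlgSpWith_of_isQuasiCompactMor {𝒳 𝒴 : AlgSt.Cat S} (h𝒳 : FibCat.IsFibGrpd 𝒳.p)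
    (h𝒴 : FibCat.IsFibGrpd 𝒴.p) (f : 𝒳 ⥤ᵇ 𝒴) (hf : RepByAlgSp1 f)
    (h : AlgSt.IsQuasiCompactMor Scheme.fppfPrecoverage f) :
    RepByAlgSpWith AlgSp.IsQuasiCompactMor f := by
  apply repByAlgSpWith_of_hasP f
  intro U w
  obtain ⟨V, a, eV, heV, ⟨αV⟩⟩ := exists_presentation h𝒳 h𝒴 f hf (yonSpace U) w
  refine ⟨V, a, eV, heV, ⟨αV⟩, ?_⟩
  refine (Groth.Agent.H49.isQuasiCompactMor_iff_affine V.property (AlgSp.IsAlgSpace.yon_obj U)
    a.hom).2 ?_
  intro Z hZ g P fst snd sq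
  have hP : AlgSp.IsAlgSpace P :=
    Groth.Agent.H49.isAlgSpace_of_isPullback sq (AlgSp.IsAlgSpace.yon_obj U).diag V.property
      (AlgSp.IsAlgSpace.yon_obj Z)
  let 𝒵 : AlgSt.Cat S := ofSp ((AlgSp.yon S).obj Z)
  let z : 𝒵 ⥤ᵇ 𝒴 := BasedFunctor.comp (ofSpMap g) w
  obtain ⟨e₁, he₁, -⟩ := exists_presentation_pullback f z w g (BasedFunctor.id 𝒵) (Iso.refl _)
    a.hom eV heV αV snd fst sq.flip
  have hqc : IsQuasiCompact (FibCat.fp z f) :=
    h 𝒵 (isDM_ofSp (yonSpace Z)).1 (isQuasiCompact_ofSp_yon Z hZ) z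
  have h2 : IsQuasiCompact (FibCat.fp (BasedFunctor.id 𝒵) (FibCat.fpFst z f)) :=
    Groth.Agent.H65.AlgStQC.isQuasiCompact_of_isEquivOver
      (Groth.Agent.H65.AlgStSection.secB (FibCat.fpFst z f))
      (Groth.Agent.H65.AlgStSection.isEquivOver_secB (FibCat.fpFst z f)) hqc
  obtain ⟨d⟩ := IsEquivOver.nonempty_data he₁
  have h3 : IsQuasiCompact (ofSp P) :=
    Groth.Agent.H65.AlgStQC.isQuasiCompact_of_isEquivOver d.inv (isEquivOver_inv d) h2
  exact isQuasiCompactSp_of_isQuasiCompact_ofSp ⟨P, hP⟩ h3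

end Groth.Agent.H65.AlgStQC4
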