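import Groth.Agent.H65.AlgStQC5
import Groth.Agent.H65.AlgStQC
import Groth.Agent.H64.FPtFp
import Groth.Agent.H64.Pts.Compact
import Groth.Agent.H64.Psh.FpAlg
import Groth.Agent.H64.Stk.FpSwap
import Groth.Agent.H64.Fib.DiagRep

/-!
# fppf descent of quasi-compactness of morphisms of algebraic stacks (final step)
-/

set_option autoImplicit false
open CategoryTheory CategoryTheory.Limits AlgebraicGeometry Opposite
universe u

namespace Groth.Agent.H65.AlgStQC6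

open AlgSt Groth.Agent.H32 Groth.Agent.H64 Groth.Agent.H64.PTh Groth.Agent.H64.FpRep
  Groth.Agent.H64.Recog Groth.Agent.H64.Pts Groth.Agent.H65.AlgStQC5

variable {S : Scheme.{u}}

theorem isEquivOver_symm {𝒳 𝒴 : AlgSt.Cat S} {e : 𝒳 ⥤ᵇ 𝒴} (he : FibCat.IsEquivOver e) :
    ∃ e' : 𝒴 ⥤ᵇ 𝒳, FibCat.IsEquivOver e' := by
  obtain ⟨inv, ⟨η⟩, ⟨ε⟩⟩ := he
  exact ⟨inv, e, ⟨ε⟩, ⟨η⟩⟩

/-- Let `f : 𝒳 → 𝒴` be a morphism of algebraic stacks and `W → 𝒴` an fppf cover by an algebraic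
space.  If `W ×_𝒴 𝒳 → W` is quasi-compact, then so is `f`. -/
theorem isQuasiCompactMor_of_fpFst_fppf {𝒳 𝒴 : AlgSt.Cat S}
    (h𝒳 : IsAlgStack Scheme.fppfPrecoverage 𝒳) (h𝒴 : IsAlgStack Scheme.fppfPrecoverage 𝒴)
    (f : 𝒳 ⥤ᵇ 𝒴) (W : AlgSp.Space S) (w : ofSp W.obj ⥤ᵇ 𝒴)
    (hw₁ : RepByAlgSpWith (AlgSp.LocP @Flat) w)
    (hw₂ : RepByAlgSpWith (AlgSp.LocP @LocallyOfFinitePresentation) w)
    (hw₃ : RepByAlgSpWith AlgSp.IsSurjectiveMor w)
    (H : IsQuasiCompactMor Scheme.fppfPrecoverage (FibCat.fpFst w f)) :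
    IsQuasiCompactMor Scheme.fppfPrecoverage f := by
  intro 𝒵 h𝒵 hqc g
  obtain ⟨U, z, hU, hz₁, hz₂⟩ := hqc
  obtain ⟨A, hA, α, τ, hα, ⟨θ⟩⟩ := exists_compact_refinement h𝒴.isStack.1 W w hw₁ hw₂ hw₃ U
    (BasedFunctor.comp z g)
  have h1 : IsQuasiCompact (FibCat.fp τ (FibCat.fpFst w f)) :=
    H (FibCat.overCat A) (isAlgStack_overCat A) (isQuasiCompact_overCat A) τ
  obtain ⟨e₁, he₁⟩ := isEquivOver_symm (isEquivOver_fpPaste f w τ)
  have h2 : IsQuasiCompact (FibCat.fp (BasedFunctor.comp τ w) f) :=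
    Groth.Agent.H65.AlgStQC.isQuasiCompact_of_isEquivOver e₁ he₁ h1
  obtain ⟨e₂, he₂⟩ := exists_equiv_fp_of_iso θ.symm (Iso.refl f)
  have h3 : IsQuasiCompact (FibCat.fp (BasedFunctor.comp (BasedFunctor.comp α z) g) f) :=
    Groth.Agent.H65.AlgStQC.isQuasiCompact_of_isEquivOver e₂ he₂ h2
  have h4 : IsQuasiCompact (FibCat.fp (BasedFunctor.comp α z) (FibCat.fpFst g f)) :=
    Groth.Agent.H65.AlgStQC.isQuasiCompact_of_isEquivOver _
      (isEquivOver_fpPaste f g (BasedFunctor.comp α z)) h3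
  have h5 : IsQuasiCompact (FibCat.fp (FibCat.fpFst g f) (BasedFunctor.comp α z)) :=
    Groth.Agent.H65.AlgStQC.isQuasiCompact_of_isEquivOver _
      (isEquivOver_fpSwap (BasedFunctor.comp α z) (FibCat.fpFst g f)) h4
  have hs : IsSurjective (BasedFunctor.comp α z) := by
    intro ξ
    obtain ⟨u, rfl⟩ := surjective_ofChart h𝒵.isStack.1 z hz₂ ξ
    obtain ⟨a, ha⟩ := hα u
    refine ⟨ptU A a, ?_⟩
    rw [map_comp, ha]
    rfl
  have hfp : IsAlgStack Scheme.fppfPrecoverage (FibCat.fp g f) :=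
    isAlgStack_fp h𝒴.isStack.1 h𝒴.diag h𝒵 h𝒳 g f
  have hA' : IsAlgStack Scheme.fppfPrecoverage (FibCat.overCat A) := isAlgStack_overCat A
  have hfp2 : IsAlgStack Scheme.fppfPrecoverage
      (FibCat.fp (FibCat.fpFst g f) (BasedFunctor.comp α z)) :=
    isAlgStack_fp h𝒵.isStack.1 h𝒵.diag hfp hA' _ _
  exact isQuasiCompact_of_isSurjective hfp2 hfp _
    (isSurjective_fpFst hA'.isStack.1 h𝒵.isStack.1 hfp.isStack.1 (BasedFunctor.comp α z)
      (FibCat.fpFst g f) hs) h5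

end Groth.Agent.H65.AlgStQC6
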