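import Groth.Agent.H64.Psh.DiagLft
import Groth.Agent.H64.Psh.DMOfComp

/-!
# The base `(Sch/S)` over itself is representable; consequences

* `isEquivOver_toSelf_overCat`: for `T` terminal, `C/T ⟶ C` is an equivalence over `C`;
* `repByAlgSp_selfOver`, `repByAlgSp1_toSelf`: the structure functor of a category representable by an
  algebraic space is representable by algebraic spaces;
* `repByAlgSpWith_diag_toSelf_of_cover`: if `w : W ⟶ 𝒳` is an fppf cover by an algebraic space with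
  property `P` (a good class with `P`-diagonals) then the diagonal of `𝒳` over the base has `P`.
-/

set_option autoImplicit false
open CategoryTheory CategoryTheory.Limits AlgebraicGeometry
universe v u

namespace Groth.Agent.H65.AlgStSelfRep

open AlgSt Groth.Agent.H32 Groth.Agent.H64 Groth.Agent.H64.PTh Groth.Agent.H64.FpRep

section core

variable {C : Type u} [Category.{v} C]

theorem isEquivOver_toSelf_overCat {T : C} (hT : IsTerminal T) :
    FibCat.IsEquivOver (FibCat.toSelf (FibCat.overCat T)) := by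
  have hfull : (FibCat.toSelf (FibCat.overCat T)).toFunctor.Full :=
    ⟨fun {X Y} f => ⟨Over.homMk f (hT.hom_ext _ _), rfl⟩⟩
  have hfaith : (FibCat.toSelf (FibCat.overCat T)).toFunctor.Faithful :=
    (inferInstance : (Over.forget T).Faithful)
  refine isEquivOver_of_fullyFaithful_of_fiberwise_essSurj _ (fun η => ?_)
  exact ⟨Over.mk (hT.from η), Iso.refl _, IsHomLift.id rfl⟩

end core

variable {S : Scheme.{u}}

theorem repByAlgSp_selfOver : RepByAlgSp (FibCat.selfOver (Over S)) :=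
  repByAlgSp_of_isEquivOver (isEquivOver_toSelf_overCat Over.mkIdTerminal)
    (repByAlgSp_overCat (Over.mk (𝟙 S)))

theorem repByAlgSp1_toSelf {𝒰 : AlgSt.Cat S} (h : RepByAlgSp 𝒰) :
    RepByAlgSp1 (FibCat.toSelf 𝒰) :=
  repByAlgSp1_of_repByAlgSp h repByAlgSp_selfOver _

/-- if `w : W ⟶ 𝒳` is an fppf cover from (a category representable by) an algebraic space having
the property `LocP Q`, then the diagonal of `𝒳` over the base has `LocP Q` -/
theorem repByAlgSpWith_diag_toSelf_of_cover {Q : MorphismProperty Scheme.{u}}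
    (hG : Groth.Agent.H50.GoodClass Q)
    (hQl : AlgSp.IsLocalOnBase (AlgSp.IsFpqcCover (S := S)) (AlgSp.LocP Q))
    (hQd : ∀ (V : AlgSp.Space S) (T : Over S) (b : V.obj ⟶ (AlgSp.yon S).obj T),
      AlgSp.LocP Q (pullback.diagonal b))
    {𝒳 𝒰 : AlgSt.Cat S} (h𝒳 : IsAlgStack Scheme.fppfPrecoverage 𝒳)
    (h𝒰 : FibCat.IsFibGrpd 𝒰.p) (hr : RepByAlgSp 𝒰) (w : 𝒰 ⥤ᵇ 𝒳)
    (hw₁ : RepByAlgSpWith (AlgSp.LocP @Flat) w)
    (hw₂ : RepByAlgSpWith (AlgSp.LocP @LocallyOfFinitePresentation) w)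
    (hw₃ : RepByAlgSpWith AlgSp.IsSurjectiveMor w)
    (hw₄ : RepByAlgSpWith (AlgSp.LocP Q) w) :
    RepByAlgSpWith (AlgSp.LocP Q) (FibCat.diag (FibCat.toSelf 𝒳)) := by
  obtain ⟨e⟩ := self_biso_nonempty
    (BasedFunctor.comp (BasedFunctor.comp
        (FibCat.fpFst (FibCat.toSelf 𝒰) (FibCat.toSelf 𝒰)) w) (FibCat.toSelf 𝒳))
    (BasedFunctor.comp (BasedFunctor.comp
        (FibCat.fpSnd (FibCat.toSelf 𝒰) (FibCat.toSelf 𝒰)) w) (FibCat.toSelf 𝒳))
  have hs : RepByAlgSp1 (FibCat.toSelf 𝒰) := repByAlgSp1_toSelf hr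
  refine diag_toSelf_of_atlas_aux (AlgSp.LocP Q) (stableBC_locP hG)
    (fun _ _ _ _ hY _ a b ha hb => hG.locP_comp hY a b ha hb)
    (isLocalOnBase_fppf_of_fpqc hQl) hQd h𝒳.isStack.1 h𝒰 h𝒳.diag w hw₄
    (FibCat.toSelf 𝒰) (toSelf_eq_comp w)
    (repByAlgSp1_fpFst (FibCat.toSelf 𝒰) (FibCat.toSelf 𝒰) hs) e ?_ ?_ ?_
  · exact repByAlgSpWith_prodF h𝒰 h𝒳.isStack.1 (stableBC_locP Groth.Agent.H50.goodClass_flat)
      (fun _ _ _ _ hY _ a b ha hb => Groth.Agent.H50.goodClass_flat.locP_comp hY a b ha hb)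
      isLocalOnBase_fppf_flat w w hw₁ hw₁ e
  · exact repByAlgSpWith_prodF h𝒰 h𝒳.isStack.1 (stableBC_locP Groth.Agent.H50.goodClass_lfp)
      (fun _ _ _ _ hY _ a b ha hb => Groth.Agent.H50.goodClass_lfp.locP_comp hY a b ha hb)
      isLocalOnBase_fppf_lfp w w hw₂ hw₂ e
  · exact repByAlgSpWith_prodF h𝒰 h𝒳.isStack.1 stableBC_surj
      (fun _ _ _ _ _ _ _ _ ha hb => Groth.Agent.H49.isSurjectiveMor_comp ha hb)
      isLocalOnBase_fppf_surj w w hw₃ hw₃ e

end Groth.Agent.H65.AlgStSelfRep
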