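import Groth.Agent.H65.AlgStQC6
import Groth.Agent.H65.AlgStQC3
import Groth.Agent.H65.AlgStQC2
import Groth.Agent.H65.AlgStSelfRep
import Groth.Agent.H64.Psh.DiagOfComp

/-!
# Quasi-compact stacks over a quasi-separated base: the structure morphism is quasi-compact
-/

set_option autoImplicit false
open CategoryTheory CategoryTheory.Limits AlgebraicGeometry Opposite
universe u

namespace Groth.Agent.H65.AlgStQC7

open AlgSt Groth.Agent.H32 Groth.Agent.H64 Groth.Agent.H64.PTh Groth.Agent.H64.FpRep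
  Groth.Agent.H64.Recog Groth.Agent.H64.Pts Groth.Agent.H65.AlgStQC5

variable {S : Scheme.{u}}

/-- the base `(Sch/S)` over itself is an algebraic stack -/
theorem isAlgStack_selfOver : IsAlgStack Scheme.fppfPrecoverage (FibCat.selfOver (Over S)) :=
  isAlgStack_of_isEquivOver _ (FibCat.toSelf (FibCat.overCat (Over.mk (𝟙 S))))
    (Groth.Agent.H65.AlgStSelfRep.isEquivOver_toSelf_overCat Over.mkIdTerminal)
    (isAlgStack_overCat _)

/-- a smooth surjective chart is surjective on points -/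
theorem isSurjective_of_chart {𝒳 : AlgSt.Cat S} (h𝒳 : FibCat.IsFibGrpd 𝒳.p) {U : Over S}
    (x : FibCat.overCat U ⥤ᵇ 𝒳) (hx : RepByAlgSpWith AlgSp.IsSurjectiveMor x) :
    AlgSt.IsSurjective x := by
  intro ξ
  obtain ⟨u, rfl⟩ := surjective_ofChart h𝒳 x hx ξ
  exact ⟨ptU U u, rfl⟩

/-- over a quasi-separated base, the structure morphism of a quasi-compact scheme is a
quasi-compact morphism of stacks -/
theorem isQuasiCompactMor_toSelf_overCat [QuasiSeparatedSpace S] (U : Over S)
    [CompactSpace U.left] :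
    AlgSt.IsQuasiCompactMor Scheme.fppfPrecoverage (FibCat.toSelf (FibCat.overCat U)) := by
  let k : U ⟶ Over.mk (𝟙 S) := Over.homMk U.hom
  have hqc : QuasiCompact k.left := by
    show QuasiCompact U.hom
    infer_instance
  have hPb : StableBC (AlgSp.IsQuasiCompactMor (S := S)) :=
    fun _ _ _ _ _ _ _ _ _ _ _ _ sq ha => Groth.Agent.H49.isQuasiCompactMor_of_isPullback sq ha
  have h1 : AlgSp.IsQuasiCompactMor ((AlgSp.yon S).map k) :=
    Groth.Agent.H50.isQuasiCompactMor_of_repWith (le_refl _) _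
      ((AlgSp.repWith_yon_map_iff @QuasiCompact k).2 hqc)
  have h2 : RepByAlgSpWith AlgSp.IsQuasiCompactMor (AlgSt.overMap k) :=
    repByAlgSpWith_overMap _ hPb k h1
  have h3 : RepByAlgSpWith AlgSp.IsQuasiCompactMor
      (BasedFunctor.comp (AlgSt.overMap k) (FibCat.toSelf (FibCat.overCat (Over.mk (𝟙 S))))) :=
    repByAlgSpWith_comp_equiv _ _ _
      (Groth.Agent.H65.AlgStSelfRep.isEquivOver_toSelf_overCat Over.mkIdTerminal) h2
  rw [toSelf_eq_comp (AlgSt.overMap k)]
  exact Groth.Agent.H65.AlgStQC2.isQuasiCompactMor_of_repByAlgSpWith _ h3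

/-- over a quasi-separated base, the structure morphism of a quasi-compact algebraic stack is
quasi-compact -/
theorem isQuasiCompactMor_toSelf [QuasiSeparatedSpace S] {𝒳 : AlgSt.Cat S}
    (h𝒳 : IsAlgStack Scheme.fppfPrecoverage 𝒳) (hq : AlgSt.IsQuasiCompact 𝒳) :
    AlgSt.IsQuasiCompactMor Scheme.fppfPrecoverage (FibCat.toSelf 𝒳) := by
  obtain ⟨U, x, hU, hx₁, hx₂⟩ := hq
  have : IsAffine U.left := hU
  exact Groth.Agent.H65.AlgStQC3.isQuasiCompactMor_of_triangle (isAlgStack_overCat U) h𝒳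
    isAlgStack_selfOver x (FibCat.toSelf (FibCat.overCat U)) (FibCat.toSelf 𝒳)
    (eqToIso (toSelf_eq_comp x).symm) (isSurjective_of_chart h𝒳.isStack.1 x hx₂)
    (isQuasiCompactMor_toSelf_overCat U)

end Groth.Agent.H65.AlgStQC7
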