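import Groth.Agent.H65.AlgStQC7
import Groth.Agent.H65.AlgStSwap
import Groth.Agent.H65.AlgStImmNoeth
import Groth.Agent.H64.Psh.Cancel
import Groth.Agent.H64.Psh.PComp
import Groth.Agent.H64.Psh.DiagLft
import Groth.Agent.H64.Pts.Surj

/-!
# fppf descent of quasi-compactness along a cover by an algebraic stack
-/

set_option autoImplicit false
open CategoryTheory CategoryTheory.Limits AlgebraicGeometry Opposite
universe u

namespace Groth.Agent.H65.AlgStQC8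

open AlgSt Groth.Agent.H32 Groth.Agent.H64 Groth.Agent.H64.PTh Groth.Agent.H64.FpRep
  Groth.Agent.H64.Recog Groth.Agent.H64.Pts Groth.Agent.H65.AlgStQC5 Groth.Agent.H65.AlgStQC7

variable {S : Scheme.{u}}

/-- from a `LocQ (LocP Q)` witness (`Q ⊇` smooth a good class) produce a smooth surjective chart
`x : U ⟶ 𝒵` such that `x ⋙ z` has `LocP Q` -/
theorem exists_chart_of_locQ {Q : MorphismProperty Scheme.{u}}
    (hG : Groth.Agent.H50.GoodClass Q) (hsm : @Smooth ≤ Q)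
    (hQl : AlgSp.IsLocalOnBase (AlgSp.IsFppfCover (S := S)) (AlgSp.LocP Q))
    {𝒵 𝒴 : AlgSt.Cat S} (z : 𝒵 ⥤ᵇ 𝒴) (hz : LocQ (AlgSp.LocP Q) z) :
    ∃ (U : Over S) (x : FibCat.overCat U ⥤ᵇ 𝒵), RepByAlgSpWith (AlgSp.LocP @Smooth) x ∧
      RepByAlgSpWith AlgSp.IsSurjectiveMor x ∧
      RepByAlgSpWith (AlgSp.LocP Q) (BasedFunctor.comp x z) := by
  obtain ⟨U, V, x, y, h, α, hx₁, hx₂, hy, hh⟩ := hz
  refine ⟨U, x, hx₁, hx₂, ?_⟩
  have hU : FibCat.IsFibGrpd (FibCat.overCat U).p := (isFibSetoid_overCat U).1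
  have hV : FibCat.IsFibGrpd (FibCat.overCat V).p := (isFibSetoid_overCat V).1
  exact repByAlgSpWith_of_iso α (repByAlgSpWith_comp hU hV (stableBC_locP hG)
    (fun _ _ _ _ hY _ a b ha hb => hG.locP_comp hY a b ha hb) hQl (AlgSt.overMap h) y
    (repByAlgSpWith_overMap _ (stableBC_locP hG) h hh) (repByAlgSpWith_locP_mono hsm y hy))

/-- Let `f : 𝒳 → 𝒴` be a morphism of algebraic stacks and `z : 𝒵 → 𝒴` a flat, locally finitely
presented, surjective morphism of algebraic stacks.  If `𝒵 ×_𝒴 𝒳 → 𝒵` is quasi-compact then so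
is `f`. -/
theorem isQuasiCompactMor_of_fpFst_of_fppf {𝒳 𝒴 𝒵 : AlgSt.Cat S}
    (h𝒳 : IsAlgStack Scheme.fppfPrecoverage 𝒳) (h𝒴 : IsAlgStack Scheme.fppfPrecoverage 𝒴)
    (h𝒵 : IsAlgStack Scheme.fppfPrecoverage 𝒵) (f : 𝒳 ⥤ᵇ 𝒴) (z : 𝒵 ⥤ᵇ 𝒴)
    (hz₁ : LocQ (AlgSp.LocP @Flat) z) (hz₂ : LocQ (AlgSp.LocP @LocallyOfFinitePresentation) z)
    (hz₃ : AlgSt.IsSurjective z)
    (H : IsQuasiCompactMor Scheme.fppfPrecoverage (FibCat.fpFst z f)) :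
    IsQuasiCompactMor Scheme.fppfPrecoverage f := by
  obtain ⟨U₁, x₁, hx₁s, hx₁j, hx₁f⟩ := exists_chart_of_locQ Groth.Agent.H50.goodClass_flat
    Groth.Agent.H65.AlgStImmNoeth.smooth_le_flat isLocalOnBase_fppf_flat z hz₁
  obtain ⟨U₂, x₂, hx₂s, hx₂j, hx₂p⟩ := exists_chart_of_locQ Groth.Agent.H50.goodClass_lfp
    Groth.Agent.H65.AlgStImmNoeth.smooth_le_lfp isLocalOnBase_fppf_lfp z hz₂
  obtain ⟨F, e, he⟩ := (RepByAlgSpWith.repByAlgSp1 hx₂s) U₁ x₁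
  have hF : FibCat.IsFibGrpd (ofSp F.obj).p := Stk.isFibGrpd_ofPsh _
  have hU₁ : FibCat.IsFibGrpd (FibCat.overCat U₁).p := (isFibSetoid_overCat U₁).1
  have hU₂ : FibCat.IsFibGrpd (FibCat.overCat U₂).p := (isFibSetoid_overCat U₂).1
  let t₁ : ofSp F.obj ⥤ᵇ FibCat.overCat U₁ := BasedFunctor.comp e (FibCat.fpFst x₁ x₂)
  let t₂ : ofSp F.obj ⥤ᵇ FibCat.overCat U₂ := BasedFunctor.comp e (FibCat.fpSnd x₁ x₂)
  have ht₁ : RepByAlgSpWith (AlgSp.LocP @Smooth) t₁ :=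
    Groth.Agent.H65.AlgStImmNoeth.repByAlgSpWith_equiv_comp _ e he _
      (repByAlgSpWith_fpFst _ x₂ x₁ hx₂s)
  have ht₂ : RepByAlgSpWith (AlgSp.LocP @Smooth) t₂ :=
    Groth.Agent.H65.AlgStImmNoeth.repByAlgSpWith_equiv_comp _ e he _
      (Groth.Agent.H65.AlgStSwap.repByAlgSpWith_fpSnd _ x₁ x₂ hx₁s)
  let w : ofSp F.obj ⥤ᵇ 𝒴 := BasedFunctor.comp t₁ (BasedFunctor.comp x₁ z)
  let w' : ofSp F.obj ⥤ᵇ 𝒴 := BasedFunctor.comp t₂ (BasedFunctor.comp x₂ z)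
  have ι : w' ≅ w := (bwlIso e (bwrIso (FibCat.fpIso x₁ x₂) z)).symm
  have hw₁ : RepByAlgSpWith (AlgSp.LocP @Flat) w :=
    repByAlgSpWith_comp hF hU₁ (stableBC_locP Groth.Agent.H50.goodClass_flat)
      (fun _ _ _ _ hY _ a b ha hb => Groth.Agent.H50.goodClass_flat.locP_comp hY a b ha hb)
      isLocalOnBase_fppf_flat t₁ _
      (repByAlgSpWith_locP_mono Groth.Agent.H65.AlgStImmNoeth.smooth_le_flat t₁ ht₁) hx₁f
  have hw₂' : RepByAlgSpWith (AlgSp.LocP @LocallyOfFinitePresentation) w' :=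
    repByAlgSpWith_comp hF hU₂ (stableBC_locP Groth.Agent.H50.goodClass_lfp)
      (fun _ _ _ _ hY _ a b ha hb => Groth.Agent.H50.goodClass_lfp.locP_comp hY a b ha hb)
      isLocalOnBase_fppf_lfp t₂ _
      (repByAlgSpWith_locP_mono Groth.Agent.H65.AlgStImmNoeth.smooth_le_lfp t₂ ht₂) hx₂p
  have hw₂ : RepByAlgSpWith (AlgSp.LocP @LocallyOfFinitePresentation) w :=
    repByAlgSpWith_of_iso ι.symm hw₂'
  have hs : AlgSt.IsSurjective w := by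
    intro η
    obtain ⟨ζ, rfl⟩ := hz₃ η
    obtain ⟨u, rfl⟩ := isSurjective_of_chart h𝒵.isStack.1 x₁ hx₁j ζ
    obtain ⟨q, rfl⟩ := isSurjective_fpFst hU₂ h𝒵.isStack.1 hU₁ x₂ x₁
      (isSurjective_of_chart h𝒵.isStack.1 x₂ hx₂j) u
    obtain ⟨r, rfl⟩ := (map_bijective_of_isEquivOver he).2 q
    refine ⟨r, ?_⟩
    rw [map_comp, map_comp, map_comp]
  have hw₃ : RepByAlgSpWith AlgSp.IsSurjectiveMor w :=
    (isSurjective_iff_repByAlgSpWith hF h𝒴.isStack.1 w (RepByAlgSpWith.repByAlgSp1 hw₁)).1 hs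
  refine Groth.Agent.H65.AlgStQC6.isQuasiCompactMor_of_fpFst_fppf h𝒳 h𝒴 f F w hw₁ hw₂ hw₃ ?_
  have h1 : IsQuasiCompactMor Scheme.fppfPrecoverage
      (FibCat.fpFst (BasedFunctor.comp t₁ x₁) (FibCat.fpFst z f)) :=
    Groth.Agent.H65.AlgStQC.isQuasiCompactMor_fpFst _ (FibCat.fpFst z f)
      (BasedFunctor.comp t₁ x₁) H
  exact Groth.Agent.H65.AlgStQC2.isQuasiCompactMor_precomp_equiv
    (fpPaste f z (BasedFunctor.comp t₁ x₁)) (isEquivOver_fpPaste f z (BasedFunctor.comp t₁ x₁)) _ h1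

end Groth.Agent.H65.AlgStQC8
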