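import Groth.Agent.H64.Psh.AlgStackRep
import Groth.Agent.H64.Psh.OverCatRep
import Groth.Agent.H64.Fib.RepUnique
import Groth.Prelude.Def_AlgSt3

/-!
# Scheme charts of schematic morphisms of stacks (helper65)

If `f : 𝒳 ⟶ 𝒴` is representable by algebraic spaces with `RepWith Q` (so every base change to a scheme
is a scheme, with property `Q`), then for every `y : (Sch/V) ⟶ 𝒴` the 2-fibre product is equivalent to
`(Sch/U)` for a scheme `U` with a morphism `h : U ⟶ V` having `Q`.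
-/

set_option autoImplicit false
universe v₂ u₂ u
open CategoryTheory CategoryTheory.Limits AlgebraicGeometry Opposite

namespace Groth.Agent.H65.AlgStSchematic

open AlgSt Groth.Agent.H32 Groth.Agent.H64 Groth.Agent.H64.FpRep

section general

variable {C : Type*} [Category C]

theorem over_aux1 {V T : C} (A B : Over V) (hA : A.left = T) (hB : B.left = T)
    (h : eqToHom hA.symm ≫ A.hom = eqToHom hB.symm ≫ B.hom) :
    eqToHom (hA.trans hB.symm) ≫ B.hom = A.hom := by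
  rw [← cancel_epi (eqToHom hA.symm), h]
  simp

theorem over_aux2 {V T T' : C} {A A' B B' : Over V} (hA : A.left = T) (hB : B.left = T)
    (hA' : A'.left = T') (hB' : B'.left = T') (t : T ⟶ T') (mA : A ⟶ A') (mB : B ⟶ B')
    (h1 : mA.left = eqToHom hA ≫ t ≫ eqToHom hA'.symm)
    (h2 : mB.left = eqToHom hB ≫ t ≫ eqToHom hB'.symm) :
    mA.left ≫ eqToHom (hA'.trans hB'.symm) = eqToHom (hA.trans hB.symm) ≫ mB.left := by
  rw [h1, h2]
  simp

/-- functors to a slice are isomorphic as soon as the structure morphisms of their values agree -/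
theorem nonempty_iso_overCat {𝒜 : BasedCategory.{v₂, u₂} C} {V : C}
    (G H : 𝒜 ⥤ᵇ FibCat.overCat V)
    (h : ∀ a, eqToHom (G.w_obj a).symm ≫ (G.obj a).hom = eqToHom (H.w_obj a).symm ≫ (H.obj a).hom) :
    Nonempty (G ≅ H) := by
  have hGH : ∀ a, (G.obj a).left = (H.obj a).left := fun a => (G.w_obj a).trans (H.w_obj a).symm
  refine ⟨mkBIso (fun a => Over.isoMk (eqToIso (hGH a))
    (over_aux1 (G.obj a) (H.obj a) (G.w_obj a) (H.w_obj a) (h a))) ?_ ?_⟩
  · intro a b m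
    apply Over.OverMorphism.ext
    have h1 : (G.map m).left = eqToHom (G.w_obj a) ≫ 𝒜.p.map m ≫ eqToHom (G.w_obj b).symm :=
      IsHomLift.fac' (FibCat.overCat V).p (𝒜.p.map m) (G.map m)
    have h2 : (H.map m).left = eqToHom (H.w_obj a) ≫ 𝒜.p.map m ≫ eqToHom (H.w_obj b).symm :=
      IsHomLift.fac' (FibCat.overCat V).p (𝒜.p.map m) (H.map m)
    exact over_aux2 (G.w_obj a) (H.w_obj a) (G.w_obj b) (H.w_obj b) (𝒜.p.map m) (G.map m)
      (H.map m) h1 h2
  · intro a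
    apply IsHomLift.of_fac' _ _ _ (G.w_obj a) (H.w_obj a)
    show eqToHom (hGH a) = eqToHom (G.w_obj a) ≫ 𝟙 _ ≫ eqToHom (H.w_obj a).symm
    simp
    rfl

end general

variable {S : Scheme.{u}}

/-- the functor of an isomorphism of sheaves is an equivalence -/
theorem isEquivOver_ofSpMap_of_isIso {F G : AlgSp.Sp S} (i : F ⟶ G) [IsIso i] :
    FibCat.IsEquivOver (ofSpMap i) := by
  have h1 : BasedFunctor.comp (ofSpMap i) (ofSpMap (inv i)) = BasedFunctor.id _ := by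
    have : i ≫ inv i = 𝟙 _ := IsIso.hom_inv_id i
    show ofSpMap (i ≫ inv i) = _
    rw [this]
    rfl
  have h2 : BasedFunctor.comp (ofSpMap (inv i)) (ofSpMap i) = BasedFunctor.id _ := by
    have : inv i ≫ i = 𝟙 _ := IsIso.inv_hom_id i
    show ofSpMap (inv i ≫ i) = _
    rw [this]
    rfl
  exact ⟨ofSpMap (inv i), ⟨eqToIso h1⟩, ⟨eqToIso h2⟩⟩

/-- scheme charts of a schematic morphism -/
theorem exists_scheme_chart {𝒳 𝒴 : AlgSt.Cat S} (Q : MorphismProperty Scheme.{u})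
    (f : 𝒳 ⥤ᵇ 𝒴) (hf : RepByAlgSpWith (AlgSp.RepWith Q) f) (V : Over S)
    (y : FibCat.overCat V ⥤ᵇ 𝒴) :
    ∃ (U : Over S) (h : U ⟶ V) (E : FibCat.overCat U ⥤ᵇ FibCat.fp y f),
      FibCat.IsEquivOver E ∧ Q h.left ∧
        Nonempty (BasedFunctor.comp E (FibCat.fpFst y f) ≅ AlgSt.overMap h) := by
  obtain ⟨F, e, he, hm⟩ := hf V y
  let Φ : ofSp F.obj ⥤ᵇ FibCat.overCat V := BasedFunctor.comp e (FibCat.fpFst y f)
  let g₀ : (AlgSp.yon S).obj V ⟶ (AlgSp.yon S).obj V := 𝟙 _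
  let U : Over S := hm.rep.pullback g₀
  let i : (AlgSp.yon S).obj U ⟶ F.obj := hm.rep.fst g₀
  let h : U ⟶ V := hm.rep.snd g₀
  have sq : IsPullback i ((AlgSp.yon S).map h) (spMapOfOver Φ) g₀ := hm.rep.isPullback g₀
  have hi : IsIso i := sq.isIso_fst_of_isIso
  have hQ : Q h.left := hm.property_snd g₀
  let E : FibCat.overCat U ⥤ᵇ FibCat.fp y f :=
    BasedFunctor.comp (ofOverCat U) (BasedFunctor.comp (ofSpMap i) e)
  refine ⟨U, h, E, isEquivOver_comp (isEquivOver_ofOverCat U)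
    (isEquivOver_comp (isEquivOver_ofSpMap_of_isIso i) he), hQ, ?_⟩
  apply nonempty_iso_overCat
  intro a
  have key : secHom Φ ⟨a.left, i.hom.app (op a.left) ⟨a.hom⟩⟩ = a.hom ≫ h := by
    have h1 := congrArg (fun t => (t.hom.app (op a.left) ⟨a.hom⟩).down) sq.w
    exact h1
  have h2 : eqToHom ((AlgSt.overMap h).w_obj a).symm ≫ ((AlgSt.overMap h).obj a).hom =
      a.hom ≫ h := Category.id_comp _
  rw [h2]
  exact key

/-- a schematic morphism with `Q ≤ P` has `P` read on one square of smooth charts -/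
theorem locQ_of_schematic {𝒳 𝒴 : AlgSt.Cat S} (Q P : MorphismProperty Scheme.{u}) (hQP : Q ≤ P)
    (hG : Groth.Agent.H50.GoodClass P)
    (hat : HasAtlas (AlgSp.LocP @Smooth) 𝒴) (f : 𝒳 ⥤ᵇ 𝒴)
    (hf : RepByAlgSpWith (AlgSp.RepWith Q) f) : LocQ (AlgSp.LocP P) f := by
  obtain ⟨V, y, hy₁, hy₂⟩ := hat
  obtain ⟨U, h, E, hE, hQ, ⟨β⟩⟩ := exists_scheme_chart Q f hf V y
  let x : FibCat.overCat U ⥤ᵇ 𝒳 := BasedFunctor.comp E (FibCat.fpSnd y f)
  have hx : ∀ R : MorphismProperty (AlgSp.Sp S), RepByAlgSpWith R y → RepByAlgSpWith R x :=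
    fun R hR => repByAlgSpWith_of_square R (FibCat.fpSnd y f) x E (BasedFunctor.id _) hE
      (isEquivOver_id _) (Iso.refl _) (Groth.Agent.H64.PTh.repByAlgSpWith_fpSnd R y f hR)
  let α : BasedFunctor.comp x f ≅ BasedFunctor.comp (AlgSt.overMap h) y :=
    (bWhiskerLeftIso E (FibCat.fpIso y f).symm) ≪≫ bWhiskerRightIso β y
  exact ⟨U, V, x, y, h, α, hx _ hy₁, hx _ hy₂, hy₁, hG.locP_yon_map h (hQP _ hQ)⟩

end Groth.Agent.H65.AlgStSchematic
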