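import Mathlib

set_option autoImplicit false
universe u
open CategoryTheory CategoryTheory.Limits AlgebraicGeometry Opposite IsLocalRing

/-! Scheme-level lemmas producing valuation rings: from a specialization of the image of a point,
and from a flat morphism to the spectrum of a valuation ring. -/

namespace Groth.Agent.H65.ValRingLift

/-- a specialization `h u ⤳ v` is realized by a valuation ring with fraction field mapping to `u` -/
theorem exists_valuationRing_of_specializes {X Y : Scheme.{u}} (h : X ⟶ Y) (x : X) (v : Y)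
    (hs : h x ⤳ v) :
    ∃ (A : Type u) (_ : CommRing A) (_ : IsDomain A) (_ : ValuationRing A)
      (tA : Spec (CommRingCat.of A) ⟶ Y) (tK : Spec (CommRingCat.of (FractionRing A)) ⟶ X),
      tK ≫ h = Spec.map (CommRingCat.ofHom (algebraMap A (FractionRing A))) ≫ tA ∧
        tA (closedPoint A) = v := by
  let g : Y.presheaf.stalk v ⟶ X.residueField x :=
    Y.presheaf.stalkSpecializes hs ≫ h.stalkMap x ≫ X.residue x
  obtain ⟨A, hA, hA_local⟩ := exists_factor_valuationRing g.hom
  let gA : Y.presheaf.stalk v ⟶ .of A := CommRingCat.ofHom (g.hom.codRestrict _ hA)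
  have w : X.fromSpecResidueField x ≫ h =
      Spec.map (CommRingCat.ofHom (algebraMap A (X.residueField x))) ≫
        Spec.map gA ≫ Y.fromSpecStalk v := by
    rw [Scheme.fromSpecResidueField, Category.assoc, ← Scheme.SpecMap_stalkMap_fromSpecStalk,
      ← Scheme.SpecMap_stalkSpecializes_fromSpecStalk hs]
    simp_rw [← Spec.map_comp_assoc]
    rfl
  let e : FractionRing A ≃ₐ[A] X.residueField x := FractionRing.algEquiv A (X.residueField x)
  let eK : CommRingCat.of (X.residueField x) ⟶ CommRingCat.of (FractionRing A) :=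
    CommRingCat.ofHom (e.symm : X.residueField x →+* FractionRing A)
  have he : CommRingCat.ofHom (algebraMap A (X.residueField x)) ≫ eK =
      CommRingCat.ofHom (algebraMap A (FractionRing A)) := by
    ext a
    exact e.symm.commutes a
  refine ⟨A, inferInstance, inferInstance, inferInstance, Spec.map gA ≫ Y.fromSpecStalk v,
    Spec.map eK ≫ X.fromSpecResidueField x, ?_, ?_⟩
  · rw [Category.assoc, w, ← Spec.map_comp_assoc, he]
  · have h1 : Spec.map gA (closedPoint A) = closedPoint (Y.presheaf.stalk v) :=
      comap_closedPoint (S := A) (g.hom.codRestrict A.toSubring hA)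
    have h2 := Scheme.Hom.comp_apply (Spec.map gA) (Y.fromSpecStalk v) (closedPoint A)
    refine h2.trans ?_
    rw [h1, Y.fromSpecStalk_closedPoint]

/-- ring level: a prime in the closure of the image of `Spec B → Spec R` is a specialization of a
point of the image -/
theorem exists_comap_specializes {R B : Type u} [CommRing R] [CommRing B] (φ : R →+* B)
    (p : PrimeSpectrum R) (hp : p ∈ closure (Set.range (PrimeSpectrum.comap φ))) :
    ∃ q : PrimeSpectrum B, PrimeSpectrum.comap φ q ⤳ p := by
  rw [PrimeSpectrum.closure_range_comap, PrimeSpectrum.mem_zeroLocus] at hp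
  have hle : (⊥ : Ideal B).comap φ ≤ p.asIdeal := fun a ha => hp ha
  obtain ⟨Q, -, hQ, hQle⟩ := Ideal.exists_ideal_comap_le_prime p.asIdeal (⊥ : Ideal B) hle
  refine ⟨⟨Q, hQ⟩, ?_⟩
  rw [← PrimeSpectrum.le_iff_specializes]
  exact hQle

/-- for a morphism of affine schemes, a point in the closure of the image is a specialization of a
point of the image -/
theorem exists_specializes_of_mem_closure_range {X Y : Scheme.{u}} [IsAffine X] [IsAffine Y]
    (h : X ⟶ Y) (v : Y) (hv : v ∈ closure (Set.range h)) : ∃ x : X, h x ⤳ v := by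
  have hnat := Scheme.isoSpec_hom_naturality h
  let eX := X.isoSpec
  let eY := Y.isoSpec
  have hYi : Topology.IsInducing eY.hom := eY.hom.homeomorph.isInducing
  -- transport to the spectra
  have hv' : eY.hom v ∈ closure (Set.range (Spec.map h.appTop)) := by
    have h1 : eY.hom v ∈ closure (eY.hom '' Set.range h) :=
      image_closure_subset_closure_image eY.hom.continuous (Set.mem_image_of_mem _ hv)
    refine closure_mono ?_ h1
    rintro _ ⟨_, ⟨x, rfl⟩, rfl⟩
    refine ⟨eX.hom x, ?_⟩
    rw [← Scheme.Hom.comp_apply, ← Scheme.Hom.comp_apply, hnat]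
  obtain ⟨q, hq⟩ := exists_comap_specializes h.appTop.hom (eY.hom v) hv'
  let q' : ↥(Spec Γ(X, ⊤)) := q
  refine ⟨eX.inv q', ?_⟩
  rw [← hYi.specializes_iff]
  have h1 : eX.hom (eX.inv q') = q' := by
    rw [← Scheme.Hom.comp_apply, eX.inv_hom_id]
    rfl
  have : eY.hom (h (eX.inv q')) = PrimeSpectrum.comap h.appTop.hom q := by
    rw [← Scheme.Hom.comp_apply, ← hnat, Scheme.Hom.comp_apply, h1]
    rfl
  rw [this]
  exact hq

/-- a flat morphism to the spectrum of a valuation ring hitting the closed point admits a lift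
along an extension of valuation rings -/
theorem exists_valuationRing_of_flat {X : Scheme.{u}} {A : Type u} [CommRing A] [IsDomain A]
    [ValuationRing A] (h : X ⟶ Spec (CommRingCat.of A)) [Flat h] (x : X)
    (hx : h x = closedPoint A) :
    ∃ (A' : Type u) (_ : CommRing A') (_ : IsDomain A') (_ : ValuationRing A') (φ : A →+* A')
      (t : Spec (CommRingCat.of A') ⟶ X),
      Function.Injective φ ∧ IsLocalHom φ ∧ t ≫ h = Spec.map (CommRingCat.ofHom φ) := by
  let R : CommRingCat.{u} := CommRingCat.of A
  let B : CommRingCat.{u} := X.presheaf.stalk x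
  let p : PrimeSpectrum A := h x
  let ts : R ⟶ (Spec R).presheaf.stalk (h x) := StructureSheaf.toStalk A p
  let ψ : R ⟶ B := ts ≫ h.stalkMap x
  have hψ : X.fromSpecStalk x ≫ h = Spec.map ψ := by
    rw [← Scheme.SpecMap_stalkMap_fromSpecStalk, Spec.fromSpecStalk_eq']
    exact (Spec.map_comp _ _).symm
  have hflat : ψ.hom.Flat := by
    have h1 : (StructureSheaf.toStalk A p).hom.Flat := by
      show Module.Flat A ((Spec.structureSheaf A).presheaf.stalk p)
      exact IsLocalization.flat _ p.asIdeal.primeCompl
    exact RingHom.Flat.comp h1 (Flat.stalkMap h x)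
  -- a prime of the stalk over the generic point
  have hgen := RingHom.Flat.generalizingMap_comap hflat
  obtain ⟨q, -, hq⟩ := @hgen (closedPoint B) (⊥ : PrimeSpectrum A)
    ((PrimeSpectrum.le_iff_specializes _ _).mp bot_le)
  have hq0 : q.asIdeal.comap ψ.hom = ⊥ := congrArg PrimeSpectrum.asIdeal hq
  -- the valuation ring
  let K' := FractionRing (B ⧸ q.asIdeal)
  let g : B →+* K' := (algebraMap (B ⧸ q.asIdeal) K').comp (Ideal.Quotient.mk q.asIdeal)
  have hgker : ∀ b : B, g b = 0 → b ∈ q.asIdeal := by
    intro b hb
    have : algebraMap (B ⧸ q.asIdeal) K' (Ideal.Quotient.mk q.asIdeal b) = 0 := hb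
    rw [map_eq_zero_iff _ (IsFractionRing.injective _ _)] at this
    exact Ideal.Quotient.eq_zero_iff_mem.mp this
  obtain ⟨A', hA', hA'_local⟩ := exists_factor_valuationRing g
  let g' : B →+* A' := g.codRestrict A'.toSubring hA'
  let φ : A →+* A' := g'.comp ψ.hom
  let t : Spec (CommRingCat.of A') ⟶ X := Spec.map (CommRingCat.ofHom g') ≫ X.fromSpecStalk x
  have ht : t ≫ h = Spec.map (CommRingCat.ofHom φ) := by
    rw [Category.assoc, hψ, ← Spec.map_comp]
    rfl
  refine ⟨A', inferInstance, inferInstance, inferInstance, φ, t, ?_, ?_, ht⟩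
  · rw [injective_iff_map_eq_zero]
    intro a ha
    have h1 : g (ψ.hom a) = 0 := congrArg Subtype.val ha
    have h2 : a ∈ q.asIdeal.comap ψ.hom := hgker _ h1
    rw [hq0] at h2
    exact h2
  · -- local: the closed point goes to the closed point
    refine ((local_hom_TFAE φ).out 0 4).mpr ?_
    have h1 : Spec.map (CommRingCat.ofHom g') (closedPoint A') = closedPoint B :=
      comap_closedPoint (S := A') g'
    have h2 : t (closedPoint A') = x := by
      refine (Scheme.Hom.comp_apply _ _ _).trans ?_
      rw [h1, X.fromSpecStalk_closedPoint]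
    have h3 : (Spec.map (CommRingCat.ofHom φ)) (closedPoint A') = closedPoint A := by
      rw [← ht]
      refine (Scheme.Hom.comp_apply _ _ _).trans ?_
      rw [h2, hx]
    exact congrArg PrimeSpectrum.asIdeal h3

end Groth.Agent.H65.ValRingLift
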