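import Groth.Agent.H64.LocQ.FlatBC
import Groth.Agent.H64.Pts.Atlas
import Groth.Agent.H64.FPtFp
import Groth.Agent.H65.ValRingLift
import Groth.Agent.H65.AlgStQC5

set_option autoImplicit false
universe u
open CategoryTheory CategoryTheory.Limits AlgebraicGeometry Opposite

/-! Lifting valuation rings along flat morphisms of algebraic stacks. -/

namespace Groth.Agent.H65.AlgStValLift

open AlgSt Groth.Agent.H32 Groth.Agent.H64 Groth.Agent.H64.Recog Groth.Agent.H64.FpRep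
  Groth.Agent.H64.PTh Groth.Agent.H64.LocQ Groth.Agent.H64.Pts

variable {S : Scheme.{u}} {𝒳 𝒴 : AlgSt.Cat S}

/-- a chart of the 2-fibre product `V ×_𝒴 𝒳` over a scheme chart `a : V ⟶ 𝒴` of the target of a
flat morphism is flat over `V`, and hits every point of `V` in the image of `|𝒳|` -/
theorem exists_flat_chart_over (h𝒳 : IsAlgStack Scheme.fppfPrecoverage 𝒳)
    (h𝒴 : IsAlgStack Scheme.fppfPrecoverage 𝒴) (f : 𝒳 ⥤ᵇ 𝒴)
    (hf : LocQ (AlgSp.LocP @Flat) f) {V : Over S} (a : FibCat.overCat V ⥤ᵇ 𝒴) :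
    ∃ (U : Over S) (x : FibCat.overCat U ⥤ᵇ 𝒳) (h : U ⟶ V),
      Nonempty (BasedFunctor.comp x f ≅ BasedFunctor.comp (AlgSt.overMap h) a) ∧ Flat h.left ∧
      ∀ v : ↥V.left, Points.ofChart a v ∈ Set.range (Points.map f) → v ∈ Set.range h.left := by
  have hV : IsAlgStack Scheme.fppfPrecoverage (FibCat.overCat V) :=
    Groth.Agent.H65.AlgStQC5.isAlgStack_overCat V
  have h𝒬 : IsAlgStack Scheme.fppfPrecoverage (FibCat.fp a f) :=
    isAlgStack_fp h𝒴.isStack.1 h𝒴.diag hV h𝒳 a f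
  obtain ⟨U, ℓ, hℓ₁, hℓ₂⟩ := h𝒬.atlas
  have hU : IsAlgStack Scheme.fppfPrecoverage (FibCat.overCat U) :=
    Groth.Agent.H65.AlgStQC5.isAlgStack_overCat U
  obtain ⟨h, ⟨γ⟩⟩ := exists_iso_ovMap (BasedFunctor.comp ℓ (FibCat.fpFst a f))
  refine ⟨U, BasedFunctor.comp ℓ (FibCat.fpSnd a f), h, ⟨?_⟩, ?_, ?_⟩
  · exact bwlIso ℓ (FibCat.fpIso a f).symm ≪≫ bwrIso γ a
  · have h1 : LocQ (AlgSp.LocP @Flat) (FibCat.fpFst a f) :=
      locQ_fpFst isSmoothLocalST_flat (stableBC_locP Groth.Agent.H50.goodClass_flat) h𝒳 h𝒴 hV f a hf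
    have h2 : LocQ (AlgSp.LocP @Flat) ℓ :=
      locQ_of_repByAlgSpWith isSmoothLocalST_flat h𝒬 ℓ (repByAlgSpWith_flat_of_smooth ℓ hℓ₁)
    have h3 : LocQ (AlgSp.LocP @Flat) (BasedFunctor.comp ℓ (FibCat.fpFst a f)) :=
      locQ_flat_comp hU h𝒬 hV ℓ _ h2 h1
    have h4 : LocQ (AlgSp.LocP @Flat) (ovMap h) := locQ_of_iso γ h3
    have h5 : RepByAlgSpWith (AlgSp.LocP @Flat) (ovMap h) :=
      repByAlgSpWith_of_locQ isSmoothLocalST_flat (stableBC_locP Groth.Agent.H50.goodClass_flat)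
        isLocalOnBase_fppf_flat hU hV (ovMap h) ((repByAlgSp1_diag_iff.mp hV.diag) U _) h4
    have := locP_respectsIso (S := S) @Flat
    exact AlgSp.locP_yon_map (prop_yon_map_of_overMap _ h h5)
  · rintro v ⟨ξ, hξ⟩
    obtain ⟨w, hw₁, -⟩ := exists_points_fp_of_map_eq h𝒳.isStack.1 h𝒴.isStack.1 hV.isStack.1 f a
      (ptU V v) ξ (by rw [hξ]; rfl)
    obtain ⟨u₀, rfl⟩ := surjective_ofChart h𝒬.isStack.1 ℓ hℓ₂ w
    refine ⟨u₀, ?_⟩
    apply (ptU_bijective V).1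
    rw [← map_overMap_ptU, ← hw₁]
    have h1 : Points.map (FibCat.fpFst a f) (Points.ofChart ℓ u₀) =
        Points.ofChart (BasedFunctor.comp ℓ (FibCat.fpFst a f)) u₀ := rfl
    rw [h1, ofChart_eq_of_hom γ.hom u₀]
    rfl

/-- valuation rings lift along flat morphisms of algebraic stacks, after an extension -/
theorem exists_valuationRing_lift (h𝒳 : IsAlgStack Scheme.fppfPrecoverage 𝒳)
    (h𝒴 : IsAlgStack Scheme.fppfPrecoverage 𝒴) (f : 𝒳 ⥤ᵇ 𝒴)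
    (hf : LocQ (AlgSp.LocP @Flat) f)
    (A : Type u) [CommRing A] [IsDomain A] [ValuationRing A] (sA : Spec (CommRingCat.of A) ⟶ S)
    (a : FibCat.overCat (Over.mk sA) ⥤ᵇ 𝒴)
    (ha : Points.ofChart a (IsLocalRing.closedPoint A) ∈ Set.range (Points.map f)) :
    ∃ (A' : Type u) (_ : CommRing A') (_ : IsDomain A') (_ : ValuationRing A') (φ : A →+* A'),
      Function.Injective φ ∧ IsLocalHom φ ∧
      ∃ x : FibCat.overCat (Over.mk (Spec.map (CommRingCat.ofHom φ) ≫ sA)) ⥤ᵇ 𝒳,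
        Nonempty (BasedFunctor.comp x f ≅
          BasedFunctor.comp (AlgSt.overMap (Over.homMk (Spec.map (CommRingCat.ofHom φ)) rfl :
            Over.mk (Spec.map (CommRingCat.ofHom φ) ≫ sA) ⟶ Over.mk sA)) a) := by
  obtain ⟨U, x, h, ⟨α⟩, hflat, hpts⟩ := exists_flat_chart_over h𝒳 h𝒴 f hf a
  obtain ⟨u₀, hu₀⟩ := hpts (IsLocalRing.closedPoint A) ha
  obtain ⟨A', i1, i2, i3, φ, t, hφ₁, hφ₂, ht⟩ :=
    Groth.Agent.H65.ValRingLift.exists_valuationRing_of_flat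
      (h.left : U.left ⟶ Spec (CommRingCat.of A)) u₀ hu₀
  refine ⟨A', i1, i2, i3, φ, hφ₁, hφ₂, ?_⟩
  have hw : t ≫ U.hom = Spec.map (CommRingCat.ofHom φ) ≫ sA := by
    have h1 : h.left ≫ sA = U.hom := Over.w h
    rw [← h1, ← Category.assoc]
    exact congrArg (· ≫ sA) ht
  let tU : Over.mk (Spec.map (CommRingCat.ofHom φ) ≫ sA) ⟶ U := Over.homMk t hw
  have hcomp : tU ≫ h = (Over.homMk (Spec.map (CommRingCat.ofHom φ)) rfl :
      Over.mk (Spec.map (CommRingCat.ofHom φ) ≫ sA) ⟶ Over.mk sA) := by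
    apply Over.OverMorphism.ext
    exact ht
  refine ⟨BasedFunctor.comp (AlgSt.overMap tU) x, ⟨?_⟩⟩
  exact bwlIso (AlgSt.overMap tU) α ≪≫ bwrIso (ovMapCompIso tU h) a ≪≫
    eqToIso (by rw [hcomp]; rfl)

end Groth.Agent.H65.AlgStValLift
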