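import Groth.Agent.H65.AlgStValLift
import Groth.Agent.H64.Pts.OpenSub
import Groth.Agent.H64.Pts.Compact
import Groth.Agent.H64.Psh.QCompact

set_option autoImplicit false
universe u
open CategoryTheory CategoryTheory.Limits AlgebraicGeometry Opposite

/-! Valuation rings witnessing points in the closure of the image of a quasi-compact morphism of
algebraic stacks. -/

namespace Groth.Agent.H65.AlgStValWitness

open AlgSt Groth.Agent.H32 Groth.Agent.H64 Groth.Agent.H64.Recog Groth.Agent.H64.FpRep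
  Groth.Agent.H64.PTh Groth.Agent.H64.LocQ Groth.Agent.H64.Pts

variable {S : Scheme.{u}} {𝒳 𝒴 : AlgSt.Cat S}

/-- the image on a chart `a : V ⟶ 𝒴` of a surjective chart of `V ×_𝒴 𝒳` is the preimage of the
image of `|f|` -/
theorem preimage_range_eq (h𝒳 : FibCat.IsFibGrpd 𝒳.p) (h𝒴 : FibCat.IsFibGrpd 𝒴.p)
    (f : 𝒳 ⥤ᵇ 𝒴) {U V : Over S} (a : FibCat.overCat V ⥤ᵇ 𝒴)
    (ℓ : FibCat.overCat U ⥤ᵇ FibCat.fp a f) (hℓ : Sj ℓ) (h : U ⟶ V)
    (γ : BasedFunctor.comp ℓ (FibCat.fpFst a f) ≅ ovMap h) :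
    Points.ofChart a ⁻¹' Set.range (Points.map f) = Set.range h.left := by
  have hV := isFibGrpd_overCat V
  have h𝒬 : FibCat.IsFibGrpd (FibCat.fp a f).p := isFibGrpd_fp _ _ hV h𝒳 h𝒴
  ext v
  constructor
  · rintro ⟨ξ, hξ⟩
    obtain ⟨w, hw₁, -⟩ := exists_points_fp_of_map_eq h𝒳 h𝒴 hV f a
      (ptU V v) ξ (by rw [hξ]; rfl)
    obtain ⟨u₀, rfl⟩ := surjective_ofChart h𝒬 ℓ hℓ w
    refine ⟨u₀, ?_⟩
    apply (ptU_bijective V).1
    rw [← map_overMap_ptU, ← hw₁]
    have h1 : Points.map (FibCat.fpFst a f) (Points.ofChart ℓ u₀) =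
        Points.ofChart (BasedFunctor.comp ℓ (FibCat.fpFst a f)) u₀ := rfl
    rw [h1, ofChart_eq_of_hom γ.hom u₀]
    rfl
  · rintro ⟨u, rfl⟩
    refine ⟨Points.ofChart (BasedFunctor.comp ℓ (FibCat.fpSnd a f)) u, ?_⟩
    rw [← ofChart_comp, ← ofChart_overMap_comp h a u]
    have α : BasedFunctor.comp (BasedFunctor.comp ℓ (FibCat.fpSnd a f)) f ≅
        BasedFunctor.comp (AlgSt.overMap h) a := bwlIso ℓ (FibCat.fpIso a f).symm ≪≫ bwrIso γ a
    exact ofChart_eq_of_hom α.hom u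

/-- a point in the closure of the image of a quasi-compact morphism of algebraic stacks is
witnessed by a valuation ring -/
theorem exists_valuationRing_witness (h𝒳 : IsAlgStack Scheme.fppfPrecoverage 𝒳)
    (h𝒴 : IsAlgStack Scheme.fppfPrecoverage 𝒴) (f : 𝒳 ⥤ᵇ 𝒴)
    (hf : IsQuasiCompactMor Scheme.fppfPrecoverage f)
    (y : Points 𝒴) (hy : y ∈ closure (Set.range (Points.map f))) :
    ∃ (A : Type u) (_ : CommRing A) (_ : IsDomain A) (_ : ValuationRing A)
      (sA : Spec (CommRingCat.of A) ⟶ S)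
      (a : FibCat.overCat (Over.mk sA) ⥤ᵇ 𝒴)
      (x : FibCat.overCat (Over.mk (Spec.map (CommRingCat.ofHom
        (algebraMap A (FractionRing A))) ≫ sA)) ⥤ᵇ 𝒳),
      Nonempty (BasedFunctor.comp x f ≅
        BasedFunctor.comp (AlgSt.overMap (Over.homMk (Spec.map (CommRingCat.ofHom
          (algebraMap A (FractionRing A)))) rfl :
          Over.mk (Spec.map (CommRingCat.ofHom (algebraMap A (FractionRing A))) ≫ sA) ⟶
            Over.mk sA)) a) ∧
      Points.ofChart a (IsLocalRing.closedPoint A) = y := by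
  have hX := h𝒳.isStack.1
  have hY := h𝒴.isStack.1
  obtain ⟨V, yV, hyV₁, hyV₂⟩ := h𝒴.atlas
  obtain ⟨v₀, rfl⟩ := surjective_ofChart hY yV hyV₂ y
  obtain ⟨_, ⟨(W : V.left.Opens), hW, rfl⟩, hv₀W, -⟩ :=
    V.left.isBasis_affineOpens.exists_subset_of_mem_open (Set.mem_univ v₀) isOpen_univ
  let V' : Over S := opOver W
  let j : V' ⟶ V := opIncl W
  have hV' := isFibGrpd_overCat V'
  have hVf := isFibGrpd_overCat V
  have hjsm : Sm (AlgSt.overMap j) :=
    repByAlgSpWith_overMap _ (stableBC_locP Groth.Agent.H50.goodClass_smooth) j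
      (Groth.Agent.H50.goodClass_smooth.locP_yon_map j
        (show Smooth W.ι from inferInstance))
  let y' : FibCat.overCat V' ⥤ᵇ 𝒴 := BasedFunctor.comp (AlgSt.overMap j) yV
  have hy' : Sm y' := sm_comp hV' hVf _ _ hjsm hyV₁
  let v₀' : ↥V'.left := (⟨v₀, hv₀W⟩ : W)
  have hv₀' : Points.ofChart y' v₀' = Points.ofChart yV v₀ := ofChart_overMap_comp j yV v₀'
  -- quasi-compactness
  have hV'aff : IsAffine V'.left := hW
  have hV'qc : IsQuasiCompact (FibCat.overCat V') :=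
    ⟨V', BasedFunctor.id _, hV'aff, sm_of_isEquivOver _ (isEquivOver_id _),
      sj_of_isEquivOver _ (isEquivOver_id _)⟩
  obtain ⟨U, ℓ, hUaff, -, hℓ₂⟩ := hf (FibCat.overCat V')
    (Groth.Agent.H65.AlgStQC5.isAlgStack_overCat V') hV'qc y'
  obtain ⟨h, ⟨γ⟩⟩ := exists_iso_ovMap (BasedFunctor.comp ℓ (FibCat.fpFst y' f))
  let x : FibCat.overCat U ⥤ᵇ 𝒳 := BasedFunctor.comp ℓ (FibCat.fpSnd y' f)
  have α : BasedFunctor.comp x f ≅ BasedFunctor.comp (AlgSt.overMap h) y' :=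
    bwlIso ℓ (FibCat.fpIso y' f).symm ≪≫ bwrIso γ y'
  have hrange := preimage_range_eq hX hY f y' ℓ hℓ₂ h γ
  have hopen : IsOpenMap (Points.ofChart y') := isOpenMap_ofChart_of_smooth hY y' hy'
  have hcl : v₀' ∈ closure (Set.range h.left) := by
    rw [← hrange]
    apply hopen.preimage_closure_subset_closure_preimage
    show Points.ofChart y' v₀' ∈ closure (Set.range (Points.map f))
    rw [hv₀']
    exact hy
  obtain ⟨u, hu⟩ := Groth.Agent.H65.ValRingLift.exists_specializes_of_mem_closure_range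
    h.left v₀' hcl
  obtain ⟨A, i1, i2, i3, tA, tK, hsq, hcp⟩ :=
    Groth.Agent.H65.ValRingLift.exists_valuationRing_of_specializes h.left u v₀' hu
  let sA : Spec (CommRingCat.of A) ⟶ S := tA ≫ V'.hom
  let tA' : Over.mk sA ⟶ V' := Over.homMk tA rfl
  let a : FibCat.overCat (Over.mk sA) ⥤ᵇ 𝒴 := BasedFunctor.comp (AlgSt.overMap tA') y'
  let ιK := Spec.map (CommRingCat.ofHom (algebraMap A (FractionRing A)))
  have hw : tK ≫ U.hom = ιK ≫ sA := by
    have h1 : h.left ≫ V'.hom = U.hom := Over.w h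
    rw [← h1, ← Category.assoc, hsq, Category.assoc]
  let tK' : Over.mk (ιK ≫ sA) ⟶ U := Over.homMk tK hw
  let ιK' : Over.mk (ιK ≫ sA) ⟶ Over.mk sA := Over.homMk ιK rfl
  have hcomp : tK' ≫ h = ιK' ≫ tA' := by
    apply Over.OverMorphism.ext
    exact hsq
  refine ⟨A, i1, i2, i3, sA, a, BasedFunctor.comp (AlgSt.overMap tK') x, ⟨?_⟩, ?_⟩
  · exact bwlIso (AlgSt.overMap tK') α ≪≫ bwrIso (ovMapCompIso tK' h) y' ≪≫
      eqToIso (by rw [hcomp]) ≪≫ bwrIso (ovMapCompIso ιK' tA').symm y'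
  · have h1 : Points.ofChart a (IsLocalRing.closedPoint A) =
        Points.ofChart y' (tA'.left (IsLocalRing.closedPoint A)) :=
      ofChart_overMap_comp tA' y' _
    rw [h1]
    have h2 : tA'.left (IsLocalRing.closedPoint A) = v₀' := hcp
    rw [h2, hv₀']

end Groth.Agent.H65.AlgStValWitness
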