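import Groth.Agent.H65.BaseChangeSp
import Groth.Agent.H49.AlgSpRep

/-!
# `j⁻¹F'` is an algebraic space over `S` iff `h_S × F'` is an algebraic space over `S'`
-/

set_option autoImplicit false
universe u
open CategoryTheory CategoryTheory.Limits AlgebraicGeometry Opposite

namespace Groth.Agent.H65.BaseChangeSp

open AlgSp

variable {S S' : Scheme.{u}} (g : S ⟶ S')

/-- The structure morphism of `jV` to `S` viewed over `S'`. -/
noncomputable abbrev strHom (V : Over S) : (Over.map g).obj V ⟶ Over.mk g := Over.homMk V.hom rfl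

section forward

variable {g} {F' : Sp S'} {V : Over S} (p : (yon S).obj V ⟶ (jinv g).obj F')

/-- The map `h_{jV} ⟶ h_S × F'` attached to `p : h_V ⟶ j⁻¹F'`. -/
noncomputable def prodMap : (yon S').obj ((Over.map g).obj V) ⟶ (yon S').obj (Over.mk g) ⨯ F' :=
  prod.lift ((yon S').map (strHom g V)) (homEquiv g V F' p)

theorem repWith_prodMap (P : MorphismProperty Scheme.{u}) [P.IsStableUnderBaseChange]
    (hp : RepWith P p) : RepWith P (prodMap p) := by
  have hpp : p = unitMap g V ≫ (jinv g).map (homEquiv g V F' p) := eq_unitMap_comp g V p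
  refine MorphismProperty.relative.of_exists (fun T' ξ' => ?_)
  obtain ⟨a₀, ha₀⟩ := (yon S').map_surjective (ξ' ≫ prod.fst)
  let T : Over S := Over.mk a₀.left
  let ι : (Over.map g).obj T ≅ T' := Over.isoMk (Iso.refl _) (by
    have := Over.w a₀
    simp only [Over.mk_hom] at this
    simp [T, this])
  have hιl : ι.hom.left = 𝟙 _ := rfl
  have hιil : ι.inv.left = 𝟙 _ := rfl
  let ξ₂ : (yon S').obj ((Over.map g).obj T) ⟶ F' := (yon S').map ι.hom ≫ ξ' ≫ prod.snd
  let ξ : (yon S).obj T ⟶ (jinv g).obj F' := unitMap g T ≫ (jinv g).map ξ₂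
  obtain ⟨W, h, fst, sq⟩ := hp.rep ξ
  obtain ⟨k, rfl⟩ := (yon S).map_surjective fst
  have hP : P h.left := hp.property ξ _ h sq
  -- `yon f ≫ (unit ≫ j⁻¹ a)` as `unit ≫ j⁻¹(yon (jf) ≫ a)`
  have hcomp : ∀ {A B : Over S} (f : A ⟶ B) {G' : Sp S'}
      (a : (yon S').obj ((Over.map g).obj B) ⟶ G'),
      (yon S).map f ≫ unitMap g B ≫ (jinv g).map a =
        unitMap g A ≫ (jinv g).map ((yon S').map ((Over.map g).map f) ≫ a) := by
    intro A B f G' a
    rw [← Category.assoc, unitMap_naturality, Category.assoc, ← Functor.map_comp]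
  have hsnd : (yon S').map ((Over.map g).map k) ≫ homEquiv g V F' p =
      (yon S').map ((Over.map g).map h) ≫ ξ₂ := by
    apply unitMap_comp_injective g W
    rw [← hcomp, ← hcomp, ← hpp]
    exact sq.w
  have w : (yon S').map ((Over.map g).map k) ≫ prodMap p =
      (yon S').map ((Over.map g).map h ≫ ι.hom) ≫ ξ' := by
    apply Limits.prod.hom_ext
    · rw [Category.assoc, Category.assoc, prodMap, prod.lift_fst, ← ha₀, ← Functor.map_comp,
        ← Functor.map_comp]
      congr 1
      ext
      have := Over.w k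
      have h2 := Over.w h
      simp only [Over.comp_left, Over.map_map_left, Over.homMk_left, hιl, Category.id_comp,
        Category.assoc]
      rw [this]
      exact h2.symm
    · rw [Category.assoc, Category.assoc, prodMap, prod.lift_snd, hsnd, Functor.map_comp,
        Category.assoc]
  refine ⟨(Over.map g).obj W, (yon S').map ((Over.map g).map k), (Over.map g).map h ≫ ι.hom,
    ?_, ?_⟩
  · refine Groth.Agent.H51.isPullback_of_forall_yon w ?_
    intro T₀' a' b' hab
    obtain ⟨v, rfl⟩ := (yon S').map_surjective a'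
    obtain ⟨t, rfl⟩ := (yon S').map_surjective b'
    have h1 : v ≫ strHom g V = t ≫ a₀ := by
      apply (yon S').map_injective
      have := congrArg (fun z => z ≫ prod.fst) hab
      simp only [Category.assoc, prodMap, prod.lift_fst] at this
      rw [Functor.map_comp, Functor.map_comp, ha₀]
      exact this
    have h1l : v.left ≫ V.hom = t.left ≫ a₀.left := by
      simpa using congrArg CommaMorphism.left h1
    have h2 : (yon S').map v ≫ homEquiv g V F' p = (yon S').map t ≫ ξ' ≫ prod.snd := by
      have := congrArg (fun z => z ≫ prod.snd) hab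
      simpa only [Category.assoc, prodMap, prod.lift_snd] using this
    let T₀ : Over S := Over.mk (t.left ≫ a₀.left)
    let ι₀ : (Over.map g).obj T₀ ≅ T₀' := Over.isoMk (Iso.refl _) (by
      have := Over.w a₀
      have h3 := Over.w t
      simp only [Over.mk_hom] at this
      simp [T₀, this, h3])
    have hι₀l : ι₀.hom.left = 𝟙 _ := rfl
    have hι₀il : ι₀.inv.left = 𝟙 _ := rfl
    let t₀ : T₀ ⟶ T := Over.homMk t.left rfl
    let v₀ : T₀ ⟶ V := Over.homMk v.left h1l
    have e1 : (Over.map g).map v₀ = ι₀.hom ≫ v := by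
      ext
      simp [v₀, hι₀l]
    have e2 : (Over.map g).map t₀ ≫ ι.hom = ι₀.hom ≫ t := by
      ext
      simp [t₀, hι₀l, hιl]
    have hvt : (yon S).map v₀ ≫ p = (yon S).map t₀ ≫ ξ := by
      rw [hpp, hcomp, hcomp]
      congr 2
      have hR : (yon S').map ((Over.map g).map t₀) ≫ ξ₂ =
          (yon S').map ι₀.hom ≫ (yon S').map t ≫ ξ' ≫ prod.snd := by
        change (yon S').map ((Over.map g).map t₀) ≫ (yon S').map ι.hom ≫ ξ' ≫ prod.snd = _
        rw [← Category.assoc, ← Functor.map_comp, e2, Functor.map_comp, Category.assoc]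
      rw [e1, Functor.map_comp, Category.assoc, h2, hR]
    obtain ⟨w₀, hw₀⟩ := (yon S).map_surjective (sq.lift _ _ hvt)
    have hw1 : w₀ ≫ k = v₀ := by
      apply (yon S).map_injective
      rw [Functor.map_comp, hw₀, sq.lift_fst]
    have hw2 : w₀ ≫ h = t₀ := by
      apply (yon S).map_injective
      rw [Functor.map_comp, hw₀, sq.lift_snd]
    refine ⟨(yon S').map (ι₀.inv ≫ (Over.map g).map w₀), ⟨?_, ?_⟩, ?_⟩
    · rw [← Functor.map_comp, Category.assoc, ← Functor.map_comp, hw1, e1, Iso.inv_hom_id_assoc]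
    · rw [← Functor.map_comp, Category.assoc, ← Category.assoc ((Over.map g).map w₀),
        ← Functor.map_comp, hw2, e2, Iso.inv_hom_id_assoc]
    · rintro q ⟨hq1, hq2⟩
      obtain ⟨w'', rfl⟩ := (yon S').map_surjective q
      rw [← Functor.map_comp] at hq1 hq2
      have hq1l : w''.left ≫ k.left = v.left := by
        simpa using congrArg CommaMorphism.left ((yon S').map_injective hq1)
      have hq2l : w''.left ≫ h.left = t.left := by
        simpa [hιl] using congrArg CommaMorphism.left ((yon S').map_injective hq2)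
      let w₁ : T₀ ⟶ W := Over.homMk w''.left (by
        have := Over.w h
        change w''.left ≫ W.hom = t.left ≫ a₀.left
        rw [← this, ← Category.assoc, hq2l]
        rfl)
      have hw₁ : w₁ = w₀ := by
        apply (yon S).map_injective
        apply sq.hom_ext
        · rw [← Functor.map_comp, ← Functor.map_comp, hw1]
          congr 1
          ext
          simpa [w₁, v₀] using hq1l
        · rw [← Functor.map_comp, ← Functor.map_comp, hw2]
          congr 1
          ext
          simpa [w₁, t₀] using hq2l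
      congr 1
      ext
      have := congrArg CommaMorphism.left hw₁
      simp only [Over.comp_left, Over.map_map_left, hι₀il, Category.id_comp]
      exact this
  · change P ((Over.map g).map h ≫ ι.hom).left
    simpa [hιl] using hP

/-- If `j⁻¹F'` is an algebraic space over `S`, then `h_S × F'` is an algebraic space over `S'`. -/
theorem isAlgSpace_prod_of_jinv (hG : IsAlgSpace ((jinv g).obj F')) :
    IsAlgSpace ((yon S').obj (Over.mk g) ⨯ F') := by
  obtain ⟨V, p, hpe, hps⟩ := hG.atlas
  exact AlgSpBoot.isAlgSpace_of_yon_cover (prodMap p) (repWith_prodMap p @Etale hpe)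
    (repWith_prodMap p @Surjective hps)

end forward

section backward

/-- In a category, a product `A = H × G` pulled back along a map from a terminal object `Y ⟶ H`
is `G`. -/
theorem isPullback_of_binaryFan_of_isTerminal {C : Type*} [Category C] {A H G Y : C}
    {fstA : A ⟶ H} {sndA : A ⟶ G} (hlim : IsLimit (BinaryFan.mk fstA sndA)) (hY : IsTerminal Y)
    (σ : Y ⟶ H) (top : G ⟶ A) (h1 : top ≫ fstA = hY.from G ≫ σ) (h2 : top ≫ sndA = 𝟙 G) :
    IsPullback top (hY.from G) fstA σ := by
  refine ⟨⟨h1⟩, ⟨PullbackCone.IsLimit.mk _ (fun s => s.fst ≫ sndA) (fun s => ?_) (fun s => ?_)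
    (fun s m hm1 _ => ?_)⟩⟩
  · apply BinaryFan.IsLimit.hom_ext hlim
    · change ((s.fst ≫ sndA) ≫ top) ≫ fstA = s.fst ≫ fstA
      rw [Category.assoc, h1, s.condition, ← Category.assoc]
      congr 1
      exact hY.hom_ext _ _
    · change ((s.fst ≫ sndA) ≫ top) ≫ sndA = s.fst ≫ sndA
      rw [Category.assoc, h2, Category.comp_id]
  · exact hY.hom_ext _ _
  · rw [← hm1, Category.assoc, h2, Category.comp_id]

variable {g} {F' : Sp S'}

/-- If `h_S × F'` is an algebraic space over `S'`, then `j⁻¹F'` is an algebraic space over `S`. -/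
theorem isAlgSpace_jinv_of_prod (hA : IsAlgSpace ((yon S').obj (Over.mk g) ⨯ F')) :
    IsAlgSpace ((jinv g).obj F') := by
  have hJA := isAlgSpace_jinv g hA
  have hlim := isLimitOfHasBinaryProductOfPreservesLimit (jinv g) ((yon S').obj (Over.mk g)) F'
  have hT : IsTerminal ((yon S).obj (Over.mk (𝟙 S))) :=
    IsTerminal.isTerminalObj (yon S) _ Over.mkIdTerminal
  let σ : (yon S).obj (Over.mk (𝟙 S)) ⟶ (jinv g).obj ((yon S').obj (Over.mk g)) :=
    unitMap g (Over.mk (𝟙 S)) ≫ (jinv g).map ((yon S').map (strHom g (Over.mk (𝟙 S))))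
  obtain ⟨top, h1, h2⟩ := BinaryFan.IsLimit.lift' hlim (hT.from ((jinv g).obj F') ≫ σ) (𝟙 _)
  have sq := isPullback_of_binaryFan_of_isTerminal hlim hT σ top h1 h2
  have hH : Representable (Limits.diag ((jinv g).obj ((yon S').obj (Over.mk g)))) :=
    ((IsAlgSpace.yon_obj (bcOv g (Over.mk g))).of_iso (bcIso g (Over.mk g))).diag
  exact Groth.Agent.H49.isAlgSpace_of_isPullback sq hH hJA (IsAlgSpace.yon_obj _)

theorem isAlgSpace_jinv_iff_prod :
    IsAlgSpace ((jinv g).obj F') ↔ IsAlgSpace ((yon S').obj (Over.mk g) ⨯ F') :=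
  ⟨isAlgSpace_prod_of_jinv, isAlgSpace_jinv_of_prod⟩

end backward

end Groth.Agent.H65.BaseChangeSp
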