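import Groth.Agent.H65.BaseChangeSp
import Groth.Agent.H49.AlgSpQuot
import Groth.Agent.S9868
import Groth.Agent.S9872

/-!
# Extension `j_!` of fppf sheaves along a morphism of base schemes `g : S ⟶ S'`

`jsh g : Sp S ⥤ Sp S'` is the left adjoint of restriction.  `j_! h_X ≅ h_{jX}`, and `j_!` of an
algebraic space is an algebraic space.
-/

set_option autoImplicit false
universe u
open CategoryTheory CategoryTheory.Limits AlgebraicGeometry Opposite

namespace Groth.Agent.H65.BaseChangeSp

open AlgSp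

variable {S S' : Scheme.{u}} (g : S ⟶ S')

/-- The left adjoint `j_!` of restriction. -/
noncomputable abbrev jsh : Sp S ⥤ Sp S' :=
  (Over.map g).sheafPullback (Type (u + 1)) (J S) (J S')

/-- The adjunction `j_! ⊣ j⁻¹`. -/
noncomputable abbrev adj : jsh g ⊣ jinv g :=
  Functor.sheafAdjunctionContinuous (Over.map g) (Type (u + 1)) (J S) (J S')

/-- `j_! h_X ⟶ h_{jX}`. -/
noncomputable def shHom (X : Over S) :
    (jsh g).obj ((yon S).obj X) ⟶ (yon S').obj ((Over.map g).obj X) :=
  ((adj g).homEquiv _ _).symm (unitMap g X)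

/-- `h_{jX} ⟶ j_! h_X`. -/
noncomputable def shInv (X : Over S) :
    (yon S').obj ((Over.map g).obj X) ⟶ (jsh g).obj ((yon S).obj X) :=
  ((J S').uliftYonedaEquiv.{u + 1}).symm (toSec g ((adj g).unit.app ((yon S).obj X)))

theorem homEquiv_shHom (X : Over S) : (adj g).homEquiv _ _ (shHom g X) = unitMap g X :=
  Equiv.apply_symm_apply _ _

/-- `j_! h_X ≅ h_{jX}`. -/
noncomputable def shIso (X : Over S) :
    (jsh g).obj ((yon S).obj X) ≅ (yon S').obj ((Over.map g).obj X) where
  hom := shHom g X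
  inv := shInv g X
  hom_inv_id := by
    apply ((adj g).homEquiv _ _).injective
    rw [Adjunction.homEquiv_naturality_right, homEquiv_shHom, Adjunction.homEquiv_id]
    apply toSec_injective g
    rw [toSec_comp, toSec_unitMap, ← GrothendieckTopology.uliftYonedaEquiv_apply]
    exact Equiv.apply_symm_apply _ _
  inv_hom_id := by
    apply ((J S').uliftYonedaEquiv.{u + 1}).injective
    rw [GrothendieckTopology.uliftYonedaEquiv_comp]
    unfold shInv
    rw [Equiv.apply_symm_apply, ← toSec_comp, ← Adjunction.homEquiv_unit, homEquiv_shHom,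
      toSec_unitMap, GrothendieckTopology.uliftYonedaEquiv_apply]
    rfl

/-- Naturality of `j_! h_X ≅ h_{jX}`. -/
theorem shHom_naturality {X Y : Over S} (f : X ⟶ Y) :
    (jsh g).map ((yon S).map f) ≫ shHom g Y =
      shHom g X ≫ (yon S').map ((Over.map g).map f) := by
  apply ((adj g).homEquiv _ _).injective
  rw [Adjunction.homEquiv_naturality_left, Adjunction.homEquiv_naturality_right, homEquiv_shHom,
    homEquiv_shHom, unitMap_naturality]

theorem shInv_naturality {X Y : Over S} (f : X ⟶ Y) :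
    (yon S').map ((Over.map g).map f) ≫ shInv g Y =
      shInv g X ≫ (jsh g).map ((yon S).map f) := by
  have h := shHom_naturality g f
  have e1 : shHom g X = (shIso g X).hom := rfl
  have e2 : shHom g Y = (shIso g Y).hom := rfl
  have e3 : shInv g X = (shIso g X).inv := rfl
  have e4 : shInv g Y = (shIso g Y).inv := rfl
  rw [e1, e2] at h
  rw [e3, e4, Iso.eq_inv_comp, ← Category.assoc, ← h, Category.assoc, Iso.hom_inv_id,
    Category.comp_id]

/-- `j_! h_X` is represented by `jX`. -/
noncomputable def shRepresentableBy (X : Over S) :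
    ((jsh g).obj ((yon S).obj X)).obj.RepresentableBy ((Over.map g).obj X) :=
  (Functor.RepresentableBy.equivUliftYonedaIso.{u + 1} _ _).symm
    ((sheafToPresheaf (J S') (Type (u + 1))).mapIso (shIso g X).symm)

section EqvRel

variable {g} {R U : Over S} {s t : R ⟶ U}

theorem viaIso_inv_comp_map_viaHom {T : Over S} {W' : Over S'} (h' : W' ⟶ (Over.map g).obj T) :
    (viaIso h').inv ≫ (Over.map g).map (viaHom h') = h' := by
  ext
  simp

/-- An equivalence relation over `S` is one over `S'`. -/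
theorem isEqvRel_map (h : IsEqvRel s t) :
    IsEqvRel ((Over.map g).map s) ((Over.map g).map t) := by
  -- a `T'`-point `r` of `jR` gives `T'` an `S`-structure, for which `r` is a point of `R`
  have hsU : s.left ≫ U.hom = R.hom := Over.w s
  have htU : t.left ≫ U.hom = R.hom := Over.w t
  refine ⟨fun T' r r' h1 h2 => ?_, fun T' => ⟨fun a => ?_, ?_, ?_⟩⟩
  · have h1l : r.left ≫ t.left = r'.left ≫ t.left := by
      simpa using congrArg CommaMorphism.left h1
    have h2l : r.left ≫ s.left = r'.left ≫ s.left := by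
      simpa using congrArg CommaMorphism.left h2
    let r₀ : viaOv r ⟶ R := viaHom r
    let r₀' : viaOv r ⟶ R := Over.homMk r'.left (by
      change r'.left ≫ R.hom = r.left ≫ R.hom
      rw [← hsU, ← Category.assoc, ← h2l, Category.assoc])
    have : r₀ = r₀' := h.injective _ r₀ r₀' (by ext; simpa [r₀, r₀'] using h1l)
      (by ext; simpa [r₀, r₀'] using h2l)
    have hl := congrArg CommaMorphism.left this
    ext
    simpa [r₀, r₀'] using hl
  · obtain ⟨r₀, hr1, hr2⟩ := (h.equivalence (viaOv a)).refl (viaHom a)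
    refine ⟨(viaIso a).inv ≫ (Over.map g).map r₀, ?_, ?_⟩
    · rw [Category.assoc, ← Functor.map_comp, hr1, viaIso_inv_comp_map_viaHom]
    · rw [Category.assoc, ← Functor.map_comp, hr2, viaIso_inv_comp_map_viaHom]
  · rintro a b ⟨r, rfl, rfl⟩
    obtain ⟨r₁, hr1, hr2⟩ := (h.equivalence (viaOv r)).symm
      (⟨viaHom r, rfl, rfl⟩ : ∃ r₀ : viaOv r ⟶ R, r₀ ≫ t = viaHom r ≫ t ∧ r₀ ≫ s = viaHom r ≫ s)
    refine ⟨(viaIso r).inv ≫ (Over.map g).map r₁, ?_, ?_⟩
    · rw [Category.assoc, ← Functor.map_comp, hr1, Functor.map_comp, ← Category.assoc,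
        viaIso_inv_comp_map_viaHom]
    · rw [Category.assoc, ← Functor.map_comp, hr2, Functor.map_comp, ← Category.assoc,
        viaIso_inv_comp_map_viaHom]
  · rintro a b c ⟨r₁, rfl, rfl⟩ ⟨r₂, hr₂, rfl⟩
    have hbl : r₂.left ≫ t.left = r₁.left ≫ s.left := by
      simpa using congrArg CommaMorphism.left hr₂
    let r₂₀ : viaOv r₁ ⟶ R := Over.homMk r₂.left (by
      change r₂.left ≫ R.hom = r₁.left ≫ R.hom
      calc r₂.left ≫ R.hom = (r₂.left ≫ t.left) ≫ U.hom := by rw [Category.assoc, htU]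
        _ = (r₁.left ≫ s.left) ≫ U.hom := by rw [hbl]
        _ = r₁.left ≫ R.hom := by rw [Category.assoc, hsU])
    obtain ⟨r₃, hr1, hr2⟩ := (h.equivalence (viaOv r₁)).trans
      (⟨viaHom r₁, rfl, rfl⟩ :
        ∃ r₀ : viaOv r₁ ⟶ R, r₀ ≫ t = viaHom r₁ ≫ t ∧ r₀ ≫ s = viaHom r₁ ≫ s)
      (⟨r₂₀, by ext; simpa [r₂₀] using hbl, rfl⟩ :
        ∃ r₀ : viaOv r₁ ⟶ R, r₀ ≫ t = viaHom r₁ ≫ s ∧ r₀ ≫ s = r₂₀ ≫ s)
    refine ⟨(viaIso r₁).inv ≫ (Over.map g).map r₃, ?_, ?_⟩
    · rw [Category.assoc, ← Functor.map_comp, hr1, Functor.map_comp, ← Category.assoc,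
        viaIso_inv_comp_map_viaHom]
    · rw [Category.assoc, ← Functor.map_comp, hr2]
      ext
      simp [r₂₀]

theorem isEtaleEqvRel_map (h : IsEtaleEqvRel s t) :
    IsEtaleEqvRel ((Over.map g).map s) ((Over.map g).map t) :=
  { toIsEqvRel := isEqvRel_map h.toIsEqvRel
    etale_left := h.etale_left
    etale_right := h.etale_right }

end EqvRel

/-- `j_!` of an algebraic space over `S` is an algebraic space over `S'`. -/
theorem isAlgSpace_jsh {F : Sp S} (hF : IsAlgSpace F) : IsAlgSpace ((jsh g).obj F) := by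
  obtain ⟨U, p, hpe, hps⟩ := hF.atlas
  obtain ⟨R, s, fst, sq⟩ := hpe.rep p
  obtain ⟨t, rfl⟩ := (yon S).map_surjective fst
  obtain ⟨hE, ⟨hcol⟩⟩ := Groth.Agent.S9872.result S F hF p hpe hps s t sq
  have hE' := isEtaleEqvRel_map (g := g) hE
  have hQ' := Groth.Agent.S9868.result S' _ _ hE'
  refine hQ'.of_iso ?_
  -- `j_! F` is the coequalizer of `j_! h_t, j_! h_s`
  haveI : PreservesColimitsOfSize.{0, 0} (jsh g) := (adj g).leftAdjoint_preservesColimits
  have hcol' := (isColimitMapCoconeCoforkEquiv (jsh g) sq.w) (isColimitOfPreserves (jsh g) hcol)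
  have hq := Groth.Agent.H49.quotMapIsColimit ((Over.map g).map s) ((Over.map g).map t)
  have hqc := Groth.Agent.H49.quotMap_condition ((Over.map g).map s) ((Over.map g).map t)
  set q' := Groth.Agent.H49.quotMap ((Over.map g).map s) ((Over.map g).map t) with hq'
  have w1 : (jsh g).map ((yon S).map t) ≫ shHom g U ≫ q' =
      (jsh g).map ((yon S).map s) ≫ shHom g U ≫ q' := by
    rw [← Category.assoc, shHom_naturality, ← Category.assoc (_ : _ ⟶ _) (shHom g U),
      shHom_naturality, Category.assoc, Category.assoc, hqc]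
  have w2 : (yon S').map ((Over.map g).map s) ≫ shInv g U ≫ (jsh g).map p =
      (yon S').map ((Over.map g).map t) ≫ shInv g U ≫ (jsh g).map p := by
    rw [← Category.assoc, shInv_naturality, ← Category.assoc (_ : _ ⟶ _) (shInv g U),
      shInv_naturality, Category.assoc, Category.assoc, ← Functor.map_comp, ← Functor.map_comp,
      sq.w]
  let φ : (jsh g).obj F ⟶ QuotSh.quot Scheme.fppfPrecoverage ((Over.map g).map s)
      ((Over.map g).map t) := Cofork.IsColimit.desc hcol' (shHom g U ≫ q') w1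
  let ψ : QuotSh.quot Scheme.fppfPrecoverage ((Over.map g).map s) ((Over.map g).map t) ⟶
      (jsh g).obj F := Cofork.IsColimit.desc hq (shInv g U ≫ (jsh g).map p) w2
  have hφ : (jsh g).map p ≫ φ = shHom g U ≫ q' := Cofork.IsColimit.π_desc hcol'
  have hψ : q' ≫ ψ = shInv g U ≫ (jsh g).map p := Cofork.IsColimit.π_desc hq
  have e3 : shHom g U ≫ shInv g U = 𝟙 _ := (shIso g U).hom_inv_id
  have e4 : shInv g U ≫ shHom g U = 𝟙 _ := (shIso g U).inv_hom_id
  refine ⟨ψ, φ, ?_, ?_⟩
  · apply Cofork.IsColimit.hom_ext hq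
    change q' ≫ ψ ≫ φ = q' ≫ 𝟙 _
    rw [← Category.assoc, hψ, Category.assoc, hφ, ← Category.assoc, e4, Category.id_comp,
      Category.comp_id]
  · apply Cofork.IsColimit.hom_ext hcol'
    change (jsh g).map p ≫ φ ≫ ψ = (jsh g).map p ≫ 𝟙 _
    rw [← Category.assoc, hφ, Category.assoc, hψ, ← Category.assoc, e3, Category.id_comp,
      Category.comp_id]

end Groth.Agent.H65.BaseChangeSp
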