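import Groth.Prelude.Def_AlgSp
import Groth.Agent.H51.SpOpen
import Groth.Agent.H65.AlgSpBoot

/-!
# Restriction of fppf sheaves along a morphism of base schemes `g : S ⟶ S'`

`jinv g : Sp S' ⥤ Sp S` is restriction along `Over.map g`.  We show it preserves representable
morphisms with a property, representable sheaves, and algebraic spaces.
-/

set_option autoImplicit false
universe u
open CategoryTheory CategoryTheory.Limits AlgebraicGeometry Opposite

namespace Groth.Agent.H65.BaseChangeSp

open AlgSp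

variable {S S' : Scheme.{u}} (g : S ⟶ S')

/-- Restriction of sheaves from schemes over `S'` to schemes over `S`. -/
noncomputable abbrev jinv : Sp S' ⥤ Sp S :=
  Scheme.fppfTopology.overMapPullback (Type (u + 1)) g

/-- The section of `F'` over `jT` attached to `h_T ⟶ j⁻¹F'`. -/
noncomputable def toSec {T : Over S} {F' : Sp S'} (ξ : (yon S).obj T ⟶ (jinv g).obj F') :
    F'.obj.obj (op ((Over.map g).obj T)) :=
  (J S).uliftYonedaEquiv.{u + 1} ξ

/-- The map `h_T ⟶ j⁻¹F'` attached to a section of `F'` over `jT`. -/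
noncomputable def ofSec {T : Over S} {F' : Sp S'} (x : F'.obj.obj (op ((Over.map g).obj T))) :
    (yon S).obj T ⟶ (jinv g).obj F' :=
  ((J S).uliftYonedaEquiv.{u + 1} (X := T) (F := (jinv g).obj F')).symm x

@[simp] theorem toSec_ofSec {T : Over S} {F' : Sp S'} (x : F'.obj.obj (op ((Over.map g).obj T))) :
    toSec g (ofSec g x) = x :=
  Equiv.apply_symm_apply ((J S).uliftYonedaEquiv.{u + 1} (X := T) (F := (jinv g).obj F')) x

@[simp] theorem ofSec_toSec {T : Over S} {F' : Sp S'} (ξ : (yon S).obj T ⟶ (jinv g).obj F') :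
    ofSec g (toSec g ξ) = ξ :=
  Equiv.symm_apply_apply ((J S).uliftYonedaEquiv.{u + 1} (X := T) (F := (jinv g).obj F')) ξ

theorem toSec_injective {T : Over S} {F' : Sp S'} :
    Function.Injective (toSec g (T := T) (F' := F')) :=
  ((J S).uliftYonedaEquiv.{u + 1}).injective

/-- `toSec` of a composite. -/
theorem toSec_comp {T : Over S} {F' G' : Sp S'} (ξ : (yon S).obj T ⟶ (jinv g).obj F')
    (φ : F' ⟶ G') :
    toSec g (ξ ≫ (jinv g).map φ) = φ.hom.app (op ((Over.map g).obj T)) (toSec g ξ) :=
  GrothendieckTopology.uliftYonedaEquiv_comp _ _ _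

/-- `toSec` and restriction. -/
theorem toSec_map_comp {T T₀ : Over S} {F' : Sp S'} (f : T₀ ⟶ T)
    (ξ : (yon S).obj T ⟶ (jinv g).obj F') :
    toSec g ((yon S).map f ≫ ξ) = F'.obj.map ((Over.map g).map f).op (toSec g ξ) :=
  ((J S).uliftYonedaEquiv_naturality (F := (jinv g).obj F') ξ f).symm

/-- Maps `h_T ⟶ j⁻¹F'` over `S` are maps `h_{jT} ⟶ F'` over `S'`. -/
noncomputable def homEquiv (T : Over S) (F' : Sp S') :
    ((yon S).obj T ⟶ (jinv g).obj F') ≃ ((yon S').obj ((Over.map g).obj T) ⟶ F') where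
  toFun ξ := (J S').uliftYonedaEquiv.{u + 1}.symm (toSec g ξ)
  invFun ξ' := ofSec g ((J S').uliftYonedaEquiv.{u + 1} ξ')
  left_inv ξ := by simp
  right_inv ξ' := by simp

/-- The unit `h_T ⟶ j⁻¹ h_{jT}`. -/
noncomputable def unitMap (T : Over S) :
    (yon S).obj T ⟶ (jinv g).obj ((yon S').obj ((Over.map g).obj T)) :=
  ofSec g (F' := (yon S').obj ((Over.map g).obj T)) ⟨𝟙 _⟩

@[simp] theorem toSec_unitMap (T : Over S) :
    toSec g (unitMap g T) = ⟨𝟙 ((Over.map g).obj T)⟩ :=
  toSec_ofSec g _

theorem homEquiv_symm_eq (T : Over S) {F' : Sp S'}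
    (ξ' : (yon S').obj ((Over.map g).obj T) ⟶ F') :
    (homEquiv g T F').symm ξ' = unitMap g T ≫ (jinv g).map ξ' := by
  apply toSec_injective g
  rw [toSec_comp, toSec_unitMap]
  change toSec g (ofSec g _) = _
  rw [toSec_ofSec, GrothendieckTopology.uliftYonedaEquiv_apply]

theorem eq_unitMap_comp (T : Over S) {F' : Sp S'} (ξ : (yon S).obj T ⟶ (jinv g).obj F') :
    ξ = unitMap g T ≫ (jinv g).map (homEquiv g T F' ξ) := by
  rw [← homEquiv_symm_eq, Equiv.symm_apply_apply]

theorem unitMap_comp_injective (T : Over S) {F' : Sp S'}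
    {a b : (yon S').obj ((Over.map g).obj T) ⟶ F'}
    (h : unitMap g T ≫ (jinv g).map a = unitMap g T ≫ (jinv g).map b) : a = b := by
  rw [← homEquiv_symm_eq, ← homEquiv_symm_eq] at h
  exact (homEquiv g T F').symm.injective h

/-- Naturality of the unit. -/
theorem unitMap_naturality {T T₀ : Over S} (f : T₀ ⟶ T) :
    (yon S).map f ≫ unitMap g T =
      unitMap g T₀ ≫ (jinv g).map ((yon S').map ((Over.map g).map f)) := by
  apply toSec_injective g
  rw [toSec_comp, toSec_unitMap, toSec_map_comp, toSec_unitMap]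
  refine ULift.ext _ _ ?_
  change (Over.map g).map f ≫ 𝟙 _ = 𝟙 _ ≫ (Over.map g).map f
  rw [Category.comp_id, Category.id_comp]

section via

variable {g} {T : Over S} {W' : Over S'} (h' : W' ⟶ (Over.map g).obj T)

/-- A scheme over `jT` viewed over `S` through `T`. -/
noncomputable abbrev viaOv : Over S := Over.mk (h'.left ≫ T.hom)

/-- Its structure map to `T`. -/
noncomputable abbrev viaHom : viaOv h' ⟶ T := Over.homMk h'.left rfl

/-- `j` of it is the original scheme over `S'`. -/
noncomputable def viaIso : (Over.map g).obj (viaOv h') ≅ W' :=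
  Over.isoMk (Iso.refl _) (by
    have := Over.w h'
    simp only [Over.map_obj_hom] at this
    simp [← this])

@[simp] theorem viaIso_hom_left : (viaIso h').hom.left = 𝟙 _ := rfl

@[simp] theorem viaIso_inv_left : (viaIso h').inv.left = 𝟙 _ := rfl

theorem viaIso_hom_comp : (viaIso h').hom ≫ h' = (Over.map g).map (viaHom h') := by
  ext
  simp

/-- The basic pullback square: `h_W = h_T ×_{j⁻¹ h_{jT}} j⁻¹ h_{W'}`. -/
theorem isPullback_unitMap :
    IsPullback (unitMap g (viaOv h') ≫ (jinv g).map ((yon S').map (viaIso h').hom))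
      ((yon S).map (viaHom h')) ((jinv g).map ((yon S').map h')) (unitMap g T) := by
  have w : (unitMap g (viaOv h') ≫ (jinv g).map ((yon S').map (viaIso h').hom)) ≫
      (jinv g).map ((yon S').map h') = (yon S).map (viaHom h') ≫ unitMap g T := by
    rw [unitMap_naturality, Category.assoc, ← Functor.map_comp, ← Functor.map_comp,
      viaIso_hom_comp]
  refine Groth.Agent.H51.isPullback_of_forall_yon w ?_
  intro T₀ a b hab
  obtain ⟨b₀, rfl⟩ := (yon S).map_surjective b
  obtain ⟨a', ha'⟩ : ∃ a' : (Over.map g).obj T₀ ⟶ W', toSec g a = ⟨a'⟩ := ⟨(toSec g a).down, rfl⟩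
  have hab' := congrArg (toSec g) hab
  rw [toSec_comp, ha', toSec_map_comp, toSec_unitMap] at hab'
  have e1 : a' ≫ h' = (Over.map g).map b₀ := by
    have := congrArg ULift.down hab'
    change a' ≫ h' = (Over.map g).map b₀ ≫ 𝟙 _ at this
    rw [this, Category.comp_id]
  have e1l : a'.left ≫ h'.left = b₀.left := by
    have := congrArg CommaMorphism.left e1
    simpa using this
  let w₀ : T₀ ⟶ viaOv h' := Over.homMk a'.left (by
    change a'.left ≫ h'.left ≫ T.hom = T₀.hom
    rw [← Category.assoc, e1l]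
    exact Over.w b₀)
  have hfst : ∀ w₁ : T₀ ⟶ viaOv h', toSec g ((yon S).map w₁ ≫ unitMap g (viaOv h') ≫
      (jinv g).map ((yon S').map (viaIso h').hom)) = ⟨(Over.map g).map w₁ ≫ (viaIso h').hom⟩ := by
    intro w₁
    rw [← Category.assoc, toSec_comp, toSec_map_comp, toSec_unitMap]
    refine ULift.ext _ _ ?_
    change ((Over.map g).map w₁ ≫ 𝟙 _) ≫ (viaIso h').hom = _
    rw [Category.comp_id]
  refine ⟨(yon S).map w₀, ⟨?_, ?_⟩, ?_⟩
  · apply toSec_injective g
    rw [hfst, ha']
    refine ULift.ext _ _ ?_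
    change (Over.map g).map w₀ ≫ (viaIso h').hom = a'
    ext
    simp [w₀]
  · rw [← Functor.map_comp]
    congr 1
    ext
    simpa [w₀] using e1l
  · rintro p ⟨hp1, hp2⟩
    obtain ⟨w₁, rfl⟩ := (yon S).map_surjective p
    congr 1
    have := congrArg (toSec g) hp1
    rw [hfst, ha'] at this
    have := congrArg (fun z => z.down.left) this
    simp only [Over.comp_left, Over.map_map_left, viaIso_hom_left, Category.comp_id] at this
    ext
    simpa [w₀] using this

end via

/-- Restriction preserves representable morphisms with a property stable under base change. -/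
theorem repWith_jinv_map (P : MorphismProperty Scheme.{u}) [P.IsStableUnderBaseChange]
    {F' G' : Sp S'} {f' : F' ⟶ G'} (hf' : RepWith P f') : RepWith P ((jinv g).map f') := by
  refine MorphismProperty.relative.of_exists (fun T ξ => ?_)
  set ξ' := homEquiv g T G' ξ with hξ'
  obtain ⟨W', h', fst', sq'⟩ := hf'.rep ξ'
  have hP : P h'.left := hf'.property ξ' fst' h' sq'
  have sq1 := (sq'.map (jinv g))
  have sq2 := isPullback_unitMap h'
  have sq3 := sq2.paste_horiz sq1
  rw [← eq_unitMap_comp] at sq3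
  exact ⟨viaOv h', _, viaHom h', sq3, hP⟩

/-- `X' ×_{S'} S` over `S`. -/
noncomputable abbrev bcOv (X' : Over S') : Over S := Over.mk (pullback.snd X'.hom g)

variable {g} in
/-- A map `jT ⟶ X'` over `S'` as a map `T ⟶ X' ×_{S'} S` over `S`. -/
noncomputable def toBc {X' : Over S'} {T : Over S} (a : (Over.map g).obj T ⟶ X') :
    T ⟶ bcOv g X' :=
  Over.homMk (pullback.lift a.left T.hom (by
    have := Over.w a
    simpa using this)) (pullback.lift_snd _ _ _)

variable {g} in
/-- A map `T ⟶ X' ×_{S'} S` over `S` as a map `jT ⟶ X'` over `S'`. -/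
noncomputable def ofBc {X' : Over S'} {T : Over S} (k : T ⟶ bcOv g X') :
    (Over.map g).obj T ⟶ X' :=
  Over.homMk (k.left ≫ pullback.fst X'.hom g) (by
    have := Over.w k
    simp only [Over.mk_hom] at this
    simp only [Category.assoc, Over.map_obj_hom]
    rw [pullback.condition, ← Category.assoc, this])

@[simp] theorem toBc_left {X' : Over S'} {T : Over S} (a : (Over.map g).obj T ⟶ X') :
    (toBc a).left = pullback.lift a.left T.hom (by
      have := Over.w a
      simpa using this) := rfl

@[simp] theorem ofBc_left {X' : Over S'} {T : Over S} (k : T ⟶ bcOv g X') :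
    (ofBc k).left = k.left ≫ pullback.fst X'.hom g := rfl

theorem ofBc_toBc {X' : Over S'} {T : Over S} (a : (Over.map g).obj T ⟶ X') :
    ofBc (toBc a) = a := by
  ext
  exact pullback.lift_fst _ _ _

theorem toBc_ofBc {X' : Over S'} {T : Over S} (k : T ⟶ bcOv g X') :
    toBc (ofBc k) = k := by
  ext
  apply pullback.hom_ext
  · exact pullback.lift_fst _ _ _
  · have := Over.w k
    simp only [Over.mk_hom] at this
    exact (pullback.lift_snd _ _ _).trans this.symm

theorem ofBc_comp {X' : Over S'} {T T₀ : Over S} (f : T₀ ⟶ T) (k : T ⟶ bcOv g X') :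
    ofBc (f ≫ k) = (Over.map g).map f ≫ ofBc k := by
  ext
  simp

/-- `j⁻¹ h_{X'}` is represented by `X' ×_{S'} S`. -/
noncomputable def representableBy (X' : Over S') :
    ((jinv g).obj ((yon S').obj X')).obj.RepresentableBy (bcOv g X') where
  homEquiv {T} :=
    { toFun := fun k => ⟨ofBc k⟩
      invFun := fun a => toBc a.down
      left_inv := fun k => toBc_ofBc g k
      right_inv := fun a => ULift.ext _ _ (ofBc_toBc g a.down) }
  homEquiv_comp {T T₀} f k := ULift.ext _ _ (ofBc_comp g f k)

/-- The isomorphism `h_{X' ×_{S'} S} ≅ j⁻¹ h_{X'}`. -/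
noncomputable def bcIso (X' : Over S') : (yon S).obj (bcOv g X') ≅ (jinv g).obj ((yon S').obj X') :=
  (fullyFaithfulSheafToPresheaf (J S) (Type (u + 1))).preimageIso
    (Functor.RepresentableBy.equivUliftYonedaIso.{u + 1} _ _ (representableBy g X'))

/-- Restriction to `S` of an algebraic space over `S'` is an algebraic space. -/
theorem isAlgSpace_jinv {F' : Sp S'} (hF' : IsAlgSpace F') : IsAlgSpace ((jinv g).obj F') := by
  obtain ⟨U', p', hpe, hps⟩ := hF'.atlas
  refine AlgSpBoot.isAlgSpace_of_yon_cover ((bcIso g U').hom ≫ (jinv g).map p') ?_ ?_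
  · exact MorphismProperty.RespectsIso.precomp _ _ _ (repWith_jinv_map g @Etale hpe)
  · exact MorphismProperty.RespectsIso.precomp _ _ _ (repWith_jinv_map g @Surjective hps)

end Groth.Agent.H65.BaseChangeSp
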