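import Groth.Agent.H65.QuotFppf

/-!
# Bootstrapping the diagonal

Let `p : X ⟶ F` be a map from an algebraic space to an fppf sheaf which is representable by algebraic
spaces, surjective, flat and locally of finite presentation.  With `c₀ : h_{X₀} ⟶ X` an étale atlas,
`p₀ = c₀ ≫ p` is representable by schemes, flat, locally of finite presentation and surjective, and the
diagonal of `F` is representable.
-/

set_option autoImplicit false
universe u
open CategoryTheory CategoryTheory.Limits AlgebraicGeometry Opposite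

namespace Groth.Agent.H65.BootDiag

open AlgSp Groth.Agent.H65.QuotEtale

variable {S : Scheme.{u}}

/-- The base change of `c₀ ≫ p` along a map from a scheme is a scheme, flat, locally of finite
presentation and surjective over the base. -/
theorem exists_rep_atlas_comp {F X : Sp S} (hX : IsAlgSpace X) (p : X ⟶ F)
    (hp : RepBySpWith (IsSurjectiveMor ⊓ LocP @Flat ⊓ LocP @LocallyOfFinitePresentation) p.hom)
    {X₀ : Over S} (c₀ : (yon S).obj X₀ ⟶ X) (hcE : RepWith @Etale c₀)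
    (hcS : RepWith @Surjective c₀) {T : Over S} (ξ : (yon S).obj T ⟶ F) :
    ∃ (G : Over S) (lG : G ⟶ X₀) (σ : G ⟶ T),
      IsPullback ((yon S).map lG) ((yon S).map σ) (c₀ ≫ p) ξ ∧ Flat σ.left ∧
        LocallyOfFinitePresentation σ.left ∧ Surjective σ.left := by
  have sq : IsPullback (pullback.fst p ξ) (pullback.snd p ξ) p ξ := IsPullback.of_hasPullback _ _
  obtain ⟨h, hA, hQ⟩ := hp ξ.hom _ _ (sq.map (sheafToPresheaf (J S) (Type (u + 1))))
  have hA' : IsAlgSpace (pullback p ξ) := hA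
  have hsurj : IsSurjectiveMor (pullback.snd p ξ) := hQ.1.1
  have hflat : LocP @Flat (pullback.snd p ξ) := hQ.1.2
  have hfp : LocP @LocallyOfFinitePresentation (pullback.snd p ξ) := hQ.2
  have sq2 : IsPullback (pullback.fst c₀ (pullback.fst p ξ)) (pullback.snd c₀ (pullback.fst p ξ)) c₀
      (pullback.fst p ξ) := IsPullback.of_hasPullback _ _
  have hA'' : IsAlgSpace (pullback c₀ (pullback.fst p ξ)) :=
    Groth.Agent.H49.isAlgSpace_of_isPullback sq2 hX.diag (IsAlgSpace.yon_obj X₀) hA'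
  have hεE : RepWith @Etale (pullback.snd c₀ (pullback.fst p ξ)) :=
    MorphismProperty.of_isPullback (P := RepWith (S := S) @Etale) sq2 hcE
  have hεS : RepWith @Surjective (pullback.snd c₀ (pullback.fst p ξ)) :=
    MorphismProperty.of_isPullback (P := RepWith (S := S) @Surjective) sq2 hcS
  have sqB := sq2.paste_vert sq
  obtain ⟨G, ⟨e⟩⟩ := AlgSpBoot.exists_iso_yon_of_isPullback_of_lft sqB hA'' (by
    intro U₁ c₁ x hc₁ _ h2
    have h3 : LocallyOfFinitePresentation (x ≫ (prod.snd : X₀ ⨯ T ⟶ T)).left :=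
      hfp (c₁ ≫ pullback.snd c₀ (pullback.fst p ξ)) (𝟙 _) (x ≫ prod.snd)
        ((RepWith @Etale).comp_mem _ _ hc₁ hεE) (repWith_id _ T) (by
          rw [Category.comp_id, Category.assoc]; exact h2)
    rw [Over.comp_left] at h3
    exact locallyOfFiniteType_of_comp x.left (prod.snd : X₀ ⨯ T ⟶ T).left)
  obtain ⟨σ, hσ⟩ := (yon S).map_surjective
    (e.hom ≫ pullback.snd c₀ (pullback.fst p ξ) ≫ pullback.snd p ξ)
  obtain ⟨lG, hlG⟩ := (yon S).map_surjective (e.hom ≫ pullback.fst c₀ (pullback.fst p ξ))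
  have sqL : IsPullback e.hom (e.hom ≫ pullback.snd c₀ (pullback.fst p ξ) ≫ pullback.snd p ξ)
      (pullback.snd c₀ (pullback.fst p ξ) ≫ pullback.snd p ξ) (𝟙 _) :=
    IsPullback.of_horiz_isIso ⟨by simp⟩
  have sqC := sqL.paste_horiz sqB
  rw [Category.id_comp, ← hσ, ← hlG] at sqC
  have hE' : RepWith @Etale (e.hom ≫ pullback.snd c₀ (pullback.fst p ξ)) :=
    MorphismProperty.RespectsIso.precomp _ _ _ hεE
  have hS' : RepWith @Surjective (e.hom ≫ pullback.snd c₀ (pullback.fst p ξ)) :=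
    MorphismProperty.RespectsIso.precomp _ _ _ hεS
  have hcomp : (e.hom ≫ pullback.snd c₀ (pullback.fst p ξ)) ≫ pullback.snd p ξ =
      (yon S).map σ ≫ 𝟙 _ := by
    rw [Category.assoc, hσ, Category.comp_id]
  refine ⟨G, lG, σ, sqC, ?_, ?_, ?_⟩
  · exact hflat _ (𝟙 _) σ hE' (repWith_id _ T) hcomp
  · exact hfp _ (𝟙 _) σ hE' (repWith_id _ T) hcomp
  · refine ⟨fun t => ?_⟩
    obtain ⟨y, hy⟩ := hsurj (Points.ofScheme T t)
    obtain ⟨u, rfl⟩ := Groth.Agent.H53.exists_ofPt_eq_of_repWith_surjective _ hS' y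
    refine ⟨u, ?_⟩
    rw [Points.map_ofPt, hcomp, Category.comp_id] at hy
    have := congrArg (Points.toScheme T) hy
    rwa [Points.toScheme_ofPt, Points.toScheme_ofScheme] at this

/-- **Bootstrapping the diagonal**: fibre products of schemes over `F` are schemes. -/
theorem exists_iso_yon_pullback {F X : Sp S} (hX : IsAlgSpace X) (p : X ⟶ F)
    (hp : RepBySpWith (IsSurjectiveMor ⊓ LocP @Flat ⊓ LocP @LocallyOfFinitePresentation) p.hom)
    {T T' : Over S} (a : (yon S).obj T ⟶ F) (b : (yon S).obj T' ⟶ F) :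
    ∃ (G : Over S) (e : (yon S).obj G ≅ pullback a b) (γ : G ⟶ T ⨯ T'),
      e.hom ≫ toProd a b = (yon S).map γ ∧ Mono γ ∧ LocallyOfFiniteType γ.left := by
  obtain ⟨X₀, c₀, hcE, hcS⟩ := hX.atlas
  obtain ⟨Ga, la, σa, sqa, hafl, hafp, -⟩ := exists_rep_atlas_comp hX p hp c₀ hcE hcS a
  obtain ⟨Gb, lb, σb, sqb, hbfl, hbfp, hbs⟩ := exists_rep_atlas_comp hX p hp c₀ hcE hcS b
  exact QuotFppf.exists_rep_pullback la σa a (c₀ ≫ p) sqa.flip inferInstance b
    (fun _ : PUnit.{u + 1} => Gb) (fun _ => σb) (fun _ => lb) (fun _ => hbfl) (fun _ => hbfp)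
    (fun t => ⟨PUnit.unit, hbs.surj t⟩) (fun _ => sqb.w)

end Groth.Agent.H65.BootDiag
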