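import Mathlib.AlgebraicGeometry.Morphisms.ClosedImmersion
import Mathlib.AlgebraicGeometry.Morphisms.Separated
import Mathlib.AlgebraicGeometry.Morphisms.SurjectiveOnStalks

/-!
# A morphism which is a closed immersion on each member of a finite open cover of the source,
with pairwise disjoint images, is a closed immersion.
-/

set_option autoImplicit false
universe u
open CategoryTheory CategoryTheory.Limits AlgebraicGeometry

namespace Groth.Agent.H65.CoprodClosedImm

theorem isClosedImmersion_of_finite_openCover {X Y : Scheme.{u}} (f : X ⟶ Y) (𝒰 : X.OpenCover)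
    [Finite 𝒰.I₀] (h : ∀ i, IsClosedImmersion (𝒰.f i ≫ f))
    (hd : ∀ i j, i ≠ j → Disjoint (Set.range (𝒰.f i ≫ f)) (Set.range (𝒰.f j ≫ f))) :
    IsClosedImmersion f := by
  have hst : SurjectiveOnStalks f := by
    rw [IsZariskiLocalAtSource.iff_of_openCover (P := @SurjectiveOnStalks) 𝒰]
    intro i
    have := h i
    infer_instance
  have hinj : Function.Injective f := by
    intro x y hxy
    obtain ⟨i, x', rfl⟩ := 𝒰.exists_eq x
    obtain ⟨j, y', rfl⟩ := 𝒰.exists_eq y
    by_cases hij : i = j
    · subst hij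
      have := (h i).isClosedEmbedding.injective
      have e : (𝒰.f i ≫ f) x' = (𝒰.f i ≫ f) y' := by
        rw [Scheme.Hom.comp_apply, Scheme.Hom.comp_apply]; exact hxy
      rw [this e]
    · exfalso
      have := hd i j hij
      rw [Set.disjoint_iff] at this
      refine this (a := f (𝒰.f i x')) ⟨⟨x', ?_⟩, ⟨y', ?_⟩⟩
      · rw [Scheme.Hom.comp_apply]
      · rw [Scheme.Hom.comp_apply]; exact hxy.symm
  have hcl : IsClosedMap f := by
    intro C hC
    have e : f '' C = ⋃ i, (𝒰.f i ≫ f) '' ((𝒰.f i) ⁻¹' C) := by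
      ext z
      simp only [Set.mem_image, Set.mem_iUnion, Set.mem_preimage]
      constructor
      · rintro ⟨x, hx, rfl⟩
        obtain ⟨i, x', rfl⟩ := 𝒰.exists_eq x
        exact ⟨i, x', hx, by rw [Scheme.Hom.comp_apply]⟩
      · rintro ⟨i, x', hx, rfl⟩
        exact ⟨𝒰.f i x', hx, by rw [Scheme.Hom.comp_apply]⟩
    rw [e]
    refine isClosed_iUnion_of_finite fun i => ?_
    exact (h i).isClosedEmbedding.isClosedMap _ (hC.preimage (𝒰.f i).continuous)
  exact { toSurjectiveOnStalks := hst
          isClosedEmbedding := Topology.IsClosedEmbedding.of_continuous_injective_isClosedMap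
            f.continuous hinj hcl }

/-- Same for quasi-compactness (no disjointness needed). -/
theorem quasiCompact_of_finite_openCover {X Y : Scheme.{u}} (f : X ⟶ Y) (𝒰 : X.OpenCover)
    [Finite 𝒰.I₀] (h : ∀ i, QuasiCompact (𝒰.f i ≫ f)) : QuasiCompact f := by
  refine ⟨fun V hV hVc => ?_⟩
  have e : f ⁻¹' V = ⋃ i, (𝒰.f i) '' ((𝒰.f i ≫ f) ⁻¹' V) := by
    ext x
    simp only [Set.mem_image, Set.mem_iUnion, Set.mem_preimage]
    constructor
    · intro hx
      obtain ⟨i, x', rfl⟩ := 𝒰.exists_eq x
      exact ⟨i, x', by rw [Scheme.Hom.comp_apply]; exact hx, rfl⟩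
    · rintro ⟨i, x', hx, rfl⟩
      rw [Scheme.Hom.comp_apply] at hx
      exact hx
  rw [e]
  refine isCompact_iUnion fun i => ?_
  exact ((h i).isCompact_preimage V hV hVc).image (𝒰.f i).continuous

end Groth.Agent.H65.CoprodClosedImm
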