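import Mathlib

/-!
# Sums over effective zero-cycles (helper65)

For a type `P` of "points" with norms `N : P → ℕ`, `N x ≥ 2`, the "cycles" are the finitely
supported functions `α : P →₀ ℕ`, with norm `cnorm N α = ∏ N x ^ α x`.

* `summable_cnorm_rpow`: if `∑ N(x)^{-σ} < ∞` (`σ > 0`) then `∑_α (cnorm α)^{-σ} < ∞`.
-/

set_option autoImplicit false

namespace Groth.Agent.H65.CycleSum

variable {P : Type*}

/-- The norm of a cycle. -/
noncomputable def cnorm (N : P → ℕ) (α : P →₀ ℕ) : ℕ := α.prod fun x m => N x ^ m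

lemma cnorm_zero (N : P → ℕ) : cnorm N 0 = 1 := Finsupp.prod_zero_index

lemma cnorm_add (N : P → ℕ) (α β : P →₀ ℕ) : cnorm N (α + β) = cnorm N α * cnorm N β :=
  Finsupp.prod_add_index' (fun _ => pow_zero _) (fun _ _ _ => pow_add _ _ _)

lemma cnorm_pos (N : P → ℕ) (hN : ∀ x, 1 ≤ N x) (α : P →₀ ℕ) : 0 < cnorm N α := by
  unfold cnorm Finsupp.prod
  apply Nat.pos_of_ne_zero
  apply Finset.prod_ne_zero_iff.mpr
  intro x _
  exact pow_ne_zero _ (by have := hN x; omega)

lemma cnorm_rpow (N : P → ℕ) (σ : ℝ) (α : P →₀ ℕ) :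
    ((cnorm N α : ℕ) : ℝ) ^ (-σ) = ∏ x ∈ α.support, ((N x : ℝ) ^ (-σ)) ^ (α x) := by
  unfold cnorm Finsupp.prod
  rw [Nat.cast_prod, ← Real.finsetProd_rpow _ _ (fun i _ => by positivity)]
  refine Finset.prod_congr rfl fun x _ => ?_
  rw [Nat.cast_pow, ← Real.rpow_natCast, ← Real.rpow_natCast, ← Real.rpow_mul (by positivity),
    ← Real.rpow_mul (by positivity), mul_comm]

theorem summable_cnorm_rpow (N : P → ℕ) (hN : ∀ x, 2 ≤ N x) {σ : ℝ} (hσ : 0 < σ)
    (h : Summable fun x => ((N x : ℝ)) ^ (-σ)) :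
    Summable fun α : P →₀ ℕ => ((cnorm N α : ℝ)) ^ (-σ) := by
  classical
  set u : P → ℝ := fun x => (N x : ℝ) ^ (-σ) with hu
  have hu0 : ∀ x, 0 < u x := fun x => by
    have : (0 : ℝ) < N x := by have := hN x; positivity
    exact Real.rpow_pos_of_pos this _
  set c : ℝ := (2 : ℝ) ^ (-σ) with hc
  have hc1 : c < 1 := Real.rpow_lt_one_of_one_lt_of_neg one_lt_two (by linarith)
  have hu1 : ∀ x, u x ≤ c := fun x => by
    apply Real.rpow_le_rpow_of_nonpos (by norm_num) _ (by linarith)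
    exact_mod_cast hN x
  let g : P × ℕ → ℝ := fun i => if i.2 = 0 then 0 else u i.1 ^ i.2
  have hg0 : ∀ i, 0 ≤ g i := fun i => by
    simp only [g]
    split_ifs
    · exact le_rfl
    · exact pow_nonneg (hu0 _).le _
  have hgeo : ∀ x, Summable fun m : ℕ => u x ^ m := fun x =>
    summable_geometric_of_lt_one (hu0 x).le ((hu1 x).trans_lt hc1)
  have hgx : ∀ x, Summable fun m : ℕ => g (x, m) := fun x => by
    refine Summable.of_nonneg_of_le (fun m => hg0 _) (fun m => ?_) (hgeo x)
    simp only [g]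
    split_ifs
    · exact pow_nonneg (hu0 _).le _
    · exact le_rfl
  have hgs : Summable g := by
    rw [summable_prod_of_nonneg hg0]
    refine ⟨hgx, ?_⟩
    refine Summable.of_nonneg_of_le (fun x => tsum_nonneg fun m => hg0 _) (fun x => ?_)
      (h.mul_right (1 - c)⁻¹)
    rw [(hgx x).tsum_eq_zero_add]
    have h1 : ∀ m : ℕ, g (x, m + 1) = u x * u x ^ m := fun m => by
      simp only [g, Nat.add_one_ne_zero, if_false, pow_succ]
      ring
    simp only [h1]
    rw [tsum_mul_left, tsum_geometric_of_lt_one (hu0 x).le ((hu1 x).trans_lt hc1)]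
    have h2 : g (x, 0) = 0 := by simp [g]
    rw [h2, zero_add]
    apply mul_le_mul_of_nonneg_left _ (hu0 x).le
    apply inv_anti₀ (by linarith)
    linarith [hu1 x]
  have hfin := summable_finsetProd_of_summable_nonneg hg0 hgs
  have hcomp := hfin.comp_injective (Finsupp.graph_injective P ℕ)
  refine hcomp.congr fun α => ?_
  rw [cnorm_rpow]
  simp only [Function.comp_apply, Finsupp.graph, Finset.prod_map, Function.Embedding.coeFn_mk]
  refine Finset.prod_congr rfl fun x hx => ?_
  have : α x ≠ 0 := Finsupp.mem_support_iff.mp hx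
  simp [g, this, hu]

end Groth.Agent.H65.CycleSum
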