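import Mathlib
import Groth.Agent.H65.CycleSum1

/-!
# Nonvanishing of the sum over effective zero-cycles (helper65)

* `sum_antidiagonal_mu`: `∑_{β ≤ γ} μ(β) = [γ = 0]` for the Möbius function of cycles.
* `tsum_cnorm_cpow_ne_zero`: `∑_α (cnorm α)^{-s} ≠ 0` when `∑ N(x)^{-Re s} < ∞`, `Re s > 0`.
-/

set_option autoImplicit false

namespace Groth.Agent.H65.CycleSum

open Finset

variable {P : Type*}

/-- The Möbius function on cycles. -/
noncomputable def mu (β : P →₀ ℕ) : ℤ :=
  haveI := Classical.dec (∀ x, β x ≤ 1)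
  if ∀ x, β x ≤ 1 then (-1) ^ β.support.card else 0

lemma abs_mu_le (β : P →₀ ℕ) : |mu β| ≤ 1 := by
  classical
  unfold mu
  split_ifs
  · simp
  · simp

/-- The indicator cycle of a finite set of points. -/
noncomputable def ind [DecidableEq P] (S : Finset P) : P →₀ ℕ :=
  Finsupp.indicator S fun _ _ => 1

lemma ind_apply [DecidableEq P] (S : Finset P) (x : P) : ind S x = if x ∈ S then 1 else 0 := by
  unfold ind
  rw [Finsupp.indicator_apply]
  split_ifs <;> rfl

lemma support_ind [DecidableEq P] (S : Finset P) : (ind S).support = S := by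
  ext x
  rw [Finsupp.mem_support_iff, ind_apply]
  split_ifs with h <;> simp [h]

lemma ind_support_of_le_one [DecidableEq P] (β : P →₀ ℕ) (h : ∀ x, β x ≤ 1) :
    ind β.support = β := by
  ext x
  rw [ind_apply]
  split_ifs with hx
  · have := Finsupp.mem_support_iff.mp hx
    have := h x
    omega
  · exact (Finsupp.notMem_support_iff.mp hx).symm

theorem sum_antidiagonal_mu [DecidableEq P] (γ : P →₀ ℕ) :
    ∑ kl ∈ antidiagonal γ, mu kl.2 = if γ = 0 then 1 else 0 := by
  classical
  have h1 : ∑ kl ∈ antidiagonal γ, mu kl.2 =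
      ∑ kl ∈ (antidiagonal γ).filter (fun kl => ∀ x, kl.2 x ≤ 1), (-1 : ℤ) ^ kl.2.support.card := by
    rw [Finset.sum_filter]
    refine Finset.sum_congr rfl fun kl _ => ?_
    unfold mu
    split_ifs <;> rfl
  rw [h1]
  have h2 : ∑ kl ∈ (antidiagonal γ).filter (fun kl => ∀ x, kl.2 x ≤ 1),
      (-1 : ℤ) ^ kl.2.support.card = ∑ S ∈ γ.support.powerset, (-1 : ℤ) ^ S.card := by
    refine Finset.sum_bij' (fun kl _ => kl.2.support) (fun S _ => (γ - ind S, ind S))
      ?_ ?_ ?_ ?_ ?_
    · intro kl hkl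
      rw [Finset.mem_filter, HasAntidiagonal.mem_antidiagonal] at hkl
      rw [Finset.mem_powerset]
      intro x hx
      rw [Finsupp.mem_support_iff] at hx ⊢
      have := congrArg (fun f : P →₀ ℕ => f x) hkl.1
      simp only [Finsupp.add_apply] at this
      omega
    · intro S hS
      rw [Finset.mem_powerset] at hS
      rw [Finset.mem_filter, HasAntidiagonal.mem_antidiagonal]
      refine ⟨?_, ?_⟩
      · apply tsub_add_cancel_of_le
        intro x
        rw [ind_apply]
        split_ifs with hx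
        · have := Finsupp.mem_support_iff.mp (hS hx)
          omega
        · exact Nat.zero_le _
      · intro x
        simp only
        rw [ind_apply]
        split_ifs <;> omega
    · intro kl hkl
      rw [Finset.mem_filter, HasAntidiagonal.mem_antidiagonal] at hkl
      have h3 : ind kl.2.support = kl.2 := ind_support_of_le_one _ hkl.2
      rw [h3]
      ext1
      · simp only
        rw [← hkl.1, add_tsub_cancel_right]
      · rfl
    · intro S _
      exact support_ind S
    · intro kl _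
      rfl
  rw [h2, Finset.sum_powerset_neg_one_pow_card]
  congr 1
  rw [Finsupp.support_eq_empty]

theorem tsum_cnorm_cpow_ne_zero (N : P → ℕ) (hN : ∀ x, 2 ≤ N x) (s : ℂ) (hs : 0 < s.re)
    (h : Summable fun x => ((N x : ℝ)) ^ (-s.re)) :
    ∑' α : P →₀ ℕ, ((cnorm N α : ℂ)) ^ (-s) ≠ 0 := by
  classical
  have hN1 : ∀ x, 1 ≤ N x := fun x => (by have := hN x; omega)
  set F : (P →₀ ℕ) → ℂ := fun α => ((cnorm N α : ℂ)) ^ (-s) with hF
  set G : (P →₀ ℕ) → ℂ := fun β => (mu β : ℂ) * F β with hG
  have hFn : ∀ α, ‖F α‖ = ((cnorm N α : ℝ)) ^ (-s.re) := fun α => by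
    rw [hF]
    simp only
    rw [Complex.norm_natCast_cpow_of_pos (cnorm_pos N hN1 α), Complex.neg_re]
  have hFs : Summable fun α => ‖F α‖ := by
    simp only [hFn]
    exact summable_cnorm_rpow N hN hs h
  have hGs : Summable fun β => ‖G β‖ := by
    refine Summable.of_nonneg_of_le (fun _ => norm_nonneg _) (fun β => ?_) hFs
    rw [hG]
    simp only
    rw [norm_mul]
    have : ‖(mu β : ℂ)‖ ≤ 1 := by
      rw [Complex.norm_intCast]
      exact_mod_cast abs_mu_le β
    calc ‖(mu β : ℂ)‖ * ‖F β‖ ≤ 1 * ‖F β‖ := by gcongr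
      _ = ‖F β‖ := one_mul _
  have hmul : ∀ α β, F α * F β = F (α + β) := fun α β => by
    rw [hF]
    simp only
    rw [cnorm_add, Nat.cast_mul, Complex.natCast_mul_natCast_cpow]
  have key := hFs.of_norm.tsum_mul_tsum_eq_tsum_sum_antidiagonal hGs.of_norm
    (summable_mul_of_summable_norm hFs hGs)
  have h3 : ∀ γ : P →₀ ℕ, ∑ kl ∈ antidiagonal γ, F kl.1 * G kl.2 =
      if γ = 0 then 1 else 0 := by
    intro γ
    have h4 : ∀ kl ∈ antidiagonal γ, F kl.1 * G kl.2 = F γ * (mu kl.2 : ℂ) := by
      intro kl hkl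
      rw [HasAntidiagonal.mem_antidiagonal] at hkl
      rw [hG]
      simp only
      rw [← hkl, ← hmul]
      ring
    rw [Finset.sum_congr rfl h4, ← Finset.mul_sum, ← Int.cast_sum, sum_antidiagonal_mu]
    split_ifs with h0
    · subst h0
      rw [hF]
      simp [cnorm_zero]
    · simp
  simp only [h3] at key
  rw [tsum_ite_eq] at key
  intro h0
  rw [h0, zero_mul] at key
  exact zero_ne_one key

end Groth.Agent.H65.CycleSum
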