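import Mathlib
import Groth.Agent.H65.CycleSum2

/-!
# The Dirichlet series of cycle counts (helper65)

`lseries_bridge`: with `a n = #{α | cnorm α = n}`, the L-series of `a` converges absolutely at `s`
and equals `∑_α (cnorm α)^{-s}`, as soon as `∑ N(x)^{-Re s} < ∞`, `Re s > 0`.
-/

set_option autoImplicit false

namespace Groth.Agent.H65.CycleSum

variable {P : Type*}

/-- The number of cycles of norm `n`, as a complex number. -/
noncomputable def cycCount (N : P → ℕ) (n : ℕ) : ℂ :=
  (Nat.card {α : P →₀ ℕ // cnorm N α = n} : ℂ)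

theorem lseries_bridge (N : P → ℕ) (hN : ∀ x, 2 ≤ N x) (s : ℂ) (hs : 0 < s.re)
    (h : Summable fun x => ((N x : ℝ)) ^ (-s.re)) :
    LSeriesSummable (cycCount N) s ∧
      LSeries (cycCount N) s = ∑' α : P →₀ ℕ, ((cnorm N α : ℂ)) ^ (-s) := by
  classical
  have hN1 : ∀ x, 1 ≤ N x := fun x => (by have := hN x; omega)
  set F : (P →₀ ℕ) → ℂ := fun α => ((cnorm N α : ℂ)) ^ (-s) with hF
  have hFn : ∀ α, ‖F α‖ = ((cnorm N α : ℝ)) ^ (-s.re) := fun α => by
    rw [hF]
    simp only
    rw [Complex.norm_natCast_cpow_of_pos (cnorm_pos N hN1 α), Complex.neg_re]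
  have hFs : Summable F := by
    apply Summable.of_norm
    simp only [hFn]
    exact summable_cnorm_rpow N hN hs h
  let e := Equiv.sigmaFiberEquiv (cnorm N)
  have hsig : HasSum (fun x : Σ n, {α : P →₀ ℕ // cnorm N α = n} => F (e x)) (∑' α, F α) :=
    (e.hasSum_iff).mpr hFs.hasSum
  have hfiber : ∀ n, HasSum (fun c : {α : P →₀ ℕ // cnorm N α = n} => F (e ⟨n, c⟩))
      (LSeries.term (cycCount N) s n) := by
    intro n
    have hconst : ∀ c : {α : P →₀ ℕ // cnorm N α = n}, F (e ⟨n, c⟩) = (n : ℂ) ^ (-s) := by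
      intro c
      change ((cnorm N c.1 : ℂ)) ^ (-s) = _
      rw [c.2]
    simp only [hconst]
    rcases Nat.eq_zero_or_pos n with hn | hn
    · subst hn
      have : IsEmpty {α : P →₀ ℕ // cnorm N α = 0} :=
        ⟨fun c => by have := cnorm_pos N hN1 c.1; omega⟩
      rw [LSeries.term_zero]
      exact hasSum_empty
    · have hne : (n : ℂ) ^ (-s) ≠ 0 := by
        rw [Ne, Complex.cpow_eq_zero_iff]
        rintro ⟨h0, -⟩
        have : (n : ℂ) ≠ 0 := by exact_mod_cast hn.ne'
        exact this h0
      have hsum : Summable fun _ : {α : P →₀ ℕ // cnorm N α = n} => (n : ℂ) ^ (-s) := by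
        have := hsig.summable.sigma_factor n
        simpa only [hconst] using this
      have hfin : Finite {α : P →₀ ℕ // cnorm N α = n} := by
        by_contra hinf
        rw [not_finite_iff_infinite] at hinf
        exact hne ((summable_const_iff _).mp hsum)
      let _ : Fintype {α : P →₀ ℕ // cnorm N α = n} := Fintype.ofFinite _
      have := hasSum_fintype (fun _ : {α : P →₀ ℕ // cnorm N α = n} => (n : ℂ) ^ (-s))
      convert this using 1
      rw [LSeries.term_of_ne_zero hn.ne', Finset.sum_const, Finset.card_univ, cycCount,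
        Nat.card_eq_fintype_card, nsmul_eq_mul, Complex.cpow_neg, div_eq_mul_inv]
  have := hsig.sigma hfiber
  exact ⟨this.summable, this.tsum_eq⟩

end Groth.Agent.H65.CycleSum
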