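import Mathlib
import Groth.Agent.H65.CycleSum3

/-!
# Summability of `∑ N(x)^{-σ}` from bounds on the number of points of given norm (helper65)
-/

set_option autoImplicit false

namespace Groth.Agent.H65.CycleSum

variable {P : Type*}

open Classical in
/-- the contribution of the powers of one (bad) prime -/
lemma summable_primePow (p : ℕ) (C : ℝ) {e : ℝ} (he : e < 0) :
    Summable fun q : ℕ => if p.Prime ∧ ∃ m, 1 ≤ m ∧ q = p ^ m then C * (q : ℝ) ^ e else 0 := by
  classical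
  by_cases hp : p.Prime
  swap
  · simp [hp, summable_zero]
  have hp2 : 2 ≤ p := hp.two_le
  have hinj : Function.Injective fun m : ℕ => p ^ (m + 1) := by
    intro a b hab
    have := Nat.pow_right_injective hp2 hab
    omega
  rw [← hinj.summable_iff]
  · have hρ0 : (0 : ℝ) ≤ (p : ℝ) ^ e := by positivity
    have hρ1 : (p : ℝ) ^ e < 1 :=
      Real.rpow_lt_one_of_one_lt_of_neg (by exact_mod_cast hp.one_lt) he
    have hgeo := (summable_geometric_of_lt_one hρ0 hρ1).mul_left (C * (p : ℝ) ^ e)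
    refine hgeo.congr fun m => ?_
    simp only [Function.comp_apply]
    rw [if_pos ⟨hp, m + 1, by omega, rfl⟩]
    push_cast
    rw [← Real.rpow_natCast ((p : ℝ)) (m + 1), ← Real.rpow_mul (by positivity),
      mul_comm ((m + 1 : ℕ) : ℝ) e, Real.rpow_mul (by positivity), Real.rpow_natCast, pow_succ]
    ring
  · intro q hq
    rw [if_neg]
    rintro ⟨-, m, hm, rfl⟩
    apply hq
    exact ⟨m - 1, by simp only; congr 1; omega⟩

theorem summable_of_fibre_bounds (N : P → ℕ) (C p₀ r : ℕ)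
    (hfin : ∀ q, Finite {x : P // N x = q})
    (hpp : ∀ x, ∃ p m, p.Prime ∧ 1 ≤ m ∧ N x = p ^ m)
    (hb : ∀ p m, p.Prime → 1 ≤ m →
      (p₀ ≤ p → (Nat.card {x : P // N x = p ^ m} = 0 ∨
        (1 ≤ r ∧ Nat.card {x : P // N x = p ^ m} ≤ C * (p ^ m) ^ (r - 1)))) ∧
      Nat.card {x : P // N x = p ^ m} ≤ C * (p ^ m) ^ r)
    {σ : ℝ} (hσ : (r : ℝ) < σ) :
    Summable fun x => ((N x : ℝ)) ^ (-σ) := by
  classical
  let e := Equiv.sigmaFiberEquiv N
  rw [← e.summable_iff]
  have hnn : ∀ x, 0 ≤ ((fun x => ((N x : ℝ)) ^ (-σ)) ∘ e) x := fun x => by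
    simp only [Function.comp_apply]; positivity
  rw [summable_sigma_of_nonneg hnn]
  refine ⟨fun q => ?_, ?_⟩
  · have := hfin q
    exact Summable.of_finite
  -- the sum over a fibre
  have hconst : ∀ q, (∑' c : {x : P // N x = q}, ((fun x => ((N x : ℝ)) ^ (-σ)) ∘ e) ⟨q, c⟩) =
      (Nat.card {x : P // N x = q} : ℝ) * (q : ℝ) ^ (-σ) := by
    intro q
    have := hfin q
    let _ : Fintype {x : P // N x = q} := Fintype.ofFinite _
    have : ∀ c : {x : P // N x = q}, ((fun x => ((N x : ℝ)) ^ (-σ)) ∘ e) ⟨q, c⟩ =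
        (q : ℝ) ^ (-σ) := by
      intro c
      change ((N c.1 : ℝ)) ^ (-σ) = _
      rw [c.2]
    simp only [this]
    rw [tsum_fintype, Finset.sum_const, Finset.card_univ, Nat.card_eq_fintype_card,
      nsmul_eq_mul]
  simp only [hconst]
  -- the dominating function
  set B : ℕ → ℝ := fun q => (C : ℝ) * (q : ℝ) ^ ((r : ℝ) - 1 - σ) +
    ∑ p ∈ Finset.range p₀,
      (if p.Prime ∧ ∃ m, 1 ≤ m ∧ q = p ^ m then (C : ℝ) * (q : ℝ) ^ ((r : ℝ) - σ) else 0) with hB
  have hBs : Summable B := by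
    apply Summable.add
    · exact (Real.summable_nat_rpow.mpr (by linarith)).mul_left _
    · exact summable_sum fun p _ => summable_primePow p C (by linarith)
  refine Summable.of_nonneg_of_le (fun q => by positivity) (fun q => ?_) hBs
  have hterm0 : ∀ p ∈ Finset.range p₀, (0 : ℝ) ≤
      (if p.Prime ∧ ∃ m, 1 ≤ m ∧ q = p ^ m then (C : ℝ) * (q : ℝ) ^ ((r : ℝ) - σ) else 0) := by
    intro p _
    split_ifs
    · positivity
    · exact le_rfl
  have hB0 : 0 ≤ B q := by
    rw [hB]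
    simp only
    have := Finset.sum_nonneg hterm0
    positivity
  -- is the fibre nonempty?
  rcases isEmpty_or_nonempty {x : P // N x = q} with hemp | ⟨⟨x, hx⟩⟩
  · rw [Nat.card_of_isEmpty]
    simpa using hB0
  obtain ⟨p, m, hp, hm, hpm⟩ := hpp x
  rw [hx] at hpm
  have hq0 : (0 : ℝ) < q := by
    rw [hpm]
    exact_mod_cast pow_pos hp.pos m
  obtain ⟨hb1, hb2⟩ := hb p m hp hm
  rw [← hpm] at hb1 hb2
  by_cases hpp₀ : p₀ ≤ p
  · rcases hb1 hpp₀ with h0 | ⟨hr1, hle⟩
    · rw [h0]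
      simpa using hB0
    · have h1 : (Nat.card {x : P // N x = q} : ℝ) ≤ (C : ℝ) * (q : ℝ) ^ (r - 1) := by
        exact_mod_cast hle
      have h2 : (q : ℝ) ^ ((r : ℝ) - 1 - σ) = (q : ℝ) ^ (r - 1) * (q : ℝ) ^ (-σ) := by
        rw [← Real.rpow_natCast, ← Real.rpow_add hq0, Nat.cast_sub hr1]
        congr 1
        push_cast
        ring
      calc (Nat.card {x : P // N x = q} : ℝ) * (q : ℝ) ^ (-σ)
          ≤ ((C : ℝ) * (q : ℝ) ^ (r - 1)) * (q : ℝ) ^ (-σ) := by
            apply mul_le_mul_of_nonneg_right h1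
            positivity
        _ = (C : ℝ) * (q : ℝ) ^ ((r : ℝ) - 1 - σ) := by rw [h2]; ring
        _ ≤ B q := by
            rw [hB]
            simp only
            have := Finset.sum_nonneg hterm0
            linarith
  · have hpr : p ∈ Finset.range p₀ := Finset.mem_range.mpr (by omega)
    have h1 : (Nat.card {x : P // N x = q} : ℝ) ≤ (C : ℝ) * (q : ℝ) ^ r := by
      exact_mod_cast hb2
    have h2 : (q : ℝ) ^ ((r : ℝ) - σ) = (q : ℝ) ^ r * (q : ℝ) ^ (-σ) := by
      rw [← Real.rpow_natCast, ← Real.rpow_add hq0]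
      congr 1
    calc (Nat.card {x : P // N x = q} : ℝ) * (q : ℝ) ^ (-σ)
        ≤ ((C : ℝ) * (q : ℝ) ^ r) * (q : ℝ) ^ (-σ) := by
          apply mul_le_mul_of_nonneg_right h1
          positivity
      _ = (C : ℝ) * (q : ℝ) ^ ((r : ℝ) - σ) := by rw [h2]; ring
      _ = (if p.Prime ∧ ∃ m, 1 ≤ m ∧ q = p ^ m then (C : ℝ) * (q : ℝ) ^ ((r : ℝ) - σ) else 0) := by
          rw [if_pos ⟨hp, m, hm, hpm⟩]
      _ ≤ ∑ p ∈ Finset.range p₀,
          (if p.Prime ∧ ∃ m, 1 ≤ m ∧ q = p ^ m then (C : ℝ) * (q : ℝ) ^ ((r : ℝ) - σ) else 0) :=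
          Finset.single_le_sum hterm0 hpr
      _ ≤ B q := by
          rw [hB]
          simp only
          have : (0 : ℝ) ≤ (C : ℝ) * (q : ℝ) ^ ((r : ℝ) - 1 - σ) := by positivity
          linarith

end Groth.Agent.H65.CycleSum
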