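import Mathlib

/-!
# Counting ring homomorphisms into a finite field via integral generators (helper65)

`card_le`: if `A` is generated as a ring by the image of `h : B →+* A` and `a₁, …, a_k`, and each
`a_j` is a root of a polynomial `Q_j ∈ B[T]` (via `h`), then the number of ring homs `A → F`
lying over a given finite family of ring homs `B → F` under which no `Q_j` vanishes is at most
`(#family) * ∏ deg Q_j`.
-/

set_option autoImplicit false

namespace Groth.Agent.H65.PtCount

open Polynomial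

theorem card_le {B A F 𝒮 𝒯 : Type*} [CommRing B] [CommRing A] [Field F] [Finite 𝒯]
    (h : B →+* A) {k : ℕ} (a : Fin k → A)
    (hgen : Subring.closure (Set.range h ∪ Set.range a) = ⊤)
    (Q : Fin k → B[X]) (hQ : ∀ j, (Q j).eval₂ h (a j) = 0)
    (ι : 𝒮 → (A →+* F)) (hι : Function.Injective ι) (τ : 𝒯 → (B →+* F)) (ρ : 𝒮 → 𝒯)
    (hρ : ∀ s, (ι s).comp h = τ (ρ s)) (hne : ∀ t j, (Q j).map (τ t) ≠ 0) :
    Finite 𝒮 ∧ Nat.card 𝒮 ≤ Nat.card 𝒯 * ∏ j, (Q j).natDegree := by
  classical
  have hroot : ∀ s j, ι s (a j) ∈ ((Q j).map (τ (ρ s))).roots.toFinset := by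
    intro s j
    rw [Multiset.mem_toFinset, mem_roots (hne _ _), IsRoot, ← hρ, eval_map,
      ← Polynomial.hom_eval₂, hQ, map_zero]
  let Φ : 𝒮 → Σ t : 𝒯, (∀ j : Fin k, ↥((Q j).map (τ t)).roots.toFinset) :=
    fun s => ⟨ρ s, fun j => ⟨ι s (a j), hroot s j⟩⟩
  have hΦ : Function.Injective Φ := by
    intro s s' hss
    apply hι
    have h1 : ρ s = ρ s' := congrArg Sigma.fst hss
    have h2 : (fun j => ι s (a j)) = fun j => ι s' (a j) := by
      have := congrArg (fun x : (Σ t : 𝒯, (∀ j : Fin k, ↥((Q j).map (τ t)).roots.toFinset)) =>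
        fun j => ((x.2 j : F))) hss
      exact this
    have h3 : (ι s).comp h = (ι s').comp h := by rw [hρ, hρ, h1]
    apply RingHom.eq_of_eqOn_set_dense hgen
    rintro x (⟨b, rfl⟩ | ⟨j, rfl⟩)
    · exact RingHom.congr_fun h3 b
    · exact congrFun h2 j
  let _ : Fintype 𝒯 := Fintype.ofFinite 𝒯
  refine ⟨Finite.of_injective Φ hΦ, ?_⟩
  refine (Nat.card_le_card_of_injective Φ hΦ).trans ?_
  rw [Nat.card_sigma, Nat.card_eq_fintype_card (α := 𝒯), ← Finset.card_univ, ← smul_eq_mul,
    ← Finset.sum_const]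
  refine Finset.sum_le_sum fun t _ => ?_
  rw [Nat.card_pi]
  refine Finset.prod_le_prod' fun j _ => ?_
  rw [Nat.card_eq_fintype_card, Fintype.card_coe]
  refine (Multiset.toFinset_card_le _).trans ((card_roots' _).trans ?_)
  exact natDegree_map_le
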