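import Mathlib
import Groth.Agent.H65.PtCount1
import Groth.Agent.H88.NoetherIntDim

/-!
# Trivial point count bound over a field (helper65)

`field_case`: for a finite type algebra `A` over a field `k` with `dim A ≤ r` there is a constant
`C` with `#Hom_k(A, F) ≤ C * (#F)^r` for every finite field extension `F` of `k`.
-/

set_option autoImplicit false

namespace Groth.Agent.H65.PtCount

open Polynomial

universe v

theorem field_case (k : Type*) [Field k] (A : Type*) [CommRing A] [Algebra k A]
    [Algebra.FiniteType k A] (r : ℕ) (hr : ringKrullDim A ≤ r) :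
    ∃ C : ℕ, ∀ (F : Type v) [Field F] [Finite F] [Algebra k F],
      Finite (A →ₐ[k] F) ∧ Nat.card (A →ₐ[k] F) ≤ C * (Nat.card F) ^ r := by
  classical
  rcases subsingleton_or_nontrivial A with hA | hA
  · refine ⟨0, fun F _ _ _ => ?_⟩
    have : IsEmpty (A →ₐ[k] F) := ⟨fun φ => by
      have h1 : φ 1 = 1 := map_one φ
      rw [Subsingleton.elim (1 : A) 0, map_zero] at h1
      exact zero_ne_one h1⟩
    exact ⟨inferInstance, by simp⟩
  obtain ⟨d, g, hginj, hgfin⟩ := exists_finite_inj_algHom_of_fg k A
  have hd : d ≤ r := by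
    have h1 : ringKrullDim (MvPolynomial (Fin d) k) = ringKrullDim A :=
      Groth.Agent.H88.NoetherInt.Dim.ringKrullDim_eq_of_ringHom_isIntegral_of_injective
        g.toRingHom (RingHom.Finite.to_isIntegral hgfin) hginj
    rw [Groth.Agent.H88.NoetherInt.Dim.ringKrullDim_mvPolynomial_fin_field] at h1
    rw [← h1] at hr
    exact_mod_cast hr
  obtain ⟨n, f, hf⟩ := Algebra.FiniteType.iff_quotient_mvPolynomial''.mp
    (inferInstance : Algebra.FiniteType k A)
  let a : Fin n → A := fun j => f (MvPolynomial.X j)
  have hgen : Subring.closure (Set.range g.toRingHom ∪ Set.range a) = ⊤ := by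
    have h1 : Algebra.adjoin k (Set.range a) = ⊤ := by
      rw [Algebra.adjoin_range_eq_range_aeval]
      have : MvPolynomial.aeval a = f := by
        apply MvPolynomial.algHom_ext
        intro j
        simp [a]
      rw [this, AlgHom.range_eq_top]
      exact hf
    rw [eq_top_iff]
    have h2 := congrArg Subalgebra.toSubring h1
    rw [Algebra.adjoin_eq_ring_closure, Algebra.top_toSubring] at h2
    rw [← h2]
    apply Subring.closure_mono
    apply Set.union_subset_union_left
    rintro _ ⟨c, rfl⟩
    exact ⟨MvPolynomial.C c, by simp⟩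
  have hint : ∀ j, ∃ p : (MvPolynomial (Fin d) k)[X], p.Monic ∧ p.eval₂ g.toRingHom (a j) = 0 :=
    fun j => (RingHom.Finite.to_isIntegral hgfin) (a j)
  choose Q hQm hQ using hint
  refine ⟨∏ j, (Q j).natDegree, fun F _ _ _ => ?_⟩
  have key := card_le (𝒮 := (A →ₐ[k] F)) (𝒯 := (Fin d → F)) g.toRingHom a hgen Q hQ
    (fun φ => (φ : A →+* F)) (fun φ ψ h => by
      ext x
      exact RingHom.congr_fun h x)
    (fun v => ((MvPolynomial.aeval v : MvPolynomial (Fin d) k →ₐ[k] F) : _ →+* F))
    (fun φ i => φ (g (MvPolynomial.X i)))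
    (fun φ => by
      have : φ.comp g = MvPolynomial.aeval (fun i => φ (g (MvPolynomial.X i))) := by
        apply MvPolynomial.algHom_ext
        intro i
        simp
      ext x
      · simp
      · simp)
    (fun t j => ((hQm j).map _).ne_zero)
  refine ⟨key.1, key.2.trans ?_⟩
  rw [Nat.card_fun, Nat.card_eq_fintype_card (α := Fin d), Fintype.card_fin, mul_comm]
  apply Nat.mul_le_mul_left
  apply Nat.pow_le_pow_right Nat.card_pos hd

end Groth.Agent.H65.PtCount
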