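import Mathlib
import Groth.Agent.H25.FiniteTypeInt

/-!
# Dimension of the generic fibre of a finite type `ℤ`-algebra (helper65)

`dim_succ_le`: for a finite type `ℤ`-algebra `A`, `dim (ℚ ⊗ A) + 1 ≤ dim A`.
-/

set_option autoImplicit false

namespace Groth.Agent.H65.PtCount

open TensorProduct

attribute [local instance] Algebra.TensorProduct.rightAlgebra

instance isLocalization_tensor_rat (A : Type*) [CommRing A] :
    IsLocalization (Algebra.algebraMapSubmonoid A (nonZeroDivisors ℤ)) (ℚ ⊗[ℤ] A) := by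
  rw [Algebra.isLocalization_iff_isPushout (nonZeroDivisors ℤ) ℚ]
  infer_instance

theorem dim_succ_le (A : Type*) [CommRing A] [Algebra.FiniteType ℤ A] (d : ℕ)
    (hd : (d : WithBot ℕ∞) ≤ ringKrullDim (ℚ ⊗[ℤ] A)) :
    ((d + 1 : ℕ) : WithBot ℕ∞) ≤ ringKrullDim A := by
  obtain ⟨l, hl⟩ := Order.le_krullDim_iff.mp hd
  have hsm : StrictMono (PrimeSpectrum.comap (algebraMap A (ℚ ⊗[ℤ] A))) := by
    apply Monotone.strictMono_of_injective
    · intro p q hpq
      exact Ideal.comap_mono hpq
    · exact PrimeSpectrum.localization_comap_injective (ℚ ⊗[ℤ] A)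
        (Algebra.algebraMapSubmonoid A (nonZeroDivisors ℤ))
  let l' : LTSeries (PrimeSpectrum A) := l.map _ hsm
  have hl' : l'.length = d := by simp [l', hl]
  set P : PrimeSpectrum A := l'.last with hP
  have hPQ : P = PrimeSpectrum.comap (algebraMap A (ℚ ⊗[ℤ] A)) l.last := by
    rw [hP]
    exact LTSeries.last_map l _ hsm
  have hPmax : ¬ P.asIdeal.IsMaximal := by
    intro hmax
    let _ : Field (A ⧸ P.asIdeal) := Ideal.Quotient.field _
    have : Algebra.FiniteType ℤ (A ⧸ P.asIdeal) :=
      Algebra.FiniteType.of_surjective (Ideal.Quotient.mkₐ ℤ P.asIdeal)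
        Ideal.Quotient.mk_surjective
    have : Module.Finite ℤ (A ⧸ P.asIdeal) := finite_of_finite_type_of_isJacobsonRing ℤ _
    have hinj : Function.Injective (algebraMap ℤ (A ⧸ P.asIdeal)) := by
      rw [injective_iff_map_eq_zero]
      intro n hn
      by_contra hn0
      have h1 : (n : A) ∈ P.asIdeal := by
        rw [← Ideal.Quotient.eq_zero_iff_mem]
        simpa using hn
      rw [hPQ] at h1
      have h2 : (algebraMap A (ℚ ⊗[ℤ] A)) (n : A) ∈ l.last.asIdeal := h1
      have h3 : IsUnit ((algebraMap A (ℚ ⊗[ℤ] A)) (n : A)) := by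
        have : (algebraMap A (ℚ ⊗[ℤ] A)) (n : A) = algebraMap ℚ (ℚ ⊗[ℤ] A) (n : ℚ) := by
          simp
        rw [this]
        apply IsUnit.map
        exact (isUnit_iff_ne_zero.mpr (by exact_mod_cast hn0))
      exact l.last.isPrime.ne_top (Ideal.eq_top_of_isUnit_mem _ h2 h3)
    exact Int.not_isField (isField_of_isIntegral_of_isField hinj (Field.toIsField _))
  obtain ⟨M, hM, hPM⟩ := Ideal.exists_le_maximal P.asIdeal P.isPrime.ne_top
  have hlt : P < ⟨M, hM.isPrime⟩ := by
    apply lt_of_le_of_ne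
    · exact hPM
    · intro h
      apply hPmax
      rw [h]
      exact hM
  have := Order.LTSeries.length_le_krullDim (l'.snoc ⟨M, hM.isPrime⟩ hlt)
  rw [RelSeries.snoc_length, hl'] at this
  exact this

end Groth.Agent.H65.PtCount
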