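import Mathlib
import Groth.Agent.H65.PtCount3

/-!
# Clearing denominators in an integral equation over `ℚ[Y]` (helper65)
-/

set_option autoImplicit false

namespace Groth.Agent.H65.PtCount

open TensorProduct Polynomial

attribute [local instance] Algebra.TensorProduct.rightAlgebra
attribute [local instance] MvPolynomial.algebraMvPolynomial

theorem exists_int_poly {d : ℕ} {A : Type*} [CommRing A] (b : Fin d → A) (x : A)
    (g' : MvPolynomial (Fin d) ℚ →ₐ[ℚ] ℚ ⊗[ℤ] A)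
    (hg' : ∀ i, g' (MvPolynomial.X i) = algebraMap A (ℚ ⊗[ℤ] A) (b i))
    (p' : (MvPolynomial (Fin d) ℚ)[X]) (hp' : p'.Monic)
    (hx : p'.eval₂ g'.toRingHom (algebraMap A (ℚ ⊗[ℤ] A) x) = 0) :
    ∃ (Q : (MvPolynomial (Fin d) ℤ)[X]) (e : ℤ) (D : ℕ), e ≠ 0 ∧
      Q.eval₂ (MvPolynomial.aeval b : MvPolynomial (Fin d) ℤ →ₐ[ℤ] A).toRingHom x = 0 ∧
      Q.coeff D = MvPolynomial.C e := by
  classical
  set h : MvPolynomial (Fin d) ℤ →+* A :=
    (MvPolynomial.aeval b : MvPolynomial (Fin d) ℤ →ₐ[ℤ] A).toRingHom with hh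
  have hcompat : g'.toRingHom.comp (algebraMap (MvPolynomial (Fin d) ℤ) (MvPolynomial (Fin d) ℚ)) =
      (algebraMap A (ℚ ⊗[ℤ] A)).comp h := by
    rw [MvPolynomial.algebraMap_def]
    apply MvPolynomial.ringHom_ext
    · intro n
      simp [hh]
    · intro i
      simp [hh, hg']
  let M' : Submonoid (MvPolynomial (Fin d) ℤ) := (nonZeroDivisors ℤ).map (MvPolynomial.C (σ := Fin d))
  obtain ⟨bb, hbbM, hbb⟩ := IsLocalization.integerNormalization_spec M' p'
  set q0 := IsLocalization.integerNormalization M' p' with hq0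
  obtain ⟨m, hm, hmb⟩ := hbbM
  have hm0 : m ≠ 0 := nonZeroDivisors.ne_zero hm
  -- evaluate
  have h1 : q0.eval₂ ((algebraMap A (ℚ ⊗[ℤ] A)).comp h) (algebraMap A (ℚ ⊗[ℤ] A) x) = 0 := by
    rw [← hcompat, ← Polynomial.eval₂_map, hbb, ← algebraMap_smul (MvPolynomial (Fin d) ℚ),
      Polynomial.eval₂_smul, hx, mul_zero]
  rw [← Polynomial.hom_eval₂] at h1
  have h2 : algebraMap A (ℚ ⊗[ℤ] A) (q0.eval₂ h x) = algebraMap A (ℚ ⊗[ℤ] A) 0 := by
    rw [h1, map_zero]
  obtain ⟨c, hc⟩ := (IsLocalization.eq_iff_exists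
    (Algebra.algebraMapSubmonoid A (nonZeroDivisors ℤ)) (ℚ ⊗[ℤ] A)).mp h2
  obtain ⟨m', hm', hmc⟩ := c.2
  have hm'0 : m' ≠ 0 := nonZeroDivisors.ne_zero hm'
  refine ⟨Polynomial.C (MvPolynomial.C m') * q0, m' * m, p'.natDegree, mul_ne_zero hm'0 hm0, ?_, ?_⟩
  · rw [Polynomial.eval₂_mul, Polynomial.eval₂_C]
    have : h (MvPolynomial.C m') = (c : A) := by
      rw [← hmc]
      simp [hh]
    rw [this, hc, mul_zero]
  · rw [Polynomial.coeff_C_mul, map_mul]
    congr 1
    have h3 := congrArg (fun P => Polynomial.coeff P p'.natDegree) hbb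
    simp only [Polynomial.coeff_map, Polynomial.coeff_smul] at h3
    rw [hp'.coeff_natDegree, ← hmb] at h3
    have hinj : Function.Injective
        (algebraMap (MvPolynomial (Fin d) ℤ) (MvPolynomial (Fin d) ℚ)) := by
      rw [MvPolynomial.algebraMap_def]
      exact MvPolynomial.map_injective _ (RingHom.injective_int (algebraMap ℤ ℚ))
    apply hinj
    rw [h3, Algebra.smul_def, mul_one]

end Groth.Agent.H65.PtCount
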