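import Mathlib
import Groth.Agent.H65.PtCount1
import Groth.Agent.H65.PtCount4
import Groth.Agent.H88.NoetherIntDim

/-!
# Generic point count bound for finite type `ℤ`-algebras (helper65)

`generic_case`: for a finite type `ℤ`-algebra `A` of dimension `≤ r` there are `C` and `N ≠ 0`
such that for every finite field `F` in which `N ≠ 0`, either there is no ring hom `A → F` or
`1 ≤ r` and `#Hom(A, F) ≤ C (#F)^(r-1)`.
-/

set_option autoImplicit false

namespace Groth.Agent.H65.PtCount

open TensorProduct Polynomial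

attribute [local instance] Algebra.TensorProduct.rightAlgebra

universe v

theorem generic_case (A : Type*) [CommRing A] [Algebra.FiniteType ℤ A] (r : ℕ)
    (hr : ringKrullDim A ≤ r) :
    ∃ (C N : ℕ), N ≠ 0 ∧ ∀ (F : Type v) [Field F] [Finite F], (N : F) ≠ 0 →
      Finite (A →+* F) ∧
        (IsEmpty (A →+* F) ∨ (1 ≤ r ∧ Nat.card (A →+* F) ≤ C * (Nat.card F) ^ (r - 1))) := by
  classical
  rcases subsingleton_or_nontrivial (ℚ ⊗[ℤ] A) with hA | hA
  · -- some nonzero integer vanishes in `A`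
    have h2 : algebraMap A (ℚ ⊗[ℤ] A) 1 = algebraMap A (ℚ ⊗[ℤ] A) 0 := Subsingleton.elim _ _
    obtain ⟨c, hc⟩ := (IsLocalization.eq_iff_exists
      (Algebra.algebraMapSubmonoid A (nonZeroDivisors ℤ)) (ℚ ⊗[ℤ] A)).mp h2
    obtain ⟨m, hm, hmc⟩ := c.2
    have hm0 : m ≠ 0 := nonZeroDivisors.ne_zero hm
    rw [mul_one, mul_zero, ← hmc] at hc
    refine ⟨0, m.natAbs, Int.natAbs_ne_zero.mpr hm0, fun F _ _ hN => ?_⟩
    have hemp : IsEmpty (A →+* F) := ⟨fun φ => by
      have h3 : φ (algebraMap ℤ A m) = 0 := by rw [hc, map_zero]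
      have h4 : φ (algebraMap ℤ A m) = (m : F) := by simp
      rw [h4] at h3
      apply hN
      have : ((m.natAbs : ℤ) : F) = 0 := by
        rcases Int.natAbs_eq m with h | h
        · rw [← h]; exact h3
        · have : ((m.natAbs : ℤ)) = -m := by omega
          rw [this]; push_cast; rw [h3, neg_zero]
      rw [Int.cast_natCast] at this
      exact this⟩
    exact ⟨inferInstance, Or.inl hemp⟩
  obtain ⟨d, g, hginj, hgfin⟩ := exists_finite_inj_algHom_of_fg ℚ (ℚ ⊗[ℤ] A)
  have hd : d + 1 ≤ r := by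
    have h1 : ringKrullDim (MvPolynomial (Fin d) ℚ) = ringKrullDim (ℚ ⊗[ℤ] A) :=
      Groth.Agent.H88.NoetherInt.Dim.ringKrullDim_eq_of_ringHom_isIntegral_of_injective
        g.toRingHom (RingHom.Finite.to_isIntegral hgfin) hginj
    rw [Groth.Agent.H88.NoetherInt.Dim.ringKrullDim_mvPolynomial_fin_field] at h1
    have h2 := dim_succ_le A d h1.le
    have h3 := h2.trans hr
    exact_mod_cast h3
  -- generators of A
  obtain ⟨n, f, hf⟩ := Algebra.FiniteType.iff_quotient_mvPolynomial''.mp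
    (inferInstance : Algebra.FiniteType ℤ A)
  let a : Fin n → A := fun j => f (MvPolynomial.X j)
  have ha : Algebra.adjoin ℤ (Set.range a) = ⊤ := by
    rw [Algebra.adjoin_range_eq_range_aeval]
    have : MvPolynomial.aeval a = f := by
      apply MvPolynomial.algHom_ext
      intro j
      simp [a]
    rw [this, AlgHom.range_eq_top]
    exact hf
  -- scale the normalizing elements into `A`
  have hb : ∀ i : Fin d, ∃ (bi : A) (ni : ℤ), ni ≠ 0 ∧
      g (MvPolynomial.X i) * algebraMap ℚ (ℚ ⊗[ℤ] A) (ni : ℚ) = algebraMap A (ℚ ⊗[ℤ] A) bi := by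
    intro i
    obtain ⟨⟨bi, s⟩, hs⟩ := IsLocalization.surj
      (Algebra.algebraMapSubmonoid A (nonZeroDivisors ℤ)) (g (MvPolynomial.X i))
    obtain ⟨ni, hni, hnis⟩ := s.2
    refine ⟨bi, ni, nonZeroDivisors.ne_zero hni, ?_⟩
    rw [← hs]
    congr 1
    change _ = algebraMap A (ℚ ⊗[ℤ] A) (s : A)
    rw [← hnis]
    simp
  choose b nn hnn hbn using hb
  let σ : MvPolynomial (Fin d) ℚ →ₐ[ℚ] MvPolynomial (Fin d) ℚ :=
    MvPolynomial.aeval fun i => MvPolynomial.C (nn i : ℚ) * MvPolynomial.X i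
  let τ : MvPolynomial (Fin d) ℚ →ₐ[ℚ] MvPolynomial (Fin d) ℚ :=
    MvPolynomial.aeval fun i => MvPolynomial.C ((nn i : ℚ)⁻¹) * MvPolynomial.X i
  have hστ : σ.comp τ = AlgHom.id ℚ _ := by
    apply MvPolynomial.algHom_ext
    intro i
    have : (nn i : ℚ) ≠ 0 := by exact_mod_cast hnn i
    simp only [σ, τ, AlgHom.comp_apply, MvPolynomial.aeval_X, map_mul, MvPolynomial.aeval_C,
      AlgHom.id_apply, MvPolynomial.algebraMap_eq]
    rw [← mul_assoc, ← map_mul, inv_mul_cancel₀ this, map_one, one_mul]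
  let g' : MvPolynomial (Fin d) ℚ →ₐ[ℚ] ℚ ⊗[ℤ] A := g.comp σ
  have hg' : ∀ i, g' (MvPolynomial.X i) = algebraMap A (ℚ ⊗[ℤ] A) (b i) := by
    intro i
    rw [← hbn i]
    simp only [g', σ, AlgHom.comp_apply, MvPolynomial.aeval_X, map_mul]
    rw [mul_comm]
    congr 1
    rw [← MvPolynomial.algebraMap_eq, AlgHom.commutes]
  have hg'τ : g'.comp τ = g := by
    rw [AlgHom.comp_assoc, hστ, AlgHom.comp_id]
  -- integer polynomials for the generators
  have hint : ∀ j, ∃ (Q : (MvPolynomial (Fin d) ℤ)[X]) (e : ℤ) (D : ℕ), e ≠ 0 ∧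
      Q.eval₂ (MvPolynomial.aeval b : MvPolynomial (Fin d) ℤ →ₐ[ℤ] A).toRingHom (a j) = 0 ∧
      Q.coeff D = MvPolynomial.C e := by
    intro j
    obtain ⟨p, hpm, hp⟩ := (RingHom.Finite.to_isIntegral hgfin) (algebraMap A (ℚ ⊗[ℤ] A) (a j))
    refine exists_int_poly b (a j) g' hg' (p.map τ.toRingHom) (hpm.map _) ?_
    rw [Polynomial.eval₂_map]
    have : g'.toRingHom.comp τ.toRingHom = g.toRingHom := by
      rw [← hg'τ]
      rfl
    rw [this]
    exact hp
  choose Q e D he hQ hQD using hint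
  set h : MvPolynomial (Fin d) ℤ →+* A :=
    (MvPolynomial.aeval b : MvPolynomial (Fin d) ℤ →ₐ[ℤ] A).toRingHom with hh
  have hgen : Subring.closure (Set.range h ∪ Set.range a) = ⊤ := by
    rw [eq_top_iff]
    have h2 := congrArg Subalgebra.toSubring ha
    rw [Algebra.adjoin_eq_ring_closure, Algebra.top_toSubring] at h2
    rw [← h2]
    apply Subring.closure_mono
    apply Set.union_subset_union_left
    rintro _ ⟨c, rfl⟩
    exact ⟨MvPolynomial.C c, by simp [hh]⟩
  refine ⟨∏ j, (Q j).natDegree, ∏ j, (e j).natAbs, ?_, fun F _ _ hN => ?_⟩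
  · exact Finset.prod_ne_zero_iff.mpr fun j _ => Int.natAbs_ne_zero.mpr (he j)
  have hej : ∀ j, ((e j : ℤ) : F) ≠ 0 := by
    intro j hj
    apply hN
    rw [Nat.cast_prod]
    apply Finset.prod_eq_zero (Finset.mem_univ j)
    have : (((e j).natAbs : ℤ) : F) = 0 := by
      rcases Int.natAbs_eq (e j) with h' | h'
      · rw [← h']; exact hj
      · have : (((e j).natAbs : ℤ)) = -(e j) := by omega
        rw [this]; push_cast; rw [hj, neg_zero]
    rw [Int.cast_natCast] at this
    exact this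
  have key := card_le (𝒮 := (A →+* F)) (𝒯 := (Fin d → F)) h a hgen Q hQ
    (fun φ => φ) (fun φ ψ h => h)
    (fun v => MvPolynomial.eval₂Hom (Int.castRingHom F) v)
    (fun φ i => φ (b i))
    (fun φ => by
      apply MvPolynomial.ringHom_ext
      · intro m
        simp [hh]
      · intro i
        simp [hh])
    (fun t j hzero => by
      have := congrArg (fun P => Polynomial.coeff P (D j)) hzero
      simp only [Polynomial.coeff_map, hQD, Polynomial.coeff_zero] at this
      apply hej j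
      simpa using this)
  refine ⟨key.1, Or.inr ⟨by omega, key.2.trans ?_⟩⟩
  rw [Nat.card_fun, Nat.card_eq_fintype_card (α := Fin d), Fintype.card_fin, mul_comm]
  apply Nat.mul_le_mul_left
  apply Nat.pow_le_pow_right Nat.card_pos
  omega

end Groth.Agent.H65.PtCount
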