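import Mathlib
import Groth.Agent.H65.PtCount2
import Groth.Agent.H65.PtCount5

/-!
# Trivial point count bound for finite type `ℤ`-algebras (helper65)

`ring_main`: for a finite type `ℤ`-algebra `A` of dimension `≤ r` there are `C, p₀` with
`#Hom(A, F) ≤ C q^r` for all finite fields `F` (`q = #F`) and, if `char F ≥ p₀`, either
`Hom(A, F) = ∅` or `1 ≤ r` and `#Hom(A, F) ≤ C q^(r-1)`.
-/

set_option autoImplicit false

namespace Groth.Agent.H65.PtCount

open TensorProduct Polynomial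

universe v

theorem finite_and_charP_of_card {F : Type*} [Field F] {p m : ℕ} (hp : p.Prime) (hm : 1 ≤ m)
    (hF : Nat.card F = p ^ m) : Finite F ∧ CharP F p := by
  have hfin : Finite F := by
    apply Nat.finite_of_card_ne_zero
    rw [hF]
    exact pow_ne_zero _ hp.ne_zero
  refine ⟨hfin, ?_⟩
  let _ : Fintype F := Fintype.ofFinite F
  rw [CharP.charP_iff_prime_eq_zero hp]
  have h1 : ((Fintype.card F : ℕ) : F) = 0 := Nat.cast_card_eq_zero F
  rw [← Nat.card_eq_fintype_card, hF] at h1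
  push_cast at h1
  exact pow_eq_zero_iff (by omega) |>.mp h1

theorem bad_prime (A : Type*) [CommRing A] [Algebra.FiniteType ℤ A] (r : ℕ)
    (hr : ringKrullDim A ≤ r) (p : ℕ) :
    ∃ C : ℕ, p.Prime → ∀ (F : Type v) [Field F] [Finite F] [CharP F p],
      Finite (A →+* F) ∧ Nat.card (A →+* F) ≤ C * (Nat.card F) ^ r := by
  classical
  by_cases hp : p.Prime
  swap
  · exact ⟨0, fun h => absurd h hp⟩
  have : Fact p.Prime := ⟨hp⟩
  have hdim : ringKrullDim (ZMod p ⊗[ℤ] A) ≤ r := by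
    refine le_trans ?_ hr
    apply ringKrullDim_le_of_surjective
      (Algebra.TensorProduct.includeRight : A →ₐ[ℤ] ZMod p ⊗[ℤ] A).toRingHom
    apply Algebra.TensorProduct.includeRight_surjective
    intro x
    obtain ⟨n, rfl⟩ := ZMod.intCast_surjective x
    exact ⟨n, by simp⟩
  obtain ⟨C, hC⟩ := field_case.{v, _, _} (ZMod p) (ZMod p ⊗[ℤ] A) r hdim
  refine ⟨C, fun _ F _ _ _ => ?_⟩
  let _ : Algebra (ZMod p) F := ZMod.algebra F p
  obtain ⟨h1, h2⟩ := hC F
  let Φ : (A →+* F) → (ZMod p ⊗[ℤ] A →ₐ[ZMod p] F) := fun φ =>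
    Algebra.TensorProduct.lift (Algebra.ofId (ZMod p) F) φ.toIntAlgHom
      (fun x y => Commute.all _ _)
  have hΦ : Function.Injective Φ := by
    intro φ ψ hφψ
    ext x
    have := congrArg (fun θ : (ZMod p ⊗[ℤ] A →ₐ[ZMod p] F) => θ (1 ⊗ₜ x)) hφψ
    simpa [Φ] using this
  exact ⟨Finite.of_injective Φ hΦ, (Nat.card_le_card_of_injective Φ hΦ).trans h2⟩

theorem ring_main (A : Type*) [CommRing A] [Algebra.FiniteType ℤ A] (r : ℕ)
    (hr : ringKrullDim A ≤ r) :
    ∃ (C p₀ : ℕ), ∀ (p m : ℕ), p.Prime → 1 ≤ m → ∀ (F : Type v) [Field F],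
      Nat.card F = p ^ m →
      Finite (A →+* F) ∧
      (p₀ ≤ p → (IsEmpty (A →+* F) ∨
        (1 ≤ r ∧ Nat.card (A →+* F) ≤ C * (p ^ m) ^ (r - 1)))) ∧
      Nat.card (A →+* F) ≤ C * (p ^ m) ^ r := by
  classical
  obtain ⟨C₁, N, hN, hgen⟩ := generic_case.{v, _} A r hr
  choose Cbad hCbad using bad_prime.{v, _} A r hr
  refine ⟨C₁ + ∑ p ∈ Finset.range (N + 1), Cbad p, N + 1, fun p m hp hm F _ hF => ?_⟩
  obtain ⟨hfin, hchar⟩ := finite_and_charP_of_card hp hm hF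
  have hq : 0 < p ^ m := pow_pos hp.pos m
  have hmono : (p ^ m) ^ (r - 1) ≤ (p ^ m) ^ r := Nat.pow_le_pow_right hq (by omega)
  have hC₁ : C₁ ≤ C₁ + ∑ p ∈ Finset.range (N + 1), Cbad p := Nat.le_add_right _ _
  by_cases hpN : N + 1 ≤ p
  · have hNF : (N : F) ≠ 0 := by
      intro h0
      have := (CharP.cast_eq_zero_iff F p N).mp h0
      have := Nat.le_of_dvd (Nat.pos_of_ne_zero hN) this
      omega
    obtain ⟨h1, h2⟩ := hgen F hNF
    rw [hF] at h2
    refine ⟨h1, fun _ => ?_, ?_⟩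
    · rcases h2 with h2 | ⟨h2, h3⟩
      · exact Or.inl h2
      · exact Or.inr ⟨h2, h3.trans (Nat.mul_le_mul_right _ hC₁)⟩
    · rcases h2 with h2 | ⟨h2, h3⟩
      · simp
      · exact h3.trans (Nat.mul_le_mul hC₁ hmono)
  · obtain ⟨h1, h2⟩ := hCbad p hp F
    rw [hF] at h2
    refine ⟨h1, fun h => absurd h hpN, h2.trans (Nat.mul_le_mul_right _ ?_)⟩
    refine le_trans ?_ (Nat.le_add_left _ _)
    exact Finset.single_le_sum (f := Cbad) (fun _ _ => Nat.zero_le _)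
      (Finset.mem_range.mpr (by omega))

end Groth.Agent.H65.PtCount
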