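import Mathlib
import Groth.Agent.H25.FiniteTypeInt
import Groth.Agent.H65.PtCount6

/-!
# Trivial point count bound for arithmetic schemes (helper65)

`card_points_le_sum`: field valued points are bounded by the sum over a finite affine cover.
`scheme_main`: for `X` of finite type over `ℤ` of dimension `≤ r` there are `C, p₀` with
`#X(F) ≤ C q^r` for all finite fields and `#X(F) ≤ C q^(r-1)` (or no points at all) if
`char F ≥ p₀`.
-/

set_option autoImplicit false
universe u
open CategoryTheory AlgebraicGeometry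

namespace Groth.Agent.H65.PtCount

/-- Every field-valued point of a scheme factors through any affine open containing its image;
hence the number of `F`-points is bounded by the sum over a finite affine cover. -/
theorem card_points_le_sum {X : Scheme.{u}} (s : Finset X.affineOpens)
    (hcov : ∀ x : X, ∃ U ∈ s, x ∈ U.1)
    (F : Type u) [Field F] (hfin : ∀ U ∈ s, Finite (Γ(X, U.1) →+* F)) :
    Nat.card (Spec (CommRingCat.of F) ⟶ X) ≤ ∑ U ∈ s, Nat.card (Γ(X, U.1) →+* F) := by
  classical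
  have hfin' : ∀ U : {U // U ∈ s}, Finite (Γ(X, U.1.1) →+* F) := fun U => hfin U.1 U.2
  let Ψ : (Σ U : {U // U ∈ s}, (Γ(X, U.1.1) →+* F)) → (Spec (CommRingCat.of F) ⟶ X) :=
    fun x => Spec.map (CommRingCat.ofHom x.2) ≫ x.1.1.2.fromSpec
  have hΨ : Function.Surjective Ψ := by
    intro g
    let pt : Spec (CommRingCat.of F) := default
    obtain ⟨U, hU, hxU⟩ := hcov (g.base pt)
    have hrange : Set.range g.base ⊆ Set.range U.2.fromSpec.base := by
      rw [U.2.range_fromSpec]
      rintro _ ⟨y, rfl⟩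
      rw [Subsingleton.elim y pt]
      exact hxU
    let l := IsOpenImmersion.lift U.2.fromSpec g hrange
    have hl : l ≫ U.2.fromSpec = g := IsOpenImmersion.lift_fac _ _ _
    refine ⟨⟨⟨U, hU⟩, (Spec.preimage l).hom⟩, ?_⟩
    simp only [Ψ]
    rw [CommRingCat.ofHom_hom, Spec.map_preimage, hl]
  have := Nat.card_le_card_of_surjective Ψ hΨ
  refine this.trans ?_
  rw [Nat.card_sigma, Finset.sum_coe_sort s (fun U => Nat.card (Γ(X, U.1) →+* F))]

theorem scheme_main {X : Scheme.{u}} (f : X ⟶ Spec (CommRingCat.of (ULift.{u} ℤ)))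
    [LocallyOfFiniteType f] [QuasiCompact f] (r : ℕ) (hr : topologicalKrullDim X ≤ r) :
    ∃ (C p₀ : ℕ), ∀ (p m : ℕ), p.Prime → 1 ≤ m → ∀ (F : Type u) [Field F],
      Nat.card F = p ^ m →
      (p₀ ≤ p → (Nat.card (Spec (CommRingCat.of F) ⟶ X) = 0 ∨
        (1 ≤ r ∧ Nat.card (Spec (CommRingCat.of F) ⟶ X) ≤ C * (p ^ m) ^ (r - 1)))) ∧
      Nat.card (Spec (CommRingCat.of F) ⟶ X) ≤ C * (p ^ m) ^ r := by
  classical
  have hcpt : CompactSpace X := QuasiCompact.compactSpace_of_compactSpace f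
  obtain ⟨s0, hs0, hcov0⟩ := isCompact_and_isOpen_iff_finite_and_eq_biUnion_affineOpens.mp
    ⟨(isCompact_univ : IsCompact (Set.univ : Set X)), isOpen_univ⟩
  let s : Finset X.affineOpens := hs0.toFinset
  have hcov : ∀ x : X, ∃ U ∈ s, x ∈ U.1 := by
    intro x
    have hx : x ∈ ⋃ i ∈ s0, (i : Set X) := by rw [← hcov0]; trivial
    simp only [Set.mem_iUnion] at hx
    obtain ⟨U, hU, hxU⟩ := hx
    exact ⟨U, hs0.mem_toFinset.mpr hU, hxU⟩
  have hft : LocallyOfFiniteType (Limits.IsTerminal.from specULiftZIsTerminal X) := by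
    have : f = Limits.IsTerminal.from specULiftZIsTerminal X :=
      specULiftZIsTerminal.hom_ext _ _
    rw [← this]
    infer_instance
  have hring : ∀ U : X.affineOpens, ∃ (C p₀ : ℕ), ∀ (p m : ℕ), p.Prime → 1 ≤ m →
      ∀ (F : Type u) [Field F], Nat.card F = p ^ m →
      Finite (Γ(X, U.1) →+* F) ∧
      (p₀ ≤ p → (IsEmpty (Γ(X, U.1) →+* F) ∨
        (1 ≤ r ∧ Nat.card (Γ(X, U.1) →+* F) ≤ C * (p ^ m) ^ (r - 1)))) ∧
      Nat.card (Γ(X, U.1) →+* F) ≤ C * (p ^ m) ^ r := by
    intro U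
    have : Algebra.FiniteType ℤ Γ(X, U.1) :=
      Groth.Agent.H25.finiteType_int_of_isAffineOpen X U.1 U.2
    have hdim : ringKrullDim Γ(X, U.1) ≤ r := by
      refine le_trans ?_ hr
      rw [← PrimeSpectrum.topologicalKrullDim_eq_ringKrullDim]
      exact U.2.fromSpec.isOpenEmbedding.isInducing.topologicalKrullDim_le
    exact ring_main.{u, u} Γ(X, U.1) r hdim
  choose C p₀ hC using hring
  refine ⟨∑ U ∈ s, C U, s.sup p₀, fun p m hp hm F _ hF => ?_⟩
  have hfin : ∀ U ∈ s, Finite (Γ(X, U.1) →+* F) := fun U _ => (hC U p m hp hm F hF).1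
  have hsum := card_points_le_sum s hcov F hfin
  refine ⟨fun hp₀ => ?_, ?_⟩
  · by_cases hr0 : 1 ≤ r
    · refine Or.inr ⟨hr0, hsum.trans ?_⟩
      rw [Finset.sum_mul]
      refine Finset.sum_le_sum fun U hU => ?_
      have hpU : p₀ U ≤ p := (Finset.le_sup hU).trans hp₀
      rcases (hC U p m hp hm F hF).2.1 hpU with h | ⟨_, h⟩
      · rw [Nat.card_of_isEmpty]
        exact Nat.zero_le _
      · exact h
    · left
      apply Nat.eq_zero_of_le_zero
      refine hsum.trans ?_
      apply le_of_eq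
      apply Finset.sum_eq_zero
      intro U hU
      have hpU : p₀ U ≤ p := (Finset.le_sup hU).trans hp₀
      rcases (hC U p m hp hm F hF).2.1 hpU with h | ⟨h, _⟩
      · exact Nat.card_of_isEmpty
      · exact absurd h hr0
  · refine hsum.trans ?_
    rw [Finset.sum_mul]
    exact Finset.sum_le_sum fun U hU => (hC U p m hp hm F hF).2.2

end Groth.Agent.H65.PtCount
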