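import Mathlib
import Groth.Prelude.Def_W4c1zetahwZeta
import Groth.Agent.H25.FiniteTypeInt
import Groth.Agent.H65.PtCount7
import Groth.Agent.H65.CycleSum4

/-!
# The zeta function of an arithmetic scheme converges for `Re s > dim X` and does not vanish there
(helper65)
-/

set_option autoImplicit false
universe u
open CategoryTheory AlgebraicGeometry

namespace Groth.Agent.H65.CycleSum

/-- Finiteness of the set of points with values in a finite field. -/
theorem finite_points {X : Scheme.{u}} (f : X ⟶ Spec (CommRingCat.of (ULift.{u} ℤ)))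
    [LocallyOfFiniteType f] [QuasiCompact f] (F : Type u) [Field F] [Finite F] :
    Finite (Spec (CommRingCat.of F) ⟶ X) := by
  classical
  have hcpt : CompactSpace X := QuasiCompact.compactSpace_of_compactSpace f
  obtain ⟨s0, hs0, hcov0⟩ := isCompact_and_isOpen_iff_finite_and_eq_biUnion_affineOpens.mp
    ⟨(isCompact_univ : IsCompact (Set.univ : Set X)), isOpen_univ⟩
  have hft : LocallyOfFiniteType (Limits.IsTerminal.from specULiftZIsTerminal X) := by
    have : f = Limits.IsTerminal.from specULiftZIsTerminal X :=
      specULiftZIsTerminal.hom_ext _ _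
    rw [← this]
    infer_instance
  have hfin' : ∀ U : s0, Finite (Γ(X, U.1.1) →+* F) := fun U => by
    have : Algebra.FiniteType ℤ Γ(X, U.1.1) :=
      Groth.Agent.H25.finiteType_int_of_isAffineOpen X U.1.1 U.1.2
    exact Groth.Agent.H25.finite_ringHom_of_finiteType_int _ F
  have : Finite s0 := hs0
  let Ψ : (Σ U : s0, (Γ(X, U.1.1) →+* F)) → (Spec (CommRingCat.of F) ⟶ X) :=
    fun x => Spec.map (CommRingCat.ofHom x.2) ≫ x.1.1.2.fromSpec
  have hΨ : Function.Surjective Ψ := by
    intro g
    let pt : Spec (CommRingCat.of F) := default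
    have hx : g.base pt ∈ ⋃ i ∈ s0, (i : Set X) := by rw [← hcov0]; trivial
    simp only [Set.mem_iUnion] at hx
    obtain ⟨U, hU, hxU⟩ := hx
    have hrange : Set.range g.base ⊆ Set.range U.2.fromSpec.base := by
      rw [U.2.range_fromSpec]
      rintro _ ⟨y, rfl⟩
      rw [Subsingleton.elim y pt]
      exact hxU
    let l := IsOpenImmersion.lift U.2.fromSpec g hrange
    have hl : l ≫ U.2.fromSpec = g := IsOpenImmersion.lift_fac _ _ _
    refine ⟨⟨⟨U, hU⟩, (Spec.preimage l).hom⟩, ?_⟩
    simp only [Ψ]
    rw [CommRingCat.ofHom_hom, Spec.map_preimage, hl]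
  exact Finite.of_surjective Ψ hΨ

/-- Points with residue field of cardinality `#F` inject into the `F`-valued points. -/
theorem card_pts_le {X : Scheme.{u}} (F : Type u) [Field F] [Finite F]
    [Finite (Spec (CommRingCat.of F) ⟶ X)] (Q : X → Prop) :
    Finite {x : X // Q x ∧ Finite (X.residueField x) ∧
      Nat.card (X.residueField x) = Nat.card F} ∧
    Nat.card {x : X // Q x ∧ Finite (X.residueField x) ∧
      Nat.card (X.residueField x) = Nat.card F} ≤ Nat.card (Spec (CommRingCat.of F) ⟶ X) := by
  classical
  have hiso : ∀ x : {x : X // Q x ∧ Finite (X.residueField x) ∧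
      Nat.card (X.residueField x) = Nat.card F}, Nonempty (X.residueField x.1 ≃+* F) := by
    intro x
    have := x.2.2.1
    let _ : Fintype (X.residueField x.1) := Fintype.ofFinite _
    let _ : Fintype F := Fintype.ofFinite _
    refine ⟨FiniteField.ringEquivOfCardEq ?_⟩
    rw [← Nat.card_eq_fintype_card, ← Nat.card_eq_fintype_card]
    exact x.2.2.2
  let Φ : {x : X // Q x ∧ Finite (X.residueField x) ∧
      Nat.card (X.residueField x) = Nat.card F} → (Spec (CommRingCat.of F) ⟶ X) :=
    fun x => Spec.map (CommRingCat.ofHom ((hiso x).some : X.residueField x.1 →+* F)) ≫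
      X.fromSpecResidueField x.1
  have hΦ : Function.Injective Φ := by
    intro x y hxy
    apply Subtype.ext
    have h1 : ∀ z, (Φ z).base default = z.1 := by
      intro z
      simp only [Φ]
      rw [Scheme.Hom.comp_base, TopCat.comp_app]
      exact Scheme.fromSpecResidueField_apply _ _
    rw [← h1 x, ← h1 y, hxy]
  exact ⟨Finite.of_injective Φ hΦ, Nat.card_le_card_of_injective Φ hΦ⟩

end Groth.Agent.H65.CycleSum
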