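import Mathlib
import Groth.Agent.H65.CycleSum5

/-!
# The zeta function of an arithmetic scheme: convergence and nonvanishing for `Re s > dim`
(helper65)
-/

set_option autoImplicit false
universe u
open CategoryTheory AlgebraicGeometry

namespace Groth.Agent.H65.CycleSum

theorem zeta_main {X : Scheme.{u}} (f : X ⟶ Spec (CommRingCat.of (ULift.{u} ℤ)))
    [LocallyOfFiniteType f] [QuasiCompact f] (r : ℕ) (hr : topologicalKrullDim X ≤ r) :
    LSeries.abscissaOfAbsConv (Zeta.arithCoeff X) ≤ (r : ℝ) ∧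
      ∀ s : ℂ, (r : ℝ) < s.re → LSeries (Zeta.arithCoeff X) s ≠ 0 := by
  classical
  let S : Set X := {x | IsClosed ({x} : Set X)}
  let N : S → ℕ := fun x => Nat.card (X.residueField x.1)
  have hft : LocallyOfFiniteType (Limits.IsTerminal.from specULiftZIsTerminal X) := by
    have : f = Limits.IsTerminal.from specULiftZIsTerminal X :=
      specULiftZIsTerminal.hom_ext _ _
    rw [← this]
    infer_instance
  have hres : ∀ x : S, Finite (X.residueField x.1) := fun x =>
    (Groth.Agent.H25.isClosed_singleton_iff_finite_residueField X x.1).mp x.2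
  have hN2 : ∀ x, 2 ≤ N x := fun x => by
    have := hres x
    exact Finite.one_lt_card
  have hpp : ∀ x, ∃ p m, p.Prime ∧ 1 ≤ m ∧ N x = p ^ m := fun x => by
    have := hres x
    let _ : Fintype (X.residueField x.1) := Fintype.ofFinite _
    obtain ⟨p, _, n, hp, hn⟩ := FiniteField.card' (X.residueField x.1)
    exact ⟨p, n, hp, n.2, by simp only [N]; rw [Nat.card_eq_fintype_card, hn]⟩
  obtain ⟨C, p₀, hC⟩ := Groth.Agent.H65.PtCount.scheme_main f r hr
  -- the fibres of `N`
  have hfib : ∀ p m : ℕ, p.Prime → 1 ≤ m → ∃ F : Type u, ∃ _ : Field F, Nat.card F = p ^ m ∧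
      Finite {x : S // N x = p ^ m} ∧
      Nat.card {x : S // N x = p ^ m} ≤ Nat.card (Spec (CommRingCat.of F) ⟶ X) := by
    intro p m hp hm
    have : Fact p.Prime := ⟨hp⟩
    refine ⟨ULift.{u} (GaloisField p m), inferInstance, ?_, ?_⟩
    · rw [Nat.card_congr Equiv.ulift, GaloisField.card p m (by omega)]
    have hcard : Nat.card (ULift.{u} (GaloisField p m)) = p ^ m := by
      rw [Nat.card_congr Equiv.ulift, GaloisField.card p m (by omega)]
    have hFfin : Finite (ULift.{u} (GaloisField p m)) := by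
      apply Nat.finite_of_card_ne_zero
      rw [hcard]
      exact pow_ne_zero _ hp.ne_zero
    have := finite_points f (ULift.{u} (GaloisField p m))
    obtain ⟨h1, h2⟩ := card_pts_le (X := X) (ULift.{u} (GaloisField p m))
      (fun x => IsClosed ({x} : Set X))
    let Θ : {x : S // N x = p ^ m} → {x : X // IsClosed ({x} : Set X) ∧
        Finite (X.residueField x) ∧
        Nat.card (X.residueField x) = Nat.card (ULift.{u} (GaloisField p m))} :=
      fun x => ⟨x.1.1, x.1.2, hres x.1, x.2.trans hcard.symm⟩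
    have hΘ : Function.Injective Θ := by
      intro x y hxy
      apply Subtype.ext
      apply Subtype.ext
      exact congrArg (fun z => z.1) hxy
    exact ⟨Finite.of_injective Θ hΘ, (Nat.card_le_card_of_injective Θ hΘ).trans h2⟩
  have hfin : ∀ q, Finite {x : S // N x = q} := by
    intro q
    rcases isEmpty_or_nonempty {x : S // N x = q} with hemp | ⟨⟨x, hx⟩⟩
    · infer_instance
    · obtain ⟨p, m, hp, hm, hpm⟩ := hpp x
      obtain ⟨F, _, _, h1, _⟩ := hfib p m hp hm
      rw [← hx, hpm]
      exact h1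
  have hb : ∀ p m, p.Prime → 1 ≤ m →
      (p₀ ≤ p → (Nat.card {x : S // N x = p ^ m} = 0 ∨
        (1 ≤ r ∧ Nat.card {x : S // N x = p ^ m} ≤ C * (p ^ m) ^ (r - 1)))) ∧
      Nat.card {x : S // N x = p ^ m} ≤ C * (p ^ m) ^ r := by
    intro p m hp hm
    obtain ⟨F, _, hcard, _, hle⟩ := hfib p m hp hm
    obtain ⟨h1, h2⟩ := hC p m hp hm F hcard
    refine ⟨fun hpp₀ => ?_, hle.trans h2⟩
    rcases h1 hpp₀ with h0 | ⟨hr1, h3⟩
    · left
      rw [h0] at hle
      omega
    · exact Or.inr ⟨hr1, hle.trans h3⟩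
  have hsum : ∀ σ : ℝ, (r : ℝ) < σ → Summable fun x => ((N x : ℝ)) ^ (-σ) := fun σ hσ =>
    summable_of_fibre_bounds N C p₀ r hfin hpp hb hσ
  -- identify the coefficients
  have hcoef : Zeta.arithCoeff X = cycCount N := by
    funext n
    unfold Zeta.arithCoeff Zeta.cycleNormCount cycCount
    congr 1
    let g : X → ℕ → ℕ := fun x m => Nat.card (X.residueField x) ^ m
    let e₁ : { α : X →₀ ℕ // (∀ x ∈ α.support, IsClosed ({x} : Set X)) ∧ α.prod g = n } ≃
        {a : {α : X →₀ ℕ // (↑α.support : Set X) ⊆ S} // a.1.prod g = n} :=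
      { toFun := fun a => ⟨⟨a.1, fun x hx => a.2.1 x hx⟩, a.2.2⟩
        invFun := fun a => ⟨a.1.1, fun x hx => a.1.2 hx, a.2⟩
        left_inv := fun _ => rfl
        right_inv := fun _ => rfl }
    let e₂ : {a : {α : X →₀ ℕ // (↑α.support : Set X) ⊆ S} // a.1.prod g = n} ≃
        {β : S →₀ ℕ // cnorm N β = n} :=
      (Finsupp.restrictSupportEquiv S ℕ).subtypeEquiv (fun a => by
        have : cnorm N (Finsupp.restrictSupportEquiv S ℕ a) = a.1.prod g := by
          change (Finsupp.subtypeDomain (· ∈ S) a.1).prod (fun x m => g x.1 m) = _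
          exact Finsupp.prod_subtypeDomain_index (fun x hx => a.2 hx)
        rw [this])
    exact Nat.card_congr (e₁.trans e₂)
  rw [hcoef]
  constructor
  · apply LSeries.abscissaOfAbsConv_le_of_forall_lt_LSeriesSummable
    intro y hy
    have hy0 : (0 : ℝ) < y := lt_of_le_of_lt (Nat.cast_nonneg r) hy
    exact (lseries_bridge N hN2 (y : ℂ) (by simpa using hy0) (by simpa using hsum y hy)).1
  · intro s hs
    have hs0 : (0 : ℝ) < s.re := lt_of_le_of_lt (Nat.cast_nonneg r) hs
    rw [(lseries_bridge N hN2 s hs0 (hsum _ hs)).2]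
    exact tsum_cnorm_cpow_ne_zero N hN2 s hs0 (hsum _ hs)

end Groth.Agent.H65.CycleSum
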