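import Mathlib

/-!
# Descent of morphisms from the generic fibre and a faithfully flat cover over a DVR
-/

set_option autoImplicit false
universe u
open scoped TensorProduct

namespace Groth.Agent.H65.DvrDesc

section

variable (R : Type u) [CommRing R] [IsDomain R] [IsDiscreteValuationRing R]
  (K : Type u) [Field K] [Algebra R K] [IsFractionRing R K]
  (A : Type u) [CommRing A] [Algebra R A] [Module.FaithfullyFlat R A]
  (M : Type u) [AddCommGroup M] [Module R M]

/-- Every element of `K ⊗ M` becomes of the form `1 ⊗ m` after multiplying by a power of a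
uniformizer. -/
theorem exists_pow_smul_eq (ϖ : R) (hϖ : Irreducible ϖ) (x : K ⊗[R] M) :
    ∃ (n : ℕ) (b : M), ϖ ^ n • x = (1 : K) ⊗ₜ[R] b := by
  obtain ⟨⟨m, s⟩, hs⟩ := IsLocalizedModule.surj (nonZeroDivisors R) (TensorProduct.mk R K M 1) x
  have hs0 : (s : R) ≠ 0 := nonZeroDivisors.ne_zero s.2
  obtain ⟨n, u, hu⟩ := IsDiscreteValuationRing.eq_unit_mul_pow_irreducible hs0 hϖ
  refine ⟨n, (↑u⁻¹ : R) • m, ?_⟩
  have h1 : (s : R) • x = (1 : K) ⊗ₜ[R] m := hs
  rw [TensorProduct.tmul_smul, ← h1, hu, smul_smul, ← mul_assoc, Units.inv_mul, one_mul]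

omit [IsDomain R] [IsDiscreteValuationRing R] in
/-- If `1 ⊗ b` is divisible by `ϖ` in `A ⊗ M` (`A` faithfully flat) then `b` is divisible by `ϖ`. -/
theorem exists_smul_eq_of_tmul_eq (ϖ : R) (b : M) (y : A ⊗[R] M)
    (h : (1 : A) ⊗ₜ[R] b = ϖ • y) : ∃ b' : M, b = ϖ • b' := by
  let S : Submodule R M := LinearMap.range (LinearMap.lsmul R M ϖ)
  have hkill : ∀ w : A ⊗[R] (M ⧸ S), ϖ • w = 0 := by
    intro w
    induction w using TensorProduct.induction_on with
    | zero => exact smul_zero _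
    | tmul a z =>
      obtain ⟨z, rfl⟩ := S.mkQ_surjective z
      rw [← TensorProduct.tmul_smul, ← map_smul]
      have : S.mkQ (ϖ • z) = 0 := by
        rw [Submodule.mkQ_apply, Submodule.Quotient.mk_eq_zero]
        exact ⟨z, rfl⟩
      rw [this, TensorProduct.tmul_zero]
    | add w₁ w₂ h₁ h₂ => rw [smul_add, h₁, h₂, add_zero]
  have h1 := congrArg (LinearMap.lTensor A S.mkQ) h
  rw [LinearMap.lTensor_tmul, map_smul, hkill] at h1
  have h2 : S.mkQ b = 0 := by
    apply Module.FaithfullyFlat.tensorProduct_mk_injective (A := R) (B := A) (M ⧸ S)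
    rw [TensorProduct.mk_apply, h1, map_zero]
  rw [Submodule.mkQ_apply, Submodule.Quotient.mk_eq_zero] at h2
  obtain ⟨b', hb'⟩ := h2
  exact ⟨b', hb'.symm⟩

end

section

variable (R : Type u) [CommRing R] [IsDomain R] [IsDiscreteValuationRing R]
  (K : Type u) [Field K] [Algebra R K] [IsFractionRing R K]
  (A : Type u) [CommRing A] [Algebra R A] [Module.FaithfullyFlat R A]
  (B₁ : Type u) [CommRing B₁] [Algebra R B₁] [Module.Flat R B₁]

/-- `K ⊗ B₁ → (K ⊗ A) ⊗ B₁`. -/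
noncomputable abbrev JK : K ⊗[R] B₁ →ₐ[R] (K ⊗[R] A) ⊗[R] B₁ :=
  Algebra.TensorProduct.map (Algebra.TensorProduct.includeLeft : K →ₐ[R] K ⊗[R] A) (AlgHom.id R B₁)

/-- `A ⊗ B₁ → (K ⊗ A) ⊗ B₁`. -/
noncomputable abbrev JA : A ⊗[R] B₁ →ₐ[R] (K ⊗[R] A) ⊗[R] B₁ :=
  Algebra.TensorProduct.map (Algebra.TensorProduct.includeRight : A →ₐ[R] K ⊗[R] A) (AlgHom.id R B₁)

theorem JA_injective : Function.Injective (JA R K A B₁) := by
  have hK : FaithfulSMul R K := (faithfulSMul_iff_algebraMap_injective R K).2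
    (IsFractionRing.injective R K)
  have h1 : Function.Injective
      (Algebra.TensorProduct.includeRight : A →ₐ[R] K ⊗[R] A).toLinearMap := by
    have := Module.Flat.tensorProduct_mk_injective R A K
    exact this
  have h2 := Module.Flat.rTensor_preserves_injective_linearMap (M := B₁)
    (Algebra.TensorProduct.includeRight : A →ₐ[R] K ⊗[R] A).toLinearMap h1
  intro x y hxy
  apply h2
  have : ∀ z : A ⊗[R] B₁, LinearMap.rTensor B₁
      (Algebra.TensorProduct.includeRight : A →ₐ[R] K ⊗[R] A).toLinearMap z = JA R K A B₁ z := by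
    intro z
    induction z using TensorProduct.induction_on with
    | zero => simp
    | tmul a b => simp
    | add z₁ z₂ h₁ h₂ => rw [map_add, map_add, h₁, h₂]
  rw [this, this, hxy]

omit [IsDomain R] [IsDiscreteValuationRing R] [IsFractionRing R K] [Module.FaithfullyFlat R A]
  [Module.Flat R B₁] in
theorem JK_one_tmul (b : B₁) : JK R K A B₁ ((1 : K) ⊗ₜ[R] b) = JA R K A B₁ ((1 : A) ⊗ₜ[R] b) := by
  simp

omit [IsDomain R] [IsDiscreteValuationRing R] [Module.Flat R B₁] in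
theorem smul_left_cancel_K (ϖ : R) (hϖ : ϖ ≠ 0) {x y : K ⊗[R] B₁} (h : ϖ • x = ϖ • y) : x = y := by
  have h1 : (algebraMap R K ϖ) • x = (algebraMap R K ϖ) • y := by
    rw [algebraMap_smul, algebraMap_smul, h]
  have hu : IsUnit (algebraMap R K ϖ) :=
    isUnit_iff_ne_zero.2 (by
      rw [Ne, map_eq_zero_iff _ (IsFractionRing.injective R K)]; exact hϖ)
  exact hu.smul_left_cancel.1 h1

/-- The key descent lemma. -/
theorem key (ϖ : R) (hϖ : Irreducible ϖ) :
    ∀ (n : ℕ) (x : K ⊗[R] B₁) (y : A ⊗[R] B₁) (b : B₁), ϖ ^ n • x = (1 : K) ⊗ₜ[R] b →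
      JK R K A B₁ x = JA R K A B₁ y →
      ∃ c : B₁, x = (1 : K) ⊗ₜ[R] c ∧ y = (1 : A) ⊗ₜ[R] c := by
  intro n
  induction n with
  | zero =>
    intro x y b hx hxy
    rw [pow_zero, one_smul] at hx
    refine ⟨b, hx, ?_⟩
    apply JA_injective R K A B₁
    rw [← hxy, hx, JK_one_tmul]
  | succ n ih =>
    intro x y b hx hxy
    have h1 : JA R K A B₁ (ϖ ^ (n + 1) • y) = JA R K A B₁ ((1 : A) ⊗ₜ[R] b) := by
      rw [map_smul, ← hxy, ← map_smul, hx, JK_one_tmul]
    have h2 := JA_injective R K A B₁ h1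
    rw [pow_succ', mul_smul] at h2
    obtain ⟨b', rfl⟩ := exists_smul_eq_of_tmul_eq R A B₁ ϖ b _ h2.symm
    have h3 : ϖ ^ n • x = (1 : K) ⊗ₜ[R] b' := by
      apply smul_left_cancel_K R K B₁ ϖ hϖ.ne_zero
      rw [← mul_smul, ← pow_succ', hx, TensorProduct.tmul_smul]
    exact ih x y b' h3 hxy

end

theorem main (R : Type u) [CommRing R] [IsDomain R]
    [IsDiscreteValuationRing R] (K : Type u) [Field K] [Algebra R K] [IsFractionRing R K]
    (A : Type u) [CommRing A] [Algebra R A] [Module.FaithfullyFlat R A]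
    (B₁ B₂ : Type u) [CommRing B₁] [CommRing B₂] [Algebra R B₁] [Algebra R B₂]
    [Module.Flat R B₁] [Module.Flat R B₂]
    (φK : K ⊗[R] B₂ →ₐ[K] K ⊗[R] B₁) (φA : A ⊗[R] B₂ →ₐ[A] A ⊗[R] B₁)
    (hcomp : ∀ b : B₂,
      Algebra.TensorProduct.map (Algebra.TensorProduct.includeLeft : K →ₐ[R] K ⊗[R] A) (AlgHom.id R B₁)
          (φK (1 ⊗ₜ b)) =
        Algebra.TensorProduct.map (Algebra.TensorProduct.includeRight : A →ₐ[R] K ⊗[R] A) (AlgHom.id R B₁)
          (φA (1 ⊗ₜ b))) :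
    ∃! φ : B₂ →ₐ[R] B₁, (∀ b : B₂, φK (1 ⊗ₜ b) = 1 ⊗ₜ φ b) ∧ (∀ b : B₂, φA (1 ⊗ₜ b) = 1 ⊗ₜ φ b) := by
  obtain ⟨ϖ, hϖ⟩ := IsDiscreteValuationRing.exists_irreducible R
  have hex : ∀ b : B₂, ∃ c : B₁, φK (1 ⊗ₜ b) = (1 : K) ⊗ₜ[R] c ∧ φA (1 ⊗ₜ b) = (1 : A) ⊗ₜ[R] c := by
    intro b
    obtain ⟨n, b₁, hn⟩ := exists_pow_smul_eq R K B₁ ϖ hϖ (φK (1 ⊗ₜ b))
    exact key R K A B₁ ϖ hϖ n _ _ b₁ hn (hcomp b)
  choose φ hφK hφA using hex
  have hK : FaithfulSMul R K := (faithfulSMul_iff_algebraMap_injective R K).2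
    (IsFractionRing.injective R K)
  have hinj : Function.Injective (TensorProduct.mk R K B₁ 1) :=
    Module.Flat.tensorProduct_mk_injective R B₁ K
  have hinj' : ∀ c c' : B₁, (1 : K) ⊗ₜ[R] c = (1 : K) ⊗ₜ[R] c' → c = c' := fun c c' h => hinj h
  have hone : ∀ (B : Type u) [CommRing B] [Algebra R B] (r : R),
      (1 : K) ⊗ₜ[R] (algebraMap R B r) = algebraMap K (K ⊗[R] B) (algebraMap R K r) := by
    intro B _ _ r
    calc (1 : K) ⊗ₜ[R] (algebraMap R B r) = (1 : K) ⊗ₜ[R] (r • (1 : B)) := by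
          rw [Algebra.algebraMap_eq_smul_one]
      _ = (r • (1 : K)) ⊗ₜ[R] (1 : B) := by
          rw [TensorProduct.tmul_smul, TensorProduct.smul_tmul']
      _ = (algebraMap R K r) ⊗ₜ[R] (1 : B) := by rw [← Algebra.algebraMap_eq_smul_one]
      _ = algebraMap K (K ⊗[R] B) (algebraMap R K r) := by
          rw [Algebra.TensorProduct.algebraMap_apply]; rfl
  let φr : B₂ →+* B₁ :=
    { toFun := φ
      map_one' := by
        apply hinj'
        rw [← hφK, ← Algebra.TensorProduct.one_def, map_one, Algebra.TensorProduct.one_def]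
      map_mul' := by
        intro a b
        apply hinj'
        rw [← hφK, ← mul_one (1 : K), ← Algebra.TensorProduct.tmul_mul_tmul, map_mul, hφK, hφK,
          Algebra.TensorProduct.tmul_mul_tmul]
      map_zero' := by
        apply hinj'
        rw [← hφK, TensorProduct.tmul_zero, map_zero, TensorProduct.tmul_zero]
      map_add' := by
        intro a b
        apply hinj'
        rw [← hφK, TensorProduct.tmul_add, map_add, hφK, hφK, TensorProduct.tmul_add] }
  let φa : B₂ →ₐ[R] B₁ :=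
    { φr with
      commutes' := by
        intro r
        apply hinj'
        change (1 : K) ⊗ₜ[R] φ (algebraMap R B₂ r) = _
        rw [← hφK, hone B₂, AlgHom.commutes, hone B₁] }
  refine ⟨φa, ⟨hφK, hφA⟩, ?_⟩
  rintro ψ ⟨hψK, -⟩
  ext b
  apply hinj'
  change (1 : K) ⊗ₜ[R] ψ b = (1 : K) ⊗ₜ[R] φ b
  rw [← hψK, hφK]

end Groth.Agent.H65.DvrDesc
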