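import Groth.Agent.H65.AlgSpOpenCover2
import Groth.Agent.H65.QAffFppf
import Groth.Agent.H53.ZMT.QAffZMT
import Groth.Agent.H51.SpOpen

/-!
# fppf descent of separated locally quasi-finite schemes: affine case

Let `F` be an fppf sheaf over `h_Y`, `c : Y' ⟶ Y` a flat, surjective, finitely presented morphism of
affine schemes and suppose `F ×_Y Y' = h_{V'}` with `V' ⟶ Y'` separated and locally quasi-finite.
Then `F` is an algebraic space: it is covered by the open subsheaves generated by the affine opens
of `V'`; their base changes to `Y'` are quasi-compact opens of `V'`, hence quasi-affine (Zariski's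
main theorem), and quasi-affine schemes descend.
-/

set_option autoImplicit false
universe u
open CategoryTheory CategoryTheory.Limits AlgebraicGeometry Opposite

namespace Groth.Agent.H65.FppfDesc

open AlgSp

variable {S : Scheme.{u}}

/-- The preimage in `A` of the image of `V ⊆ B` in the points of `F`, computed on `A ×_F B`. -/
theorem preimage_image_ofPt {F : Sp S} {A B P : Over S} {g : (yon S).obj A ⟶ F}
    {t : (yon S).obj B ⟶ F} {p₁ : P ⟶ A} {p₂ : P ⟶ B}
    (sq : IsPullback ((yon S).map p₁) ((yon S).map p₂) g t) (V : Set B.left) :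
    Points.ofPt g ⁻¹' (Points.ofPt t '' V) = p₁.left '' (p₂.left ⁻¹' V) := by
  ext x
  constructor
  · rintro ⟨v, hv, hvx⟩
    obtain ⟨w, hw1, hw2⟩ := Groth.Agent.H53.exists_pt_of_isPullback_yon sq x v hvx.symm
    exact ⟨w, by rw [Set.mem_preimage, hw2]; exact hv, hw1⟩
  · rintro ⟨w, hw, rfl⟩
    refine ⟨p₂.left w, hw, ?_⟩
    rw [← Groth.Agent.H53.ofPt_yon_map_comp, ← Groth.Agent.H53.ofPt_yon_map_comp, sq.w]

section Cover

variable {Y Y' V' : Over S} (c : Y' ⟶ Y) (a : V' ⟶ Y') {F : Sp S} (π : F ⟶ (yon S).obj Y)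
  (t : (yon S).obj V' ⟶ F)

/-- The base change of the cover `t : h_{V'} ⟶ F` along `g : h_Z ⟶ F` is the base change of `c`. -/
theorem exists_isPullback_cover (sq : IsPullback t ((yon S).map a) π ((yon S).map c))
    {Z : Over S} (g : (yon S).obj Z ⟶ F) :
    ∃ (P : Over S) (p₁ : P ⟶ Z) (p₂ : P ⟶ V') (z : Z ⟶ Y) (p₃ : P ⟶ Y'),
      IsPullback ((yon S).map p₁) ((yon S).map p₂) g t ∧ IsPullback p₁ p₃ z c := by
  obtain ⟨z, hz⟩ := (yon S).map_surjective (g ≫ π)
  have sqP : IsPullback (pullback.fst z c) (pullback.snd z c) z c := IsPullback.of_hasPullback z c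
  have comm : ((yon S).map (pullback.fst z c) ≫ g) ≫ π =
      (yon S).map (pullback.snd z c) ≫ (yon S).map c := by
    rw [Category.assoc, ← hz, ← Functor.map_comp, ← Functor.map_comp, sqP.w]
  obtain ⟨p₂, hp₂⟩ := (yon S).map_surjective (sq.lift _ _ comm)
  refine ⟨pullback z c, pullback.fst z c, p₂, z, pullback.snd z c, ?_, sqP⟩
  have h1 : (yon S).map p₂ ≫ t = (yon S).map (pullback.fst z c) ≫ g := by
    rw [hp₂, sq.lift_fst]
  have h2 : (yon S).map p₂ ≫ (yon S).map a = (yon S).map (pullback.snd z c) := by
    rw [hp₂, sq.lift_snd]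
  have s := (sqP.map (yon S)).flip
  rw [hz, ← h2] at s
  exact (IsPullback.of_right s h1 sq.flip).flip

end Cover

/-- **fppf descent, affine case.** -/
theorem isAlgSpace_of_fppf_descent_affine {Y Y' V' : Over S} (hY : IsAffine Y.left)
    (hY' : IsAffine Y'.left) (c : Y' ⟶ Y) (hfl : Flat c.left) (hsurj : Surjective c.left)
    (hlfp : LocallyOfFinitePresentation c.left) (a : V' ⟶ Y') (hsep : IsSeparated a.left)
    (hqf : LocallyQuasiFinite a.left) (hlft : LocallyOfFiniteType a.left) {F : Sp S}
    (π : F ⟶ (yon S).obj Y) (t : (yon S).obj V' ⟶ F)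
    (sq : IsPullback t ((yon S).map a) π ((yon S).map c)) : IsAlgSpace F := by
  have haff : IsAffineHom c.left := isAffineHom_of_isAffine _
  have htS : RepWith @Surjective t :=
    MorphismProperty.of_isPullback (P := RepWith (S := S) @Surjective) sq.flip
      ((repWith_yon_map_iff _ _).2 hsurj)
  -- the open subsets of `|F|` generated by affine opens of `V'`
  let Wp : V'.left.affineOpens → Set (Points F) := fun V'' =>
    Points.ofPt t '' ((V'' : V'.left.Opens) : Set V'.left)
  have hWopen : ∀ V'', IsOpen (Wp V'') := by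
    intro V''
    rw [Points.isOpen_iff]
    intro Z g
    obtain ⟨P, p₁, p₂, z, p₃, sqP, sqP'⟩ := exists_isPullback_cover c a π t sq g
    rw [preimage_image_ofPt sqP]
    have h1 : Flat p₁.left :=
      MorphismProperty.of_isPullback (P := MorphismProperty.inverseImage
        (@Flat : MorphismProperty Scheme.{u}) (Over.forget S)) sqP'.flip hfl
    have h2 : LocallyOfFinitePresentation p₁.left :=
      MorphismProperty.of_isPullback (P := MorphismProperty.inverseImage
        (@LocallyOfFinitePresentation : MorphismProperty Scheme.{u}) (Over.forget S)) sqP'.flip hlfp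
    exact p₁.left.isOpenMap _ (((V'' : V'.left.Opens).isOpen).preimage p₂.left.continuous)
  refine AlgSpBoot.isAlgSpace_of_open_cover_points
    (fun V'' : V'.left.affineOpens => Groth.Agent.H51.openSubSp F (Wp V''))
    (fun V'' => Groth.Agent.H51.openSubι F (Wp V'')) ?_
    (fun V'' => Groth.Agent.H51.repWith_isOpenImmersion_openSubι (Wp V'') (hWopen V'')) ?_
  · -- each piece is a quasi-affine scheme
    intro V''
    obtain ⟨W'', fst, hW'', sqW⟩ :=
      Groth.Agent.H51.exists_isPullback_openSubι (Wp V'') (hWopen V'') t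
    have big := sqW.paste_vert sq
    rw [← Functor.map_comp] at big
    -- compactness of `W''`
    have hcompact : IsCompact (W'' : Set V'.left) := by
      obtain ⟨P, p₁, p₂, z, p₃, sqP, sqP'⟩ := exists_isPullback_cover c a π t sq t
      rw [hW'', preimage_image_ofPt sqP.flip]
      have h1 : IsAffineHom p₁.left :=
        MorphismProperty.of_isPullback (P := MorphismProperty.inverseImage
          (@IsAffineHom : MorphismProperty Scheme.{u}) (Over.forget S)) sqP'.flip haff
      have h2 : IsAffineOpen (p₁.left ⁻¹ᵁ (V'' : V'.left.Opens)) := V''.2.preimage p₁.left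
      exact h2.isCompact.image p₂.left.continuous
    have hcs : CompactSpace ↥(Groth.Agent.H51.overOpen V' W'').left :=
      isCompact_iff_compactSpace.1 hcompact
    have hqc : QuasiCompact (Groth.Agent.H51.overOpenι V' W'' ≫ a).left :=
      (HasAffineProperty.iff_of_isAffine (P := @QuasiCompact)).2 hcs
    have hs' : IsSeparated (Groth.Agent.H51.overOpenι V' W'' ≫ a).left := by
      change IsSeparated (W''.ι ≫ a.left)
      infer_instance
    have hq' : LocallyQuasiFinite (Groth.Agent.H51.overOpenι V' W'' ≫ a).left := by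
      change LocallyQuasiFinite (W''.ι ≫ a.left)
      infer_instance
    have hl' : LocallyOfFiniteType (Groth.Agent.H51.overOpenι V' W'' ≫ a).left := by
      change LocallyOfFiniteType (W''.ι ≫ a.left)
      infer_instance
    have hqa : (Groth.Agent.H51.overOpen V' W'').left.IsQuasiAffine :=
      Groth.Agent.H53.ZMT.isQuasiAffine_of_lqf_separated
        (Groth.Agent.H51.overOpenι V' W'' ≫ a).left
    obtain ⟨U, i, e, -, -⟩ := exists_quasiAffine_of_fppf_descent hY hY' hqa c
      (Groth.Agent.H51.overOpenι V' W'' ≫ a) _ fst big hfl hsurj hlfp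
    exact (IsAlgSpace.yon_obj U).of_iso e
  · -- the pieces cover
    intro x
    obtain ⟨v, rfl⟩ := Groth.Agent.H53.exists_ofPt_eq_of_repWith_surjective t htS x
    obtain ⟨_, ⟨(V'' : V'.left.Opens), hV'', rfl⟩, hv, -⟩ :=
      V'.left.isBasis_affineOpens.exists_subset_of_mem_open (Set.mem_univ v) isOpen_univ
    refine ⟨⟨V'', hV''⟩, ?_⟩
    rw [Groth.Agent.H51.range_map_openSubι]
    exact ⟨v, hv, rfl⟩

end Groth.Agent.H65.FppfDesc
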