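import Groth.Agent.H65.FppfDescAffine

/-!
# fppf descent of separated locally quasi-finite schemes: general case

`isAlgSpace_of_fppf_descent`: let `π : F ⟶ h_Y` be a sheaf over a scheme and `c i : Y' i ⟶ Y` a family
of flat, locally finitely presented morphisms such that every `F ×_Y Y' i` is a scheme `V' i`,
separated and locally quasi-finite over `Y' i`, and such that the `V' i` cover the points of `F`.
Then `F` is an algebraic space.
-/

set_option autoImplicit false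
universe u
open CategoryTheory CategoryTheory.Limits AlgebraicGeometry Opposite

namespace Groth.Agent.H65.FppfDesc

open AlgSp Groth.Agent.H51

variable {S : Scheme.{u}}

/-- A flat, locally finitely presented morphism restricts, near any point of the source, to a
surjective morphism between affine opens. -/
theorem exists_affine_surjective_restriction {X Y : Scheme.{u}} (f : X ⟶ Y) [Flat f]
    [LocallyOfFinitePresentation f] (x : X) :
    ∃ (U : Y.Opens) (V : X.Opens), IsAffineOpen U ∧ IsAffineOpen V ∧ x ∈ V ∧ V ≤ f ⁻¹ᵁ U ∧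
      ∀ y ∈ U, ∃ x' ∈ V, f x' = y := by
  obtain ⟨_, ⟨(U₀ : Y.Opens), hU₀, rfl⟩, hxU₀, -⟩ :=
    Y.isBasis_affineOpens.exists_subset_of_mem_open (Set.mem_univ (f x)) isOpen_univ
  obtain ⟨_, ⟨(V₁ : X.Opens), hV₁, rfl⟩, hxV₁, hV₁U₀⟩ :=
    X.isBasis_affineOpens.exists_subset_of_mem_open (a := x) (ou := (f ⁻¹ᵁ U₀).isOpen) hxU₀
  have e : V₁ ≤ f ⁻¹ᵁ U₀ := hV₁U₀
  let I : Y.Opens := ⟨f '' (V₁ : Set X), f.isOpenMap _ V₁.isOpen⟩
  have hxI : f x ∈ I := ⟨x, hxV₁, rfl⟩
  obtain ⟨r, hr1, hr2⟩ := hU₀.exists_basicOpen_le ⟨f x, hxI⟩ hxU₀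
  refine ⟨Y.basicOpen r, X.basicOpen (f.appLE U₀ V₁ e r), hU₀.basicOpen r, hV₁.basicOpen _, ?_, ?_,
    ?_⟩
  · rw [Scheme.basicOpen_appLE]
    exact ⟨hxV₁, hr2⟩
  · rw [Scheme.basicOpen_appLE]
    exact inf_le_right
  · intro y hy
    obtain ⟨x', hx', rfl⟩ := hr1 hy
    refine ⟨x', ?_, rfl⟩
    rw [Scheme.basicOpen_appLE]
    exact ⟨hx', hy⟩

section Restrict

variable {Y Y' V' : Over S} (c : Y' ⟶ Y) (a : V' ⟶ Y') {F : Sp S} (π : F ⟶ (yon S).obj Y)
  (t : (yon S).obj V' ⟶ F)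

/-- Restriction of the descent situation to affine opens `Y₁ ⊆ Y`, `Y'₂ ⊆ Y'` with `c(Y'₂) = Y₁`. -/
theorem isAlgSpace_pullback_of_affine_opens (hfl : Flat c.left)
    (hlfp : LocallyOfFinitePresentation c.left) (hsep : IsSeparated a.left)
    (hqf : LocallyQuasiFinite a.left) (hlft : LocallyOfFiniteType a.left)
    (sq : IsPullback t ((yon S).map a) π ((yon S).map c)) (Y₁ : Y.left.Opens)
    (Y'₂ : Y'.left.Opens) (hY₁ : IsAffineOpen Y₁) (hY'₂ : IsAffineOpen Y'₂)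
    (e : Y'₂ ≤ c.left ⁻¹ᵁ Y₁) (hs : ∀ y ∈ Y₁, ∃ y' ∈ Y'₂, c.left y' = y) :
    IsAlgSpace (pullback π ((yon S).map (overOpenι Y Y₁))) := by
  -- the restricted morphisms
  let c₂ : overOpen Y' Y'₂ ⟶ overOpen Y Y₁ := Over.homMk (c.left.resLE Y₁ Y'₂ e) (by
    change c.left.resLE Y₁ Y'₂ e ≫ Y₁.ι ≫ Y.hom = Y'₂.ι ≫ Y'.hom
    rw [Scheme.Hom.resLE_comp_ι_assoc, Over.w c])
  have hc₂ : c₂ ≫ overOpenι Y Y₁ = overOpenι Y' Y'₂ ≫ c := by
    ext
    exact Scheme.Hom.resLE_comp_ι _ _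
  let a₂ : overOpen V' (a.left ⁻¹ᵁ Y'₂) ⟶ overOpen Y' Y'₂ := Over.homMk (a.left ∣_ Y'₂) (by
    change (a.left ∣_ Y'₂) ≫ Y'₂.ι ≫ Y'.hom = (a.left ⁻¹ᵁ Y'₂).ι ≫ V'.hom
    rw [morphismRestrict_ι_assoc, Over.w a])
  have ha₂ : overOpenι V' (a.left ⁻¹ᵁ Y'₂) ≫ a = a₂ ≫ overOpenι Y' Y'₂ := by
    ext
    exact (morphismRestrict_ι _ _).symm
  have sqV : IsPullback (overOpenι V' (a.left ⁻¹ᵁ Y'₂)) a₂ a (overOpenι Y' Y'₂) :=
    IsPullback.of_map (Over.forget S) ha₂ (isPullback_morphismRestrict a.left Y'₂).flip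
  -- properties
  have h1 : Flat c₂.left := IsZariskiLocalAtSource.resLE (P := @Flat) e hfl
  have h2 : LocallyOfFinitePresentation c₂.left :=
    IsZariskiLocalAtSource.resLE (P := @LocallyOfFinitePresentation) e hlfp
  have h3 : Surjective c₂.left := by
    refine ⟨fun y => ?_⟩
    obtain ⟨y', hy', hy'y⟩ := hs y.1 y.2
    refine ⟨⟨y', hy'⟩, ?_⟩
    apply Subtype.ext
    rw [← hy'y]
    exact Scheme.Hom.coe_resLE_apply _ _ _
  have h4 : IsSeparated a₂.left := IsZariskiLocalAtTarget.restrict (P := @IsSeparated) hsep Y'₂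
  have h5 : LocallyQuasiFinite a₂.left :=
    IsZariskiLocalAtTarget.restrict (P := @LocallyQuasiFinite) hqf Y'₂
  have h6 : LocallyOfFiniteType a₂.left :=
    IsZariskiLocalAtTarget.restrict (P := @LocallyOfFiniteType) hlft Y'₂
  -- the restricted pullback square
  have sqF : IsPullback (pullback.fst π ((yon S).map (overOpenι Y Y₁)))
      (pullback.snd π ((yon S).map (overOpenι Y Y₁))) π ((yon S).map (overOpenι Y Y₁)) :=
    IsPullback.of_hasPullback _ _
  have comm : ((yon S).map (overOpenι V' (a.left ⁻¹ᵁ Y'₂)) ≫ t) ≫ π =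
      (yon S).map (a₂ ≫ c₂) ≫ (yon S).map (overOpenι Y Y₁) := by
    rw [Category.assoc, sq.w]
    simp only [← Functor.map_comp]
    congr 1
    rw [← Category.assoc, ha₂, Category.assoc, Category.assoc, hc₂]
  let t₂ : (yon S).obj (overOpen V' (a.left ⁻¹ᵁ Y'₂)) ⟶
      pullback π ((yon S).map (overOpenι Y Y₁)) := pullback.lift _ _ comm
  have ht₂1 : t₂ ≫ pullback.fst π ((yon S).map (overOpenι Y Y₁)) =
      (yon S).map (overOpenι V' (a.left ⁻¹ᵁ Y'₂)) ≫ t := pullback.lift_fst _ _ _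
  have ht₂2 : t₂ ≫ pullback.snd π ((yon S).map (overOpenι Y Y₁)) =
      (yon S).map a₂ ≫ (yon S).map c₂ := by
    rw [← Functor.map_comp]
    exact pullback.lift_snd _ _ _
  have sq₂ : IsPullback t₂ ((yon S).map a₂) (pullback.snd π ((yon S).map (overOpenι Y Y₁)))
      ((yon S).map c₂) := by
    refine IsPullback.of_right ?_ ht₂2 sqF
    rw [ht₂1, ← Functor.map_comp, hc₂, Functor.map_comp]
    exact (sqV.map (yon S)).paste_horiz sq
  exact isAlgSpace_of_fppf_descent_affine (show IsAffine (overOpen Y Y₁).left from hY₁)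
    (show IsAffine (overOpen Y' Y'₂).left from hY'₂) c₂ h1 h3 h2 a₂ h4 h5 h6 _ t₂ sq₂

end Restrict

/-- **fppf descent of separated locally quasi-finite schemes** (family form): a sheaf over `h_Y`
whose base changes along a family of flat, locally finitely presented morphisms `Y' i ⟶ Y` are
schemes separated and locally quasi-finite over `Y' i`, jointly covering the points of `F`, is an
algebraic space. -/
theorem isAlgSpace_of_fppf_descent {Y : Over S} {F : Sp S} (π : F ⟶ (yon S).obj Y) {ι : Type u}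
    (Y' V' : ι → Over S) (c : ∀ i, Y' i ⟶ Y) (hfl : ∀ i, Flat (c i).left)
    (hlfp : ∀ i, LocallyOfFinitePresentation (c i).left) (a : ∀ i, V' i ⟶ Y' i)
    (hsep : ∀ i, IsSeparated (a i).left) (hqf : ∀ i, LocallyQuasiFinite (a i).left)
    (hlft : ∀ i, LocallyOfFiniteType (a i).left) (t : ∀ i, (yon S).obj (V' i) ⟶ F)
    (sq : ∀ i, IsPullback (t i) ((yon S).map (a i)) π ((yon S).map (c i)))
    (hcov : ∀ x : Points F, ∃ i v, Points.ofPt (t i) v = x) : IsAlgSpace F := by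
  have key : ∀ p : (Σ i, (V' i).left), ∃ (U : Y.left.Opens) (V : (Y' p.1).left.Opens),
      IsAffineOpen U ∧ IsAffineOpen V ∧ (a p.1).left p.2 ∈ V ∧ V ≤ (c p.1).left ⁻¹ᵁ U ∧
        ∀ y ∈ U, ∃ x' ∈ V, (c p.1).left x' = y := fun p => by
    have := hfl p.1
    have := hlfp p.1
    exact exists_affine_surjective_restriction (c p.1).left ((a p.1).left p.2)
  choose Y₁ Y'₂ hY₁ hY'₂ hmem hle hs using key
  refine AlgSpBoot.isAlgSpace_of_open_cover_points
    (fun p : (Σ i, (V' i).left) => pullback π ((yon S).map (overOpenι Y (Y₁ p))))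
    (fun p => pullback.fst π ((yon S).map (overOpenι Y (Y₁ p)))) ?_ ?_ ?_
  · intro p
    exact isAlgSpace_pullback_of_affine_opens (c p.1) (a p.1) π (t p.1) (hfl p.1) (hlfp p.1)
      (hsep p.1) (hqf p.1) (hlft p.1) (sq p.1) (Y₁ p) (Y'₂ p) (hY₁ p) (hY'₂ p) (hle p) (hs p)
  · intro p
    exact MorphismProperty.of_isPullback (P := RepWith (S := S) @IsOpenImmersion)
      (IsPullback.of_hasPullback π ((yon S).map (overOpenι Y (Y₁ p)))).flip
      (repWith_isOpenImmersion_overOpenι Y (Y₁ p))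
  · intro x
    obtain ⟨i, v, rfl⟩ := hcov x
    refine ⟨⟨i, v⟩, ?_⟩
    have hy : (c i).left ((a i).left v) ∈ Y₁ ⟨i, v⟩ := hle ⟨i, v⟩ (hmem ⟨i, v⟩)
    obtain ⟨z, hz1, -⟩ := Groth.Agent.H53.exists_point_of_isPullback
      (IsPullback.of_hasPullback π ((yon S).map (overOpenι Y (Y₁ ⟨i, v⟩))))
      (Points.ofPt (t i) v)
      (Points.ofScheme (overOpen Y (Y₁ ⟨i, v⟩)) ⟨(c i).left ((a i).left v), hy⟩) (by
        rw [Points.map_ofPt, (sq i).w, ← Functor.map_comp, Points.map_ofPt, Category.id_comp,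
          ← Category.comp_id ((yon S).map (a i ≫ c i)), Groth.Agent.H53.ofPt_yon_map_comp,
          ← Category.comp_id ((yon S).map (overOpenι Y (Y₁ ⟨i, v⟩))),
          Groth.Agent.H53.ofPt_yon_map_comp]
        rfl)
    exact ⟨z, hz1⟩

end Groth.Agent.H65.FppfDesc
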