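import Groth.Agent.H65.FppfDescGeneral
import Groth.Agent.H51.SpGlue2
import Groth.Agent.H65.FppfFamilyDescent
import Groth.Agent.H1.Descent
import Groth.Agent.H53.LQF

/-!
# fppf descent of separated locally quasi-finite schemes is effective (as schemes)

Upgrade of `isAlgSpace_of_fppf_descent`: the descended sheaf is representable by a scheme, by the
gluing criterion `Groth.Agent.H51.exists_iso_yon_of_forall_point`.
-/

set_option autoImplicit false
universe u
open CategoryTheory CategoryTheory.Limits AlgebraicGeometry Opposite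

namespace Groth.Agent.H65.FppfDesc

open AlgSp Groth.Agent.H51

variable {S : Scheme.{u}}

/-- Affine case: every point of the descended sheaf has a representable open neighbourhood. -/
theorem exists_open_rep_of_fppf_descent_affine {Y Y' V' : Over S} (hY : IsAffine Y.left)
    (hY' : IsAffine Y'.left) (c : Y' ⟶ Y) (hfl : Flat c.left) (hsurj : Surjective c.left)
    (hlfp : LocallyOfFinitePresentation c.left) (a : V' ⟶ Y') (hsep : IsSeparated a.left)
    (hqf : LocallyQuasiFinite a.left) (hlft : LocallyOfFiniteType a.left) {F : Sp S}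
    (π : F ⟶ (yon S).obj Y) (t : (yon S).obj V' ⟶ F)
    (sq : IsPullback t ((yon S).map a) π ((yon S).map c)) (x : Points F) :
    ∃ (W : Over S) (j : (yon S).obj W ⟶ F), RepWith @IsOpenImmersion j ∧
      x ∈ Set.range (Points.map j) := by
  have haff : IsAffineHom c.left := isAffineHom_of_isAffine _
  have htS : RepWith @Surjective t :=
    MorphismProperty.of_isPullback (P := RepWith (S := S) @Surjective) sq.flip
      ((repWith_yon_map_iff _ _).2 hsurj)
  let Wp : V'.left.affineOpens → Set (Points F) := fun V'' =>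
    Points.ofPt t '' ((V'' : V'.left.Opens) : Set V'.left)
  have hWopen : ∀ V'', IsOpen (Wp V'') := by
    intro V''
    rw [Points.isOpen_iff]
    intro Z g
    obtain ⟨P, p₁, p₂, z, p₃, sqP, sqP'⟩ := exists_isPullback_cover c a π t sq g
    rw [preimage_image_ofPt sqP]
    have h1 : Flat p₁.left :=
      MorphismProperty.of_isPullback (P := MorphismProperty.inverseImage
        (@Flat : MorphismProperty Scheme.{u}) (Over.forget S)) sqP'.flip hfl
    have h2 : LocallyOfFinitePresentation p₁.left :=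
      MorphismProperty.of_isPullback (P := MorphismProperty.inverseImage
        (@LocallyOfFinitePresentation : MorphismProperty Scheme.{u}) (Over.forget S)) sqP'.flip hlfp
    exact p₁.left.isOpenMap _ (((V'' : V'.left.Opens).isOpen).preimage p₂.left.continuous)
  obtain ⟨v, rfl⟩ := Groth.Agent.H53.exists_ofPt_eq_of_repWith_surjective t htS x
  obtain ⟨_, ⟨(V'' : V'.left.Opens), hV'', rfl⟩, hv, -⟩ :=
    V'.left.isBasis_affineOpens.exists_subset_of_mem_open (Set.mem_univ v) isOpen_univ
  let V''' : V'.left.affineOpens := ⟨V'', hV''⟩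
  obtain ⟨W'', fst, hW'', sqW⟩ :=
    Groth.Agent.H51.exists_isPullback_openSubι (Wp V''') (hWopen V''') t
  have big := sqW.paste_vert sq
  rw [← Functor.map_comp] at big
  have hcompact : IsCompact (W'' : Set V'.left) := by
    obtain ⟨P, p₁, p₂, z, p₃, sqP, sqP'⟩ := exists_isPullback_cover c a π t sq t
    rw [hW'', preimage_image_ofPt sqP.flip]
    have h1 : IsAffineHom p₁.left :=
      MorphismProperty.of_isPullback (P := MorphismProperty.inverseImage
        (@IsAffineHom : MorphismProperty Scheme.{u}) (Over.forget S)) sqP'.flip haff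
    have h2 : IsAffineOpen (p₁.left ⁻¹ᵁ (V''' : V'.left.Opens)) := V'''.2.preimage p₁.left
    exact h2.isCompact.image p₂.left.continuous
  have hcs : CompactSpace ↥(Groth.Agent.H51.overOpen V' W'').left :=
    isCompact_iff_compactSpace.1 hcompact
  have hqc : QuasiCompact (Groth.Agent.H51.overOpenι V' W'' ≫ a).left :=
    (HasAffineProperty.iff_of_isAffine (P := @QuasiCompact)).2 hcs
  have hs' : IsSeparated (Groth.Agent.H51.overOpenι V' W'' ≫ a).left := by
    change IsSeparated (W''.ι ≫ a.left)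
    infer_instance
  have hq' : LocallyQuasiFinite (Groth.Agent.H51.overOpenι V' W'' ≫ a).left := by
    change LocallyQuasiFinite (W''.ι ≫ a.left)
    infer_instance
  have hl' : LocallyOfFiniteType (Groth.Agent.H51.overOpenι V' W'' ≫ a).left := by
    change LocallyOfFiniteType (W''.ι ≫ a.left)
    infer_instance
  have hqa : (Groth.Agent.H51.overOpen V' W'').left.IsQuasiAffine :=
    Groth.Agent.H53.ZMT.isQuasiAffine_of_lqf_separated
      (Groth.Agent.H51.overOpenι V' W'' ≫ a).left
  obtain ⟨U, i, e, -, -⟩ := exists_quasiAffine_of_fppf_descent hY hY' hqa c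
    (Groth.Agent.H51.overOpenι V' W'' ≫ a) _ fst big hfl hsurj hlfp
  refine ⟨U, e.hom ≫ Groth.Agent.H51.openSubι F (Wp V'''), ?_, ?_⟩
  · exact MorphismProperty.RespectsIso.precomp _ _ _
      (Groth.Agent.H51.repWith_isOpenImmersion_openSubι (Wp V''') (hWopen V'''))
  · have hmem : Points.ofPt t v ∈ Set.range (Points.map (Groth.Agent.H51.openSubι F (Wp V'''))) := by
      rw [Groth.Agent.H51.range_map_openSubι]
      exact ⟨v, hv, rfl⟩
    obtain ⟨z, hz⟩ := hmem
    refine ⟨Points.map e.inv z, ?_⟩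
    rw [← Points.map_comp, e.inv_hom_id_assoc, hz]

/-- Affine case: the descended sheaf is a scheme. -/
theorem exists_iso_yon_of_fppf_descent_affine {Y Y' V' : Over S} (hY : IsAffine Y.left)
    (hY' : IsAffine Y'.left) (c : Y' ⟶ Y) (hfl : Flat c.left) (hsurj : Surjective c.left)
    (hlfp : LocallyOfFinitePresentation c.left) (a : V' ⟶ Y') (hsep : IsSeparated a.left)
    (hqf : LocallyQuasiFinite a.left) (hlft : LocallyOfFiniteType a.left) {F : Sp S}
    (π : F ⟶ (yon S).obj Y) (t : (yon S).obj V' ⟶ F)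
    (sq : IsPullback t ((yon S).map a) π ((yon S).map c)) :
    ∃ G : Over S, Nonempty ((yon S).obj G ≅ F) := by
  have hF := isAlgSpace_of_fppf_descent_affine hY hY' c hfl hsurj hlfp a hsep hqf hlft π t sq
  obtain ⟨U₀, a₀, -, ha₀S⟩ := hF.atlas
  exact Groth.Agent.H51.exists_iso_yon_of_forall_point a₀ ha₀S fun u =>
    exists_open_rep_of_fppf_descent_affine hY hY' c hfl hsurj hlfp a hsep hqf hlft π t sq _

section Restrict

variable {Y Y' V' : Over S} (c : Y' ⟶ Y) (a : V' ⟶ Y') {F : Sp S} (π : F ⟶ (yon S).obj Y)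
  (t : (yon S).obj V' ⟶ F)

/-- Scheme version: restriction of the descent situation to affine opens `Y₁ ⊆ Y`, `Y'₂ ⊆ Y'` with `c(Y'₂) = Y₁`. -/
theorem exists_iso_yon_pullback_of_affine_opens (hfl : Flat c.left)
    (hlfp : LocallyOfFinitePresentation c.left) (hsep : IsSeparated a.left)
    (hqf : LocallyQuasiFinite a.left) (hlft : LocallyOfFiniteType a.left)
    (sq : IsPullback t ((yon S).map a) π ((yon S).map c)) (Y₁ : Y.left.Opens)
    (Y'₂ : Y'.left.Opens) (hY₁ : IsAffineOpen Y₁) (hY'₂ : IsAffineOpen Y'₂)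
    (e : Y'₂ ≤ c.left ⁻¹ᵁ Y₁) (hs : ∀ y ∈ Y₁, ∃ y' ∈ Y'₂, c.left y' = y) :
    ∃ G : Over S, Nonempty ((yon S).obj G ≅ pullback π ((yon S).map (overOpenι Y Y₁))) := by
  -- the restricted morphisms
  let c₂ : overOpen Y' Y'₂ ⟶ overOpen Y Y₁ := Over.homMk (c.left.resLE Y₁ Y'₂ e) (by
    change c.left.resLE Y₁ Y'₂ e ≫ Y₁.ι ≫ Y.hom = Y'₂.ι ≫ Y'.hom
    rw [Scheme.Hom.resLE_comp_ι_assoc, Over.w c])
  have hc₂ : c₂ ≫ overOpenι Y Y₁ = overOpenι Y' Y'₂ ≫ c := by
    ext
    exact Scheme.Hom.resLE_comp_ι _ _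
  let a₂ : overOpen V' (a.left ⁻¹ᵁ Y'₂) ⟶ overOpen Y' Y'₂ := Over.homMk (a.left ∣_ Y'₂) (by
    change (a.left ∣_ Y'₂) ≫ Y'₂.ι ≫ Y'.hom = (a.left ⁻¹ᵁ Y'₂).ι ≫ V'.hom
    rw [morphismRestrict_ι_assoc, Over.w a])
  have ha₂ : overOpenι V' (a.left ⁻¹ᵁ Y'₂) ≫ a = a₂ ≫ overOpenι Y' Y'₂ := by
    ext
    exact (morphismRestrict_ι _ _).symm
  have sqV : IsPullback (overOpenι V' (a.left ⁻¹ᵁ Y'₂)) a₂ a (overOpenι Y' Y'₂) :=
    IsPullback.of_map (Over.forget S) ha₂ (isPullback_morphismRestrict a.left Y'₂).flip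
  -- properties
  have h1 : Flat c₂.left := IsZariskiLocalAtSource.resLE (P := @Flat) e hfl
  have h2 : LocallyOfFinitePresentation c₂.left :=
    IsZariskiLocalAtSource.resLE (P := @LocallyOfFinitePresentation) e hlfp
  have h3 : Surjective c₂.left := by
    refine ⟨fun y => ?_⟩
    obtain ⟨y', hy', hy'y⟩ := hs y.1 y.2
    refine ⟨⟨y', hy'⟩, ?_⟩
    apply Subtype.ext
    rw [← hy'y]
    exact Scheme.Hom.coe_resLE_apply _ _ _
  have h4 : IsSeparated a₂.left := IsZariskiLocalAtTarget.restrict (P := @IsSeparated) hsep Y'₂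
  have h5 : LocallyQuasiFinite a₂.left :=
    IsZariskiLocalAtTarget.restrict (P := @LocallyQuasiFinite) hqf Y'₂
  have h6 : LocallyOfFiniteType a₂.left :=
    IsZariskiLocalAtTarget.restrict (P := @LocallyOfFiniteType) hlft Y'₂
  -- the restricted pullback square
  have sqF : IsPullback (pullback.fst π ((yon S).map (overOpenι Y Y₁)))
      (pullback.snd π ((yon S).map (overOpenι Y Y₁))) π ((yon S).map (overOpenι Y Y₁)) :=
    IsPullback.of_hasPullback _ _
  have comm : ((yon S).map (overOpenι V' (a.left ⁻¹ᵁ Y'₂)) ≫ t) ≫ π =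
      (yon S).map (a₂ ≫ c₂) ≫ (yon S).map (overOpenι Y Y₁) := by
    rw [Category.assoc, sq.w]
    simp only [← Functor.map_comp]
    congr 1
    rw [← Category.assoc, ha₂, Category.assoc, Category.assoc, hc₂]
  let t₂ : (yon S).obj (overOpen V' (a.left ⁻¹ᵁ Y'₂)) ⟶
      pullback π ((yon S).map (overOpenι Y Y₁)) := pullback.lift _ _ comm
  have ht₂1 : t₂ ≫ pullback.fst π ((yon S).map (overOpenι Y Y₁)) =
      (yon S).map (overOpenι V' (a.left ⁻¹ᵁ Y'₂)) ≫ t := pullback.lift_fst _ _ _
  have ht₂2 : t₂ ≫ pullback.snd π ((yon S).map (overOpenι Y Y₁)) =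
      (yon S).map a₂ ≫ (yon S).map c₂ := by
    rw [← Functor.map_comp]
    exact pullback.lift_snd _ _ _
  have sq₂ : IsPullback t₂ ((yon S).map a₂) (pullback.snd π ((yon S).map (overOpenι Y Y₁)))
      ((yon S).map c₂) := by
    refine IsPullback.of_right ?_ ht₂2 sqF
    rw [ht₂1, ← Functor.map_comp, hc₂, Functor.map_comp]
    exact (sqV.map (yon S)).paste_horiz sq
  exact exists_iso_yon_of_fppf_descent_affine (show IsAffine (overOpen Y Y₁).left from hY₁)
    (show IsAffine (overOpen Y' Y'₂).left from hY'₂) c₂ h1 h3 h2 a₂ h4 h5 h6 _ t₂ sq₂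

end Restrict

/-- **fppf descent of separated locally quasi-finite schemes is effective**: a sheaf over `h_Y`
whose base changes along a family of flat, locally finitely presented morphisms `Y' i ⟶ Y` are
schemes separated and locally quasi-finite over `Y' i`, jointly covering the points of `F`, is a
scheme. -/
theorem exists_iso_yon_of_fppf_descent {Y : Over S} {F : Sp S} (π : F ⟶ (yon S).obj Y) {ι : Type u}
    (Y' V' : ι → Over S) (c : ∀ i, Y' i ⟶ Y) (hfl : ∀ i, Flat (c i).left)
    (hlfp : ∀ i, LocallyOfFinitePresentation (c i).left) (a : ∀ i, V' i ⟶ Y' i)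
    (hsep : ∀ i, IsSeparated (a i).left) (hqf : ∀ i, LocallyQuasiFinite (a i).left)
    (hlft : ∀ i, LocallyOfFiniteType (a i).left) (t : ∀ i, (yon S).obj (V' i) ⟶ F)
    (sq : ∀ i, IsPullback (t i) ((yon S).map (a i)) π ((yon S).map (c i)))
    (hcov : ∀ x : Points F, ∃ i v, Points.ofPt (t i) v = x) :
    ∃ G : Over S, Nonempty ((yon S).obj G ≅ F) := by
  have hF := isAlgSpace_of_fppf_descent π Y' V' c hfl hlfp a hsep hqf hlft t sq hcov
  obtain ⟨U₀, a₀, -, ha₀S⟩ := hF.atlas
  refine Groth.Agent.H51.exists_iso_yon_of_forall_point a₀ ha₀S fun u => ?_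
  obtain ⟨i, v, hv⟩ := hcov (Points.ofPt a₀ u)
  have := hfl i
  have := hlfp i
  obtain ⟨Y₁, Y'₂, hY₁, hY'₂, hmem, hle, hs⟩ :=
    exists_affine_surjective_restriction (c i).left ((a i).left v)
  obtain ⟨G, ⟨e⟩⟩ := exists_iso_yon_pullback_of_affine_opens (c i) (a i) π (t i) (hfl i) (hlfp i)
    (hsep i) (hqf i) (hlft i) (sq i) Y₁ Y'₂ hY₁ hY'₂ hle hs
  refine ⟨G, e.hom ≫ pullback.fst π ((yon S).map (overOpenι Y Y₁)), ?_, ?_⟩
  · exact MorphismProperty.RespectsIso.precomp _ _ _
      (MorphismProperty.of_isPullback (P := RepWith (S := S) @IsOpenImmersion)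
        (IsPullback.of_hasPullback π ((yon S).map (overOpenι Y Y₁))).flip
        (repWith_isOpenImmersion_overOpenι Y Y₁))
  · rw [← hv]
    have hy : (c i).left ((a i).left v) ∈ Y₁ := hle hmem
    obtain ⟨z, hz1, -⟩ := Groth.Agent.H53.exists_point_of_isPullback
      (IsPullback.of_hasPullback π ((yon S).map (overOpenι Y Y₁)))
      (Points.ofPt (t i) v)
      (Points.ofScheme (overOpen Y Y₁) ⟨(c i).left ((a i).left v), hy⟩) (by
        rw [Points.map_ofPt, (sq i).w, ← Functor.map_comp, Points.map_ofPt, Category.id_comp,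
          ← Category.comp_id ((yon S).map (a i ≫ c i)), Groth.Agent.H53.ofPt_yon_map_comp,
          ← Category.comp_id ((yon S).map (overOpenι Y Y₁)),
          Groth.Agent.H53.ofPt_yon_map_comp]
        rfl)
    refine ⟨Points.map e.inv z, ?_⟩
    rw [← Points.map_comp, e.inv_hom_id_assoc, hz1]

/-- fppf descent of separated locally quasi-finite schemes along a jointly surjective family: the
descended scheme is separated, locally quasi-finite and locally of finite type over `Y`. -/
theorem exists_rep_of_fppf_descent {Y : Over S} {F : Sp S} (π : F ⟶ (yon S).obj Y) {ι : Type u}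
    (Y' V' : ι → Over S) (c : ∀ i, Y' i ⟶ Y) (hfl : ∀ i, Flat (c i).left)
    (hlfp : ∀ i, LocallyOfFinitePresentation (c i).left)
    (hsurj : ∀ y : Y.left, ∃ i, y ∈ Set.range (c i).left) (a : ∀ i, V' i ⟶ Y' i)
    (hsep : ∀ i, IsSeparated (a i).left) (hqf : ∀ i, LocallyQuasiFinite (a i).left)
    (hlft : ∀ i, LocallyOfFiniteType (a i).left) (t : ∀ i, (yon S).obj (V' i) ⟶ F)
    (sq : ∀ i, IsPullback (t i) ((yon S).map (a i)) π ((yon S).map (c i))) :
    ∃ (G : Over S) (e : (yon S).obj G ≅ F) (γ : G ⟶ Y), e.hom ≫ π = (yon S).map γ ∧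
      IsSeparated γ.left ∧ LocallyQuasiFinite γ.left ∧ LocallyOfFiniteType γ.left := by
  have hcov : ∀ x : Points F, ∃ i v, Points.ofPt (t i) v = x := by
    intro x
    obtain ⟨i, u', hu'⟩ := hsurj (Points.toScheme Y (Points.map π x))
    obtain ⟨z, hz1, -⟩ := Groth.Agent.H53.exists_point_of_isPullback (sq i) x
      (Points.ofScheme _ u') (by
        rw [← Points.ofPt_eq_map_ofScheme, ← Points.ofScheme_toScheme Y (Points.ofPt _ u'),
          Points.toScheme_ofPt, hu', Points.ofScheme_toScheme])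
    refine ⟨i, Points.toScheme _ z, ?_⟩
    rw [Points.ofPt_eq_map_ofScheme, Points.ofScheme_toScheme, hz1]
  obtain ⟨G, ⟨e⟩⟩ := exists_iso_yon_of_fppf_descent π Y' V' c hfl hlfp a hsep hqf hlft t sq hcov
  obtain ⟨γ, hγ⟩ := (yon S).map_surjective (e.hom ≫ π)
  have key : ∀ i, ∃ k : V' i ⟶ G, IsPullback k.left (a i).left γ.left (c i).left := fun i => by
    obtain ⟨k, hk⟩ := (yon S).map_surjective (t i ≫ e.inv)
    have h2 : IsPullback (t i ≫ e.inv) ((yon S).map (a i)) (e.hom ≫ π) ((yon S).map (c i)) :=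
      IsPullback.of_iso (sq i) (Iso.refl _) e.symm (Iso.refl _) (Iso.refl _) (by simp) (by simp)
        (by simp) (by simp)
    rw [← hγ, ← hk] at h2
    have h3 : IsPullback k (a i) γ (c i) :=
      IsPullback.of_map (yon S) ((yon S).map_injective (by
        rw [Functor.map_comp, Functor.map_comp]; exact h2.w)) h2
    exact ⟨k, h3.map (Over.forget S)⟩
  choose k sqk using key
  have := Groth.Agent.H1.isSeparated_descendsAlong_fpqc.{u}
  refine ⟨G, e, γ, hγ.symm, ?_, ?_, ?_⟩
  · exact of_fppf_family @IsSeparated γ.left (fun i => (Y' i).left) (fun i => (V' i).left)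
      (fun i => (c i).left) hfl hlfp hsurj (fun i => (k i).left) (fun i => (a i).left) sqk hsep
  · exact (of_fppf_family (@LocallyQuasiFinite ⊓ @LocallyOfFiniteType) γ.left
      (fun i => (Y' i).left) (fun i => (V' i).left)
      (fun i => (c i).left) hfl hlfp hsurj (fun i => (k i).left) (fun i => (a i).left) sqk
      (fun i => ⟨hqf i, hlft i⟩)).1
  · exact of_fppf_family @LocallyOfFiniteType γ.left (fun i => (Y' i).left) (fun i => (V' i).left)
      (fun i => (c i).left) hfl hlfp hsurj (fun i => (k i).left) (fun i => (a i).left) sqk hlft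

end Groth.Agent.H65.FppfDesc
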