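import Mathlib
import Groth.Prelude.Def_Frob

/-!
# Iterates of the absolute Frobenius of a scheme of characteristic `p`
-/

set_option autoImplicit false
universe u

open CategoryTheory CategoryTheory.Limits AlgebraicGeometry TopologicalSpace

namespace Groth.Agent.H65.FrobIter

open FrobSch

/-- the `n`-fold iterate of the absolute Frobenius -/
noncomputable def frobIter (X : Scheme.{u}) (p : ℕ) [Fact p.Prime] [IsCharP X p] : ℕ → (X ⟶ X)
  | 0 => 𝟙 X
  | n + 1 => frobIter X p n ≫ frob X p

section

variable (X : Scheme.{u}) (p : ℕ) [Fact p.Prime] [IsCharP X p]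

@[simp] theorem frobIter_zero : frobIter X p 0 = 𝟙 X := rfl

theorem frobIter_succ (n : ℕ) : frobIter X p (n + 1) = frobIter X p n ≫ frob X p := rfl

theorem frobIter_base (n : ℕ) : (frobIter X p n).base = 𝟙 _ := by
  induction n with
  | zero => rfl
  | succ n ih =>
    rw [frobIter_succ, Scheme.Hom.comp_base, ih, frob_base, Category.comp_id]

theorem frobIter_apply (n : ℕ) (x : X) : frobIter X p n x = x := by
  have h := congr($(frobIter_base X p n) x)
  exact h

theorem le_frobIter_preimage (n : ℕ) (U : X.Opens) : U ≤ frobIter X p n ⁻¹ᵁ U := by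
  intro x hx
  show frobIter X p n x ∈ U
  rw [frobIter_apply]
  exact hx

theorem frobIter_appLE (n : ℕ) (U : X.Opens) (s : Γ(X, U)) :
    (frobIter X p n).appLE U U (le_frobIter_preimage X p n U) s = s ^ (p ^ n) := by
  induction n generalizing U with
  | zero =>
    simp only [frobIter_zero, pow_zero, pow_one]
    have : (𝟙 X : X ⟶ X).appLE U U (le_frobIter_preimage X p 0 U) = 𝟙 _ := by
      have h0 : (𝟙 X : X ⟶ X).appLE U U (le_frobIter_preimage X p 0 U) =
          (𝟙 X : X ⟶ X).app U := Scheme.Hom.appLE_eq_app _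
      rw [h0]
      exact Scheme.Hom.id_app U
    rw [this]
    rfl
  | succ n ih =>
    have h1 : (frobIter X p (n + 1)).appLE U U (le_frobIter_preimage X p (n + 1) U) =
        (frob X p).appLE U U (le_of_eq (frob_preimage X p U).symm) ≫
          (frobIter X p n).appLE U U (le_frobIter_preimage X p n U) := by
      rw [Scheme.Hom.appLE_comp_appLE]
      rfl
    rw [h1]
    change (frobIter X p n).appLE U U (le_frobIter_preimage X p n U)
      ((frob X p).appLE U U (le_of_eq (frob_preimage X p U).symm) s) = _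
    have h2 : (frob X p).appLE U U (le_of_eq (frob_preimage X p U).symm) s = s ^ p := by
      have : (frob X p).appLE U U (le_of_eq (frob_preimage X p U).symm) = (frob X p).app U :=
        Scheme.Hom.appLE_eq_app _
      rw [this]
      rfl
    rw [h2, ih, ← pow_mul, pow_succ, mul_comm]

variable {X} {Y : Scheme.{u}} [IsCharP Y p]

theorem frobIter_comp (f : X ⟶ Y) (n : ℕ) : frobIter X p n ≫ f = f ≫ frobIter Y p n := by
  induction n with
  | zero => simp
  | succ n ih =>
    rw [frobIter_succ, frobIter_succ, Category.assoc, frob_comp, ← Category.assoc, ih,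
      Category.assoc]

end

/-- an endomorphism which is the identity on points and the `p ^ n`-th power on sections is the
iterated Frobenius -/
theorem eq_frobIter (X : Scheme.{u}) (p : ℕ) [Fact p.Prime] [IsCharP X p] (n : ℕ)
    (FX : X ⟶ X) (hFb : FX.base = 𝟙 _) (hle : ∀ U : X.Opens, U ≤ FX ⁻¹ᵁ U)
    (hFapp : ∀ (U : X.Opens) (s : Γ(X, U)), (FX.appLE U U (hle U)).hom s = s ^ (p ^ n)) :
    FX = frobIter X p n := by
  have hb : FX.base = (frobIter X p n).base := by rw [hFb, frobIter_base]
  refine Scheme.Hom.ext hb (fun U => ?_)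
  have hU : frobIter X p n ⁻¹ᵁ U = U := by
    ext x
    show frobIter X p n x ∈ U ↔ x ∈ U
    rw [frobIter_apply]
  have h1 : FX.app U ≫ X.presheaf.map
      (eqToHom congr((Opens.map $hb.symm).obj U)).op =
      FX.appLE U (frobIter X p n ⁻¹ᵁ U) (by rw [hU]; exact hle U) := rfl
  rw [h1]
  have h2 : (frobIter X p n).app U =
      (frobIter X p n).appLE U (frobIter X p n ⁻¹ᵁ U) le_rfl := Scheme.Hom.app_eq_appLE _
  rw [h2]
  -- transport along `hU`
  have key : ∀ (V : X.Opens) (hV : V = U) (e₁ : V ≤ FX ⁻¹ᵁ U) (e₂ : V ≤ frobIter X p n ⁻¹ᵁ U),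
      FX.appLE U V e₁ = (frobIter X p n).appLE U V e₂ := by
    rintro V rfl e₁ e₂
    ext s
    have := hFapp V s
    rw [frobIter_appLE]
    exact this
  exact key _ hU _ _

end Groth.Agent.H65.FrobIter

namespace Groth.Agent.H65.FrobIter

open FrobSch

theorem frobIter_appTop (X : Scheme.{u}) (p : ℕ) [Fact p.Prime] [IsCharP X p] (n : ℕ)
    (s : Γ(X, ⊤)) : (frobIter X p n).appTop s = s ^ (p ^ n) := by
  have h := frobIter_appLE X p n ⊤ s
  have h2 : (frobIter X p n).appLE ⊤ ⊤ (le_frobIter_preimage X p n ⊤) = (frobIter X p n).appTop := by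
    rw [Scheme.Hom.appTop, Scheme.Hom.app_eq_appLE]
    rfl
  rw [h2] at h
  exact h

/-- the iterated Frobenius of an affine scheme is `Spec` of the `p ^ n`-th power map -/
theorem frobIter_Spec (K : Type u) [CommRing K] (p : ℕ) [Fact p.Prime] [CharP K p] (n : ℕ)
    (φ : K →+* K) (hφ : ∀ x, φ x = x ^ (p ^ n)) :
    frobIter (Spec (CommRingCat.of K)) p n = Spec.map (CommRingCat.ofHom φ) := by
  rw [← Spec.map_preimage (frobIter (Spec (CommRingCat.of K)) p n)]
  congr 1
  ext x
  have hnat := Scheme.ΓSpecIso_naturality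
    (Spec.preimage (frobIter (Spec (CommRingCat.of K)) p n))
  rw [Spec.map_preimage] at hnat
  have h1 : (Scheme.ΓSpecIso (CommRingCat.of K)).hom
      ((frobIter (Spec (CommRingCat.of K)) p n).appTop
        ((Scheme.ΓSpecIso (CommRingCat.of K)).inv x)) =
      (Spec.preimage (frobIter (Spec (CommRingCat.of K)) p n))
        ((Scheme.ΓSpecIso (CommRingCat.of K)).hom
          ((Scheme.ΓSpecIso (CommRingCat.of K)).inv x)) :=
    congr($hnat ((Scheme.ΓSpecIso (CommRingCat.of K)).inv x))
  rw [frobIter_appTop, map_pow] at h1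
  have h2 : (Scheme.ΓSpecIso (CommRingCat.of K)).hom
      ((Scheme.ΓSpecIso (CommRingCat.of K)).inv x) = x :=
    congr($((Scheme.ΓSpecIso (CommRingCat.of K)).inv_hom_id) x)
  rw [h2] at h1
  show (Spec.preimage (frobIter (Spec (CommRingCat.of K)) p n)).hom x = φ x
  rw [hφ]
  exact h1.symm

end Groth.Agent.H65.FrobIter
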