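import Mathlib
import Groth.Prelude.Def_FinFr
import Groth.Agent.H65.FrobIter
import Groth.Agent.H38.GalAct

/-!
# Closed subsets of `X_{k̄}` stable under the Frobenius endomorphism descend to `X`
-/

set_option autoImplicit false
universe u

open CategoryTheory CategoryTheory.Limits AlgebraicGeometry TopologicalSpace

namespace Groth.Agent.H65.FrobStable

open FrobSch Groth.Agent.H65.FrobIter Groth.Agent.H38.GalAct

section frob

variable {k : Type u} [Field k] [Fintype k] {X : Scheme.{u}} [X.Over (Spec (CommRingCat.of k))]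

local notation "K" => AlgebraicClosure k

/-- the arithmetic Frobenius of the algebraic closure -/
noncomputable abbrev arFrob (k : Type u) [Field k] [Fintype k] :
    AlgebraicClosure k ≃ₐ[k] AlgebraicClosure k :=
  FiniteField.frobeniusAlgEquivOfAlgebraic k (AlgebraicClosure k)

/-- the Frobenius correspondence `F ∘ τ_φ` is the identity on points -/
theorem F_galAct_apply
    (FX : X ⟶ X) (hFb : FX.base = 𝟙 _) (hle : ∀ U : X.Opens, U ≤ FX ⁻¹ᵁ U)
    (hFapp : ∀ (U : X.Opens) (s : Γ(X, U)), (FX.appLE U U (hle U)).hom s = s ^ Fintype.card k)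
    (F : Curv2.bc k X K ⟶ Curv2.bc k X K)
    (hF1 : F ≫ Curv2.bcFst k X K = Curv2.bcFst k X K ≫ FX)
    (hF2 : F ≫ Curv2.bcSnd k X K = Curv2.bcSnd k X K) (y : ↥(Curv2.bc k X K)) :
    F (Curv2.galAct k X K (arFrob k) y) = y := by
  obtain ⟨p, hc, n, hp, hn⟩ := FiniteField.card' k
  have : Fact p.Prime := ⟨hp⟩
  have hcK : CharP K p := charP_of_injective_algebraMap (algebraMap k K).injective p
  have hX : IsCharP X p := IsCharP.of_hom (X ↘ Spec (CommRingCat.of k)) p
  have hY : IsCharP (Curv2.bc k X K) p := IsCharP.of_hom (Curv2.bcSnd k X K) p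
  have hFX : FX = frobIter X p n := by
    apply eq_frobIter X p n FX hFb hle
    intro U s
    rw [hFapp U s, hn]
  have hSpec : frobIter (Spec (CommRingCat.of K)) p n =
      Spec.map (CommRingCat.ofHom ((arFrob k : K →ₐ[k] K).toRingHom)) := by
    apply frobIter_Spec
    intro x
    show (arFrob k) x = _
    rw [FiniteField.coe_frobeniusAlgEquivOfAlgebraic, hn]
  have key : Curv2.galAct k X K (arFrob k) ≫ F = frobIter (Curv2.bc k X K) p n := by
    apply pullback.hom_ext
    · show (Curv2.galAct k X K (arFrob k) ≫ F) ≫ Curv2.bcFst k X K =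
        frobIter (Curv2.bc k X K) p n ≫ Curv2.bcFst k X K
      rw [Category.assoc, hF1, galAct_fst_assoc, hFX, frobIter_comp]
    · show (Curv2.galAct k X K (arFrob k) ≫ F) ≫ Curv2.bcSnd k X K =
        frobIter (Curv2.bc k X K) p n ≫ Curv2.bcSnd k X K
      rw [Category.assoc, hF2, galAct_snd, frobIter_comp, hSpec]
  have h := congr($(key).base y)
  rw [Scheme.Hom.comp_base] at h
  have h2 : frobIter (Curv2.bc k X K) p n y = y := frobIter_apply _ p n y
  exact h.trans h2

end frob

section conj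

variable {k : Type u} [Field k] [Fintype k] {X : Scheme.{u}}

local notation "K" => AlgebraicClosure k

/-- on a `k̄`-point of `X` lying over a closed point, every Galois conjugation is a power of the
arithmetic Frobenius -/
theorem exists_pow_comp_eq (f : X ⟶ Spec (CommRingCat.of k)) [LocallyOfFiniteType f]
    (α : Spec (CommRingCat.of K) ⟶ X)
    (hα : α ≫ f = Spec.map (CommRingCat.ofHom (algebraMap k K)))
    (hx : IsClosed {α (IsLocalRing.closedPoint K)}) (σ : K ≃ₐ[k] K) :
    ∃ i : ℕ, Spec.map (CommRingCat.ofHom ((σ : K →ₐ[k] K).toRingHom)) ≫ α =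
      Spec.map (CommRingCat.ofHom (((arFrob k ^ i : K ≃ₐ[k] K) : K →ₐ[k] K).toRingHom)) ≫ α := by
  have hJ : JacobsonSpace X := LocallyOfFiniteType.jacobsonSpace f
  set x := α (IsLocalRing.closedPoint K) with hxdef
  let j : X.residueField x ⟶ CommRingCat.of K :=
    Scheme.descResidueField (Scheme.stalkClosedPointTo α)
  have hfac : Spec.map j ≫ X.fromSpecResidueField x = α :=
    Scheme.descResidueField_stalkClosedPointTo_fromSpecResidueField K X α
  -- the structure map of the residue field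
  let ψ₀ : CommRingCat.of k ⟶ X.residueField x := Spec.preimage (X.fromSpecResidueField x ≫ f)
  have hψ₀ : Spec.map ψ₀ = X.fromSpecResidueField x ≫ f := Spec.map_preimage _
  have hjψ : ψ₀ ≫ j = CommRingCat.ofHom (algebraMap k K) := by
    apply Spec.map_injective
    rw [Spec.map_comp, hψ₀, ← Category.assoc, hfac, hα]
  letI : Algebra k (X.residueField x) := ψ₀.hom.toAlgebra
  letI : Algebra (X.residueField x) K := j.hom.toAlgebra
  have htower : IsScalarTower k (X.residueField x) K :=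
    IsScalarTower.of_algebraMap_eq (fun c => (congr($hjψ c)).symm)
  -- finiteness of the residue field
  have hlft : LocallyOfFiniteType (X.fromSpecResidueField x) :=
    isClosed_singleton_iff_locallyOfFiniteType.mp hx
  have hfin : IsFinite (X.fromSpecResidueField x ≫ f) :=
    isFinite_iff_locallyOfFiniteType_of_jacobsonSpace.mpr inferInstance
  rw [← hψ₀, IsFinite.SpecMap_iff] at hfin
  have hmf : Module.Finite k (X.residueField x) := hfin
  have hfinite : Finite (X.residueField x) := Module.finite_of_finite k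
  -- restriction of the conjugation to the residue field
  let ρ : X.residueField x →ₐ[k] X.residueField x :=
    (σ : K →ₐ[k] K).restrictNormal (X.residueField x)
  have hρ : ∀ a, j (ρ a) = σ (j a) := fun a =>
    AlgHom.restrictNormal_commutes (σ : K →ₐ[k] K) (X.residueField x) a
  obtain ⟨i, hi⟩ := (FiniteField.bijective_frobeniusAlgHom_pow k (X.residueField x)).2 ρ
  refine ⟨i.1, ?_⟩
  have hring : j ≫ CommRingCat.ofHom ((σ : K →ₐ[k] K).toRingHom) =
      j ≫ CommRingCat.ofHom (((arFrob k ^ i.1 : K ≃ₐ[k] K) : K →ₐ[k] K).toRingHom) := by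
    ext a
    show σ (j a) = (arFrob k ^ i.1) (j a)
    rw [← hρ a]
    have h1 : ρ a = a ^ (Fintype.card k ^ i.1) := by
      have h2 : ρ a = (FiniteField.frobeniusAlgHom k (X.residueField x) ^ i.1) a := by
        rw [← hi]
      rw [h2, AlgHom.coe_pow, FiniteField.coe_frobeniusAlgHom, pow_iterate]
    rw [h1, map_pow]
    have h3 : ((arFrob k ^ i.1 : K ≃ₐ[k] K)) (j a) = (j a) ^ (Fintype.card k ^ i.1) := by
      have h4 : ((arFrob k ^ i.1 : K ≃ₐ[k] K)) (j a) = ((arFrob k : K → K))^[i.1] (j a) := by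
        rw [AlgEquiv.coe_pow]
      rw [h4, FiniteField.coe_frobeniusAlgEquivOfAlgebraic_iterate]
    rw [h3]
  rw [← hfac, ← Category.assoc, ← Category.assoc, ← Spec.map_comp, ← Spec.map_comp, hring]

end conj

section main

variable {k : Type u} [Field k] [Fintype k] {X : Scheme.{u}} [X.Over (Spec (CommRingCat.of k))]

local notation "K" => AlgebraicClosure k

omit [Fintype k] in
theorem specMap_mul_inv (τ : K ≃ₐ[k] K) :
    Spec.map (CommRingCat.ofHom ((τ⁻¹ : K ≃ₐ[k] K) : K →ₐ[k] K).toRingHom) ≫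
      Spec.map (CommRingCat.ofHom ((τ : K ≃ₐ[k] K) : K →ₐ[k] K).toRingHom) = 𝟙 _ := by
  rw [← Spec.map_comp, ← Spec.map_id]
  congr 1
  ext a
  show τ⁻¹ (τ a) = a
  exact τ.symm_apply_apply a

/-- on closed points, every Galois conjugate is the conjugate by the inverse of a power of the
arithmetic Frobenius -/
theorem exists_galAct_eq_pow [LocallyOfFiniteType (X ↘ Spec (CommRingCat.of k))]
    (y : ↥(Curv2.bc k X K)) (hy : IsClosed {y}) (σ : K ≃ₐ[k] K) :
    ∃ i : ℕ, Curv2.galAct k X K σ y = Curv2.galAct k X K (arFrob k ^ i)⁻¹ y := by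
  have hlft : LocallyOfFiniteType (Curv2.bcSnd k X K) := by
    unfold Curv2.bcSnd
    infer_instance
  let s : Spec (CommRingCat.of K) ⟶ Curv2.bc k X K := pointOfClosedPoint (Curv2.bcSnd k X K) y hy
  have hs : s ≫ Curv2.bcSnd k X K = 𝟙 _ := pointOfClosedPoint_comp _ y hy
  have hsy : ∀ a, s a = y := fun a => pointOfClosedPoint_apply _ y hy a
  let α : Spec (CommRingCat.of K) ⟶ X := s ≫ Curv2.bcFst k X K
  have hα : α ≫ (X ↘ Spec (CommRingCat.of k)) =
      Spec.map (CommRingCat.ofHom (algebraMap k K)) := by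
    show (s ≫ Curv2.bcFst k X K) ≫ (X ↘ Spec (CommRingCat.of k)) = _
    rw [Category.assoc]
    have hc : Curv2.bcFst k X K ≫ (X ↘ Spec (CommRingCat.of k)) =
        Curv2.bcSnd k X K ≫ Spec.map (CommRingCat.ofHom (algebraMap k K)) := pullback.condition
    rw [hc, ← Category.assoc, hs, Category.id_comp]
  have hx : IsClosed {α (IsLocalRing.closedPoint K)} := by
    have h1 : α (IsLocalRing.closedPoint K) = Curv2.bcFst k X K y := by
      exact congrArg (Curv2.bcFst k X K) (hsy _)
    rw [h1]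
    have h2 := isClosedMap_bcFst k X K {y} hy
    rwa [Set.image_singleton] at h2
  obtain ⟨i, hi⟩ := exists_pow_comp_eq (X ↘ Spec (CommRingCat.of k)) α hα hx σ⁻¹
  refine ⟨i, ?_⟩
  let s₁ : Spec (CommRingCat.of K) ⟶ Curv2.bc k X K :=
    Spec.map (CommRingCat.ofHom ((σ⁻¹ : K ≃ₐ[k] K) : K →ₐ[k] K).toRingHom) ≫ s ≫
      Curv2.galAct k X K σ
  let s₂ : Spec (CommRingCat.of K) ⟶ Curv2.bc k X K :=
    Spec.map (CommRingCat.ofHom (((arFrob k ^ i : K ≃ₐ[k] K)) : K →ₐ[k] K).toRingHom) ≫ s ≫
      Curv2.galAct k X K (arFrob k ^ i)⁻¹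
  have h12 : s₁ = s₂ := by
    apply pullback.hom_ext
    · show s₁ ≫ Curv2.bcFst k X K = s₂ ≫ Curv2.bcFst k X K
      simp only [s₁, s₂, Category.assoc, galAct_fst]
      exact hi
    · show s₁ ≫ Curv2.bcSnd k X K = s₂ ≫ Curv2.bcSnd k X K
      simp only [s₁, s₂, Category.assoc, galAct_snd]
      rw [reassoc_of% hs, reassoc_of% hs]
      have e1 := specMap_mul_inv (k := k) σ
      have e2 := specMap_mul_inv (k := k) (arFrob k ^ i)⁻¹
      rw [inv_inv] at e2
      rw [e1, e2]
  have h1 : s₁ (IsLocalRing.closedPoint K) = Curv2.galAct k X K σ y := by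
    exact congrArg (Curv2.galAct k X K σ) (hsy _)
  have h2 : s₂ (IsLocalRing.closedPoint K) = Curv2.galAct k X K (arFrob k ^ i)⁻¹ y := by
    exact congrArg (Curv2.galAct k X K (arFrob k ^ i)⁻¹) (hsy _)
  rw [← h1, ← h2, h12]

/-- stability under the Frobenius correspondence implies stability under the Galois action -/
theorem galAct_image_subset [LocallyOfFiniteType (X ↘ Spec (CommRingCat.of k))]
    (FX : X ⟶ X) (hFb : FX.base = 𝟙 _) (hle : ∀ U : X.Opens, U ≤ FX ⁻¹ᵁ U)
    (hFapp : ∀ (U : X.Opens) (s : Γ(X, U)), (FX.appLE U U (hle U)).hom s = s ^ Fintype.card k)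
    (F : Curv2.bc k X K ⟶ Curv2.bc k X K)
    (hF1 : F ≫ Curv2.bcFst k X K = Curv2.bcFst k X K ≫ FX)
    (hF2 : F ≫ Curv2.bcSnd k X K = Curv2.bcSnd k X K)
    (W : Set ↥(Curv2.bc k X K)) (hW : IsClosed W) (hFW : F '' W ⊆ W) (σ : K ≃ₐ[k] K) :
    Curv2.galAct k X K σ '' W ⊆ W := by
  have hFy : ∀ z : ↥(Curv2.bc k X K), F z = Curv2.galAct k X K (arFrob k)⁻¹ z := by
    intro z
    have h := F_galAct_apply FX hFb hle hFapp F hF1 hF2 (Curv2.galAct k X K (arFrob k)⁻¹ z)
    rwa [galAct_apply_inv] at h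
  have hiter : ∀ (i : ℕ) (z : ↥(Curv2.bc k X K)), z ∈ W →
      Curv2.galAct k X K (arFrob k ^ i)⁻¹ z ∈ W := by
    intro i
    induction i with
    | zero =>
      intro z hz
      rw [pow_zero, inv_one, galAct_one]
      exact hz
    | succ i ih =>
      intro z hz
      have hg : (arFrob k ^ (i + 1))⁻¹ = (arFrob k ^ i)⁻¹ * (arFrob k)⁻¹ := by
        rw [pow_succ', mul_inv_rev]
      have h1 : Curv2.galAct k X K (arFrob k ^ (i + 1))⁻¹ z =
          F (Curv2.galAct k X K (arFrob k ^ i)⁻¹ z) := by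
        rw [hFy, ← Scheme.Hom.comp_apply, ← galAct_mul, hg]
      rw [h1]
      exact hFW ⟨_, ih z hz, rfl⟩
  have hlft : LocallyOfFiniteType (Curv2.bcSnd k X K) := by
    unfold Curv2.bcSnd
    infer_instance
  have hJ : JacobsonSpace ↥(Curv2.bc k X K) :=
    LocallyOfFiniteType.jacobsonSpace (Curv2.bcSnd k X K)
  have hpre : IsClosed ((Curv2.galAct k X K σ) ⁻¹' W) :=
    hW.preimage (Curv2.galAct k X K σ).continuous
  have hsub : W ∩ closedPoints ↥(Curv2.bc k X K) ⊆ (Curv2.galAct k X K σ) ⁻¹' W := by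
    rintro y ⟨hyW, hyc⟩
    obtain ⟨i, hi⟩ := exists_galAct_eq_pow y hyc σ
    show Curv2.galAct k X K σ y ∈ W
    rw [hi]
    exact hiter i y hyW
  have hcl : W ⊆ (Curv2.galAct k X K σ) ⁻¹' W := by
    have h1 := closure_minimal hsub hpre
    rwa [JacobsonSpace.closure_inter_closedPoints_eq_closure hW.isLocallyClosed,
      hW.closure_eq] at h1
  rintro _ ⟨z, hz, rfl⟩
  exact hcl hz

end main

end Groth.Agent.H65.FrobStable
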