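import Groth.Agent.S9889
import Groth.Agent.S9868
import Groth.Agent.H49.AlgSpQuot
import Groth.Agent.H49.FreeAction
import Groth.Agent.H52.Epi
import Mathlib.FieldTheory.Galois.Basic
import Mathlib.FieldTheory.SeparableClosure
import Mathlib.RingTheory.Etale.Field
import Mathlib.AlgebraicGeometry.Morphisms.Etale

/-!
# Field-valued points of a quotient `U/G` by a free action

Let a group `G` act freely on a scheme `U` over `S` and let `ξ : h_{Spec k} ⟶ U/G` be a point with
values in a field.  Then `ξ` lifts to a `Gal(k'/k)`-equivariant point `Spec k' ⟶ U` for a finite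
Galois extension `k'/k`, the Galois group being identified with a finite subgroup of `G`.
-/

set_option autoImplicit false
universe u
open CategoryTheory CategoryTheory.Limits AlgebraicGeometry Opposite IntermediateField

namespace Groth.Agent.H65.GaloisPoint

open AlgSp

section algebra

/-- A finite separable extension embeds into a finite Galois extension. -/
theorem exists_galois_closure (k K : Type u) [Field k] [Field K] [Algebra k K]
    [FiniteDimensional k K] [Algebra.IsSeparable k K] :
    ∃ (k' : Type u) (_ : Field k') (_ : Algebra k k') (_ : FiniteDimensional k k')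
      (_ : IsGalois k k'), Nonempty (K →ₐ[k] k') := by
  let E := AlgebraicClosure K
  let F : IntermediateField k E := separableClosure k E
  have hle : (IsScalarTower.toAlgHom k K E).fieldRange ≤ F := by
    intro x hx
    obtain ⟨y, rfl⟩ := hx
    rw [mem_separableClosure_iff]
    exact (Algebra.IsSeparable.isSeparable k y).map (f := IsScalarTower.toAlgHom k K E)
      (IsScalarTower.toAlgHom k K E).toRingHom.injective
  let ι : K →ₐ[k] F := (IsScalarTower.toAlgHom k K E).codRestrict F.toSubalgebra
    (fun y => hle ⟨y, rfl⟩)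
  let _ : Algebra K F := ι.toRingHom.toAlgebra
  have : IsScalarTower k K F := IsScalarTower.of_algebraMap_eq' ι.comp_algebraMap.symm
  have : IsGalois k F := inferInstance
  refine ⟨normalClosure k K F, inferInstance, inferInstance, inferInstance, inferInstance, ?_⟩
  exact ⟨(IsScalarTower.toAlgHom k K (normalClosure k K F))⟩

/-- A nonempty scheme étale over a field has a point with values in a finite separable
extension. -/
theorem exists_separable_point_sch {k : Type u} [Field k] {Z : Scheme.{u}}
    (p : Z ⟶ Spec (CommRingCat.of k)) [Etale p] [Nonempty Z] :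
    ∃ (K : Type u) (_ : Field K) (_ : Algebra k K) (_ : FiniteDimensional k K)
      (_ : Algebra.IsSeparable k K) (x : Spec (CommRingCat.of K) ⟶ Z),
      x ≫ p = Spec.map (CommRingCat.ofHom (algebraMap k K)) := by
  obtain ⟨z⟩ := ‹Nonempty Z›
  obtain ⟨V, hV, hzV, -⟩ := exists_isAffineOpen_mem_and_subset (x := z) (U := ⊤) trivial
  let A : CommRingCat.{u} := Γ(Z, V)
  have hne : Nontrivial A := by
    have : Nonempty V := ⟨⟨z, hzV⟩⟩
    infer_instance
  have hj : Etale (hV.fromSpec ≫ p) := inferInstance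
  obtain ⟨ψ, hψ⟩ := Spec.map_surjective (hV.fromSpec ≫ p)
  rw [← hψ, HasRingHomProperty.Spec_iff (P := @Etale)] at hj
  algebraize [ψ.hom]
  have hfe : Algebra.FormallyEtale k A := inferInstance
  obtain ⟨I, hI, Ai, hf, ha, e, hsep⟩ :=
    (Algebra.FormallyEtale.iff_exists_algEquiv_prod (K := k) (A := A)).1 hfe
  have hIne : Nonempty I := by
    by_contra hI'
    rw [not_nonempty_iff] at hI'
    have : Subsingleton (∀ i, Ai i) := inferInstance
    have : Subsingleton A := e.toEquiv.subsingleton
    exact not_subsingleton A this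
  obtain ⟨i⟩ := hIne
  let π : A →ₐ[k] Ai i := (Pi.evalAlgHom k Ai i).comp e.toAlgHom
  have hπ : Function.Surjective π := by
    intro a
    classical
    refine ⟨e.symm (Pi.single i a), ?_⟩
    simp [π]
  have hfin : Module.Finite k A := Algebra.FormallyUnramified.finite_of_free k A
  have hfinK : FiniteDimensional k (Ai i) := Module.Finite.of_surjective π.toLinearMap hπ
  refine ⟨Ai i, hf i, ha i, hfinK, hsep i,
    Spec.map (CommRingCat.ofHom π.toRingHom) ≫ hV.fromSpec, ?_⟩
  rw [Category.assoc, ← hψ, ← Spec.map_comp]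
  congr 1
  ext a
  change π (ψ.hom a) = algebraMap k (Ai i) a
  rw [← π.commutes a]
  rfl

end algebra

variable {S : Scheme.{u}}

/-- The spectrum of a `k`-algebra `L`, as a scheme over `S` through `σ : Spec k ⟶ S`. -/
noncomputable abbrev ov {k : Type u} [Field k] (σ : Spec (CommRingCat.of k) ⟶ S) (L : Type u)
    [CommRing L] [Algebra k L] : Over S :=
  Over.mk (Spec.map (CommRingCat.ofHom (algebraMap k L)) ≫ σ)

/-- The structure morphism `Spec L ⟶ Spec k` over `S`. -/
noncomputable abbrev ovπ {k : Type u} [Field k] (σ : Spec (CommRingCat.of k) ⟶ S) (L : Type u)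
    [CommRing L] [Algebra k L] : ov σ L ⟶ Over.mk σ :=
  Over.homMk (Spec.map (CommRingCat.ofHom (algebraMap k L)))

/-- The morphism over `S` induced by a homomorphism of `k`-algebras. -/
noncomputable def ovMap {k : Type u} [Field k] (σ : Spec (CommRingCat.of k) ⟶ S) {L L' : Type u}
    [CommRing L] [Algebra k L] [CommRing L'] [Algebra k L'] (f : L →ₐ[k] L') :
    ov σ L' ⟶ ov σ L :=
  Over.homMk (Spec.map (CommRingCat.ofHom f.toRingHom)) (by
    change Spec.map (CommRingCat.ofHom f.toRingHom) ≫
      Spec.map (CommRingCat.ofHom (algebraMap k L)) ≫ σ =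
      Spec.map (CommRingCat.ofHom (algebraMap k L')) ≫ σ
    rw [← Category.assoc, ← Spec.map_comp]
    congr 2
    ext a
    exact f.commutes a)

theorem ovMap_left {k : Type u} [Field k] (σ : Spec (CommRingCat.of k) ⟶ S) {L L' : Type u}
    [CommRing L] [Algebra k L] [CommRing L'] [Algebra k L'] (f : L →ₐ[k] L') :
    (ovMap σ f).left = Spec.map (CommRingCat.ofHom f.toRingHom) := rfl

theorem ovMap_comp_ovπ {k : Type u} [Field k] (σ : Spec (CommRingCat.of k) ⟶ S) {L L' : Type u}
    [CommRing L] [Algebra k L] [CommRing L'] [Algebra k L'] (f : L →ₐ[k] L') :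
    ovMap σ f ≫ ovπ σ L = ovπ σ L' := by
  ext
  change Spec.map (CommRingCat.ofHom f.toRingHom) ≫ Spec.map (CommRingCat.ofHom (algebraMap k L)) =
    Spec.map (CommRingCat.ofHom (algebraMap k L'))
  rw [← Spec.map_comp]
  congr 1
  ext a
  exact f.commutes a

theorem ovMap_comp {k : Type u} [Field k] (σ : Spec (CommRingCat.of k) ⟶ S) {L L' L'' : Type u}
    [CommRing L] [Algebra k L] [CommRing L'] [Algebra k L'] [CommRing L''] [Algebra k L'']
    (f : L →ₐ[k] L') (g : L' →ₐ[k] L'') : ovMap σ (g.comp f) = ovMap σ g ≫ ovMap σ f := by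
  ext
  change Spec.map (CommRingCat.ofHom (g.comp f).toRingHom) =
    Spec.map (CommRingCat.ofHom g.toRingHom) ≫ Spec.map (CommRingCat.ofHom f.toRingHom)
  rw [← Spec.map_comp]
  rfl

/-- Over version of `exists_separable_point_sch`. -/
theorem exists_separable_point {k : Type u} [Field k] (σ : Spec (CommRingCat.of k) ⟶ S)
    (Z : Over S) (p : Z ⟶ Over.mk σ) (he : Etale p.left) (hne : Nonempty Z.left) :
    ∃ (K : Type u) (_ : Field K) (_ : Algebra k K) (_ : FiniteDimensional k K)
      (_ : Algebra.IsSeparable k K) (x : ov σ K ⟶ Z), x ≫ p = ovπ σ K := by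
  have : Etale (show Z.left ⟶ Spec (CommRingCat.of k) from p.left) := he
  obtain ⟨K, hK1, hK2, hK3, hK4, x, hx⟩ :=
    exists_separable_point_sch (show Z.left ⟶ Spec (CommRingCat.of k) from p.left)
  refine ⟨K, hK1, hK2, hK3, hK4, Over.homMk x ?_, ?_⟩
  · change x ≫ Z.hom = Spec.map (CommRingCat.ofHom (algebraMap k K)) ≫ σ
    rw [← hx, Category.assoc]
    congr 1
    exact (Over.w p).symm
  · ext
    exact hx

section action

variable {U : Over S} {G : Type u} [Group G] (ρ : G →* Aut U)
  {c : Cofan (fun _ : G => U)} (hc : IsColimit c)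

include hc in
/-- A morphism from a one-point scheme to a coproduct factors through a summand. -/
theorem exists_factor_inj {T : Over S} [Subsingleton T.left] [Nonempty T.left] (r : T ⟶ c.pt) :
    ∃ (g : G) (r' : T ⟶ U), r = r' ≫ c.inj g := by
  obtain ⟨pt⟩ := ‹Nonempty T.left›
  obtain ⟨g, y, hy⟩ := Groth.Agent.H49.exists_inj_left_eq hc (r.left pt)
  have hoi : IsOpenImmersion (c.inj g).left := Groth.Agent.H49.isOpenImmersion_inj_left hc g
  have hrange : Set.range r.left ⊆ Set.range (c.inj g).left := by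
    rintro _ ⟨w, rfl⟩
    rw [Subsingleton.elim w pt]
    exact ⟨y, hy⟩
  refine ⟨g, Over.homMk (IsOpenImmersion.lift (c.inj g).left r.left hrange) ?_, ?_⟩
  · rw [← Over.w (c.inj g), ← Category.assoc, IsOpenImmersion.lift_fac, Over.w r]
  · ext
    exact (IsOpenImmersion.lift_fac _ _ _).symm

end action

section main

variable {U : Over S} {G : Type u} [Group G] (ρ : G →* Aut U)
  (hfree : ∀ (g : G) (x : U.left), g ≠ 1 →
    U.left.fromSpecResidueField x ≫ (ρ g).hom.left ≠ U.left.fromSpecResidueField x)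
  {c : Cofan (fun _ : G => U)} (hc : IsColimit c) {s t : c.pt ⟶ U}
  (hs : ∀ g, c.inj g ≫ s = 𝟙 U) (ht : ∀ g, c.inj g ≫ t = (ρ g).hom)
  {k : Type u} [Field k] (σ : Spec (CommRingCat.of k) ⟶ S)

instance (L : Type u) [Field L] [Algebra k L] : Subsingleton (ov σ L).left :=
  inferInstanceAs (Subsingleton (PrimeSpectrum L))

instance (L : Type u) [Field L] [Algebra k L] : Nonempty (ov σ L).left :=
  inferInstanceAs (Nonempty (PrimeSpectrum L))

include hfree hc hs ht in
/-- Two field-valued points of `U` with the same image in `U/G` differ by an element of `G`. -/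
theorem exists_rho_eq (L : Type u) [Field L] [Algebra k L] (a b : ov σ L ⟶ U)
    (hab : (yon S).map a ≫ Groth.Agent.H49.quotMap s t =
      (yon S).map b ≫ Groth.Agent.H49.quotMap s t) :
    ∃ g : G, b = a ≫ (ρ g).hom := by
  have hE : IsEtaleEqvRel s t := Groth.Agent.S9889.result S U G ρ hfree c hc s t hs ht
  have sq := Groth.Agent.H49.isPullback_quotMap hE.toIsEqvRel
  obtain ⟨r₀, hr₀⟩ := (yon S).map_surjective (sq.lift ((yon S).map b) ((yon S).map a) hab.symm)
  have h1 : r₀ ≫ t = b := by
    apply (yon S).map_injective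
    rw [Functor.map_comp, hr₀, sq.lift_fst]
  have h2 : r₀ ≫ s = a := by
    apply (yon S).map_injective
    rw [Functor.map_comp, hr₀, sq.lift_snd]
  obtain ⟨g, r', hr'⟩ := exists_factor_inj hc r₀
  refine ⟨g, ?_⟩
  have h3 : r' = a := by
    rw [← h2, hr', Category.assoc, hs, Category.comp_id]
  rw [← h1, hr', Category.assoc, ht, h3]

include hfree in
/-- The element of `G` relating two field-valued points is unique. -/
theorem rho_unique (L : Type u) [Field L] [Algebra k L] (a : ov σ L ⟶ U) {g h : G}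
    (e : a ≫ (ρ g).hom = a ≫ (ρ h).hom) : g = h := by
  by_contra hgh
  exact (Groth.Agent.H49.isEmpty_of_comp_rho_eq ρ hfree a hgh e).false
    (Classical.arbitrary (ov σ L).left)

variable (ξ : (yon S).obj (Over.mk σ) ⟶ QuotSh.quot Scheme.fppfPrecoverage s t)

include hfree hc hs ht in
/-- A field-valued point of `U/G` lifts to `U` over a finite Galois extension. -/
theorem exists_galois_lift :
    ∃ (k' : Type u) (_ : Field k') (_ : Algebra k k') (_ : FiniteDimensional k k')
      (_ : IsGalois k k') (x' : ov σ k' ⟶ U),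
      (yon S).map x' ≫ Groth.Agent.H49.quotMap s t = (yon S).map (ovπ σ k') ≫ ξ := by
  have hE : IsEtaleEqvRel s t := Groth.Agent.S9889.result S U G ρ hfree c hc s t hs ht
  have hQ := Groth.Agent.S9868.result S s t hE
  have pres := Groth.Agent.H49.isPresentation_quotMap hE hQ
  obtain ⟨Z, p, b₀, sqZ⟩ := pres.etale.rep ξ
  have hpe : Etale p.left := pres.etale.property ξ b₀ p sqZ
  have hps : Surjective p.left := pres.surjective.property ξ b₀ p sqZ
  obtain ⟨b, rfl⟩ := (yon S).map_surjective b₀
  have hne : Nonempty Z.left := by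
    obtain ⟨z, -⟩ := hps.surj (Classical.arbitrary (PrimeSpectrum k))
    exact ⟨z⟩
  obtain ⟨K, hK1, hK2, hK3, hK4, x₁, hx₁⟩ := exists_separable_point σ Z p hpe hne
  obtain ⟨k', hk1, hk2, hk3, hk4, ⟨ι⟩⟩ := exists_galois_closure k K
  refine ⟨k', hk1, hk2, hk3, hk4, ovMap σ ι ≫ x₁ ≫ b, ?_⟩
  rw [Functor.map_comp, Functor.map_comp, Category.assoc, Category.assoc, sqZ.w,
    ← Category.assoc ((yon S).map x₁), ← Functor.map_comp, hx₁, ← Category.assoc,
    ← Functor.map_comp, ovMap_comp_ovπ]

/-- `Spec` of a finite extension of fields is flat, locally of finite presentation and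
surjective. -/
theorem fppf_SpecMap_of_finite {K L : Type u} [Field K] [Field L] [Algebra K L]
    [FiniteDimensional K L] :
    Flat (Spec.map (CommRingCat.ofHom (algebraMap K L))) ∧
      LocallyOfFinitePresentation (Spec.map (CommRingCat.ofHom (algebraMap K L))) ∧
      Surjective (Spec.map (CommRingCat.ofHom (algebraMap K L))) := by
  refine ⟨?_, ?_, ?_⟩
  · rw [HasRingHomProperty.Spec_iff (P := @Flat)]
    change (algebraMap K L).Flat
    rw [RingHom.flat_algebraMap_iff]
    infer_instance
  · rw [HasRingHomProperty.Spec_iff (P := @LocallyOfFinitePresentation)]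
    change (algebraMap K L).FinitePresentation
    rw [RingHom.finitePresentation_algebraMap]
    exact Algebra.FinitePresentation.of_finiteType.mp inferInstance
  · refine ⟨fun z => ⟨⟨⊥, Ideal.isPrime_bot⟩, ?_⟩⟩
    exact Subsingleton.elim (α := PrimeSpectrum K) _ _

include hfree hc hs ht in
/-- **Galois points of `U/G`.** -/
theorem exists_equivariant_point :
    ∃ (k' : Type u) (_ : Field k') (_ : Algebra k k') (_ : FiniteDimensional k k')
      (_ : IsGalois k k') (H : Subgroup G) (_ : Finite H) (e : H ≃* (k' ≃ₐ[k] k'))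
      (x' : ov σ k' ⟶ U),
      (∀ h : H, Spec.map (CommRingCat.ofHom (e h).symm.toRingEquiv.toRingHom) ≫ x'.left =
        x'.left ≫ (ρ (h : G)).hom.left) ∧
      (yon S).map x' ≫ Groth.Agent.H49.quotMap s t = (yon S).map (ovπ σ k') ≫ ξ := by
  obtain ⟨L, hL1, hL2, hL3, hL4, x, hx⟩ := exists_galois_lift ρ hfree hc hs ht σ ξ
  -- the element of `G` attached to a Galois automorphism
  have key : ∀ τ : L ≃ₐ[k] L, ∃ g : G,
      ovMap σ (τ.symm : L →ₐ[k] L) ≫ x = x ≫ (ρ g).hom := by
    intro τ
    apply exists_rho_eq ρ hfree hc hs ht σ L x (ovMap σ (τ.symm : L →ₐ[k] L) ≫ x)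
    rw [Functor.map_comp, Category.assoc, hx, ← Category.assoc, ← Functor.map_comp,
      ovMap_comp_ovπ]
  choose f hf using key
  have hmul : ∀ τ₁ τ₂, f (τ₁ * τ₂) = f τ₁ * f τ₂ := by
    intro τ₁ τ₂
    apply rho_unique ρ hfree σ L x
    rw [← hf, Groth.Agent.H49.rho_mul_hom, ← Category.assoc, ← hf τ₂, Category.assoc, ← hf τ₁,
      ← Category.assoc, ← ovMap_comp]
    rfl
  let φ : (L ≃ₐ[k] L) →* G := MonoidHom.mk' f hmul
  have hφ : ∀ τ, φ τ = f τ := fun τ => rfl
  let N : Subgroup (L ≃ₐ[k] L) := φ.ker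
  let K2 : IntermediateField k L := fixedField N
  -- the residue field of the image point
  let xl : Spec (CommRingCat.of L) ⟶ U.left := x.left
  let u : U.left := xl (IsLocalRing.closedPoint L)
  let ψ : U.left.residueField u ⟶ CommRingCat.of L :=
    Scheme.descResidueField (Scheme.stalkClosedPointTo xl)
  have hψ : Spec.map ψ ≫ U.left.fromSpecResidueField u = xl :=
    Scheme.descResidueField_stalkClosedPointTo_fromSpecResidueField L U.left xl
  have hfix : ∀ τ ∈ N, ∀ a, τ (ψ.hom a) = ψ.hom a := by
    intro τ hτ a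
    have h1 : f τ = 1 := hτ
    have h2 := congrArg CommaMorphism.left (hf τ)
    rw [h1, Groth.Agent.H49.rho_one_hom, Category.comp_id] at h2
    change Spec.map (CommRingCat.ofHom (τ.symm : L →ₐ[k] L).toRingHom) ≫ xl = xl at h2
    rw [← hψ, ← Category.assoc, cancel_mono, ← Spec.map_comp] at h2
    have h3 := Spec.map_injective h2
    have h4 : τ.symm (ψ.hom a) = ψ.hom a := congrArg (fun m => m.hom a) h3
    rw [← h4, AlgEquiv.apply_symm_apply, h4]
  let ψ2 : U.left.residueField u →+* K2 :=
    { toFun := fun a => ⟨ψ.hom a, fun τ => hfix τ.1 τ.2 a⟩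
      map_one' := Subtype.ext (map_one ψ.hom)
      map_mul' := fun a b => Subtype.ext (map_mul ψ.hom a b)
      map_zero' := Subtype.ext (map_zero ψ.hom)
      map_add' := fun a b => Subtype.ext (map_add ψ.hom a b) }
  let x2L : Spec (CommRingCat.of K2) ⟶ U.left :=
    Spec.map (CommRingCat.ofHom ψ2) ≫ U.left.fromSpecResidueField u
  have hincl : Spec.map (CommRingCat.ofHom K2.val.toRingHom) ≫ x2L = xl := by
    rw [← hψ, ← Category.assoc, ← Spec.map_comp]
    rfl
  have hepi : Epi (Spec.map (CommRingCat.ofHom K2.val.toRingHom)) :=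
    Groth.Agent.H49.epi_SpecMap_of_field K2.val.toRingHom
  have hw : x2L ≫ U.hom = (ov σ K2).hom := by
    rw [← cancel_epi (Spec.map (CommRingCat.ofHom K2.val.toRingHom)), ← Category.assoc, hincl]
    have h1 : xl ≫ U.hom = (ov σ L).hom := Over.w x
    rw [h1]
    exact (Over.w (ovMap σ K2.val)).symm
  let x2 : ov σ K2 ⟶ U := Over.homMk x2L hw
  have hx2 : ovMap σ K2.val ≫ x2 = x := by
    ext
    exact hincl
  have hfppf := fppf_SpecMap_of_finite (K := K2) (L := L)
  have hepiY : Epi ((yon S).map (ovMap σ K2.val)) :=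
    Groth.Agent.H52.epi_yon_map_of_fppf (ovMap σ K2.val) hfppf.1 hfppf.2.1 hfppf.2.2
  have hb : (yon S).map x2 ≫ Groth.Agent.H49.quotMap s t = (yon S).map (ovπ σ K2) ≫ ξ := by
    rw [← cancel_epi ((yon S).map (ovMap σ K2.val)), ← Category.assoc, ← Functor.map_comp, hx2,
      hx, ← Category.assoc, ← Functor.map_comp, ovMap_comp_ovπ]
  -- the group isomorphism
  let e : φ.range ≃* (K2 ≃ₐ[k] K2) :=
    (QuotientGroup.quotientKerEquivRange φ).symm.trans (IsGalois.normalAutEquivQuotient N)
  have he : ∀ τ : L ≃ₐ[k] L, ∀ h : φ.range, (h : G) = f τ →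
      e h = AlgEquiv.restrictNormalHom K2 τ := by
    intro τ h hh
    have h1 : (QuotientGroup.quotientKerEquivRange φ).symm h = (τ : (L ≃ₐ[k] L) ⧸ N) := by
      rw [MulEquiv.symm_apply_eq]
      exact Subtype.ext hh
    change IsGalois.normalAutEquivQuotient N ((QuotientGroup.quotientKerEquivRange φ).symm h) = _
    rw [h1]
    rfl
  refine ⟨K2, inferInstance, inferInstance, inferInstance, inferInstance, φ.range,
    Finite.of_surjective φ.rangeRestrict φ.rangeRestrict_surjective, e, x2, ?_, hb⟩
  intro h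
  obtain ⟨τ, hτ⟩ := h.2
  have hh : (h : G) = f τ := hτ.symm
  rw [he τ h hh, hh]
  set τ2 := AlgEquiv.restrictNormalHom K2 τ with hτ2
  have hcomm : ∀ a : K2, ((τ2.symm a : K2) : L) = τ.symm (a : L) := by
    intro a
    have h1 : ((τ2 (τ2.symm a) : K2) : L) = τ ((τ2.symm a : K2) : L) :=
      AlgEquiv.restrictNormalHom_apply K2 τ (τ2.symm a)
    rw [AlgEquiv.apply_symm_apply] at h1
    rw [h1, AlgEquiv.symm_apply_apply]
  rw [← cancel_epi (Spec.map (CommRingCat.ofHom K2.val.toRingHom))]
  have h1 : Spec.map (CommRingCat.ofHom K2.val.toRingHom) ≫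
      Spec.map (CommRingCat.ofHom τ2.symm.toRingEquiv.toRingHom) =
      Spec.map (CommRingCat.ofHom (τ.symm : L →ₐ[k] L).toRingHom) ≫
        Spec.map (CommRingCat.ofHom K2.val.toRingHom) := by
    rw [← Spec.map_comp, ← Spec.map_comp]
    congr 1
    ext a
    exact hcomm a
  change _ ≫ _ ≫ x2L = _ ≫ x2L ≫ _
  rw [← Category.assoc, h1, Category.assoc, hincl, ← Category.assoc, hincl]
  exact congrArg CommaMorphism.left (hf τ)

end main

end Groth.Agent.H65.GaloisPoint
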