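import Mathlib

namespace Groth.Agent.H65

theorem invariant_lift {A : Type*} [CommRing A] {G : Type*} [Group G] [Finite G]
    [MulSemiringAction G A] (P : Subgroup G) (hm : IsUnit ((P.index : ℕ) : A)) (I : Ideal A) (f : A)
    (hf : ∀ g : G, g • f - f ∈ I) :
    ∃ a : A, (∀ g : G, g • a = a) ∧ a - f ^ (Nat.card P) ∈ I := by
  classical
  have : Fintype G := Fintype.ofFinite G
  have : Fintype P := Fintype.ofFinite P
  have : Fintype (G ⧸ P) := Fintype.ofFinite _
  let N : A := ∏ h : P, h • f
  have hN : ∀ h : P, h • N = N := fun h => Finset.smul_prod_perm f h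
  have hN' : ∀ g : G, g ∈ P → g • N = N := fun g hg => hN ⟨g, hg⟩
  let φ : G ⧸ P → A := Quotient.lift (fun g : G => g • N) (by
    intro a b hab
    have hab' : a⁻¹ * b ∈ P := QuotientGroup.leftRel_apply.mp hab
    show a • N = b • N
    have : b = a * (a⁻¹ * b) := by group
    rw [this, mul_smul, hN' _ hab'])
  have hφ : ∀ g : G, φ (QuotientGroup.mk g) = g • N := fun g => rfl
  have hφsmul : ∀ (g : G) (q : G ⧸ P), g • φ q = φ (g • q) := by
    intro g q
    induction q using QuotientGroup.induction_on with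
    | H x =>
      rw [hφ, ← mul_smul]
      rfl
  obtain ⟨u, hu⟩ := hm
  refine ⟨(↑u⁻¹ : A) * ∑ q : G ⧸ P, φ q, ?_, ?_⟩
  · intro g
    have hinv : g • (↑u⁻¹ : A) = ↑u⁻¹ := by
      have h1 : g • (u : A) = u := by
        rw [hu]; exact map_natCast (MulSemiringAction.toRingHom G A g) _
      have h2 : g • ((u : A) * ↑u⁻¹) = 1 := by rw [Units.mul_inv, smul_one]
      rw [smul_mul', h1] at h2
      calc g • (↑u⁻¹ : A) = ↑u⁻¹ * (↑u * g • (↑u⁻¹ : A)) := by
            rw [← mul_assoc, Units.inv_mul, one_mul]
        _ = ↑u⁻¹ := by rw [h2, mul_one]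
    rw [smul_mul', hinv, Finset.smul_sum]
    congr 1
    simp only [hφsmul]
    exact Fintype.sum_equiv (MulAction.toPerm g) _ _ (fun q => rfl)
  · -- congruence
    have hNf : N - f ^ Nat.card P ∈ I := by
      rw [← Ideal.Quotient.eq, map_pow]
      simp only [N, map_prod]
      have : ∀ h : P, Ideal.Quotient.mk I (h • f) = Ideal.Quotient.mk I f := fun h =>
        Ideal.Quotient.eq.mpr (hf h)
      simp only [this, Finset.prod_const, Finset.card_univ, Nat.card_eq_fintype_card]
    have hgN : ∀ g : G, g • N - f ^ Nat.card P ∈ I := by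
      intro g
      rw [← Ideal.Quotient.eq, map_pow]
      simp only [N, Finset.smul_prod', map_prod]
      have : ∀ h : P, Ideal.Quotient.mk I (g • h • f) = Ideal.Quotient.mk I f := fun h => by
        rw [Subgroup.smul_def, ← mul_smul]
        exact Ideal.Quotient.eq.mpr (hf _)
      simp only [this, Finset.prod_const, Finset.card_univ, Nat.card_eq_fintype_card]
    have hφq : ∀ q : G ⧸ P, Ideal.Quotient.mk I (φ q) = Ideal.Quotient.mk I (f ^ Nat.card P) := by
      intro q
      induction q using QuotientGroup.induction_on with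
      | H x => rw [hφ]; exact Ideal.Quotient.eq.mpr (hgN x)
    rw [← Ideal.Quotient.eq, map_mul, map_sum]
    simp only [hφq, Finset.sum_const, Finset.card_univ, nsmul_eq_mul]
    have hidx : (Fintype.card (G ⧸ P) : A) = u := by
      rw [hu, Subgroup.index_eq_card, Nat.card_eq_fintype_card]
    rw [← map_natCast (Ideal.Quotient.mk I), hidx, ← mul_assoc, ← map_mul, Units.inv_mul, map_one,
      one_mul]

end Groth.Agent.H65
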