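import Mathlib

/-!
# In characteristic zero, `d t ≠ 0` in `Ω[L⁄K]` for `t` transcendental over `K`
-/

set_option autoImplicit false
universe u

open MvPolynomial

namespace Groth.Agent.H65.KT

section

variable {K L : Type u} [Field K] [Field L] [Algebra K L]

/-- The derivation `∂/∂t₀` on `K[v] ⊆ L`, with values in `L`. -/
noncomputable def derivOn {ι : Type u} {v : ι → L} (hb : AlgebraicIndependent K v) (t₀ : ι) :
    Derivation K (Algebra.adjoin K (Set.range v)) L where
  toLinearMap := (aeval v).toLinearMap ∘ₗ (pderiv t₀).toLinearMap ∘ₗ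
    hb.aevalEquiv.symm.toLinearMap
  map_one_eq_zero' := by
    simp only [LinearMap.coe_comp, Function.comp_apply, AlgEquiv.toLinearMap_apply, map_one]
    change (aeval v) ((pderiv t₀) (1 : MvPolynomial ι K)) = 0
    rw [pderiv_one, map_zero]
  leibniz' a b := by
    simp only [LinearMap.coe_comp, Function.comp_apply, AlgEquiv.toLinearMap_apply, map_mul]
    change (aeval v) ((pderiv t₀) (hb.aevalEquiv.symm a * hb.aevalEquiv.symm b)) =
      a • (aeval v) ((pderiv t₀) (hb.aevalEquiv.symm b)) +
        b • (aeval v) ((pderiv t₀) (hb.aevalEquiv.symm a))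
    have ha : (aeval v) (hb.aevalEquiv.symm a) = (a : L) := by
      rw [← hb.algebraMap_aevalEquiv, AlgEquiv.apply_symm_apply]; rfl
    have hb' : (aeval v) (hb.aevalEquiv.symm b) = (b : L) := by
      rw [← hb.algebraMap_aevalEquiv, AlgEquiv.apply_symm_apply]; rfl
    rw [pderiv_mul, map_add, map_mul, map_mul, ha, hb', Algebra.smul_def, Algebra.smul_def]
    change _ = (a : L) * _ + (b : L) * _
    ring

theorem derivOn_gen {ι : Type u} {v : ι → L} (hb : AlgebraicIndependent K v) (t₀ : ι) :
    derivOn hb t₀ ⟨v t₀, Algebra.subset_adjoin ⟨t₀, rfl⟩⟩ = 1 := by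
  have h1 : hb.aevalEquiv.symm ⟨v t₀, Algebra.subset_adjoin ⟨t₀, rfl⟩⟩ = X t₀ := by
    rw [AlgEquiv.symm_apply_eq]
    apply Subtype.ext
    change v t₀ = algebraMap _ L (hb.aevalEquiv (X t₀))
    rw [hb.algebraMap_aevalEquiv, aeval_X]
  change (aeval v) ((pderiv t₀) (hb.aevalEquiv.symm ⟨v t₀, _⟩)) = 1
  rw [h1, pderiv_X_self, map_one]

open scoped IntermediateField.algebraAdjoinAdjoin in
theorem D_ne_zero_of_transcendental [CharZero K] (t : L) (ht : Transcendental K t) :
    KaehlerDifferential.D K L t ≠ 0 := by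
  have hs : AlgebraicIndepOn K id ({t} : Set L) := by
    change AlgebraicIndependent K (fun x : ({t} : Set L) => (x : L))
    rw [algebraicIndependent_unique_type_iff]
    exact ht
  obtain ⟨𝔅, h𝔅sub, h𝔅⟩ := exists_isTranscendenceBasis_superset hs
  have hb : AlgebraicIndependent K ((↑) : 𝔅 → L) := h𝔅.1
  let t₀ : 𝔅 := ⟨t, h𝔅sub rfl⟩
  have : Algebra.FormallyEtale (Algebra.adjoin K (Set.range ((↑) : 𝔅 → L)))
      (IntermediateField.adjoin K (Set.range ((↑) : 𝔅 → L))) :=
    .of_isLocalization (nonZeroDivisors _)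
  have : Algebra.IsAlgebraic (IntermediateField.adjoin K (Set.range ((↑) : 𝔅 → L))) L :=
    h𝔅.isAlgebraic_field
  have : Algebra.FormallyEtale (IntermediateField.adjoin K (Set.range ((↑) : 𝔅 → L))) L :=
    Algebra.FormallyEtale.of_isSeparable _ L
  have : Algebra.FormallyEtale (Algebra.adjoin K (Set.range ((↑) : 𝔅 → L))) L :=
    .comp _ (IntermediateField.adjoin K (Set.range ((↑) : 𝔅 → L))) _
  intro hD
  let ℓ := (derivOn hb t₀).liftKaehlerDifferential
  let Λ : Ω[L⁄K] →ₗ[L] L := (ℓ.liftBaseChange L) ∘ₗ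
    (KaehlerDifferential.tensorKaehlerEquivOfFormallyEtale K
      (Algebra.adjoin K (Set.range ((↑) : 𝔅 → L))) L).symm.toLinearMap
  have h1 : Λ (KaehlerDifferential.D K L (algebraMap (Algebra.adjoin K (Set.range ((↑) : 𝔅 → L))) L
      ⟨(t₀ : L), Algebra.subset_adjoin ⟨t₀, rfl⟩⟩)) = 1 := by
    simp only [Λ, LinearMap.coe_comp, Function.comp_apply, LinearEquiv.coe_coe]
    rw [KaehlerDifferential.tensorKaehlerEquivOfFormallyEtale_symm_D_algebraMap,
      LinearMap.liftBaseChange_tmul, one_smul]
    simp only [ℓ, Derivation.liftKaehlerDifferential_comp_D]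
    exact derivOn_gen hb t₀
  have h2 : algebraMap (Algebra.adjoin K (Set.range ((↑) : 𝔅 → L))) L
      ⟨(t₀ : L), Algebra.subset_adjoin ⟨t₀, rfl⟩⟩ = t := rfl
  rw [h2, hD, map_zero] at h1
  exact zero_ne_one h1

end

theorem main (R : Type u) [CommRing R] [IsDomain R]
    [IsDiscreteValuationRing R] [CharZero R] (K : Type u) [Field K] [Algebra R K] [IsFractionRing R K]
    (A : Type u) [CommRing A] [IsDomain A] [Algebra R A] [Module.FaithfullyFlat R A]
    (L : Type u) [Field L] [Algebra A L] [IsFractionRing A L] [Algebra R L] [Algebra K L]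
    [IsScalarTower R A L] [IsScalarTower R K L]
    (hac : ∀ x : L, IsAlgebraic K x → x ∈ (algebraMap K L).range)
    (f : A) (hf : KaehlerDifferential.D R A f = 0) : f ∈ (algebraMap R A).range := by
  have : CharZero K := charZero_of_injective_algebraMap (IsFractionRing.injective R K)
  have h1 : KaehlerDifferential.D K L (algebraMap A L f) = 0 := by
    have := congrArg (KaehlerDifferential.map R K A L) hf
    rwa [KaehlerDifferential.map_D, map_zero] at this
  have halg : IsAlgebraic K (algebraMap A L f) := by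
    by_contra h
    exact D_ne_zero_of_transcendental _ h h1
  obtain ⟨κ, hκ⟩ := hac _ halg
  obtain ⟨ϖ, hϖ⟩ := IsDiscreteValuationRing.exists_irreducible R
  have hinjRA : Function.Injective (algebraMap R A) :=
    FaithfulSMul.algebraMap_injective R A
  have hinjAL : Function.Injective (algebraMap A L) := IsFractionRing.injective A L
  have hϖA : algebraMap R A ϖ ≠ 0 := by
    rw [Ne, map_eq_zero_iff _ hinjRA]; exact hϖ.ne_zero
  have hclaim : ∀ (n : ℕ) (r : R), algebraMap R A r = algebraMap R A (ϖ ^ n) * f →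
      ∃ r' : R, algebraMap R A r' = f := by
    intro n
    induction n with
    | zero =>
      intro r hr
      exact ⟨r, by rw [hr, pow_zero, map_one, one_mul]⟩
    | succ n ih =>
      intro r hr
      have hmem : r ∈ ((Ideal.span {ϖ}).map (algebraMap R A)).comap (algebraMap R A) := by
        rw [Ideal.mem_comap, hr, pow_succ', map_mul, mul_assoc]
        exact Ideal.mul_mem_right _ _ (Ideal.mem_map_of_mem _ (Ideal.mem_span_singleton_self ϖ))
      rw [Ideal.comap_map_eq_self_of_faithfullyFlat, Ideal.mem_span_singleton'] at hmem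
      obtain ⟨r₁, rfl⟩ := hmem
      apply ih r₁
      have : algebraMap R A ϖ * (algebraMap R A r₁ - algebraMap R A (ϖ ^ n) * f) = 0 := by
        rw [map_mul] at hr
        rw [pow_succ', map_mul] at hr
        linear_combination hr
      rcases mul_eq_zero.1 this with h | h
      · exact absurd h hϖA
      · exact sub_eq_zero.1 h
  obtain ⟨⟨r, s⟩, hrs⟩ := IsLocalization.surj (nonZeroDivisors R) κ
  have hs0 : (s : R) ≠ 0 := nonZeroDivisors.ne_zero s.2
  obtain ⟨n, u, hu⟩ := IsDiscreteValuationRing.eq_unit_mul_pow_irreducible hs0 hϖ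
  have h2 : f * algebraMap R A (s : R) = algebraMap R A r := by
    apply hinjAL
    have := congrArg (algebraMap K L) hrs
    rw [map_mul, hκ, ← IsScalarTower.algebraMap_apply, ← IsScalarTower.algebraMap_apply,
      IsScalarTower.algebraMap_apply R A L, IsScalarTower.algebraMap_apply R A L r, ← map_mul] at this
    exact this
  obtain ⟨r', hr'⟩ := hclaim n ((↑u⁻¹ : R) * r) (by
    rw [map_mul, ← h2, hu, map_mul]
    have : algebraMap R A (↑u⁻¹ : R) * algebraMap R A (u : R) = 1 := by
      rw [← map_mul, Units.inv_mul, map_one]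
    linear_combination (f * algebraMap R A (ϖ ^ n)) * this)
  exact ⟨r', hr'⟩

end Groth.Agent.H65.KT
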