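import Mathlib

/-!
# Parity decomposition of polynomials in two variables

Every `p : R[u, v]` is uniquely `E α + u E β + v E γ + u v E δ` with `E = expand 2`.
-/

namespace Groth.Agent.H65.Par

open MvPolynomial

section general

variable {σ : Type*} {R : Type*} [CommRing R]

lemma coeff_mon_mul_expand_same (ε m : σ →₀ ℕ) (q : MvPolynomial σ R) :
    coeff (2 • m + ε) (monomial ε 1 * expand 2 q) = coeff m q := by
  rw [coeff_monomial_mul', if_pos (le_add_left le_rfl), add_tsub_cancel_right, one_mul,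
    coeff_expand_smul 2 two_ne_zero]

lemma coeff_mon_mul_expand_diff (ε ε' m : σ →₀ ℕ) (j : σ) (hj : ε j + ε' j = 1)
    (q : MvPolynomial σ R) :
    coeff (2 • m + ε) (monomial ε' 1 * expand 2 q) = 0 := by
  rw [coeff_monomial_mul']
  split_ifs with h
  · rw [coeff_expand_of_not_dvd (i := j), mul_zero]
    have hj' := h j
    simp only [Finsupp.coe_add, Finsupp.coe_smul, Pi.add_apply, Pi.smul_apply, smul_eq_mul,
      Finsupp.coe_tsub, Pi.sub_apply] at hj' ⊢
    omega
  · rfl

end general

section two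

variable {R : Type*} [CommRing R]

local notation "P" => MvPolynomial (Fin 2) R

lemma X0_eq : (X 0 : P) = monomial (Finsupp.single 0 1) 1 := rfl
lemma X1_eq : (X 1 : P) = monomial (Finsupp.single 1 1) 1 := rfl
lemma X0X1_eq : (X 0 * X 1 : P) = monomial (Finsupp.single 0 1 + Finsupp.single 1 1) 1 := by
  rw [X0_eq, X1_eq, monomial_mul, mul_one]
lemma one_eq : (1 : P) = monomial 0 1 := rfl

/-- uniqueness of the parity decomposition -/
theorem parity_unique (α β γ δ : P)
    (h : expand 2 α + X 0 * expand 2 β + X 1 * expand 2 γ + X 0 * X 1 * expand 2 δ = 0) :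
    α = 0 ∧ β = 0 ∧ γ = 0 ∧ δ = 0 := by
  have h' : monomial 0 1 * expand 2 α + monomial (Finsupp.single 0 1) 1 * expand 2 β +
      monomial (Finsupp.single 1 1) 1 * expand 2 γ +
      monomial (Finsupp.single 0 1 + Finsupp.single 1 1) 1 * expand 2 δ = 0 := by
    rw [← X0X1_eq, ← X0_eq, ← X1_eq, ← one_eq, one_mul]; exact h
  refine ⟨?_, ?_, ?_, ?_⟩
  · ext m
    have := congrArg (coeff (2 • m + (0 : Fin 2 →₀ ℕ))) h'
    rw [coeff_add, coeff_add, coeff_add, coeff_mon_mul_expand_same,
      coeff_mon_mul_expand_diff _ _ _ 0 (by simp),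
      coeff_mon_mul_expand_diff _ _ _ 1 (by simp),
      coeff_mon_mul_expand_diff _ _ _ 0 (by simp)] at this
    simpa using this
  · ext m
    have := congrArg (coeff (2 • m + (Finsupp.single 0 1 : Fin 2 →₀ ℕ))) h'
    rw [coeff_add, coeff_add, coeff_add, coeff_mon_mul_expand_same,
      coeff_mon_mul_expand_diff _ _ _ 0 (by simp),
      coeff_mon_mul_expand_diff _ _ _ 0 (by simp),
      coeff_mon_mul_expand_diff _ _ _ 1 (by simp)] at this
    simpa using this
  · ext m
    have := congrArg (coeff (2 • m + (Finsupp.single 1 1 : Fin 2 →₀ ℕ))) h'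
    rw [coeff_add, coeff_add, coeff_add, coeff_mon_mul_expand_same,
      coeff_mon_mul_expand_diff _ _ _ 1 (by simp),
      coeff_mon_mul_expand_diff _ _ _ 0 (by simp),
      coeff_mon_mul_expand_diff _ _ _ 0 (by simp)] at this
    simpa using this
  · ext m
    have := congrArg (coeff (2 • m + (Finsupp.single 0 1 + Finsupp.single 1 1 : Fin 2 →₀ ℕ))) h'
    rw [coeff_add, coeff_add, coeff_add, coeff_mon_mul_expand_same,
      coeff_mon_mul_expand_diff _ _ _ 0 (by simp),
      coeff_mon_mul_expand_diff _ _ _ 1 (by simp),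
      coeff_mon_mul_expand_diff _ _ _ 0 (by simp)] at this
    simpa using this

/-- existence of the parity decomposition -/
theorem parity_exists (p : P) : ∃ α β γ δ : P,
    p = expand 2 α + X 0 * expand 2 β + X 1 * expand 2 γ + X 0 * X 1 * expand 2 δ := by
  induction p using MvPolynomial.induction_on with
  | C a => exact ⟨C a, 0, 0, 0, by simp⟩
  | add p q hp hq =>
    obtain ⟨α, β, γ, δ, rfl⟩ := hp
    obtain ⟨α', β', γ', δ', rfl⟩ := hq
    exact ⟨α + α', β + β', γ + γ', δ + δ', by simp only [map_add]; ring⟩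
  | mul_X p j hp =>
    obtain ⟨α, β, γ, δ, rfl⟩ := hp
    fin_cases j
    · refine ⟨X 0 * β, α, X 0 * δ, γ, ?_⟩
      simp only [map_mul, expand_X, Fin.zero_eta]; ring
    · refine ⟨X 1 * γ, X 1 * δ, α, β, ?_⟩
      simp only [map_mul, expand_X, Fin.mk_one]; ring

end two

end Groth.Agent.H65.Par
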