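import Mathlib
import Groth.Agent.H65.Parity2

/-!
# Kernel of `R[a,b,c] → R[u,v]`, `a ↦ u², b ↦ v², c ↦ g` for `g` without even-even part
-/

namespace Groth.Agent.H65.Kum

open MvPolynomial

variable {R : Type*} [CommRing R]

/-- `R[a,b,c] → R[a,b][c]` -/
noncomputable def theta : MvPolynomial (Fin 3) R →ₐ[R] Polynomial (MvPolynomial (Fin 2) R) :=
  aeval ![Polynomial.C (X 0), Polynomial.C (X 1), Polynomial.X]

/-- `R[a,b] → R[a,b,c]` -/
noncomputable def inc : MvPolynomial (Fin 2) R →ₐ[R] MvPolynomial (Fin 3) R :=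
  aeval ![X 0, X 1]

/-- `R[a,b][c] → R[a,b,c]` -/
noncomputable def theta' : Polynomial (MvPolynomial (Fin 2) R) →+* MvPolynomial (Fin 3) R :=
  Polynomial.eval₂RingHom ((inc (R := R)) : MvPolynomial (Fin 2) R →+* MvPolynomial (Fin 3) R) (X 2)

lemma theta'_theta (p : MvPolynomial (Fin 3) R) : theta' (theta p) = p := by
  have : (theta' (R := R)).comp ((theta (R := R)) : MvPolynomial (Fin 3) R →+* _) = RingHom.id _ := by
    apply MvPolynomial.ringHom_ext
    · intro r
      simp [theta, theta', inc, Polynomial.algebraMap_apply]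
    · intro j
      fin_cases j <;> simp [theta, theta', inc]
  exact RingHom.congr_fun this p

/-- `R[a,b][c] → R[u,v]`, `a ↦ u², b ↦ v², c ↦ g` -/
noncomputable def phiT (g : MvPolynomial (Fin 2) R) :
    Polynomial (MvPolynomial (Fin 2) R) →+* MvPolynomial (Fin 2) R :=
  Polynomial.eval₂RingHom ((expand 2 : MvPolynomial (Fin 2) R →ₐ[R] MvPolynomial (Fin 2) R) :
    MvPolynomial (Fin 2) R →+* MvPolynomial (Fin 2) R) g

lemma phi_eq (g : MvPolynomial (Fin 2) R) (p : MvPolynomial (Fin 3) R) :
    aeval ![X 0 ^ 2, X 1 ^ 2, g] p = phiT g (theta p) := by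
  have : ((aeval ![X 0 ^ 2, X 1 ^ 2, g] : MvPolynomial (Fin 3) R →ₐ[R] MvPolynomial (Fin 2) R) :
      MvPolynomial (Fin 3) R →+* MvPolynomial (Fin 2) R) =
      (phiT g).comp ((theta (R := R)) : MvPolynomial (Fin 3) R →+* _) := by
    apply MvPolynomial.ringHom_ext
    · intro r
      simp [theta, phiT, Polynomial.algebraMap_apply]
    · intro j
      fin_cases j <;> simp [theta, phiT]
  exact RingHom.congr_fun this p

theorem ker_phiT (g G' β γ δ : MvPolynomial (Fin 2) R)
    (hg : g = X 0 * expand 2 β + X 1 * expand 2 γ + X 0 * X 1 * expand 2 δ)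
    (hδ : ∀ r : MvPolynomial (Fin 2) R, r * δ = 0 → r = 0)
    (hG : g ^ 2 + expand 2 G' = 0) :
    RingHom.ker (phiT g) = Ideal.span {Polynomial.X ^ 2 + Polynomial.C G'} := by
  rcases subsingleton_or_nontrivial R with hR | hR
  · apply Subsingleton.elim
  apply le_antisymm
  · intro q hq
    rw [RingHom.mem_ker] at hq
    set m : Polynomial (MvPolynomial (Fin 2) R) := Polynomial.X ^ 2 + Polynomial.C G' with hm
    have hmon : m.Monic := Polynomial.monic_X_pow_add_C G' two_ne_zero
    have hdiv := Polynomial.modByMonic_add_div q m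
    set r := q %ₘ m with hr
    have hm0 : phiT g m = 0 := by
      simp [phiT, hm, hG]
    have hr0 : phiT g r = 0 := by
      have := congrArg (phiT g) hdiv
      rw [map_add, map_mul, hm0, zero_mul, add_zero, hq] at this
      exact this
    have hdeg : r.natDegree ≤ 1 := by
      have h1 : r.degree < m.degree := Polynomial.degree_modByMonic_lt q hmon
      have h2 : m.degree = 2 := by
        rw [hm]; exact Polynomial.degree_X_pow_add_C (by norm_num) G'
      rw [h2] at h1
      by_cases hr0 : r = 0
      · rw [hr0]; simp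
      · have : r.natDegree < 2 :=
          (Polynomial.natDegree_lt_iff_degree_lt hr0).2 (by exact_mod_cast h1)
        omega
    have hrform := Polynomial.eq_X_add_C_of_natDegree_le_one hdeg
    rw [hrform] at hr0
    simp only [phiT, Polynomial.coe_eval₂RingHom, Polynomial.eval₂_add, Polynomial.eval₂_mul,
      Polynomial.eval₂_C, Polynomial.eval₂_X] at hr0
    have hpar : expand 2 (r.coeff 0) + X 0 * expand 2 (r.coeff 1 * β) +
        X 1 * expand 2 (r.coeff 1 * γ) + X 0 * X 1 * expand 2 (r.coeff 1 * δ) = 0 := by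
      have e : expand 2 (r.coeff 1) * g + expand 2 (r.coeff 0) = 0 := hr0
      rw [hg] at e
      simp only [map_mul]
      linear_combination e
    obtain ⟨h0, -, -, h1⟩ := Par.parity_unique _ _ _ _ hpar
    have h1' := hδ _ h1
    have hrz : r = 0 := by rw [hrform, h0, h1']; simp
    rw [hrz, zero_add] at hdiv
    rw [← hdiv]
    exact Ideal.mul_mem_right _ _ (Ideal.subset_span rfl)
  · rw [Ideal.span_le, Set.singleton_subset_iff, SetLike.mem_coe, RingHom.mem_ker]
    simp [phiT, hG]

theorem ker_aeval (g G' β γ δ : MvPolynomial (Fin 2) R)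
    (hg : g = X 0 * expand 2 β + X 1 * expand 2 γ + X 0 * X 1 * expand 2 δ)
    (hδ : ∀ r : MvPolynomial (Fin 2) R, r * δ = 0 → r = 0)
    (hG : g ^ 2 + expand 2 G' = 0) :
    RingHom.ker (aeval ![X 0 ^ 2, X 1 ^ 2, g] :
      MvPolynomial (Fin 3) R →ₐ[R] MvPolynomial (Fin 2) R) = Ideal.span {X 2 ^ 2 + inc G'} := by
  have hk := ker_phiT g G' β γ δ hg hδ hG
  have hθm : theta' (Polynomial.X ^ 2 + Polynomial.C G' : Polynomial (MvPolynomial (Fin 2) R)) =
      X 2 ^ 2 + inc G' := by
    simp [theta']
  apply le_antisymm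
  · intro p hp
    rw [RingHom.mem_ker, phi_eq] at hp
    have h1 : theta p ∈ RingHom.ker (phiT g) := hp
    rw [hk] at h1
    obtain ⟨s, hs⟩ := Ideal.mem_span_singleton'.1 h1
    have := congrArg theta' hs
    rw [map_mul, hθm, theta'_theta] at this
    rw [← this]
    exact Ideal.mul_mem_left _ _ (Ideal.subset_span rfl)
  · rw [Ideal.span_le, Set.singleton_subset_iff, SetLike.mem_coe, RingHom.mem_ker, phi_eq]
    have : theta (X 2 ^ 2 + inc G' : MvPolynomial (Fin 3) R) =
        Polynomial.X ^ 2 + Polynomial.C G' := by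
      have hinc : ∀ q : MvPolynomial (Fin 2) R, theta (inc q) = Polynomial.C q := by
        intro q
        induction q using MvPolynomial.induction_on with
        | C a => simp [theta, inc, Polynomial.algebraMap_apply]
        | add p q hp hq => simp [map_add, hp, hq]
        | mul_X p j hp =>
          rw [map_mul, map_mul, hp]
          fin_cases j <;> simp [theta, inc]
      rw [map_add, map_pow, hinc]
      simp [theta]
    rw [this]
    have h2 : (Polynomial.X ^ 2 + Polynomial.C G' : Polynomial (MvPolynomial (Fin 2) R)) ∈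
        RingHom.ker (phiT g) := by rw [hk]; exact Ideal.subset_span rfl
    exact h2

end Groth.Agent.H65.Kum
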