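import Mathlib
import Groth.Agent.H65.Parity2
import Groth.Agent.H65.KumKer

/-!
# Derivations of `R[u,v]` in characteristic two and the parity decomposition
-/

namespace Groth.Agent.H65.Kum

open MvPolynomial

variable {R : Type*} [CommRing R] [CharP R 2]

lemma two_eq_zero' : (2 : MvPolynomial (Fin 2) R) = 0 := by
  have h2R : (2 : R) = 0 := by exact_mod_cast CharP.cast_eq_zero R 2
  have e : (C (2 : R) : MvPolynomial (Fin 2) R) = 2 := map_ofNat C 2
  rw [← e, h2R, map_zero]

lemma der_sq (D : Derivation R (MvPolynomial (Fin 2) R) (MvPolynomial (Fin 2) R))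
    (a : MvPolynomial (Fin 2) R) : D (a ^ 2) = 0 := by
  rw [Derivation.leibniz_pow]
  have : (2 : ℕ) • (a ^ (2 - 1) • D a) = (2 : MvPolynomial (Fin 2) R) * (a ^ (2 - 1) • D a) := by
    rw [nsmul_eq_mul]; norm_num
  rw [this, two_eq_zero', zero_mul]

lemma der_expand (D : Derivation R (MvPolynomial (Fin 2) R) (MvPolynomial (Fin 2) R))
    (q : MvPolynomial (Fin 2) R) : D (expand 2 q) = 0 := by
  induction q using MvPolynomial.induction_on with
  | C a =>
    rw [expand_C]
    exact D.map_algebraMap a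
  | add p q hp hq => rw [map_add, map_add, hp, hq, add_zero]
  | mul_X p j hp =>
    rw [map_mul, expand_X, Derivation.leibniz, hp, der_sq, smul_zero, smul_zero, add_zero]

lemma der_parity (D : Derivation R (MvPolynomial (Fin 2) R) (MvPolynomial (Fin 2) R))
    (α β γ δ : MvPolynomial (Fin 2) R) :
    D (expand 2 α + X 0 * expand 2 β + X 1 * expand 2 γ + X 0 * X 1 * expand 2 δ) =
      expand 2 β * D (X 0) + expand 2 γ * D (X 1) +
        expand 2 δ * (X 0 * D (X 1) + X 1 * D (X 0)) := by
  simp only [map_add, Derivation.leibniz, der_expand, smul_zero, add_zero, zero_add, smul_eq_mul]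
  ring

/-- `φ (inc q) = expand 2 q` -/
lemma aeval_inc (g q : MvPolynomial (Fin 2) R) :
    aeval ![X 0 ^ 2, X 1 ^ 2, g] (inc q) = expand 2 q := by
  have : ((aeval ![X 0 ^ 2, X 1 ^ 2, g] : MvPolynomial (Fin 3) R →ₐ[R] MvPolynomial (Fin 2) R).comp
      (inc (R := R))) = expand 2 := by
    apply MvPolynomial.algHom_ext
    intro j
    fin_cases j <;> simp [inc]
  exact DFunLike.congr_fun this q

end Groth.Agent.H65.Kum
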