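import Mathlib

namespace Groth.Agent.H65

variable {R : Type*} [CommRing R] {M : Type*} [AddCommGroup M] [Module R M]

theorem basis3_expand (bs : Module.Basis (Fin 3) R M) (u : M) :
    u = bs.repr u 0 • bs 0 + bs.repr u 1 • bs 1 + bs.repr u 2 • bs 2 := by
  conv_lhs => rw [← bs.sum_repr u, Fin.sum_univ_three]

theorem basis3_coord (bs : Module.Basis (Fin 3) R M) {r0 r1 r2 s0 s1 s2 : R}
    (h : r0 • bs 0 + r1 • bs 1 + r2 • bs 2 = s0 • bs 0 + s1 • bs 1 + s2 • bs 2) :
    r0 = s0 ∧ r1 = s1 ∧ r2 = s2 := by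
  have hrepr := congrArg bs.repr h
  simp only [map_add, map_smul, Module.Basis.repr_self] at hrepr
  refine ⟨?_, ?_, ?_⟩
  · simpa using DFunLike.congr_fun hrepr 0
  · simpa using DFunLike.congr_fun hrepr 1
  · simpa using DFunLike.congr_fun hrepr 2

end Groth.Agent.H65
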