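import Mathlib
import Groth.Prelude.Def_W4c1bouilletffgsL3

/-!
# Lie3Mod: basic facts on the ideals `I`, `L`, `J`

`psiL` is the substitution `a ↦ i, b ↦ -f, d ↦ -h` whose kernel is `L`; `det M` is regular modulo
`L`; `L * J ≤ I`; consequently `I = J ⊓ L` and `(I : J) = L` over every commutative ring.
-/

namespace Groth.Agent.H65.L3

open MvPolynomial Lie3Mod

variable (A : Type*) [CommRing A]

/-- substitution a ↦ i, b ↦ -f, d ↦ -h -/
noncomputable def psiL : D A →ₐ[A] D A :=
  aeval ![X 8, -X 5, X 2, -X 7, X 4, X 5, X 6, X 7, X 8]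

lemma psiL_sub_mem (p : D A) : p - psiL A p ∈ idL A := by
  induction p using MvPolynomial.induction_on with
  | C a => simp [psiL]
  | add p q hp hq =>
    rw [map_add]
    have : p + q - (psiL A p + psiL A q) = (p - psiL A p) + (q - psiL A q) := by ring
    rw [this]; exact add_mem hp hq
  | mul_X p j hp =>
    rw [map_mul]
    have hj : X j - psiL A (X j) ∈ idL A := by
      have h1 : (X 0 - X 8 : D A) ∈ idL A := Ideal.subset_span (by simp [L1])
      have h2 : (X 1 + X 5 : D A) ∈ idL A := Ideal.subset_span (by simp [L2])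
      have h3 : (X 3 + X 7 : D A) ∈ idL A := Ideal.subset_span (by simp [L3])
      fin_cases j <;> simp [psiL] <;> assumption
    have : p * X j - psiL A p * psiL A (X j) =
        (p - psiL A p) * X j + psiL A p * (X j - psiL A (X j)) := by ring
    rw [this]; exact add_mem (Ideal.mul_mem_right _ _ hp) (Ideal.mul_mem_left _ _ hj)

lemma psiL_eq_zero_iff (p : D A) : psiL A p = 0 ↔ p ∈ idL A := by
  constructor
  · intro hp
    have := psiL_sub_mem A p
    rwa [hp, sub_zero] at this
  · intro hp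
    have hle : idL A ≤ RingHom.ker (psiL A : D A →+* D A) := by
      rw [idL, Ideal.span_le]
      intro q hq
      simp only [Set.mem_insert_iff, Set.mem_singleton_iff] at hq
      rcases hq with rfl | rfl | rfl <;> simp [RingHom.mem_ker, psiL, L1, L2, L3]
    exact hle hp

noncomputable def e0 : Fin 9 →₀ ℕ := Finsupp.single 2 1 + Finsupp.single 4 1 + Finsupp.single 6 1
noncomputable def e1 : Fin 9 →₀ ℕ := Finsupp.single 2 1 + Finsupp.single 7 2
noncomputable def e2 : Fin 9 →₀ ℕ := Finsupp.single 5 2 + Finsupp.single 6 1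
noncomputable def e3 : Fin 9 →₀ ℕ := Finsupp.single 4 1 + Finsupp.single 8 2
noncomputable def e4 : Fin 9 →₀ ℕ := Finsupp.single 5 1 + Finsupp.single 7 1 + Finsupp.single 8 1

lemma mon0 : (monomial e0 (1 : A)) = X 2 * X 4 * X 6 := by
  simp only [e0, X, monomial_mul, mul_one]
lemma mon1 : (monomial e1 (1 : A)) = X 2 * X 7 ^ 2 := by
  rw [e1, X_pow_eq_monomial]
  simp only [X, monomial_mul, mul_one]
lemma mon2 : (monomial e2 (1 : A)) = X 5 ^ 2 * X 6 := by
  rw [e2, X_pow_eq_monomial]
  simp only [X, monomial_mul, mul_one]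
lemma mon3 : (monomial e3 (1 : A)) = X 4 * X 8 ^ 2 := by
  rw [e3, X_pow_eq_monomial]
  simp only [X, monomial_mul, mul_one]
lemma mon4 : (monomial e4 (1 : A)) = X 5 * X 7 * X 8 := by
  simp only [e4, X, monomial_mul, mul_one]

lemma psiL_detM : psiL A (detM A) = monomial e0 (-1) +
    (monomial e1 (-1) + monomial e2 (-1) + monomial e3 1 + monomial e4 (-2)) := by
  have h2 : (monomial e4 (-2 : A)) = -2 * monomial e4 1 := by
    have hC : (C (-2 : A) : D A) = -2 := by
      rw [map_neg, map_ofNat]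
    rw [← hC, C_mul_monomial, mul_one]
  rw [h2, map_neg, map_neg, map_neg, mon0, mon1, mon2, mon3, mon4]
  simp only [psiL, detM, map_add, map_sub, map_neg, map_mul, map_pow, aeval_X]
  simp
  ring

section lex

open MonomialOrder

lemma lex_add_lt {f g : MvPolynomial (Fin 9) A} {d : Fin 9 →₀ ℕ}
    (hf : (MonomialOrder.lex (σ := Fin 9)).degree f ≺[MonomialOrder.lex] d)
    (hg : (MonomialOrder.lex (σ := Fin 9)).degree g ≺[MonomialOrder.lex] d) :
    (MonomialOrder.lex (σ := Fin 9)).degree (f + g) ≺[MonomialOrder.lex] d :=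
  lt_of_le_of_lt (MonomialOrder.degree_add_le) (sup_lt_iff.2 ⟨hf, hg⟩)

lemma k1 : e1 ≺[MonomialOrder.lex (σ := Fin 9)] e0 := by
  rw [MonomialOrder.lex_lt_iff]
  refine ⟨4, ?_, ?_⟩
  · intro j hj
    fin_cases j <;> first | (simp [e0, e1]; done) | (exact absurd hj (by decide))
  · simp [e0, e1]

lemma k2 : e2 ≺[MonomialOrder.lex (σ := Fin 9)] e0 := by
  rw [MonomialOrder.lex_lt_iff]
  refine ⟨2, ?_, ?_⟩
  · intro j hj
    fin_cases j <;> first | (simp [e0, e2]; done) | (exact absurd hj (by decide))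
  · simp [e0, e2]

lemma k3 : e3 ≺[MonomialOrder.lex (σ := Fin 9)] e0 := by
  rw [MonomialOrder.lex_lt_iff]
  refine ⟨2, ?_, ?_⟩
  · intro j hj
    fin_cases j <;> first | (simp [e0, e3]; done) | (exact absurd hj (by decide))
  · simp [e0, e3]

lemma k4 : e4 ≺[MonomialOrder.lex (σ := Fin 9)] e0 := by
  rw [MonomialOrder.lex_lt_iff]
  refine ⟨2, ?_, ?_⟩
  · intro j hj
    fin_cases j <;> first | (simp [e0, e4]; done) | (exact absurd hj (by decide))
  · simp [e0, e4]

lemma psiL_detM_regular (t : D A) (ht : psiL A (detM A) * t = 0) : t = 0 := by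
  classical
  rcases subsingleton_or_nontrivial A with hA | hA
  · exact Subsingleton.elim _ _
  set m := MonomialOrder.lex (σ := Fin 9) with hm
  have h0 : m.degree (monomial e0 (-1 : A)) = e0 := by
    rw [degree_monomial, if_neg (neg_ne_zero.2 one_ne_zero)]
  have hmon : ∀ (e : Fin 9 →₀ ℕ) (c : A), e ≺[m] e0 → m.degree (monomial e c) ≺[m] e0 :=
    fun e c h => lt_of_le_of_lt (degree_monomial_le c) h
  have hlt : m.degree (monomial e1 (-1 : A) + monomial e2 (-1) + monomial e3 1 + monomial e4 (-2))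
      ≺[m] m.degree (monomial e0 (-1 : A)) := by
    rw [h0]
    exact lex_add_lt A (lex_add_lt A (lex_add_lt A (hmon _ _ k1) (hmon _ _ k2)) (hmon _ _ k3))
      (hmon _ _ k4)
  have hlc : m.leadingCoeff (psiL A (detM A)) = -1 := by
    rw [psiL_detM, leadingCoeff_add_of_lt hlt, leadingCoeff_monomial]
  have hreg : IsRegular (m.leadingCoeff (psiL A (detM A))) := by
    rw [hlc]; exact (isUnit_one.neg).isRegular
  have h := m.leadingCoeff_mul_of_isRegular_left hreg (g := t)
  rw [ht, leadingCoeff_zero, hlc] at h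
  have : m.leadingCoeff t = 0 := by
    have := congrArg (fun x => -x) h
    simpa using this.symm
  exact (m.leadingCoeff_eq_zero_iff).1 this

end lex

/-- `det M` is a nonzerodivisor modulo `L`. -/
lemma detM_regular_mod_L (t : D A) (ht : t * detM A ∈ idL A) : t ∈ idL A := by
  rw [← psiL_eq_zero_iff] at ht ⊢
  rw [map_mul, mul_comm] at ht
  exact psiL_detM_regular A _ ht

lemma L1_mul_detM : L1 A * detM A = (X 8 * X 1 - X 7 * X 2) * Q1 A + (X 6 * X 2 - X 8 ^ 2) * Q2 A +
    (X 7 * X 8 - X 6 * X 1) * Q3 A := by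
  simp only [L1, detM, Q1, Q2, Q3]; ring

lemma L2_mul_detM : L2 A * detM A = (X 4 * X 2 - X 1 * X 5) * Q1 A + (X 7 * X 2 + X 8 * X 5) * Q2 A -
    (X 7 * X 1 + X 8 * X 4) * Q3 A := by
  simp only [L2, detM, Q1, Q2, Q3]; ring

lemma L3_mul_detM : L3 A * detM A = (X 4 * X 8 - X 7 * X 5) * Q1 A + (X 7 * X 8 + X 6 * X 5) * Q2 A -
    (X 7 ^ 2 + X 6 * X 4) * Q3 A := by
  simp only [L3, detM, Q1, Q2, Q3]; ring

lemma Q1_mem_I : Q1 A ∈ idI A := Ideal.subset_span (by simp)
lemma Q2_mem_I : Q2 A ∈ idI A := Ideal.subset_span (by simp)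
lemma Q3_mem_I : Q3 A ∈ idI A := Ideal.subset_span (by simp)

lemma idI_le_idJ : idI A ≤ idJ A := by
  rw [idI, idJ]; apply Ideal.span_mono; intro x hx
  simp only [Set.mem_insert_iff, Set.mem_singleton_iff] at hx ⊢
  tauto

lemma detM_mem_J : detM A ∈ idJ A := Ideal.subset_span (by simp)

lemma Q1_eq : Q1 A = X 7 * L1 A - X 6 * L2 A + X 8 * L3 A := by
  simp only [L1, L2, L3, Q1]; ring
lemma Q2_eq : Q2 A = -X 4 * L1 A - X 7 * L2 A + X 1 * L3 A := by
  simp only [L1, L2, L3, Q2]; ring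
lemma Q3_eq : Q3 A = -X 5 * L1 A - X 8 * L2 A + X 2 * L3 A := by
  simp only [L1, L2, L3, Q3]; ring

lemma L1_mem_L : L1 A ∈ idL A := Ideal.subset_span (by simp)
lemma L2_mem_L : L2 A ∈ idL A := Ideal.subset_span (by simp)
lemma L3_mem_L : L3 A ∈ idL A := Ideal.subset_span (by simp)

lemma idI_le_idL : idI A ≤ idL A := by
  rw [idI, Ideal.span_le]
  intro x hx
  simp only [Set.mem_insert_iff, Set.mem_singleton_iff] at hx
  have h1 := L1_mem_L A; have h2 := L2_mem_L A; have h3 := L3_mem_L A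
  rcases hx with rfl | rfl | rfl
  · rw [Q1_eq]
    exact add_mem (sub_mem (Ideal.mul_mem_left _ _ h1) (Ideal.mul_mem_left _ _ h2))
      (Ideal.mul_mem_left _ _ h3)
  · rw [Q2_eq]
    exact add_mem (sub_mem (Ideal.mul_mem_left _ _ h1) (Ideal.mul_mem_left _ _ h2))
      (Ideal.mul_mem_left _ _ h3)
  · rw [Q3_eq]
    exact add_mem (sub_mem (Ideal.mul_mem_left _ _ h1) (Ideal.mul_mem_left _ _ h2))
      (Ideal.mul_mem_left _ _ h3)

/-- `l * det M ∈ I` for `l ∈ L`. -/
lemma mul_detM_mem_I {l : D A} (hl : l ∈ idL A) : l * detM A ∈ idI A := by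
  have h1 := Q1_mem_I A; have h2 := Q2_mem_I A; have h3 := Q3_mem_I A
  rw [idL] at hl
  induction hl using Submodule.span_induction with
  | mem x hx =>
    simp only [Set.mem_insert_iff, Set.mem_singleton_iff] at hx
    rcases hx with rfl | rfl | rfl
    · rw [L1_mul_detM]
      exact add_mem (add_mem (Ideal.mul_mem_left _ _ h1) (Ideal.mul_mem_left _ _ h2))
        (Ideal.mul_mem_left _ _ h3)
    · rw [L2_mul_detM]
      exact sub_mem (add_mem (Ideal.mul_mem_left _ _ h1) (Ideal.mul_mem_left _ _ h2))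
        (Ideal.mul_mem_left _ _ h3)
    · rw [L3_mul_detM]
      exact sub_mem (add_mem (Ideal.mul_mem_left _ _ h1) (Ideal.mul_mem_left _ _ h2))
        (Ideal.mul_mem_left _ _ h3)
  | zero => simp
  | add x y _ _ hx hy => rw [add_mul]; exact add_mem hx hy
  | smul a x _ hx => rw [smul_eq_mul, mul_assoc]; exact Ideal.mul_mem_left _ _ hx

/-- every element of `J` is an element of `I` plus a multiple of `det M`. -/
lemma exists_of_mem_J {p : D A} (hp : p ∈ idJ A) : ∃ q ∈ idI A, ∃ t : D A, p = q + t * detM A := by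
  rw [idJ] at hp
  have hJ : Ideal.span {Q1 A, Q2 A, Q3 A, detM A} = idI A ⊔ Ideal.span {detM A} := by
    rw [idI, ← Ideal.span_union]
    congr 1
    ext x; simp only [Set.mem_insert_iff, Set.mem_singleton_iff, Set.union_singleton]
    tauto
  rw [hJ, Submodule.mem_sup] at hp
  obtain ⟨q, hq, r, hr, rfl⟩ := hp
  obtain ⟨t, rfl⟩ := Ideal.mem_span_singleton'.1 hr
  exact ⟨q, hq, t, rfl⟩

/-- `L * J ≤ I`. -/
lemma mul_mem_I_of_mem_L_of_mem_J {l p : D A} (hl : l ∈ idL A) (hp : p ∈ idJ A) :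
    l * p ∈ idI A := by
  obtain ⟨q, hq, t, rfl⟩ := exists_of_mem_J A hp
  rw [mul_add]
  refine add_mem (Ideal.mul_mem_left _ _ hq) ?_
  have : l * (t * detM A) = t * (l * detM A) := by ring
  rw [this]
  exact Ideal.mul_mem_left _ _ (mul_detM_mem_I A hl)

/-- `I = J ⊓ L` over every commutative ring. -/
theorem idI_eq_inf : idI A = idJ A ⊓ idL A := by
  apply le_antisymm
  · exact le_inf (idI_le_idJ A) (idI_le_idL A)
  · rintro p ⟨hpJ, hpL⟩
    obtain ⟨q, hq, t, rfl⟩ := exists_of_mem_J A hpJ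
    have ht : t * detM A ∈ idL A := by
      have := sub_mem hpL (idI_le_idL A hq)
      simpa using this
    have htL := detM_regular_mod_L A t ht
    exact add_mem hq (mul_detM_mem_I A htL)

/-- `(I : J) = L` over every commutative ring. -/
theorem colon_idJ : (idI A).colon (idJ A : Set (D A)) = idL A := by
  apply le_antisymm
  · intro p hp
    rw [Submodule.mem_colon] at hp
    have h := hp (detM A) (detM_mem_J A)
    rw [smul_eq_mul] at h
    exact detM_regular_mod_L A p (idI_le_idL A h)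
  · intro p hp
    rw [Submodule.mem_colon]
    intro q hq
    rw [smul_eq_mul]
    exact mul_mem_I_of_mem_L_of_mem_J A hp hq

end Groth.Agent.H65.L3

namespace Groth.Agent.H65.L3

open MvPolynomial Lie3Mod

variable (A : Type*) [CommRing A]

lemma idL_eq_ker : idL A = RingHom.ker (psiL A : D A →+* D A) := by
  ext p
  rw [RingHom.mem_ker]
  exact (psiL_eq_zero_iff A p).symm

lemma detM_not_mem_L [Nontrivial A] : detM A ∉ idL A := by
  intro h
  rw [← psiL_eq_zero_iff] at h
  have := psiL_detM_regular A 1 (by rw [h, zero_mul])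
  exact one_ne_zero this

instance idL_isPrime [IsDomain A] : (idL A).IsPrime := by
  rw [idL_eq_ker]
  exact RingHom.ker_isPrime _

/-- `L` is a minimal prime over `I` when `A` is a domain. -/
theorem idL_mem_minimalPrimes [IsDomain A] : idL A ∈ (idI A).minimalPrimes := by
  refine ⟨⟨idL_isPrime A, idI_le_idL A⟩, ?_⟩
  rintro q ⟨hq, hIq⟩ hqL l hl
  have h1 : l * detM A ∈ q := hIq (mul_detM_mem_I A hl)
  rcases hq.mem_or_mem h1 with h | h
  · exact h
  · exact absurd (hqL h) (detM_not_mem_L A)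

end Groth.Agent.H65.L3
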