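import Mathlib
import Groth.Prelude.Def_W4c1bouilletffgsL3
import Groth.Agent.H65.AdjoinFrac
import Groth.Agent.H65.Lie3ModA

/-!
# Lie3Mod: the ideal `J` is the kernel of a ring hom to a field (over a domain)
-/

set_option maxSynthPendingDepth 6

namespace Groth.Agent.H65.L3

open MvPolynomial

section kill

variable {σ : Type*} (A : Type*) [CommRing A]

open Classical in
/-- kill the variables in `Z` -/
noncomputable def killVars (Z : Set σ) : MvPolynomial σ A →ₐ[A] MvPolynomial σ A :=
  aeval (fun j => if j ∈ Z then 0 else X j)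

lemma killVars_X_of_mem {Z : Set σ} {j : σ} (hj : j ∈ Z) : killVars A Z (X j) = 0 := by
  simp [killVars, hj]

lemma killVars_X_of_not_mem {Z : Set σ} {j : σ} (hj : j ∉ Z) : killVars A Z (X j) = X j := by
  simp [killVars, hj]

lemma sub_killVars_mem (Z : Set σ) (p : MvPolynomial σ A) :
    p - killVars A Z p ∈ Ideal.span ((X : σ → MvPolynomial σ A) '' Z) := by
  induction p using MvPolynomial.induction_on with
  | C a => simp [killVars]
  | add p q hp hq =>
    rw [map_add]
    have : p + q - (killVars A Z p + killVars A Z q) =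
      (p - killVars A Z p) + (q - killVars A Z q) := by ring
    rw [this]; exact add_mem hp hq
  | mul_X p j hp =>
    rw [map_mul]
    have hj : X j - killVars A Z (X j) ∈ Ideal.span ((X : σ → MvPolynomial σ A) '' Z) := by
      by_cases h : j ∈ Z
      · rw [killVars_X_of_mem A h, sub_zero]
        exact Ideal.subset_span ⟨j, h, rfl⟩
      · rw [killVars_X_of_not_mem A h, sub_self]
        exact zero_mem _
    have : p * X j - killVars A Z p * killVars A Z (X j) =
        (p - killVars A Z p) * X j + killVars A Z p * (X j - killVars A Z (X j)) := by ring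
    rw [this]; exact add_mem (Ideal.mul_mem_right _ _ hp) (Ideal.mul_mem_left _ _ hj)

lemma ker_killVars (Z : Set σ) :
    RingHom.ker (killVars A Z : MvPolynomial σ A →+* MvPolynomial σ A) =
      Ideal.span ((X : σ → MvPolynomial σ A) '' Z) := by
  apply le_antisymm
  · intro p hp
    rw [RingHom.mem_ker] at hp
    have := sub_killVars_mem A Z p
    rw [show (killVars A Z) p = (killVars A Z : MvPolynomial σ A →+* MvPolynomial σ A) p from rfl,
      hp, sub_zero] at this
    exact this
  · rw [Ideal.span_le]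
    rintro _ ⟨j, hj, rfl⟩
    rw [SetLike.mem_coe, RingHom.mem_ker]
    exact killVars_X_of_mem A hj

end kill

section tower

universe u

variable (A : Type u) [CommRing A] [IsDomain A]

/-- base ring `A[x,y,f,h,i,c]` -/
abbrev S0 : Type u := MvPolynomial (Fin 6) A
/-- its fraction field -/
abbrev K0 : Type u := FractionRing (MvPolynomial (Fin 6) A)

noncomputable abbrev sx : S0 A := X 0
noncomputable abbrev sy : S0 A := X 1
noncomputable abbrev sf : S0 A := X 2
noncomputable abbrev sh : S0 A := X 3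
noncomputable abbrev si : S0 A := X 4
noncomputable abbrev sc : S0 A := X 5

/-- `γ = f x + i y` -/
noncomputable def gam : S0 A := sf A * sx A + si A * sy A

/-- `S0 → K0` after killing the variables in `Z`. -/
noncomputable def psi0 (Z : Set (Fin 6)) : S0 A →+* K0 A :=
  (algebraMap (S0 A) (K0 A)).comp (killVars A Z : S0 A →+* S0 A)

lemma ker_psi0 (Z : Set (Fin 6)) :
    RingHom.ker (psi0 A Z) = Ideal.span ((X : Fin 6 → S0 A) '' Z) := by
  rw [psi0, RingHom.ker_comp_of_injective _ (IsFractionRing.injective (S0 A) (K0 A)), ker_killVars]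

lemma psi0_eq_zero_iff (Z : Set (Fin 6)) (p : S0 A) : psi0 A Z p = 0 ↔ killVars A Z p = 0 := by
  rw [psi0, RingHom.comp_apply]
  exact (map_eq_zero_iff _ (IsFractionRing.injective (S0 A) (K0 A)))

/-- first step: adjoin `z = γ / c`. -/
noncomputable def Psi1 (Z : Set (Fin 6)) : Polynomial (S0 A) →+* K0 A :=
  Polynomial.eval₂RingHom (psi0 A Z) (psi0 A Z (gam A) / psi0 A Z (sc A))

lemma ker_Psi1 (Z : Set (Fin 6)) (hZ : (5 : Fin 6) ∉ Z)
    (hγ : killVars A (insert 5 Z) (gam A) ≠ 0) :
    RingHom.ker (Psi1 A Z) = Ideal.map Polynomial.C (Ideal.span ((X : Fin 6 → S0 A) '' Z)) ⊔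
      Ideal.span {Polynomial.C (sc A) * Polynomial.X - Polynomial.C (gam A)} := by
  have hc : psi0 A Z (sc A) ≠ 0 := by
    rw [Ne, psi0_eq_zero_iff, killVars_X_of_not_mem A hZ]
    exact X_ne_zero _
  have := ker_eval₂_adjoin (psi0 A Z) (psi0 A Z (gam A) / psi0 A Z (sc A)) {(sc A, gam A)}
    (by rintro uv rfl; exact mul_div_cancel₀ _ hc) (sc A) (gam A) rfl ?_
  · rw [Psi1, this, ker_psi0, Set.image_singleton]
  · have h𝔓 : RingHom.ker (psi0 A Z) ⊔ Ideal.span (Prod.fst '' {(sc A, gam A)}) =
        RingHom.ker (killVars A (insert 5 Z) : S0 A →+* S0 A) := by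
      rw [ker_psi0, ker_killVars, Set.image_singleton, Set.image_insert_eq, ← Ideal.span_union,
        Set.union_singleton]
    rw [h𝔓]
    intro r hr
    rw [RingHom.mem_ker] at hr ⊢
    rw [map_mul] at hr
    exact (mul_eq_zero.1 hr).resolve_right hγ

omit [IsDomain A] in
lemma ne_zero_of_eval (p : S0 A) (pt : Fin 6 → A) (h : eval pt p ≠ 0) : p ≠ 0 := by
  rintro rfl; simp at h

open Classical in
omit [IsDomain A] in
lemma killVars_X (Z : Set (Fin 6)) (j : Fin 6) :
    killVars A Z (X j) = if j ∈ Z then 0 else X j := by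
  simp [killVars]

lemma hgam_empty : killVars A (insert 5 ∅) (gam A) ≠ 0 := by
  apply ne_zero_of_eval A _ ![1, 0, 1, 0, 0, 0]
  simp [gam, killVars_X]

lemma hgam_y : killVars A (insert 5 {1}) (gam A) ≠ 0 := by
  apply ne_zero_of_eval A _ ![1, 0, 1, 0, 0, 0]
  simp [gam, killVars_X]

lemma hgam_x : killVars A (insert 5 {0}) (gam A) ≠ 0 := by
  apply ne_zero_of_eval A _ ![0, 1, 0, 0, 1, 0]
  simp [gam, killVars_X]

/-- `α = h x + i z` -/
noncomputable def alp : Polynomial (S0 A) :=
  Polynomial.C (sh A * sx A) + Polynomial.C (si A) * Polynomial.X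

lemma Psi1_C (Z : Set (Fin 6)) (s : S0 A) : Psi1 A Z (Polynomial.C s) = psi0 A Z s := by
  simp [Psi1]

lemma Psi1_X (Z : Set (Fin 6)) :
    Psi1 A Z Polynomial.X = psi0 A Z (gam A) / psi0 A Z (sc A) := by
  simp [Psi1]

lemma psi0_apply (Z : Set (Fin 6)) (s : S0 A) :
    psi0 A Z s = algebraMap (S0 A) (K0 A) (killVars A Z s) := rfl

lemma algebraMap_ne_zero_of_eval (p : S0 A) (pt : Fin 6 → A) (h : eval pt p ≠ 0) :
    algebraMap (S0 A) (K0 A) p ≠ 0 := by
  rw [Ne, map_eq_zero_iff _ (IsFractionRing.injective (S0 A) (K0 A))]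
  exact ne_zero_of_eval A p pt h

/-- second step: adjoin `g = α / y`. -/
noncomputable def Psi2 : Polynomial (Polynomial (S0 A)) →+* K0 A :=
  Polynomial.eval₂RingHom (Psi1 A ∅) (Psi1 A ∅ (alp A) / Psi1 A ∅ (Polynomial.C (sy A)))

lemma Psi1y_alp_ne_zero : Psi1 A {1} (alp A) ≠ 0 := by
  have hc : algebraMap (S0 A) (K0 A) (sc A) ≠ 0 :=
    algebraMap_ne_zero_of_eval A _ ![0, 0, 0, 0, 0, 1] (by simp)
  have hne : algebraMap (S0 A) (K0 A) (sh A * sx A * sc A + si A * (sf A * sx A)) ≠ 0 :=
    algebraMap_ne_zero_of_eval A _ ![1, 0, 0, 1, 0, 1] (by simp)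
  intro h0
  apply hne
  simp only [alp, map_add, map_mul, Psi1_C, Psi1_X, psi0_apply, gam, killVars_X] at h0
  simp at h0
  simp only [map_add, map_mul]
  field_simp at h0
  linear_combination h0

lemma ker_Psi2 : RingHom.ker (Psi2 A) =
    Ideal.map Polynomial.C
      (Ideal.span {Polynomial.C (sc A) * Polynomial.X - Polynomial.C (gam A)}) ⊔
    Ideal.span {Polynomial.C (Polynomial.C (sy A)) * Polynomial.X - Polynomial.C (alp A)} := by
  have h5 : (5 : Fin 6) ∉ (∅ : Set (Fin 6)) := by simp
  have h51 : (5 : Fin 6) ∉ ({1} : Set (Fin 6)) := by simp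
  have hk1 := ker_Psi1 A ∅ h5 (hgam_empty A)
  rw [Set.image_empty, Ideal.span_empty, Ideal.map_bot, bot_sup_eq] at hk1
  have hk1y := ker_Psi1 A {1} h51 (hgam_y A)
  rw [Set.image_singleton, Ideal.map_span, Set.image_singleton] at hk1y
  have hy : Psi1 A ∅ (Polynomial.C (sy A)) ≠ 0 := by
    rw [Psi1_C, psi0_apply]
    apply algebraMap_ne_zero_of_eval A _ ![0, 1, 0, 0, 0, 0]
    simp [killVars_X]
  have := ker_eval₂_adjoin (Psi1 A ∅) (Psi1 A ∅ (alp A) / Psi1 A ∅ (Polynomial.C (sy A)))
    {(Polynomial.C (sy A), alp A)}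
    (by rintro uv rfl; exact mul_div_cancel₀ _ hy) (Polynomial.C (sy A)) (alp A) rfl ?_
  · rw [Psi2, this, hk1, Set.image_singleton]
  · have h𝔓 : RingHom.ker (Psi1 A ∅) ⊔
        Ideal.span (Prod.fst '' {(Polynomial.C (sy A), alp A)}) = RingHom.ker (Psi1 A {1}) := by
      rw [hk1, hk1y, Set.image_singleton, sup_comm]
    rw [h𝔓]
    intro r hr
    rw [RingHom.mem_ker] at hr ⊢
    rw [map_mul] at hr
    exact (mul_eq_zero.1 hr).resolve_right (Psi1y_alp_ne_zero A)

/-- second step on `x = 0`: adjoin `g = i² / c`. -/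
noncomputable def Psi2x : Polynomial (Polynomial (S0 A)) →+* K0 A :=
  Polynomial.eval₂RingHom (Psi1 A {0})
    (Psi1 A {0} (Polynomial.C (si A ^ 2)) / Psi1 A {0} (Polynomial.C (sc A)))

lemma ker_Psi2x : RingHom.ker (Psi2x A) =
    Ideal.map Polynomial.C
      (Ideal.map Polynomial.C (Ideal.span {sx A}) ⊔
        Ideal.span {Polynomial.C (sc A) * Polynomial.X - Polynomial.C (gam A)}) ⊔
    Ideal.span {Polynomial.C (Polynomial.C (sc A)) * Polynomial.X -
        Polynomial.C (Polynomial.C (si A ^ 2)),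
      Polynomial.C (Polynomial.C (sy A)) * Polynomial.X -
        Polynomial.C (Polynomial.C (si A) * Polynomial.X)} := by
  have h50 : (5 : Fin 6) ∉ ({0} : Set (Fin 6)) := by simp
  have hk1x := ker_Psi1 A {0} h50 (hgam_x A)
  rw [Set.image_singleton] at hk1x
  have hc : Psi1 A {0} (Polynomial.C (sc A)) ≠ 0 := by
    rw [Psi1_C, psi0_apply]
    apply algebraMap_ne_zero_of_eval A _ ![0, 0, 0, 0, 0, 1]
    simp [killVars_X]
  have := ker_eval₂_adjoin (Psi1 A {0})
    (Psi1 A {0} (Polynomial.C (si A ^ 2)) / Psi1 A {0} (Polynomial.C (sc A)))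
    {(Polynomial.C (sc A), Polynomial.C (si A ^ 2)),
      (Polynomial.C (sy A), Polynomial.C (si A) * Polynomial.X)}
    ?_ (Polynomial.C (sc A)) (Polynomial.C (si A ^ 2)) (by simp) ?_
  · rw [Psi2x, this, hk1x, Set.image_pair]
  · rintro uv (rfl | rfl)
    · exact mul_div_cancel₀ _ hc
    · have hc' : algebraMap (S0 A) (K0 A) (sc A) ≠ 0 :=
        algebraMap_ne_zero_of_eval A _ ![0, 0, 0, 0, 0, 1] (by simp)
      simp only [map_mul, map_pow, Psi1_C, Psi1_X, psi0_apply, gam, killVars_X, map_add]
      simp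
      field_simp
  · -- the regularity condition
    set κ : Polynomial (S0 A) →+* Polynomial (S0 A) :=
      Polynomial.mapRingHom (killVars A ({0, 5, 1} : Set (Fin 6)) : S0 A →+* S0 A) with hκ
    have hkκ : RingHom.ker κ = Ideal.span {Polynomial.C (sx A), Polynomial.C (sc A),
        Polynomial.C (sy A)} := by
      rw [hκ, Polynomial.ker_mapRingHom, ker_killVars, Ideal.map_span]
      congr 1
      simp [Set.image_insert_eq]
    have h𝔓 : RingHom.ker (Psi1 A {0}) ⊔ Ideal.span (Prod.fst ''
        {(Polynomial.C (sc A), Polynomial.C (si A ^ 2)),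
          (Polynomial.C (sy A), Polynomial.C (si A) * Polynomial.X)}) = RingHom.ker κ := by
      rw [hkκ, hk1x, Set.image_pair, Ideal.map_span, Set.image_singleton]
      apply le_antisymm
      · refine sup_le (sup_le ?_ ?_) ?_
        · apply Ideal.span_mono; intro x hx; simp at hx ⊢; tauto
        · rw [Ideal.span_le]
          intro x hx
          rw [Set.mem_singleton_iff] at hx
          subst hx
          have e : Polynomial.C (sc A) * Polynomial.X - Polynomial.C (gam A) =
              Polynomial.X * Polynomial.C (sc A) - Polynomial.C (sf A) * Polynomial.C (sx A)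
                - Polynomial.C (si A) * Polynomial.C (sy A) := by
            simp only [gam, map_add, map_mul]; ring
          rw [SetLike.mem_coe, e]
          refine sub_mem (sub_mem ?_ ?_) ?_ <;>
            exact Ideal.mul_mem_left _ _ (Ideal.subset_span (by simp))
        · apply Ideal.span_mono; intro x hx; simp at hx ⊢; tauto
      · rw [Ideal.span_le]
        intro x hx
        simp only [Set.mem_insert_iff, Set.mem_singleton_iff] at hx
        rcases hx with rfl | rfl | rfl
        · exact Ideal.mem_sup_left (Ideal.mem_sup_left (Ideal.subset_span (by simp)))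
        · exact Ideal.mem_sup_right (Ideal.subset_span (by simp))
        · exact Ideal.mem_sup_right (Ideal.subset_span (by simp))
    rw [h𝔓]
    intro r hr
    rw [RingHom.mem_ker] at hr ⊢
    rw [map_mul] at hr
    refine (mul_eq_zero.1 hr).resolve_right ?_
    intro h
    rw [hκ, Polynomial.coe_mapRingHom, Polynomial.map_C, Polynomial.C_eq_zero] at h
    exact ne_zero_of_eval A _ ![0, 0, 0, 0, 1, 0] (by simp [killVars_X]) h

/-- `β = y z − h y − f z` -/
noncomputable def bet1 : Polynomial (S0 A) :=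
  Polynomial.C (sy A) * Polynomial.X - Polynomial.C (sh A * sy A) - Polynomial.C (sf A) * Polynomial.X

/-- `u₂ = i² − g c` -/
noncomputable def u2 : Polynomial (Polynomial (S0 A)) :=
  Polynomial.C (Polynomial.C (si A ^ 2)) - Polynomial.X * Polynomial.C (Polynomial.C (sc A))

/-- `δ = −c h² + g b f + h b i − i h f` with `b = y − f` -/
noncomputable def del : Polynomial (Polynomial (S0 A)) :=
  - Polynomial.C (Polynomial.C (sc A * sh A ^ 2)) +
    Polynomial.X * Polynomial.C (Polynomial.C ((sy A - sf A) * sf A)) +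
    Polynomial.C (Polynomial.C (sh A * (sy A - sf A) * si A)) -
    Polynomial.C (Polynomial.C (si A * sh A * sf A))

lemma Psi2_C (q : Polynomial (S0 A)) : Psi2 A (Polynomial.C q) = Psi1 A ∅ q := by
  simp [Psi2]

lemma Psi2_X : Psi2 A Polynomial.X =
    Psi1 A ∅ (alp A) / Psi1 A ∅ (Polynomial.C (sy A)) := by
  simp [Psi2]

lemma Psi2x_C (q : Polynomial (S0 A)) : Psi2x A (Polynomial.C q) = Psi1 A {0} q := by
  simp [Psi2x]

/-- third step: adjoin `e = β / x`. -/
noncomputable def Psi3 : Polynomial (Polynomial (Polynomial (S0 A))) →+* K0 A :=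
  Polynomial.eval₂RingHom (Psi2 A)
    (Psi2 A (Polynomial.C (bet1 A)) / Psi2 A (Polynomial.C (Polynomial.C (sx A))))

lemma Psi2x_bet_ne_zero : Psi2x A (Polynomial.C (bet1 A)) ≠ 0 := by
  have hc : algebraMap (S0 A) (K0 A) (sc A) ≠ 0 :=
    algebraMap_ne_zero_of_eval A _ ![0, 0, 0, 0, 0, 1] (by simp)
  have hne : algebraMap (S0 A) (K0 A)
      (si A * sy A ^ 2 - sh A * sy A * sc A - sf A * si A * sy A) ≠ 0 :=
    algebraMap_ne_zero_of_eval A _ ![0, 1, 0, 0, 1, 0] (by simp)
  intro h0
  apply hne
  simp only [Psi2x_C, bet1, map_sub, map_mul, Psi1_C, Psi1_X, psi0_apply, gam, killVars_X,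
    map_add] at h0
  simp at h0
  simp only [map_sub, map_mul, map_pow]
  field_simp at h0
  linear_combination h0

/-- generator `c z − γ` -/
noncomputable def g1 : Polynomial (S0 A) :=
  Polynomial.C (sc A) * Polynomial.X - Polynomial.C (gam A)
/-- generator `y g − α` -/
noncomputable def g2 : Polynomial (Polynomial (S0 A)) :=
  Polynomial.C (Polynomial.C (sy A)) * Polynomial.X - Polynomial.C (alp A)

lemma ker_Psi2' : RingHom.ker (Psi2 A) =
    Ideal.span {Polynomial.C (g1 A)} ⊔ Ideal.span {g2 A} := by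
  rw [ker_Psi2, Ideal.map_span, Set.image_singleton]; rfl

lemma ker_Psi2x' : RingHom.ker (Psi2x A) =
    (Ideal.span {Polynomial.C (Polynomial.C (sx A))} ⊔ Ideal.span {Polynomial.C (g1 A)}) ⊔
    Ideal.span {Polynomial.C (Polynomial.C (sc A)) * Polynomial.X -
        Polynomial.C (Polynomial.C (si A ^ 2)),
      Polynomial.C (Polynomial.C (sy A)) * Polynomial.X -
        Polynomial.C (Polynomial.C (si A) * Polynomial.X)} := by
  rw [ker_Psi2x, Ideal.map_sup, Ideal.map_span, Ideal.map_span, Ideal.map_span,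
    Set.image_singleton, Set.image_singleton, Set.image_singleton]; rfl

lemma ker_Psi3 : RingHom.ker (Psi3 A) =
    Ideal.map Polynomial.C (RingHom.ker (Psi2 A)) ⊔
    Ideal.span {Polynomial.C (Polynomial.C (Polynomial.C (sx A))) * Polynomial.X -
        Polynomial.C (Polynomial.C (bet1 A)),
      Polynomial.C (u2 A) * Polynomial.X - Polynomial.C (- del A)} := by
  have hx : Psi2 A (Polynomial.C (Polynomial.C (sx A))) ≠ 0 := by
    rw [Psi2_C, Psi1_C, psi0_apply]
    apply algebraMap_ne_zero_of_eval A _ ![1, 0, 0, 0, 0, 0]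
    simp [killVars_X]
  have := ker_eval₂_adjoin (Psi2 A)
    (Psi2 A (Polynomial.C (bet1 A)) / Psi2 A (Polynomial.C (Polynomial.C (sx A))))
    {(Polynomial.C (Polynomial.C (sx A)), Polynomial.C (bet1 A)), (u2 A, - del A)}
    ?_ (Polynomial.C (Polynomial.C (sx A))) (Polynomial.C (bet1 A)) (by simp) ?_
  · rw [Psi3, this, Set.image_pair]
  · rintro uv (rfl | rfl)
    · exact mul_div_cancel₀ _ hx
    · have hx' : algebraMap (S0 A) (K0 A) (sx A) ≠ 0 :=
        algebraMap_ne_zero_of_eval A _ ![1, 0, 0, 0, 0, 0] (by simp)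
      have hy' : algebraMap (S0 A) (K0 A) (sy A) ≠ 0 :=
        algebraMap_ne_zero_of_eval A _ ![0, 1, 0, 0, 0, 0] (by simp)
      have hc' : algebraMap (S0 A) (K0 A) (sc A) ≠ 0 :=
        algebraMap_ne_zero_of_eval A _ ![0, 0, 0, 0, 0, 1] (by simp)
      simp only [u2, del, bet1, alp, map_sub, map_add, map_neg, map_mul, map_pow, Psi2_C, Psi2_X,
        Psi1_C, Psi1_X, psi0_apply, gam, killVars_X]
      simp
      field_simp
      ring
  · have h𝔓 : RingHom.ker (Psi2 A) ⊔ Ideal.span (Prod.fst ''
        {(Polynomial.C (Polynomial.C (sx A)), Polynomial.C (bet1 A)), (u2 A, - del A)}) =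
        RingHom.ker (Psi2x A) := by
      rw [ker_Psi2', ker_Psi2x', Set.image_pair]
      have e2 : g2 A = (Polynomial.C (Polynomial.C (sy A)) * Polynomial.X -
          Polynomial.C (Polynomial.C (si A) * Polynomial.X)) -
          Polynomial.C (Polynomial.C (sh A)) * Polynomial.C (Polynomial.C (sx A)) := by
        simp only [g2, alp, map_add, map_mul]; ring
      have e3 : u2 A = -(Polynomial.C (Polynomial.C (sc A)) * Polynomial.X -
          Polynomial.C (Polynomial.C (si A ^ 2))) := by
        simp only [u2]; ring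
      apply le_antisymm
      · refine sup_le (sup_le ?_ ?_) ?_
        · rw [Ideal.span_le, Set.singleton_subset_iff]
          exact Ideal.mem_sup_left (Ideal.mem_sup_right (Ideal.subset_span rfl))
        · rw [Ideal.span_le, Set.singleton_subset_iff, SetLike.mem_coe, e2]
          refine sub_mem (Ideal.mem_sup_right (Ideal.subset_span (by simp))) ?_
          exact Ideal.mul_mem_left _ _
            (Ideal.mem_sup_left (Ideal.mem_sup_left (Ideal.subset_span rfl)))
        · rw [Ideal.span_le]
          intro q hq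
          simp only [Set.mem_insert_iff, Set.mem_singleton_iff] at hq
          rcases hq with rfl | rfl
          · exact Ideal.mem_sup_left (Ideal.mem_sup_left (Ideal.subset_span rfl))
          · rw [SetLike.mem_coe, e3]
            exact neg_mem (Ideal.mem_sup_right (Ideal.subset_span (by simp)))
      · refine sup_le (sup_le ?_ ?_) ?_
        · rw [Ideal.span_le, Set.singleton_subset_iff]
          exact Ideal.mem_sup_right (Ideal.subset_span (by simp))
        · rw [Ideal.span_le, Set.singleton_subset_iff]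
          exact Ideal.mem_sup_left (Ideal.mem_sup_left (Ideal.subset_span rfl))
        · rw [Ideal.span_le]
          intro q hq
          simp only [Set.mem_insert_iff, Set.mem_singleton_iff] at hq
          rcases hq with rfl | rfl
          · have : Polynomial.C (Polynomial.C (sc A)) * Polynomial.X -
                Polynomial.C (Polynomial.C (si A ^ 2)) = -(u2 A) := by rw [e3, neg_neg]
            rw [SetLike.mem_coe, this]
            exact neg_mem (Ideal.mem_sup_right (Ideal.subset_span (by simp)))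
          · have : Polynomial.C (Polynomial.C (sy A)) * Polynomial.X -
                Polynomial.C (Polynomial.C (si A) * Polynomial.X) =
                g2 A + Polynomial.C (Polynomial.C (sh A)) * Polynomial.C (Polynomial.C (sx A)) := by
              rw [e2]; ring
            rw [SetLike.mem_coe, this]
            refine add_mem (Ideal.mem_sup_left (Ideal.mem_sup_right (Ideal.subset_span rfl))) ?_
            exact Ideal.mul_mem_left _ _ (Ideal.mem_sup_right (Ideal.subset_span (by simp)))
    rw [h𝔓]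
    intro r hr
    rw [RingHom.mem_ker] at hr ⊢
    rw [map_mul] at hr
    exact (mul_eq_zero.1 hr).resolve_right (Psi2x_bet_ne_zero A)

lemma Psi3_C (q : Polynomial (Polynomial (S0 A))) : Psi3 A (Polynomial.C q) = Psi2 A q := by
  simp [Psi3]

lemma Psi3_X : Psi3 A Polynomial.X =
    Psi2 A (Polynomial.C (bet1 A)) / Psi2 A (Polynomial.C (Polynomial.C (sx A))) := by
  simp [Psi3]

/-- constants of the tower -/
noncomputable abbrev c3 (s : S0 A) : Polynomial (Polynomial (Polynomial (S0 A))) :=
  Polynomial.C (Polynomial.C (Polynomial.C s))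

open Lie3Mod in
/-- `D → S0[z][g][e]`: `a = x + i, b = y − f, d = z − h`. -/
noncomputable def theta : D A →ₐ[A] Polynomial (Polynomial (Polynomial (S0 A))) :=
  aeval ![c3 A (sx A) + c3 A (si A), c3 A (sy A) - c3 A (sf A), c3 A (sc A),
    Polynomial.C (Polynomial.C Polynomial.X) - c3 A (sh A), Polynomial.X, c3 A (sf A),
    Polynomial.C Polynomial.X, c3 A (sh A), c3 A (si A)]

open Lie3Mod in
/-- `S0 → D`: `x = a − i, y = b + f, f, h, i, c`. -/
noncomputable def theta0 : S0 A →ₐ[A] D A :=
  aeval ![X 0 - X 8, X 1 + X 5, X 5, X 7, X 8, X 2]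

open Lie3Mod in
/-- `S0[z][g][e] → D`. -/
noncomputable def theta' : Polynomial (Polynomial (Polynomial (S0 A))) →+* D A :=
  Polynomial.eval₂RingHom (Polynomial.eval₂RingHom (Polynomial.eval₂RingHom
    (theta0 A : S0 A →+* D A) (X 3 + X 7)) (X 6)) (X 4)

open Lie3Mod in
lemma theta'_theta (p : D A) : theta' A (theta A p) = p := by
  have : (theta' A).comp (theta A : D A →+* _) = RingHom.id _ := by
    apply MvPolynomial.ringHom_ext
    · intro r
      simp [theta, theta', theta0, Polynomial.algebraMap_apply]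
    · intro j
      fin_cases j <;> simp [theta, theta', theta0]
  exact RingHom.congr_fun this p

/-- the evaluation `D → K0`. -/
noncomputable def PsiD : Lie3Mod.D A →+* K0 A := (Psi3 A).comp (theta A : Lie3Mod.D A →+* _)

lemma PsiD_apply (p : Lie3Mod.D A) : PsiD A p = Psi3 A (theta A p) := rfl

/-- the images of the variables `x, y, f, h, i, c` in `K0`. -/
noncomputable abbrev kx : K0 A := algebraMap (S0 A) (K0 A) (sx A)
noncomputable abbrev ky : K0 A := algebraMap (S0 A) (K0 A) (sy A)
noncomputable abbrev kf : K0 A := algebraMap (S0 A) (K0 A) (sf A)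
noncomputable abbrev kh : K0 A := algebraMap (S0 A) (K0 A) (sh A)
noncomputable abbrev ki : K0 A := algebraMap (S0 A) (K0 A) (si A)
noncomputable abbrev kc : K0 A := algebraMap (S0 A) (K0 A) (sc A)
/-- `z = (f x + i y) / c` -/
noncomputable def kz : K0 A := (kf A * kx A + ki A * ky A) / kc A
/-- `g = (h x + i z) / y` -/
noncomputable def kg : K0 A := (kh A * kx A + ki A * kz A) / ky A
/-- `e = (y z − h y − f z) / x` -/
noncomputable def ke : K0 A := (ky A * kz A - kh A * ky A - kf A * kz A) / kx A

lemma Psi1_X_eq : Psi1 A ∅ Polynomial.X = kz A := by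
  simp [Psi1_X, psi0_apply, gam, killVars_X, kz]

lemma Psi1_C_eq (s : S0 A) : Psi1 A ∅ (Polynomial.C s) = algebraMap (S0 A) (K0 A) s := by
  rw [Psi1_C, psi0_apply]
  congr 1
  have : (killVars A (∅ : Set (Fin 6)) : S0 A →ₐ[A] S0 A) = AlgHom.id A _ := by
    apply MvPolynomial.algHom_ext
    intro j
    simp [killVars_X]
  rw [this]; rfl

lemma Psi2_X_eq : Psi2 A Polynomial.X = kg A := by
  simp [Psi2_X, alp, Psi1_X_eq, Psi1_C_eq, kg]

lemma Psi3_X_eq : Psi3 A Polynomial.X = ke A := by
  simp [Psi3_X, bet1, Psi2_C, Psi1_X_eq, Psi1_C_eq, ke]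

lemma Psi3_c3 (s : S0 A) : Psi3 A (c3 A s) = algebraMap (S0 A) (K0 A) s := by
  rw [c3, Psi3_C, Psi2_C, Psi1_C_eq]

open Lie3Mod in
lemma PsiD_X (j : Fin 9) : PsiD A (X j) =
    ![kx A + ki A, ky A - kf A, kc A, kz A - kh A, ke A, kf A, kg A, kh A, ki A] j := by
  fin_cases j <;>
    simp [PsiD_apply, theta, Psi3_C, Psi2_C, Psi3_X_eq, Psi2_X_eq, Psi1_X_eq, Psi1_C_eq]

open Lie3Mod in
lemma idJ_le_ker : idJ A ≤ RingHom.ker (PsiD A) := by
  have hx' : kx A ≠ 0 :=
    algebraMap_ne_zero_of_eval A _ ![1, 0, 0, 0, 0, 0] (by simp)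
  have hy' : ky A ≠ 0 :=
    algebraMap_ne_zero_of_eval A _ ![0, 1, 0, 0, 0, 0] (by simp)
  have hc' : kc A ≠ 0 :=
    algebraMap_ne_zero_of_eval A _ ![0, 0, 0, 0, 0, 1] (by simp)
  rw [idJ, Ideal.span_le]
  intro q hq
  simp only [Set.mem_insert_iff, Set.mem_singleton_iff] at hq
  rw [SetLike.mem_coe, RingHom.mem_ker]
  rcases hq with rfl | rfl | rfl | rfl
  · simp only [Q1, map_sub, map_add, map_mul, map_pow, map_neg, PsiD_X]
    simp [ke, kg, kz]
    field_simp
    ring
  · simp only [Q2, map_sub, map_add, map_mul, map_pow, map_neg, PsiD_X]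
    simp [ke, kg, kz]
    field_simp
    ring
  · simp only [Q3, map_sub, map_add, map_mul, map_pow, map_neg, PsiD_X]
    simp [ke, kg, kz]
    field_simp
    ring
  · simp only [detM, map_sub, map_add, map_mul, map_pow, map_neg, PsiD_X]
    simp [ke, kg, kz]
    field_simp
    ring

open Lie3Mod in
lemma ker_le_idJ : RingHom.ker (PsiD A) ≤ idJ A := by
  have hQ1 : Q1 A ∈ idJ A := Ideal.subset_span (by simp)
  have hQ2 : Q2 A ∈ idJ A := Ideal.subset_span (by simp)
  have hQ3 : Q3 A ∈ idJ A := Ideal.subset_span (by simp)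
  have hdet : detM A ∈ idJ A := Ideal.subset_span (by simp)
  have e1 : theta' A (Polynomial.C (Polynomial.C (g1 A))) = Q3 A := by
    simp [theta', theta0, g1, gam, Q3]; ring
  have e2 : theta' A (Polynomial.C (g2 A)) = - Q1 A := by
    simp [theta', theta0, g2, alp, Q1]; ring
  have e3 : theta' A (Polynomial.C (Polynomial.C (Polynomial.C (sx A))) * Polynomial.X -
        Polynomial.C (Polynomial.C (bet1 A))) = - Q2 A := by
    simp [theta', theta0, bet1, Q2]; ring
  have e4 : theta' A (Polynomial.C (u2 A) * Polynomial.X - Polynomial.C (- del A)) = detM A := by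
    simp [theta', theta0, u2, del, detM, Polynomial.eval₂_pow]; ring
  intro p hp
  have h1 : theta A p ∈ RingHom.ker (Psi3 A) := hp
  rw [ker_Psi3, ker_Psi2', Ideal.map_sup, Ideal.map_span, Ideal.map_span, Set.image_singleton,
    Set.image_singleton] at h1
  have key : (Ideal.span {Polynomial.C (Polynomial.C (g1 A))} ⊔
      Ideal.span {Polynomial.C (g2 A)}) ⊔
      Ideal.span {Polynomial.C (Polynomial.C (Polynomial.C (sx A))) * Polynomial.X -
        Polynomial.C (Polynomial.C (bet1 A)),
        Polynomial.C (u2 A) * Polynomial.X - Polynomial.C (- del A)} ≤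
      Ideal.comap (theta' A) (idJ A) := by
    refine sup_le (sup_le ?_ ?_) ?_
    · rw [Ideal.span_le, Set.singleton_subset_iff, SetLike.mem_coe, Ideal.mem_comap, e1]
      exact hQ3
    · rw [Ideal.span_le, Set.singleton_subset_iff, SetLike.mem_coe, Ideal.mem_comap, e2]
      exact neg_mem hQ1
    · rw [Ideal.span_le]
      intro q hq
      simp only [Set.mem_insert_iff, Set.mem_singleton_iff] at hq
      rcases hq with rfl | rfl
      · rw [SetLike.mem_coe, Ideal.mem_comap, e3]; exact neg_mem hQ2
      · rw [SetLike.mem_coe, Ideal.mem_comap, e4]; exact hdet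
  have := key h1
  rw [Ideal.mem_comap, theta'_theta] at this
  exact this

/-- Over a domain, `J` is the kernel of a ring homomorphism to a field. -/
theorem idJ_eq_ker : Lie3Mod.idJ A = RingHom.ker (PsiD A) :=
  le_antisymm (idJ_le_ker A) (ker_le_idJ A)

/-- Over a domain, `J` is prime. -/
theorem idJ_isPrime : (Lie3Mod.idJ A).IsPrime := by
  rw [idJ_eq_ker]
  exact RingHom.ker_isPrime _

end tower

end Groth.Agent.H65.L3
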