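import Mathlib
import Groth.Prelude.Def_W4c1bouilletffgsL3
import Groth.Agent.H65.Lie3ModA
import Groth.Agent.H65.Lie3ModB

/-!
# Lie3Mod: consequences of `J = ker (D → K0)`

`J` is a minimal prime over `I` (over a domain); over `ℤ` the quotients `D/J` and `D/I` are flat and
`I` is radical.
-/

namespace Groth.Agent.H65.L3

open MvPolynomial Lie3Mod

section

universe u

variable (A : Type u) [CommRing A] [IsDomain A]

lemma L1_not_mem_J : L1 A ∉ idJ A := by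
  rw [idJ_eq_ker, RingHom.mem_ker, L1, map_sub, PsiD_X, PsiD_X]
  have hx' : kx A ≠ 0 :=
    algebraMap_ne_zero_of_eval A _ ![1, 0, 0, 0, 0, 0] (by simp)
  simpa using hx'

/-- `J` is a minimal prime over `I` when `A` is a domain. -/
theorem idJ_mem_minimalPrimes : idJ A ∈ (idI A).minimalPrimes := by
  refine ⟨⟨idJ_isPrime A, idI_le_idJ A⟩, ?_⟩
  rintro q ⟨hq, hIq⟩ hqJ p hp
  have h1 : L1 A * p ∈ q := hIq (mul_mem_I_of_mem_L_of_mem_J A (L1_mem_L A) hp)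
  rcases hq.mem_or_mem h1 with h | h
  · exact absurd (hqJ h) (L1_not_mem_J A)
  · exact h

end

section int

lemma intCast_not_mem_J (n : ℤ) (hn : n ≠ 0) : (n : D ℤ) ∉ idJ ℤ := by
  rw [idJ_eq_ker, RingHom.mem_ker, map_intCast]
  exact_mod_cast hn

lemma intCast_not_mem_L (n : ℤ) (hn : n ≠ 0) : (n : D ℤ) ∉ idL ℤ := by
  rw [← psiL_eq_zero_iff, map_intCast]
  exact_mod_cast hn

lemma torsionFree_quot (I : Ideal (D ℤ))
    (h : ∀ (n : ℤ) (p : D ℤ), n ≠ 0 → (n : D ℤ) * p ∈ I → p ∈ I) :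
    Module.IsTorsionFree ℤ (D ℤ ⧸ I) := by
  constructor
  intro r hr m1 m2 hm
  have hr0 : r ≠ 0 := hr.ne_zero
  have h0 : r • (m1 - m2) = 0 := by
    rw [smul_sub]; exact sub_eq_zero.2 hm
  obtain ⟨p, hp⟩ := Ideal.Quotient.mk_surjective (m1 - m2)
  rw [← hp, ← map_zsmul, zsmul_eq_mul, Ideal.Quotient.eq_zero_iff_mem] at h0
  have := h r p hr0 h0
  rw [← Ideal.Quotient.eq_zero_iff_mem, hp] at this
  exact sub_eq_zero.1 this

lemma mem_J_of_intCast_mul (n : ℤ) (p : D ℤ) (hn : n ≠ 0) (h : (n : D ℤ) * p ∈ idJ ℤ) :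
    p ∈ idJ ℤ :=
  ((idJ_isPrime ℤ).mem_or_mem h).resolve_left (intCast_not_mem_J n hn)

lemma mem_L_of_intCast_mul (n : ℤ) (p : D ℤ) (hn : n ≠ 0) (h : (n : D ℤ) * p ∈ idL ℤ) :
    p ∈ idL ℤ :=
  ((idL_isPrime ℤ).mem_or_mem h).resolve_left (intCast_not_mem_L n hn)

/-- `D/J` is flat over `ℤ`. -/
theorem flat_int_quotient_idJ : Module.Flat ℤ (D ℤ ⧸ idJ ℤ) := by
  haveI := torsionFree_quot (idJ ℤ) mem_J_of_intCast_mul
  infer_instance

/-- `D/I` is flat over `ℤ` and `I` is radical. -/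
theorem flat_int_quotient_idI_and_isRadical :
    Module.Flat ℤ (D ℤ ⧸ idI ℤ) ∧ (idI ℤ).IsRadical := by
  constructor
  · haveI := torsionFree_quot (idI ℤ) (fun n p hn h => by
      rw [idI_eq_inf] at h ⊢
      exact ⟨mem_J_of_intCast_mul n p hn h.1, mem_L_of_intCast_mul n p hn h.2⟩)
    infer_instance
  · rw [idI_eq_inf]
    exact ((idJ_isPrime ℤ).isRadical).inf ((idL_isPrime ℤ).isRadical)

end int

end Groth.Agent.H65.L3
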