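import Groth.Agent.H65.LocusMain
import Groth.Agent.H64.Psh.FpAlg
import Groth.Agent.H64.DiagBCAlg

set_option autoImplicit false
open CategoryTheory CategoryTheory.Limits Opposite AlgebraicGeometry
universe u

/-! The largest open substack on which a morphism has a property commutes with base change by
morphisms with `R`. -/

namespace Groth.Agent.H65.Locus

open AlgSt Groth.Agent.H32 Groth.Agent.H64 Groth.Agent.H64.Recog Groth.Agent.H64.FpRep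
  Groth.Agent.H64.PTh Groth.Agent.H64.Pts Groth.Agent.H64.LocQ

variable {S : Scheme.{u}}

/-- Given a presentation `V ⟶ Z₀` of `Z₀ ×_𝒴 𝒳`, a map of sheaves `t : T ⟶ Z₀` and a lift `ζ` of
`T ⟶ Z₀ ⟶ 𝒴` to `𝒵`, the sheaf fibre product `T ×_{Z₀} V` presents `T ×_𝒵 (𝒵 ×_𝒴 𝒳)`,
compatibly with the projections to `T` and to `𝒳`. -/
theorem exists_presentation_pullback_lift {𝒳 𝒴 𝒵 : AlgSt.Cat S} (f : 𝒳 ⥤ᵇ 𝒴) (z : 𝒵 ⥤ᵇ 𝒴)
    {Z₀ T V : AlgSp.Sp S} (w : ofSp Z₀ ⥤ᵇ 𝒴) (t : T ⟶ Z₀) (ζ : ofSp T ⥤ᵇ 𝒵)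
    (θ : BasedFunctor.comp (ofSpMap t) w ≅ BasedFunctor.comp ζ z)
    (a : V ⟶ Z₀) (eV : ofSp V ⥤ᵇ FibCat.fp w f) (heV : FibCat.IsEquivOver eV)
    (αV : BasedFunctor.comp eV (FibCat.fpFst w f) ≅ ofSpMap a)
    {X : AlgSp.Sp S} (fst : X ⟶ T) (snd : X ⟶ V) (sq : IsPullback fst snd t a) :
    ∃ e₁ : ofSp X ⥤ᵇ FibCat.fp ζ (FibCat.fpFst z f), FibCat.IsEquivOver e₁ ∧
      Nonempty (BasedFunctor.comp e₁ (FibCat.fpFst ζ (FibCat.fpFst z f)) ≅ ofSpMap fst) ∧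
      Nonempty (BasedFunctor.comp (BasedFunctor.comp e₁ (FibCat.fpSnd ζ (FibCat.fpFst z f)))
          (FibCat.fpSnd z f) ≅
        BasedFunctor.comp (ofSpMap snd) (BasedFunctor.comp eV (FibCat.fpSnd w f))) := by
  obtain ⟨E, hE, ⟨i₁⟩, ⟨i₂⟩⟩ := exists_presentation_pullback_both f w t a eV heV αV fst snd sq
  have hidfull : (BasedFunctor.id 𝒴).toFunctor.Full := (inferInstance : (𝟭 𝒴.obj).Full)
  have hidfaith : (BasedFunctor.id 𝒴).toFunctor.Faithful := (inferInstance : (𝟭 𝒴.obj).Faithful)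
  let ι : FibCat.fp (BasedFunctor.comp (ofSpMap t) w) f ⥤ᵇ FibCat.fp (BasedFunctor.comp ζ z) f :=
    fpMap (BasedFunctor.comp ζ z) f (BasedFunctor.comp (ofSpMap t) w) f (BasedFunctor.id _)
      (BasedFunctor.id _) (BasedFunctor.id _) θ (Iso.refl _)
  have hι : FibCat.IsEquivOver ι :=
    isEquivOver_fpMap _ _ _ _ _ _ _ _ _ (isEquivOver_id _) (isEquivOver_id _)
  let pD : FibCat.fp (BasedFunctor.comp ζ z) f ⥤ᵇ FibCat.fp ζ (FibCat.fpFst z f) := fpPaste f z ζ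
  have hpD : FibCat.IsEquivOver pD := isEquivOver_fpPaste f z ζ
  let e₁ : ofSp X ⥤ᵇ FibCat.fp ζ (FibCat.fpFst z f) :=
    BasedFunctor.comp E (BasedFunctor.comp ι pD)
  refine ⟨e₁, isEquivOver_comp hE (isEquivOver_comp hι hpD), ⟨?_⟩, ⟨?_⟩⟩
  · have h1 : BasedFunctor.comp e₁ (FibCat.fpFst ζ (FibCat.fpFst z f)) =
        BasedFunctor.comp E (FibCat.fpFst (BasedFunctor.comp (ofSpMap t) w) f) := rfl
    exact eqToIso h1 ≪≫ i₁
  · have h1 : BasedFunctor.comp (BasedFunctor.comp e₁ (FibCat.fpSnd ζ (FibCat.fpFst z f)))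
          (FibCat.fpSnd z f) =
        BasedFunctor.comp (BasedFunctor.comp E (fpPasteSnd f w (ofSpMap t)))
          (FibCat.fpSnd w f) := rfl
    exact eqToIso h1 ≪≫ bwrIso i₂ (FibCat.fpSnd w f)

section bc

variable {P Q R : MorphismProperty (AlgSp.Sp S)} {𝒳 𝒴 𝒵 : AlgSt.Cat S}

/-- the base change of a good chart along a morphism with `R` -/
theorem exists_chart_bc (hQb : StableBC Q) (hRb : StableBC R)
    (hR : AlgSp.IsLocalOnBase AlgSp.IsFppfCover R) (h₄ : LargestBC P Q R)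
    (h𝒴 : FibCat.IsFibGrpd 𝒴.p) (h𝒵 : FibCat.IsFibGrpd 𝒵.p) (f : 𝒳 ⥤ᵇ 𝒴) (zz : 𝒵 ⥤ᵇ 𝒴)
    (hzz : RepByAlgSpWith R zz) (c : Chart f) (hc : c.Good P Q) :
    ∃ (c' : Chart (FibCat.fpFst zz f)) (snd : c'.F ⟶ c.F), c'.Good P Q ∧
      (∀ ζ : (ofSp c'.F.obj).obj,
        InSub c'.w.hom ζ ↔ InSub c.w.hom ((ofSpMap snd.hom).obj ζ)) ∧
      Nonempty (BasedFunctor.comp c'.π (FibCat.fpSnd zz f) ≅
        BasedFunctor.comp (ofSpMap snd.hom) c.π) := by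
  obtain ⟨G, gm, eG, heG, ⟨αG⟩, hgm⟩ := hasP_of_repByAlgSpWith h𝒵 h𝒴 hRb hR zz hzz c.Z c.z
  let γ : ofSp G.obj ⥤ᵇ 𝒵 := BasedFunctor.comp eG (FibCat.fpSnd c.z zz)
  have hγ₁ : RepByAlgSpWith (AlgSp.LocP @Smooth) γ :=
    repByAlgSpWith_of_square _ (FibCat.fpSnd c.z zz) γ eG (BasedFunctor.id _) heG
      (isEquivOver_id _) (Iso.refl _) (PTh.repByAlgSpWith_fpSnd _ c.z zz hc.smooth)
  have hγ₂ : RepByAlgSpWith AlgSp.IsSurjectiveMor γ :=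
    repByAlgSpWith_of_square _ (FibCat.fpSnd c.z zz) γ eG (BasedFunctor.id _) heG
      (isEquivOver_id _) (Iso.refl _) (PTh.repByAlgSpWith_fpSnd _ c.z zz hc.surj)
  let θ : BasedFunctor.comp (ofSpMap gm.hom) c.z ≅ BasedFunctor.comp γ zz :=
    bwrIso αG.symm c.z ≪≫ bwlIso eG (FibCat.fpIso c.z zz)
  have hX : AlgSp.IsAlgSpace (pullback gm.hom c.m.hom) :=
    Groth.Agent.H49.isAlgSpace_of_isPullback (IsPullback.of_hasPullback gm.hom c.m.hom)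
      c.Z.property.diag G.property c.F.property
  let X : AlgSp.Space S := ⟨pullback gm.hom c.m.hom, hX⟩
  let fst : X ⟶ G := ObjectProperty.homMk (pullback.fst gm.hom c.m.hom)
  let snd : X ⟶ c.F := ObjectProperty.homMk (pullback.snd gm.hom c.m.hom)
  have sq : IsPullback fst.hom snd.hom gm.hom c.m.hom := IsPullback.of_hasPullback gm.hom c.m.hom
  obtain ⟨e₁, he₁, ⟨a₁⟩, ⟨b₁⟩⟩ := exists_presentation_pullback_lift f zz c.z gm.hom γ θ c.m.hom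
    c.e hc.equiv c.α fst.hom snd.hom sq
  have hQfst : Q fst.hom :=
    hQb c.F.property c.Z.property hX G.property c.m.hom gm.hom fst.hom snd.hom sq.flip hc.hQ
  have hWG : AlgSp.IsAlgSpace (pullback c.w.hom snd.hom) :=
    Groth.Agent.H49.isAlgSpace_of_isPullback (IsPullback.of_hasPullback c.w.hom snd.hom)
      c.F.property.diag c.W.property hX
  let WG : AlgSp.Space S := ⟨pullback c.w.hom snd.hom, hWG⟩
  let k : WG ⟶ c.W := ObjectProperty.homMk (pullback.fst c.w.hom snd.hom)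
  let wG : WG ⟶ X := ObjectProperty.homMk (pullback.snd c.w.hom snd.hom)
  have psq : IsPullback k.hom wG.hom c.w.hom snd.hom := IsPullback.of_hasPullback c.w.hom snd.hom
  have hL : IsLargest P fst wG :=
    h₄ c.F c.Z X G c.m gm fst snd sq.flip hc.hQ hgm c.W c.w hc.largest WG wG k psq
  refine ⟨⟨G, γ, X, fst, e₁, a₁, WG, wG⟩, snd, ⟨hγ₁, hγ₂, he₁, hQfst, hL⟩, ?_, ⟨b₁⟩⟩
  intro ζ
  exact ⟨fun h => inSub_map psq.w h, fun h => inSub_of_isPullback psq h⟩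

/-- the inverse image of the largest open substack under a base change by a morphism with `R` is
the substack of the base-changed chart -/
theorem locus_bc (h𝒳 : IsAlgStack Scheme.fppfPrecoverage 𝒳)
    (h𝒴 : IsAlgStack Scheme.fppfPrecoverage 𝒴) (h𝒵 : IsAlgStack Scheme.fppfPrecoverage 𝒵)
    (h₂ : ∀ (X Y : AlgSp.Space S) (g : X ⟶ Y), AlgSp.LocP @Smooth g.hom → R g.hom)
    (h₄ : LargestBC P Q R) (f : 𝒳 ⥤ᵇ 𝒴) (zz : 𝒵 ⥤ᵇ 𝒴) (c : Chart f)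
    (c' : Chart (FibCat.fpFst zz f)) (snd : c'.F ⟶ c.F) (hc' : c'.Good P Q)
    (hin : ∀ ζ : (ofSp c'.F.obj).obj,
      InSub c'.w.hom ζ ↔ InSub c.w.hom ((ofSpMap snd.hom).obj ζ))
    (i : BasedFunctor.comp c'.π (FibCat.fpSnd zz f) ≅ BasedFunctor.comp (ofSpMap snd.hom) c.π)
    (Q₀ : 𝒳.obj → Prop) (hQ₀ : IsOpenSubstack 𝒳 Q₀ Scheme.fppfPrecoverage)
    (hQ₀iff : ∀ φ : (ofSp c.F.obj).obj, Q₀ (c.π.obj φ) ↔ InSub c.w.hom φ)
    (b : (FibCat.fp zz f).obj) : Q₀ b.obj.snd ↔ c'.locus b := by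
  have h𝒫 : IsAlgStack Scheme.fppfPrecoverage (FibCat.fp zz f) :=
    isAlgStack_fp h𝒴.isStack.1 h𝒴.diag h𝒵 h𝒳 zz f
  have hQ₀' : IsOpenSubstack (FibCat.fp zz f) (fun b => Q₀ b.obj.snd) Scheme.fppfPrecoverage :=
    isOpenSubstack_preimage h𝒫 h𝒳 (FibCat.fpSnd zz f) Q₀ hQ₀
  have hloc' := c'.isOpenSubstack_locus h𝒫 hc'
  have := hQ₀.1
  have key : ∀ ζ : (ofSp c'.F.obj).obj, Q₀ (c'.π.obj ζ).obj.snd ↔ c'.locus (c'.π.obj ζ) := by
    intro ζ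
    have e1 : (c'.π.obj ζ).obj.snd ≅ c.π.obj ((ofSpMap snd.hom).obj ζ) := bappIso i ζ
    have h1 : Q₀ (c'.π.obj ζ).obj.snd ↔ Q₀ (c.π.obj ((ofSpMap snd.hom).obj ζ)) :=
      ⟨fun h => ObjectProperty.prop_of_iso Q₀ e1 h,
        fun h => ObjectProperty.prop_of_iso Q₀ e1.symm h⟩
    rw [h1, hQ₀iff, ← hin, c'.locus_π_iff h𝒫.isStack.1 h𝒵.isStack.1 h₂ h₄ hc' ζ]
  have hsurj := c'.surjective_π h𝒫.isStack.1 hc'
  constructor
  · exact c'.le_of_forall_π h𝒫 hsurj _ _ hQ₀' hloc' (fun ζ h => (key ζ).1 h) b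
  · exact c'.le_of_forall_π h𝒫 hsurj _ _ hloc' hQ₀' (fun ζ h => (key ζ).2 h) b

end bc

end Groth.Agent.H65.Locus
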