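import Groth.Agent.H64.Psh.PbRecogG
import Groth.Agent.H64.Psh.PTools
import Groth.Agent.H49.AlgSpRep

set_option autoImplicit false
open CategoryTheory CategoryTheory.Limits Opposite AlgebraicGeometry
universe u

/-! The largest open subspace on which a morphism of algebraic spaces has a property: sections
factoring through a subsheaf, and the comparison of two smooth base changes. -/

namespace Groth.Agent.H65.Locus

open AlgSt Groth.Agent.H32 Groth.Agent.H64 Groth.Agent.H64.Recog Groth.Agent.H64.PTh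

variable {S : Scheme.{u}}

/-- the section of an object of the category of a sheaf comes from a section of `W` -/
def InSub {W X : AlgSp.Sp S} (w : W ⟶ X) (φ : (ofSp X).obj) : Prop :=
  ∃ s : W.obj.obj (op φ.base), w.hom.app (op φ.base) s = φ.sec

theorem app_map {W X : AlgSp.Sp S} (w : W ⟶ X) {T T' : Over S} (g : T' ⟶ T)
    (s : W.obj.obj (op T)) :
    w.hom.app (op T') (W.obj.map g.op s) = X.obj.map g.op (w.hom.app (op T) s) := by
  have h1 := ConcreteCategory.congr_hom (w.hom.naturality g.op) s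
  simpa only [types_comp_apply] using h1

theorem inSub_of_hom {W X : AlgSp.Sp S} (w : W ⟶ X) {φ' φ : (ofSp X).obj} (g : φ' ⟶ φ)
    (h : InSub w φ) : InSub w φ' := by
  obtain ⟨s, hs⟩ := h
  refine ⟨W.obj.map g.hom.op s, ?_⟩
  have h1 := ConcreteCategory.congr_hom (w.hom.naturality g.hom.op) s
  simp only [types_comp_apply] at h1
  rw [h1, hs]
  exact g.map_sec

theorem inSub_of_comp {W W₁ X : AlgSp.Sp S} {w : W ⟶ X} {w₁ : W₁ ⟶ X} (k : W₁ ⟶ W)
    (hk : k ≫ w = w₁) {φ : (ofSp X).obj} (h : InSub w₁ φ) : InSub w φ := by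
  obtain ⟨s, hs⟩ := h
  refine ⟨k.hom.app (op φ.base) s, ?_⟩
  subst hk
  exact hs

theorem inSub_map {W X W' X' : AlgSp.Sp S} {w : W ⟶ X} {g' : X' ⟶ X} {k : W' ⟶ W}
    {w' : W' ⟶ X'} (hsq : k ≫ w = w' ≫ g') {ζ : (ofSp X').obj} (h : InSub w' ζ) :
    InSub w ((ofSpMap g').obj ζ) := by
  obtain ⟨s, hs⟩ := h
  refine ⟨k.hom.app (op ζ.base) s, ?_⟩
  have h1 : (k ≫ w).hom.app (op ζ.base) s = (w' ≫ g').hom.app (op ζ.base) s := by rw [hsq]
  have h2 : (w' ≫ g').hom.app (op ζ.base) s = g'.hom.app (op ζ.base) ζ.sec := by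
    rw [← hs]; rfl
  exact h1.trans h2

theorem inSub_of_isPullback {W X W' X' : AlgSp.Sp S} {w : W ⟶ X} {g' : X' ⟶ X} {k : W' ⟶ W}
    {w' : W' ⟶ X'} (sq : IsPullback k w' w g') {ζ : (ofSp X').obj}
    (h : InSub w ((ofSpMap g').obj ζ)) : InSub w' ζ := by
  obtain ⟨s, hs⟩ := h
  have sq' : IsPullback k.hom w'.hom w.hom g'.hom := sq.map (sheafToPresheaf _ _)
  obtain ⟨t, -, ht⟩ := Types.exists_of_isPullback (isPullback_appG sq' ζ.base) s ζ.sec hs
  exact ⟨t, ht⟩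

/-- `w : W ⟶ X` is the largest open subspace on which `f : X ⟶ Y` has `P` -/
def IsLargest (P : MorphismProperty (AlgSp.Sp S)) {X Y W : AlgSp.Space S} (f : X ⟶ Y)
    (w : W ⟶ X) : Prop :=
  AlgSp.RepWith @IsOpenImmersion w.hom ∧ P (w ≫ f).hom ∧
    ∀ (W₁ : AlgSp.Space S) (w₁ : W₁ ⟶ X), AlgSp.RepWith @IsOpenImmersion w₁.hom →
      P (w₁ ≫ f).hom → ∃ k : W₁ ⟶ W, k ≫ w = w₁

/-- the hypothesis "the largest open subspace exists" -/
def HasLargest (P Q : MorphismProperty (AlgSp.Sp S)) : Prop :=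
  ∀ (X Y : AlgSp.Space S) (f : X ⟶ Y), Q f.hom → ∃ (W : AlgSp.Space S) (w : W ⟶ X), IsLargest P f w

/-- the hypothesis "the largest open subspace commutes with base change by morphisms with `R`" -/
def LargestBC (P Q R : MorphismProperty (AlgSp.Sp S)) : Prop :=
  ∀ (X Y X' Y' : AlgSp.Space S) (f : X ⟶ Y) (g : Y' ⟶ Y) (f' : X' ⟶ Y') (g' : X' ⟶ X),
    IsPullback g'.hom f'.hom f.hom g.hom → Q f.hom → R g.hom →
    ∀ (W : AlgSp.Space S) (w : W ⟶ X), IsLargest P f w →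
      ∀ (W' : AlgSp.Space S) (w' : W' ⟶ X') (k : W' ⟶ W), IsPullback k.hom w'.hom w.hom g'.hom →
        IsLargest P f' w'

/-- two base changes of `m` along morphisms with `R`, identified over the base, have the same
inverse image of the largest open subspace -/
theorem inSub_of_two_squares {P Q R : MorphismProperty (AlgSp.Sp S)} (h₄ : LargestBC P Q R)
    {F Z Z₂ F₁ F₂ W : AlgSp.Space S} (m : F ⟶ Z) (hm : Q m.hom) (p₁ p₂ : Z₂ ⟶ Z)
    (hp₁ : R p₁.hom) (hp₂ : R p₂.hom) (fst₁ : F₁ ⟶ Z₂) (snd₁ : F₁ ⟶ F) (fst₂ : F₂ ⟶ Z₂)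
    (snd₂ : F₂ ⟶ F) (sq₁ : IsPullback snd₁.hom fst₁.hom m.hom p₁.hom)
    (sq₂ : IsPullback snd₂.hom fst₂.hom m.hom p₂.hom) (ψ : F₁ ⟶ F₂) [IsIso ψ]
    (hψ : ψ ≫ fst₂ = fst₁) (w : W ⟶ F) (hw : IsLargest P m w) (ζ : (ofSp F₁.obj).obj)
    (h : InSub w.hom ((ofSpMap snd₂.hom).obj ((ofSpMap ψ.hom).obj ζ))) :
    InSub w.hom ((ofSpMap snd₁.hom).obj ζ) := by
  -- the inverse images of `W`
  have hW₁ : AlgSp.IsAlgSpace (pullback w.hom snd₁.hom) :=
    Groth.Agent.H49.isAlgSpace_of_isPullback (IsPullback.of_hasPullback w.hom snd₁.hom)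
      F.property.diag W.property F₁.property
  have hW₂ : AlgSp.IsAlgSpace (pullback w.hom snd₂.hom) :=
    Groth.Agent.H49.isAlgSpace_of_isPullback (IsPullback.of_hasPullback w.hom snd₂.hom)
      F.property.diag W.property F₂.property
  let W₁ : AlgSp.Space S := ⟨pullback w.hom snd₁.hom, hW₁⟩
  let W₂ : AlgSp.Space S := ⟨pullback w.hom snd₂.hom, hW₂⟩
  let k₁ : W₁ ⟶ W := ObjectProperty.homMk (pullback.fst w.hom snd₁.hom)
  let w₁ : W₁ ⟶ F₁ := ObjectProperty.homMk (pullback.snd w.hom snd₁.hom)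
  let k₂ : W₂ ⟶ W := ObjectProperty.homMk (pullback.fst w.hom snd₂.hom)
  let w₂ : W₂ ⟶ F₂ := ObjectProperty.homMk (pullback.snd w.hom snd₂.hom)
  have psq₁ : IsPullback k₁.hom w₁.hom w.hom snd₁.hom := IsPullback.of_hasPullback w.hom snd₁.hom
  have psq₂ : IsPullback k₂.hom w₂.hom w.hom snd₂.hom := IsPullback.of_hasPullback w.hom snd₂.hom
  have hL₁ : IsLargest P fst₁ w₁ := h₄ F Z F₁ Z₂ m p₁ fst₁ snd₁ sq₁ hm hp₁ W w hw W₁ w₁ k₁ psq₁
  have hL₂ : IsLargest P fst₂ w₂ := h₄ F Z F₂ Z₂ m p₂ fst₂ snd₂ sq₂ hm hp₂ W w hw W₂ w₂ k₂ psq₂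
  -- transport `w₂` to `F₁`
  have hψi : IsIso ψ.hom := by
    have : IsIso ((ObjectProperty.ι _).map ψ) := inferInstance
    exact this
  have hoi : AlgSp.RepWith @IsOpenImmersion (w₂ ≫ inv ψ).hom := by
    have h1 : (w₂ ≫ inv ψ).hom = w₂.hom ≫ (inv ψ).hom := rfl
    rw [h1]
    have : IsIso (inv ψ).hom := by
      have : IsIso ((ObjectProperty.ι _).map (inv ψ)) := inferInstance
      exact this
    exact (MorphismProperty.cancel_right_of_respectsIso (AlgSp.RepWith @IsOpenImmersion) w₂.hom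
      (inv ψ).hom).2 hL₂.1
  have hP' : P ((w₂ ≫ inv ψ) ≫ fst₁).hom := by
    have h1 : (w₂ ≫ inv ψ) ≫ fst₁ = w₂ ≫ fst₂ := by
      rw [← hψ, Category.assoc, IsIso.inv_hom_id_assoc]
    rw [h1]
    exact hL₂.2.1
  obtain ⟨k, hk⟩ := hL₁.2.2 W₂ (w₂ ≫ inv ψ) hoi hP'
  -- chase the section
  have h2 : InSub w₂.hom ((ofSpMap ψ.hom).obj ζ) := inSub_of_isPullback psq₂ h
  have h3 : InSub w₁.hom ζ := by
    have hk₀ : k.hom ≫ w₁.hom = w₂.hom ≫ (inv ψ).hom := congrArg (fun t => t.hom) hk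
    have h6 : InSub (w₂.hom ≫ (inv ψ).hom) ζ := by
      obtain ⟨s, hs⟩ := h2
      refine ⟨s, ?_⟩
      have h4 : (w₂.hom ≫ (inv ψ).hom).hom.app (op ζ.base) s =
          (inv ψ).hom.hom.app (op ζ.base) (ψ.hom.hom.app (op ζ.base) ζ.sec) := by
        have : w₂.hom.hom.app (op ζ.base) s = ψ.hom.hom.app (op ζ.base) ζ.sec := hs
        rw [← this]; rfl
      have h5 : (inv ψ).hom.hom.app (op ζ.base) (ψ.hom.hom.app (op ζ.base) ζ.sec) = ζ.sec := by
        have : (ψ ≫ inv ψ).hom.hom.app (op ζ.base) ζ.sec = ζ.sec := by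
          rw [IsIso.hom_inv_id]; rfl
        exact this
      exact h4.trans h5
    exact inSub_of_comp k.hom hk₀ h6
  exact inSub_map psq₁.w h3

end Groth.Agent.H65.Locus
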