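import Groth.Agent.H65.LocusBasic
import Groth.Agent.H64.MonoFF
import Groth.Agent.H64.Stk.SubFp
import Groth.Agent.H64.Stk.FpPaste2
import Groth.Agent.H64.Stk.FpFunct
import Groth.Agent.H64.Pts.OpenSubIff
import Groth.Agent.H64.Psh.PDescent2
import Groth.Agent.H64.Psh.PCompInst
import Groth.Agent.H64.Psh.AtlasLemma
import Groth.Agent.H51.SpOpen

set_option autoImplicit false
open CategoryTheory CategoryTheory.Limits Opposite AlgebraicGeometry
universe u

/-! The category of a subsheaf as a full subcategory, and presentations of the base change of the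
restriction of a morphism to a substack. -/

namespace Groth.Agent.H65.Locus

open AlgSt Groth.Agent.H32 Groth.Agent.H64 Groth.Agent.H64.Recog Groth.Agent.H64.FpRep
  Groth.Agent.H64.PTh Groth.Agent.H64.Pts

variable {S : Scheme.{u}}

section subSp

variable {W X : AlgSp.Sp S} (w : W ⟶ X) (Q'' : (ofSp X).obj → Prop)
  (hQ'' : ∀ φ, Q'' φ ↔ InSub w φ)

instance inSub_isClosedUnderIso : ObjectProperty.IsClosedUnderIsomorphisms (InSub w) :=
  ⟨fun e h => inSub_of_hom w e.inv h⟩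

/-- the category of a subsheaf, as the full subcategory on the sections coming from it -/
def subSp : ofSp W ⥤ᵇ subCat (𝒳 := ofSp X) Q'' :=
  subLiftFunctor (Q := Q'') (ofSpMap w) (fun a => (hQ'' _).2 ⟨a.sec, rfl⟩)

theorem subSp_comp_subIncl :
    BasedFunctor.comp (subSp w Q'' hQ'') (Groth.Agent.H64.subIncl (𝒳 := ofSp X) Q'') =
      ofSpMap w := rfl

instance subSp_faithful : (subSp w Q'' hQ'').toFunctor.Faithful where
  map_injective {a b} g g' h := by
    apply Stk.EltObj.hom_ext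
    exact congrArg (fun t => t.hom.hom) h

theorem subSp_full [Mono w] : (subSp w Q'' hQ'').toFunctor.Full where
  map_surjective {a b} k := by
    have h1 : X.obj.map k.hom.hom.op (w.hom.app (op b.base) b.sec) =
        w.hom.app (op a.base) a.sec := k.hom.map_sec
    have h2 : W.obj.map k.hom.hom.op b.sec = a.sec := by
      apply injective_app_of_mono w a.base
      exact (app_map w k.hom.hom b.sec).trans h1
    refine ⟨⟨k.hom.hom, h2⟩, ?_⟩
    apply ObjectProperty.hom_ext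
    apply Stk.EltObj.hom_ext
    rfl

theorem isEquivOver_subSp [Mono w] : FibCat.IsEquivOver (subSp w Q'' hQ'') := by
  have := subSp_full w Q'' hQ''
  apply isEquivOver_of_fullyFaithful_of_fiberwise_essSurj
  intro η
  obtain ⟨⟨B, sec⟩, hη⟩ := η
  obtain ⟨s, hs⟩ : ∃ s : W.obj.obj (op B), w.hom.app (op B) s = sec := (hQ'' _).1 hη
  subst hs
  exact ⟨⟨B, s⟩, Iso.refl _, IsHomLift.id rfl⟩

end subSp

section openSub

variable {F W : AlgSp.Space S} (w : W ⟶ F) (hw : AlgSp.RepWith @IsOpenImmersion w.hom)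

include hw in
theorem mono_of_openImm : Mono w.hom :=
  Groth.Agent.H49.mono_of_repWith_mono Groth.Agent.H51.isOpenImmersion_le_mono w.hom hw

include hw in
/-- the sections factoring through an open subspace form an open substack of the category of the
algebraic space -/
theorem isOpenSubstack_inSub :
    IsOpenSubstack (ofSp F.obj) (InSub w.hom) Scheme.fppfPrecoverage := by
  have hm : Mono w.hom := mono_of_openImm w hw
  have hE := isEquivOver_subSp w.hom (InSub w.hom) (fun _ => Iff.rfl)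
  have h1 : RepByAlgSpWith (AlgSp.RepWith @IsOpenImmersion) (ofSpMap w.hom) :=
    repByAlgSpWith_ofSpMap (stableBC_of_inst _) w hw
  have ho : IsOpenImm (AlgSt.subIncl (ofSp F.obj) (InSub w.hom)) :=
    repByAlgSpWith_of_square' _ (AlgSt.subIncl (ofSp F.obj) (InSub w.hom)) (ofSpMap w.hom)
      (subSp w.hom (InSub w.hom) (fun _ => Iff.rfl)) (BasedFunctor.id _) hE (isEquivOver_id _)
      (Iso.refl _) h1
  have hfib : FibCat.IsFibGrpd (AlgSt.fullSub (ofSp F.obj) (InSub w.hom)).p :=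
    isFibGrpd_subCat (Q := InSub w.hom) (Stk.isFibGrpd_ofPsh _)
      (fun _ _ φ h => inSub_of_hom w.hom φ h)
  exact ⟨inferInstance, isAlgStack_of_repByAlgSp1 hfib (isDM_ofSp F).1 _
    (RepByAlgSpWith.repByAlgSp1 ho), ho⟩

include hw in
theorem range_map_subIncl_inSub :
    Set.range (Points.map (AlgSt.subIncl (ofSp F.obj) (InSub w.hom))) =
      Set.range (Points.map (ofSpMap w.hom)) := by
  have hm : Mono w.hom := mono_of_openImm w hw
  have hbij := map_bijective_of_isEquivOver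
    (isEquivOver_subSp w.hom (InSub w.hom) (fun _ => Iff.rfl))
  ext ξ
  constructor
  · rintro ⟨η, rfl⟩
    obtain ⟨ν, rfl⟩ := hbij.2 η
    exact ⟨ν, (map_comp (subSp w.hom (InSub w.hom) (fun _ => Iff.rfl))
      (AlgSt.subIncl (ofSp F.obj) (InSub w.hom)) ν)⟩
  · rintro ⟨ν, rfl⟩
    exact ⟨Points.map (subSp w.hom (InSub w.hom) (fun _ => Iff.rfl)) ν,
      (map_comp (subSp w.hom (InSub w.hom) (fun _ => Iff.rfl))
        (AlgSt.subIncl (ofSp F.obj) (InSub w.hom)) ν).symm⟩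

include hw in
/-- a section factors through an open subspace iff all its points lie in it -/
theorem inSub_iff_ofSet (φ : (ofSp F.obj).obj) :
    InSub w.hom φ ↔ ofSet (Set.range (Points.map (ofSpMap w.hom))) φ := by
  rw [prop_iff_ofSet_range (Stk.isFibGrpd_ofPsh _) _ (isOpenSubstack_inSub w hw) φ,
    range_map_subIncl_inSub w hw]

end openSub

section presSub

variable {𝒳 𝒴 : AlgSt.Cat S}

/-- Given a presentation `F ⟶ Z` of `Z ×_𝒴 𝒳`, a strictly full subcategory `Q'` of `𝒳` whose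
inverse image in `F` is a subsheaf `W'` is such that `W'` presents `Z ×_𝒴 𝒳'`. -/
theorem exists_presentation_sub (f : 𝒳 ⥤ᵇ 𝒴) {Z F W' : AlgSp.Sp S} (z : ofSp Z ⥤ᵇ 𝒴)
    (m : F ⟶ Z) (e : ofSp F ⥤ᵇ FibCat.fp z f) (he : FibCat.IsEquivOver e)
    (α : BasedFunctor.comp e (FibCat.fpFst z f) ≅ ofSpMap m)
    (Q' : 𝒳.obj → Prop) [ObjectProperty.IsClosedUnderIsomorphisms Q'] (w' : W' ⟶ F) [Mono w']
    (hiff : ∀ φ : (ofSp F).obj, Q' (e.obj φ).obj.snd ↔ InSub w' φ) :
    ∃ E' : ofSp W' ⥤ᵇ FibCat.fp z (BasedFunctor.comp (AlgSt.subIncl 𝒳 Q') f),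
      FibCat.IsEquivOver E' ∧
        Nonempty (BasedFunctor.comp E'
          (FibCat.fpFst z (BasedFunctor.comp (AlgSt.subIncl 𝒳 Q') f)) ≅ ofSpMap (w' ≫ m)) := by
  let π : ofSp F ⥤ᵇ 𝒳 := BasedFunctor.comp e (FibCat.fpSnd z f)
  let G : ofSp W' ⥤ᵇ subCat (pbProp Q' π) := subSp w' (pbProp Q' π) hiff
  have hG : FibCat.IsEquivOver G := isEquivOver_subSp w' (pbProp Q' π) hiff
  let s₁ : subCat (pbProp Q' π) ⥤ᵇ FibCat.fp π (AlgSt.subIncl 𝒳 Q') := subFp Q' π
  have hs₁ : FibCat.IsEquivOver s₁ := isEquivOver_subFp Q' π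
  have hidfull : (BasedFunctor.id 𝒳).toFunctor.Full := (inferInstance : (𝟭 _).Full)
  have hidfaith : (BasedFunctor.id 𝒳).toFunctor.Faithful := (inferInstance : (𝟭 _).Faithful)
  let Θ : FibCat.fp π (AlgSt.subIncl 𝒳 Q') ⥤ᵇ
      FibCat.fp (FibCat.fpSnd z f) (AlgSt.subIncl 𝒳 Q') :=
    fpMap (FibCat.fpSnd z f) (AlgSt.subIncl 𝒳 Q') π (AlgSt.subIncl 𝒳 Q') e (BasedFunctor.id _)
      (BasedFunctor.id _) (Iso.refl _) (Iso.refl _)
  have hΘ : FibCat.IsEquivOver Θ :=
    isEquivOver_fpMap _ _ _ _ _ _ _ _ _ he (isEquivOver_id _)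
  let pB : FibCat.fp z (BasedFunctor.comp (AlgSt.subIncl 𝒳 Q') f) ⥤ᵇ
      FibCat.fp (FibCat.fpSnd z f) (AlgSt.subIncl 𝒳 Q') := fpPaste₂ (AlgSt.subIncl 𝒳 Q') f z
  have hpB : FibCat.IsEquivOver pB := isEquivOver_fpPaste₂ (AlgSt.subIncl 𝒳 Q') f z
  obtain ⟨dB⟩ := IsEquivOver.nonempty_data hpB
  let N : ofSp W' ⥤ᵇ FibCat.fp (FibCat.fpSnd z f) (AlgSt.subIncl 𝒳 Q') :=
    BasedFunctor.comp G (BasedFunctor.comp s₁ Θ)
  have hN : FibCat.IsEquivOver N := isEquivOver_comp hG (isEquivOver_comp hs₁ hΘ)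
  let E' : ofSp W' ⥤ᵇ FibCat.fp z (BasedFunctor.comp (AlgSt.subIncl 𝒳 Q') f) :=
    BasedFunctor.comp N dB.inv
  have hE' : FibCat.IsEquivOver E' := isEquivOver_comp hN (isEquivOver_inv dB)
  refine ⟨E', hE', ?_⟩
  let pr : FibCat.fp (FibCat.fpSnd z f) (AlgSt.subIncl 𝒳 Q') ⥤ᵇ ofSp Z :=
    BasedFunctor.comp (FibCat.fpFst (FibCat.fpSnd z f) (AlgSt.subIncl 𝒳 Q')) (FibCat.fpFst z f)
  have h1 : BasedFunctor.comp E' (FibCat.fpFst z (BasedFunctor.comp (AlgSt.subIncl 𝒳 Q') f)) =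
      BasedFunctor.comp N (BasedFunctor.comp (BasedFunctor.comp dB.inv pB) pr) := rfl
  have i2 : BasedFunctor.comp N (BasedFunctor.comp (BasedFunctor.comp dB.inv pB) pr) ≅
      BasedFunctor.comp N (BasedFunctor.comp (BasedFunctor.id _) pr) :=
    bwlIso N (bwrIso dB.counit pr)
  have h3 : BasedFunctor.comp N (BasedFunctor.comp (BasedFunctor.id _) pr) =
      BasedFunctor.comp (ofSpMap w') (BasedFunctor.comp e (FibCat.fpFst z f)) := rfl
  have i4 : BasedFunctor.comp (ofSpMap w') (BasedFunctor.comp e (FibCat.fpFst z f)) ≅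
      BasedFunctor.comp (ofSpMap w') (ofSpMap m) := bwlIso (ofSpMap w') α
  have h5 : BasedFunctor.comp (ofSpMap w') (ofSpMap m) = ofSpMap (w' ≫ m) := rfl
  exact ⟨eqToIso h1 ≪≫ i2 ≪≫ eqToIso h3 ≪≫ i4 ≪≫ eqToIso h5⟩

end presSub

end Groth.Agent.H65.Locus
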