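import Groth.Agent.H65.LocusSat
import Groth.Agent.H65.LocusSub
import Groth.Agent.H64.Pts.OpenImage
import Groth.Agent.H64.Pts.Space
import Groth.Agent.H64.Pts.Surj
import Groth.Agent.H64.Pts.Compact
import Groth.Agent.H64.LocQ.SubLocQ
import Groth.Agent.H64.Psh.AlgStackRep

set_option autoImplicit false
open CategoryTheory CategoryTheory.Limits Opposite AlgebraicGeometry
universe u

/-! The largest open substack on which a morphism representable by algebraic spaces has a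
property, read on a chart from an algebraic space. -/

namespace Groth.Agent.H65.Locus

open AlgSt Groth.Agent.H32 Groth.Agent.H64 Groth.Agent.H64.Recog Groth.Agent.H64.FpRep
  Groth.Agent.H64.PTh Groth.Agent.H64.Pts Groth.Agent.H64.LocQ

variable {S : Scheme.{u}} {𝒳 𝒴 : AlgSt.Cat S}

/-- a chart of `f : 𝒳 ⟶ 𝒴`: a chart `Z ⟶ 𝒴` from an algebraic space, a presentation `F ⟶ Z` of
`Z ×_𝒴 𝒳`, and a subspace `W ⟶ F` -/
structure Chart (f : 𝒳 ⥤ᵇ 𝒴) where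
  Z : AlgSp.Space S
  z : ofSp Z.obj ⥤ᵇ 𝒴
  F : AlgSp.Space S
  m : F ⟶ Z
  e : ofSp F.obj ⥤ᵇ FibCat.fp z f
  α : BasedFunctor.comp e (FibCat.fpFst z f) ≅ ofSpMap m.hom
  W : AlgSp.Space S
  w : W ⟶ F

namespace Chart

variable {f : 𝒳 ⥤ᵇ 𝒴} (c : Chart f)

/-- the chart of `𝒳` -/
def π : ofSp c.F.obj ⥤ᵇ 𝒳 := BasedFunctor.comp c.e (FibCat.fpSnd c.z f)

/-- the image of the subspace in `|𝒳|` -/
def locusSet : Set (Points 𝒳) :=
  Set.range (Points.map (BasedFunctor.comp (ofSpMap c.w.hom) c.π))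

/-- the substack of `𝒳` that is the image of the subspace -/
def locus : 𝒳.obj → Prop := ofSet c.locusSet

/-- the chart is smooth and surjective, the presentation is an equivalence with `Q`, and the
subspace is the largest open subspace with `P` -/
structure Good (P Q : MorphismProperty (AlgSp.Sp S)) : Prop where
  smooth : RepByAlgSpWith (AlgSp.LocP @Smooth) c.z
  surj : RepByAlgSpWith AlgSp.IsSurjectiveMor c.z
  equiv : FibCat.IsEquivOver c.e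
  hQ : Q c.m.hom
  largest : IsLargest P c.m c.w

variable {P Q R : MorphismProperty (AlgSp.Sp S)}

theorem smooth_π (hc : c.Good P Q) : RepByAlgSpWith (AlgSp.LocP @Smooth) c.π :=
  repByAlgSpWith_of_square _ (FibCat.fpSnd c.z f) c.π c.e (BasedFunctor.id _) hc.equiv
    (isEquivOver_id _) (Iso.refl _) (PTh.repByAlgSpWith_fpSnd _ c.z f hc.smooth)

theorem surj_π (hc : c.Good P Q) : RepByAlgSpWith AlgSp.IsSurjectiveMor c.π :=
  repByAlgSpWith_of_square _ (FibCat.fpSnd c.z f) c.π c.e (BasedFunctor.id _) hc.equiv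
    (isEquivOver_id _) (Iso.refl _) (PTh.repByAlgSpWith_fpSnd _ c.z f hc.surj)

theorem surjective_π (h𝒳 : FibCat.IsFibGrpd 𝒳.p) (hc : c.Good P Q) :
    Function.Surjective (Points.map c.π) :=
  (isSurjective_iff_repByAlgSpWith (Stk.isFibGrpd_ofPsh _) h𝒳 c.π
    (RepByAlgSpWith.repByAlgSp1 (c.smooth_π hc))).mpr (c.surj_π hc)

theorem isOpen_locusSet (h𝒳 : FibCat.IsFibGrpd 𝒳.p) (hc : c.Good P Q) : IsOpen c.locusSet := by
  have hW : FibCat.IsFibGrpd (ofSp c.W.obj).p := Stk.isFibGrpd_ofPsh _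
  have hF : FibCat.IsFibGrpd (ofSp c.F.obj).p := Stk.isFibGrpd_ofPsh _
  have hjs : RepByAlgSpWith (AlgSp.LocP @Smooth) (ofSpMap c.w.hom) :=
    repByAlgSpWith_ofSpMap (stableBC_locP Groth.Agent.H50.goodClass_smooth) c.w
      (Groth.Agent.H50.goodClass_smooth.locP_of_repWith_etale c.w.hom
        (Groth.Agent.H49.repWith_of_le openImm_le_flat hc.largest.1))
  have hv : RepByAlgSpWith (AlgSp.LocP @Smooth) (BasedFunctor.comp (ofSpMap c.w.hom) c.π) :=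
    repByAlgSpWith_smooth_comp hW hF _ c.π hjs (c.smooth_π hc)
  exact (isOpenMap_map_of_space h𝒳 c.W _ (repByAlgSpWith_flat_of_smooth _ hv)
    (repByAlgSpWith_lfp_of_smooth _ hv)).isOpen_range

theorem isOpenSubstack_locus (h𝒳 : IsAlgStack Scheme.fppfPrecoverage 𝒳) (hc : c.Good P Q) :
    IsOpenSubstack 𝒳 c.locus Scheme.fppfPrecoverage :=
  isOpenSubstack_ofSet h𝒳 _ (c.isOpen_locusSet h𝒳.isStack.1 hc)

/-- saturation on points -/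
theorem preimage_locusSet_subset (h𝒳 : FibCat.IsFibGrpd 𝒳.p) (h𝒴 : FibCat.IsFibGrpd 𝒴.p)
    (h₂ : ∀ (X Y : AlgSp.Space S) (g : X ⟶ Y), AlgSp.LocP @Smooth g.hom → R g.hom)
    (h₄ : LargestBC P Q R) (hc : c.Good P Q) :
    Points.map c.π ⁻¹' c.locusSet ⊆ Set.range (Points.map (ofSpMap c.w.hom)) := by
  have hF : FibCat.IsFibGrpd (ofSp c.F.obj).p := Stk.isFibGrpd_ofPsh _
  intro ξ hξ
  obtain ⟨η, hη⟩ := hξ
  obtain ⟨p, rfl⟩ := Points.mk_surjective ξ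
  obtain ⟨q, rfl⟩ := Points.mk_surjective η
  have hrel : FPt.Rel (q.map (BasedFunctor.comp (ofSpMap c.w.hom) c.π)) (p.map c.π) :=
    rel_of_mk_eq h𝒳 hη
  obtain ⟨r, a, b, -⟩ := hrel
  obtain ⟨t', ψ', e', he'⟩ := exists_lift_obj hF h𝒳 c.π ((ofSpMap c.w.hom).obj q.obj) r.obj a
  obtain ⟨t, ψ, e'', he''⟩ := exists_lift_obj hF h𝒳 c.π p.obj r.obj b
  have hbase : 𝒳.p.obj r.obj = (ofSp c.Z.obj).p.obj (c.e.obj t).obj.fst := by
    have h1 : 𝒳.p.obj (c.π.obj t) = 𝒳.p.obj r.obj := lift_domain_eq 𝒳.p he''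
    have h2 : 𝒳.p.obj (c.π.obj t) = (ofSp c.F.obj).p.obj t := c.π.w_obj t
    have h3 : (FibCat.fp c.z f).p.obj (c.e.obj t) = (ofSp c.F.obj).p.obj t := c.e.w_obj t
    exact h1.symm.trans (h2.trans h3.symm)
  let δ : (c.e.obj t).obj.snd ≅ (c.e.obj t').obj.snd := e'' ≪≫ e'.symm
  have hδ : 𝒳.p.IsHomLift (𝟙 ((ofSp c.Z.obj).p.obj (c.e.obj t).obj.fst)) δ.hom :=
    lift_id_congr 𝒳.p (lift_id_comp_id 𝒳.p he'' (lift_inv_of_iso 𝒳.p e' he')) hbase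
  have h1 : InSub c.w.hom ((ofSpMap c.w.hom).obj q.obj) := ⟨q.obj.sec, rfl⟩
  have h2 : InSub c.w.hom t' := inSub_of_hom c.w.hom ψ' h1
  have h3 : InSub c.w.hom t := saturation h₂ h₄ h𝒴 f c.Z c.z hc.smooth c.F c.m c.e hc.equiv c.α
    hc.hQ c.W c.w hc.largest t t' δ hδ h2
  have ht : (ofSp c.F.obj).p.obj t = Over.mk r.str := by
    have h4 : 𝒳.p.obj (c.π.obj t) = 𝒳.p.obj r.obj := lift_domain_eq 𝒳.p he''
    exact (c.π.w_obj t).symm.trans (h4.trans r.lies)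
  obtain ⟨B, sec⟩ := t
  obtain ⟨s, hs⟩ : ∃ s : c.W.obj.obj.obj (op B), c.w.hom.hom.app (op B) s = sec := h3
  subst hs
  let r' : FPt (ofSp c.W.obj) := ⟨r.K, r.str, ⟨B, s⟩, ht⟩
  refine ⟨Points.mk r', ?_⟩
  apply Points.sound
  exact ⟨r'.map (ofSpMap c.w.hom), 𝟙 _, ψ, trivial⟩

/-- the inverse image of the substack in the presentation is the subspace -/
theorem locus_π_iff (h𝒳 : FibCat.IsFibGrpd 𝒳.p) (h𝒴 : FibCat.IsFibGrpd 𝒴.p)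
    (h₂ : ∀ (X Y : AlgSp.Space S) (g : X ⟶ Y), AlgSp.LocP @Smooth g.hom → R g.hom)
    (h₄ : LargestBC P Q R) (hc : c.Good P Q) (φ : (ofSp c.F.obj).obj) :
    c.locus (c.π.obj φ) ↔ InSub c.w.hom φ := by
  have hF : FibCat.IsFibGrpd (ofSp c.F.obj).p := Stk.isFibGrpd_ofPsh _
  have hW : FibCat.IsFibGrpd (ofSp c.W.obj).p := Stk.isFibGrpd_ofPsh _
  constructor
  · intro h
    have h1 : ofSet (Points.map c.π ⁻¹' c.locusSet) φ :=
      (ofSet_preimage_iff hF h𝒳 c.π c.locusSet φ).1 h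
    have h2 : ofSet (Set.range (Points.map (ofSpMap c.w.hom))) φ :=
      ofSet_mono (c.preimage_locusSet_subset h𝒳 h𝒴 h₂ h₄ hc) h1
    exact (inSub_iff_ofSet c.w hc.largest.1 φ).2 h2
  · intro h
    obtain ⟨B, sec⟩ := φ
    obtain ⟨s, hs⟩ : ∃ s : c.W.obj.obj.obj (op B), c.w.hom.hom.app (op B) s = sec := h
    subst hs
    exact ofSet_range_obj hW h𝒳 (BasedFunctor.comp (ofSpMap c.w.hom) c.π) ⟨B, s⟩

/-- an open substack is determined by its inverse image in a surjective chart -/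
theorem le_of_forall_π (h𝒳 : IsAlgStack Scheme.fppfPrecoverage 𝒳)
    (hsurj : Function.Surjective (Points.map c.π)) (Q₁ Q₂ : 𝒳.obj → Prop)
    (hQ₁ : IsOpenSubstack 𝒳 Q₁ Scheme.fppfPrecoverage)
    (hQ₂ : IsOpenSubstack 𝒳 Q₂ Scheme.fppfPrecoverage)
    (h : ∀ φ : (ofSp c.F.obj).obj, Q₁ (c.π.obj φ) → Q₂ (c.π.obj φ)) : ∀ y, Q₁ y → Q₂ y := by
  rw [(isOpenSubstack_bijOn h𝒳).2 Q₁ Q₂ hQ₁ hQ₂]
  rintro ξ hξ
  obtain ⟨η, rfl⟩ := hsurj ξ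
  obtain ⟨p, rfl⟩ := Points.mk_surjective η
  have h1 : Q₁ (c.π.obj p.obj) := by
    apply prop_of_ofSet_range h𝒳.isStack.1 Q₁ hQ₁
    rintro p'' ⟨φ⟩
    have h2 : Points.mk p'' = Points.mk (p.map c.π) := Points.sound ⟨p'', 𝟙 _, φ, trivial⟩
    rw [h2]
    exact hξ
  have h3 : Q₂ (c.π.obj p.obj) := h _ h1
  exact ⟨Points.mk ⟨p.K, p.str, ⟨c.π.obj p.obj, h3⟩, (p.map c.π).lies⟩, rfl⟩

/-- the restriction of `f` to the substack has `P` -/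
theorem repByAlgSpWith_locus (hPb : StableBC P) (hP : AlgSp.IsLocalOnBase AlgSp.IsFppfCover P)
    (h𝒳 : IsAlgStack Scheme.fppfPrecoverage 𝒳) (h𝒴 : FibCat.IsFibGrpd 𝒴.p)
    (hf : RepByAlgSp1 f)
    (h₂ : ∀ (X Y : AlgSp.Space S) (g : X ⟶ Y), AlgSp.LocP @Smooth g.hom → R g.hom)
    (h₄ : LargestBC P Q R) (hc : c.Good P Q) :
    RepByAlgSpWith P (BasedFunctor.comp (AlgSt.subIncl 𝒳 c.locus) f) := by
  have hX := h𝒳.isStack.1
  have hQ₀ := c.isOpenSubstack_locus h𝒳 hc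
  have hsub : FibCat.IsFibGrpd (AlgSt.fullSub 𝒳 c.locus).p := hQ₀.2.1.isStack.1
  have hrep1 : RepByAlgSp1 (BasedFunctor.comp (AlgSt.subIncl 𝒳 c.locus) f) :=
    repByAlgSp1_comp hsub hX _ f (RepByAlgSpWith.repByAlgSp1 hQ₀.2.2) hf
  have := hQ₀.1
  have hm : Mono c.w.hom := mono_of_openImm c.w hc.largest.1
  obtain ⟨E', hE', ⟨i⟩⟩ := exists_presentation_sub f c.z c.m.hom c.e hc.equiv c.α c.locus c.w.hom
    (fun φ => c.locus_π_iff hX h𝒴 h₂ h₄ hc φ)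
  exact (repByAlgSpWith_iff_presentation hsub h𝒴 hPb hP _ hrep1 c.Z c.z
    (repByAlgSpWith_flat_of_smooth _ hc.smooth) (repByAlgSpWith_lfp_of_smooth _ hc.smooth)
    hc.surj).2 ⟨c.W, c.w ≫ c.m, E', hE', ⟨i⟩, hc.largest.2.1⟩

/-- the inverse image of an open substack in the presentation is an open subspace -/
theorem exists_open_subspace_of_substack (h𝒳 : FibCat.IsFibGrpd 𝒳.p) (Q₁ : 𝒳.obj → Prop)
    (hQ₁ : IsOpenSubstack 𝒳 Q₁ Scheme.fppfPrecoverage) :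
    ∃ (W₁ : AlgSp.Space S) (w₁ : W₁ ⟶ c.F), AlgSp.RepWith @IsOpenImmersion w₁.hom ∧
      ∀ φ : (ofSp c.F.obj).obj, Q₁ (c.π.obj φ) ↔ InSub w₁.hom φ := by
  have hsub : FibCat.IsFibGrpd (AlgSt.fullSub 𝒳 Q₁).p := hQ₁.2.1.isStack.1
  have := hQ₁.1
  obtain ⟨W₁, w₁, e₁, he₁, ⟨α₁⟩, hw₁⟩ := hasP_of_repByAlgSpWith hsub h𝒳
    (stableBC_of_inst (AlgSp.RepWith @IsOpenImmersion)) isLocalOnBase_fppf_openImm
    (AlgSt.subIncl 𝒳 Q₁) hQ₁.2.2 c.F c.π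
  refine ⟨W₁, w₁, hw₁, fun φ => ⟨fun hQ => ?_, fun h => ?_⟩⟩
  · let ζ : (FibCat.fp c.π (AlgSt.subIncl 𝒳 Q₁)).obj :=
      ⟨⟨φ, ⟨c.π.obj φ, hQ⟩, Iso.refl _⟩, IsHomLift.id (c.π.w_obj φ)⟩
    obtain ⟨a, ε, -⟩ := fiberwise_essSurj_of_isEquivOver he₁ ζ
    let i₁ : (e₁.obj a).obj.fst ≅ φ := (FibCat.fpFst c.π (AlgSt.subIncl 𝒳 Q₁)).toFunctor.mapIso ε
    let i₂ : (e₁.obj a).obj.fst ≅ (ofSpMap w₁.hom).obj a := bappIso α₁ a
    have h1 : InSub w₁.hom ((ofSpMap w₁.hom).obj a) := ⟨a.sec, rfl⟩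
    exact inSub_of_hom w₁.hom (i₁.symm ≪≫ i₂).hom h1
  · obtain ⟨B, sec⟩ := φ
    obtain ⟨s, hs⟩ : ∃ s : W₁.obj.obj.obj (op B), w₁.hom.hom.app (op B) s = sec := h
    subst hs
    let a : (ofSp W₁.obj).obj := ⟨B, s⟩
    let i₂ : (e₁.obj a).obj.fst ≅ (ofSpMap w₁.hom).obj a := bappIso α₁ a
    let i₃ : c.π.obj (e₁.obj a).obj.fst ≅ (e₁.obj a).obj.snd.obj := (e₁.obj a).obj.iso
    exact ObjectProperty.prop_of_iso Q₁ (i₃.symm ≪≫ c.π.toFunctor.mapIso i₂)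
      (e₁.obj a).obj.snd.property

/-- maximality of the substack -/
theorem locus_max (hPb : StableBC P) (hP : AlgSp.IsLocalOnBase AlgSp.IsFppfCover P)
    (h𝒳 : IsAlgStack Scheme.fppfPrecoverage 𝒳) (h𝒴 : FibCat.IsFibGrpd 𝒴.p)
    (h₂ : ∀ (X Y : AlgSp.Space S) (g : X ⟶ Y), AlgSp.LocP @Smooth g.hom → R g.hom)
    (h₄ : LargestBC P Q R) (hc : c.Good P Q) (Q₁ : 𝒳.obj → Prop)
    (hQ₁ : IsOpenSubstack 𝒳 Q₁ Scheme.fppfPrecoverage)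
    (hP₁ : RepByAlgSpWith P (BasedFunctor.comp (AlgSt.subIncl 𝒳 Q₁) f)) :
    ∀ y, Q₁ y → c.locus y := by
  have hX := h𝒳.isStack.1
  have hsub : FibCat.IsFibGrpd (AlgSt.fullSub 𝒳 Q₁).p := hQ₁.2.1.isStack.1
  have := hQ₁.1
  obtain ⟨W₁, w₁, hw₁, hiff₁⟩ := c.exists_open_subspace_of_substack hX Q₁ hQ₁
  have hm : Mono w₁.hom := mono_of_openImm w₁ hw₁
  obtain ⟨E', hE', ⟨i⟩⟩ := exists_presentation_sub f c.z c.m.hom c.e hc.equiv c.α Q₁ w₁.hom hiff₁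
  have hPw : P (w₁ ≫ c.m).hom :=
    prop_of_presentation hsub h𝒴 hPb hP _ hP₁ c.Z c.z W₁ (w₁ ≫ c.m) E' hE' i
  obtain ⟨k, hk⟩ := hc.largest.2.2 W₁ w₁ hw₁ hPw
  have hk₀ : k.hom ≫ c.w.hom = w₁.hom := congrArg (fun t => t.hom) hk
  apply c.le_of_forall_π h𝒳 (c.surjective_π hX hc) Q₁ c.locus hQ₁ (c.isOpenSubstack_locus h𝒳 hc)
  intro φ hφ
  exact (c.locus_π_iff hX h𝒴 h₂ h₄ hc φ).2 (inSub_of_comp k.hom hk₀ ((hiff₁ φ).1 hφ))

end Chart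

/-- a good chart exists -/
theorem exists_good_chart {P Q : MorphismProperty (AlgSp.Sp S)} (hQb : StableBC Q)
    (hQ : AlgSp.IsLocalOnBase AlgSp.IsFppfCover Q) (h₃ : HasLargest P Q)
    (h𝒳 : FibCat.IsFibGrpd 𝒳.p) (h𝒴 : IsAlgStack Scheme.fppfPrecoverage 𝒴) (f : 𝒳 ⥤ᵇ 𝒴)
    (hf : RepByAlgSpWith Q f) : ∃ c : Chart f, c.Good P Q := by
  obtain ⟨V, v, hv₁, hv₂⟩ := h𝒴.atlas
  let z : ofSp (yonSpace V).obj ⥤ᵇ 𝒴 := BasedFunctor.comp (toOverCat V) v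
  have hz₁ : RepByAlgSpWith (AlgSp.LocP @Smooth) z :=
    repByAlgSpWith_of_square _ v z (toOverCat V) (BasedFunctor.id _) (isEquivOver_toOverCat V)
      (isEquivOver_id _) (Iso.refl _) hv₁
  have hz₂ : RepByAlgSpWith AlgSp.IsSurjectiveMor z :=
    repByAlgSpWith_of_square _ v z (toOverCat V) (BasedFunctor.id _) (isEquivOver_toOverCat V)
      (isEquivOver_id _) (Iso.refl _) hv₂
  obtain ⟨F, m, e, he, ⟨α⟩, hm⟩ := hasP_of_repByAlgSpWith h𝒳 h𝒴.isStack.1 hQb hQ f hf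
    (yonSpace V) z
  obtain ⟨W, w, hw⟩ := h₃ F (yonSpace V) m hm
  exact ⟨⟨yonSpace V, z, F, m, e, α, W, w⟩, ⟨hz₁, hz₂, he, hm, hw⟩⟩

end Groth.Agent.H65.Locus
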