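import Groth.Agent.H64.Psh.PDescent
import Groth.Agent.H64.Psh.PCompare

set_option autoImplicit false
open CategoryTheory CategoryTheory.Limits Opposite AlgebraicGeometry
universe v₅ u₅ v₄ u₄ v₃ u₃ v₂ u₂ v u

/-! Presentations of base changes with both projections, strong uniqueness of presentations, and
joint surjectivity of the two projections of `(𝒵 ×_𝒴 𝒵) ×_𝒴 𝒳`. -/

namespace Groth.Agent.H65.Locus

open AlgSt Groth.Agent.H32 Groth.Agent.H64 Groth.Agent.H64.Recog Groth.Agent.H64.FpRep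
  Groth.Agent.H64.PTh

section uniq

variable {S : Scheme.{u}}

/-- two presentations of the same category over `(Sch/S)` are compared by a map of sheaves,
compatibly with the presentations up to 2-isomorphism -/
theorem exists_map_of_presentations {V₁ V₂ : AlgSp.Sp S} {𝒲 : BasedCategory.{v₂, u₂} (Over S)}
    (e₁ : ofSp V₁ ⥤ᵇ 𝒲) (he₁ : FibCat.IsEquivOver e₁) (e₂ : ofSp V₂ ⥤ᵇ 𝒲) :
    ∃ ψ : V₂ ⟶ V₁, (FibCat.IsEquivOver e₂ → IsIso ψ) ∧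
      Nonempty (BasedFunctor.comp (ofSpMap ψ) e₁ ≅ e₂) := by
  obtain ⟨d⟩ := IsEquivOver.nonempty_data he₁
  let Ψ : Stk.ofPsh V₂.obj ⥤ᵇ Stk.ofPsh V₁.obj := BasedFunctor.comp e₂ d.inv
  let ψ₀ : V₂.obj ⟶ V₁.obj := pshMapOf Ψ
  let ψ : V₂ ⟶ V₁ := ObjectProperty.homMk ψ₀
  refine ⟨ψ, ?_, ?_⟩
  · intro he₂
    have hΨ : FibCat.IsEquivOver Ψ := isEquivOver_comp he₂ (isEquivOver_inv d)
    have hiso := isIso_pshMapOf hΨ
    have : IsIso ((ObjectProperty.ι _).map ψ) := hiso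
    exact isIso_of_reflects_iso ψ (ObjectProperty.ι _)
  · obtain ⟨β⟩ := nonempty_iso_ofPshMap Ψ
    have i1 : BasedFunctor.comp (ofSpMap ψ) e₁ ≅ BasedFunctor.comp Ψ e₁ := bwrIso β e₁
    have i2 : BasedFunctor.comp Ψ e₁ ≅ BasedFunctor.comp e₂ (BasedFunctor.id _) :=
      bwlIso e₂ d.counit
    exact ⟨i1 ≪≫ i2⟩

end uniq

section pres

variable {S : Scheme.{u}}

/-- Given a presentation `F ⟶ Z` of `Z ×_𝒴 𝒳` and a map of sheaves `t : T ⟶ Z`, the sheaf fibre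
product `T ×_Z F` presents `T ×_𝒴 𝒳`, compatibly with both projections. -/
theorem exists_presentation_pullback_both {𝒳 𝒴 : AlgSt.Cat S} (f : 𝒳 ⥤ᵇ 𝒴)
    {Z T F : AlgSp.Sp S} (z : ofSp Z ⥤ᵇ 𝒴) (t : T ⟶ Z) (m : F ⟶ Z)
    (e : ofSp F ⥤ᵇ FibCat.fp z f) (he : FibCat.IsEquivOver e)
    (α : BasedFunctor.comp e (FibCat.fpFst z f) ≅ ofSpMap m)
    {X : AlgSp.Sp S} (fst : X ⟶ T) (snd : X ⟶ F) (sq : IsPullback fst snd t m) :
    ∃ E : ofSp X ⥤ᵇ FibCat.fp (BasedFunctor.comp (ofSpMap t) z) f, FibCat.IsEquivOver E ∧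
      Nonempty (BasedFunctor.comp E (FibCat.fpFst (BasedFunctor.comp (ofSpMap t) z) f) ≅
        ofSpMap fst) ∧
      Nonempty (BasedFunctor.comp E (fpPasteSnd f z (ofSpMap t)) ≅
        BasedFunctor.comp (ofSpMap snd) e) := by
  have sq' : IsPullback fst.hom snd.hom t.hom m.hom := sq.map (sheafToPresheaf _ _)
  let L : ofSp X ⥤ᵇ FibCat.fp (ofSpMap t) (ofSpMap m) := pbLiftGSq sq'
  have hL : FibCat.IsEquivOver L := isEquivOver_pbLiftGSq sq'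
  have hidfull : (BasedFunctor.id (ofSp Z)).toFunctor.Full := (inferInstance : (𝟭 _).Full)
  have hidfaith : (BasedFunctor.id (ofSp Z)).toFunctor.Faithful :=
    (inferInstance : (𝟭 _).Faithful)
  let Ψ : FibCat.fp (ofSpMap t) (ofSpMap m) ⥤ᵇ FibCat.fp (ofSpMap t) (FibCat.fpFst z f) :=
    fpMap (ofSpMap t) (FibCat.fpFst z f) (ofSpMap t) (ofSpMap m) (BasedFunctor.id _) e
      (BasedFunctor.id _) (Iso.refl _) α.symm
  have hΨ : FibCat.IsEquivOver Ψ :=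
    isEquivOver_fpMap _ _ _ _ _ _ _ _ _ (isEquivOver_id _) he
  let M : ofSp X ⥤ᵇ FibCat.fp (ofSpMap t) (FibCat.fpFst z f) := BasedFunctor.comp L Ψ
  have hM : FibCat.IsEquivOver M := isEquivOver_comp hL hΨ
  let pA : FibCat.fp (BasedFunctor.comp (ofSpMap t) z) f ⥤ᵇ
      FibCat.fp (ofSpMap t) (FibCat.fpFst z f) := fpPaste f z (ofSpMap t)
  have hpA : FibCat.IsEquivOver pA := isEquivOver_fpPaste f z (ofSpMap t)
  obtain ⟨dA⟩ := IsEquivOver.nonempty_data hpA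
  let E : ofSp X ⥤ᵇ FibCat.fp (BasedFunctor.comp (ofSpMap t) z) f := BasedFunctor.comp M dA.inv
  have hE : FibCat.IsEquivOver E := isEquivOver_comp hM (isEquivOver_inv dA)
  refine ⟨E, hE, ?_, ?_⟩
  · have h1 : BasedFunctor.comp E (FibCat.fpFst (BasedFunctor.comp (ofSpMap t) z) f) =
        BasedFunctor.comp M (BasedFunctor.comp (BasedFunctor.comp dA.inv pA)
          (FibCat.fpFst (ofSpMap t) (FibCat.fpFst z f))) := rfl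
    have i2 : BasedFunctor.comp M (BasedFunctor.comp (BasedFunctor.comp dA.inv pA)
          (FibCat.fpFst (ofSpMap t) (FibCat.fpFst z f))) ≅
        BasedFunctor.comp M (BasedFunctor.comp (BasedFunctor.id _)
          (FibCat.fpFst (ofSpMap t) (FibCat.fpFst z f))) :=
      bwlIso M (bwrIso dA.counit (FibCat.fpFst (ofSpMap t) (FibCat.fpFst z f)))
    have h3 : BasedFunctor.comp M (BasedFunctor.comp (BasedFunctor.id _)
          (FibCat.fpFst (ofSpMap t) (FibCat.fpFst z f))) = ofSpMap fst := rfl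
    exact ⟨eqToIso h1 ≪≫ i2 ≪≫ eqToIso h3⟩
  · have h1 : BasedFunctor.comp E (fpPasteSnd f z (ofSpMap t)) =
        BasedFunctor.comp M (BasedFunctor.comp (BasedFunctor.comp dA.inv pA)
          (FibCat.fpSnd (ofSpMap t) (FibCat.fpFst z f))) := rfl
    have i2 : BasedFunctor.comp M (BasedFunctor.comp (BasedFunctor.comp dA.inv pA)
          (FibCat.fpSnd (ofSpMap t) (FibCat.fpFst z f))) ≅
        BasedFunctor.comp M (BasedFunctor.comp (BasedFunctor.id _)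
          (FibCat.fpSnd (ofSpMap t) (FibCat.fpFst z f))) :=
      bwlIso M (bwrIso dA.counit (FibCat.fpSnd (ofSpMap t) (FibCat.fpFst z f)))
    have h3 : BasedFunctor.comp M (BasedFunctor.comp (BasedFunctor.id _)
          (FibCat.fpSnd (ofSpMap t) (FibCat.fpFst z f))) =
        BasedFunctor.comp (ofSpMap snd) e := rfl
    exact ⟨eqToIso h1 ≪≫ i2 ≪≫ eqToIso h3⟩

end pres

section joint

variable {C : Type u} [Category.{v} C] {𝒳 : BasedCategory.{v₂, u₂} C}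
  {𝒴 : BasedCategory.{v₃, u₃} C} {𝒵 : BasedCategory.{v₄, u₄} C} {𝒵₂ : BasedCategory.{v₅, u₅} C}
  (z : 𝒵 ⥤ᵇ 𝒴) (f : 𝒳 ⥤ᵇ 𝒴) (q₁ q₂ : 𝒵₂ ⥤ᵇ 𝒵)
  (κ : BasedFunctor.comp q₁ z ≅ BasedFunctor.comp q₂ z)

/-- change of the first leg of a 2-fibre product along a 2-isomorphism -/
def fpTwist : FibCat.fp (BasedFunctor.comp q₁ z) f ⥤ᵇ FibCat.fp (BasedFunctor.comp q₂ z) f :=
  fpMap (BasedFunctor.comp q₂ z) f (BasedFunctor.comp q₁ z) f (BasedFunctor.id _)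
    (BasedFunctor.id _) (BasedFunctor.id _) κ (Iso.refl _)

theorem isEquivOver_fpTwist : FibCat.IsEquivOver (fpTwist z f q₁ q₂ κ) := by
  have hidfull : (BasedFunctor.id 𝒴).toFunctor.Full := (inferInstance : (𝟭 _).Full)
  have hidfaith : (BasedFunctor.id 𝒴).toFunctor.Faithful := (inferInstance : (𝟭 _).Faithful)
  exact isEquivOver_fpMap _ _ _ _ _ _ _ _ _ (isEquivOver_id _) (isEquivOver_id _)

theorem fpTwist_comp_fpFst :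
    BasedFunctor.comp (fpTwist z f q₁ q₂ κ) (FibCat.fpFst (BasedFunctor.comp q₂ z) f) =
      FibCat.fpFst (BasedFunctor.comp q₁ z) f := rfl

theorem joint_aux {D : Type*} [Category D] {A₁ A₂ B₁ B₂ X X' : D} (a : A₁ ⟶ B₁) (i : B₁ ⟶ X)
    (d : X ⟶ X') (j : B₂ ≅ X') (k : A₁ ≅ A₂) (b : A₂ ⟶ B₂)
    (h : a ≫ (i ≫ d ≫ j.inv) = k.hom ≫ b) :
    b ≫ j.hom = (k.inv ≫ (a ≫ i) ≫ 𝟙 _) ≫ d := by
  have h1 : b = k.inv ≫ a ≫ i ≫ d ≫ j.inv := by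
    rw [h, Iso.inv_hom_id_assoc]
  rw [h1]
  simp

/-- every pair of objects of `𝒵 ×_𝒴 𝒳` with isomorphic second components comes from an object of
`𝒵₂ ×_𝒴 𝒳` through the two projections, as soon as `𝒵₂ ⟶ 𝒵 ×_𝒴 𝒵` is essentially surjective on
fibres -/
theorem exists_joint
    (hess : ∀ η : (FibCat.fp z z).obj, ∃ (σ : 𝒵₂.obj) (ε : (FibCat.fpLift q₁ q₂ κ).obj σ ≅ η),
      (FibCat.fp z z).p.IsHomLift (𝟙 ((FibCat.fp z z).p.obj η)) ε.hom)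
    (ξ ξ' : (FibCat.fp z f).obj) (δ : ξ.obj.snd ≅ ξ'.obj.snd)
    (hδ : 𝒳.p.IsHomLift (𝟙 (𝒵.p.obj ξ.obj.fst)) δ.hom) :
    ∃ ζ : (FibCat.fp (BasedFunctor.comp q₁ z) f).obj,
      Nonempty ((fpPasteSnd f z q₁).obj ζ ≅ ξ) ∧
      Nonempty ((fpPasteSnd f z q₂).obj ((fpTwist z f q₁ q₂ κ).obj ζ) ≅ ξ') := by
  -- the object of `𝒵 ×_𝒴 𝒵`
  have hb' : 𝒵.p.obj ξ'.obj.fst = 𝒵.p.obj ξ.obj.fst :=
    (fp_snd_obj_eq z f ξ').symm.trans (lift_codomain_eq 𝒳.p hδ)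
  have h1 : 𝒴.p.IsHomLift (𝟙 (𝒵.p.obj ξ.obj.fst)) ξ.obj.iso.hom := fp_iso_isHomLift z f ξ
  have h2 : 𝒴.p.IsHomLift (𝟙 (𝒵.p.obj ξ.obj.fst)) (f.map δ.hom) :=
    (BasedFunctor.isHomLift_iff f _ _).mpr hδ
  have h3 : 𝒴.p.IsHomLift (𝟙 (𝒵.p.obj ξ.obj.fst)) ξ'.obj.iso.inv :=
    lift_id_congr 𝒴.p (fp_iso_inv_isHomLift z f ξ') hb'
  let θ : z.obj ξ.obj.fst ≅ z.obj ξ'.obj.fst :=
    ξ.obj.iso ≪≫ f.toFunctor.mapIso δ ≪≫ ξ'.obj.iso.symm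
  have hθ : 𝒴.p.IsHomLift (𝟙 (𝒵.p.obj ξ.obj.fst)) θ.hom :=
    lift_id_comp_id 𝒴.p h1 (lift_id_comp_id 𝒴.p h2 h3)
  let η : (FibCat.fp z z).obj := ⟨⟨ξ.obj.fst, ξ'.obj.fst, θ⟩, hθ⟩
  obtain ⟨σ, ε, hε⟩ := hess η
  let ε₁ : q₁.obj σ ≅ ξ.obj.fst := (FibCat.fpFst z z).toFunctor.mapIso ε
  let ε₂ : q₂.obj σ ≅ ξ'.obj.fst := (FibCat.fpSnd z z).toFunctor.mapIso ε
  have hε' : (FibCat.fp z z).p.IsHomLift (𝟙 (𝒵.p.obj ξ.obj.fst)) ε.hom := hε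
  have hε₁ : 𝒵.p.IsHomLift (𝟙 (𝒵.p.obj ξ.obj.fst)) ε₁.hom := fp_fst_isHomLift z z ε.hom _
  have hσ : 𝒵₂.p.obj σ = 𝒵.p.obj ξ.obj.fst :=
    (q₁.w_obj σ).symm.trans (lift_domain_eq 𝒵.p hε₁)
  have hcompat : z.map ε₁.hom ≫ θ.hom = bapp κ.hom σ ≫ z.map ε₂.hom := ε.hom.hom.w
  -- the object of `𝒵₂ ×_𝒴 𝒳`
  let ι : (BasedFunctor.comp q₁ z).obj σ ≅ f.obj ξ.obj.snd :=
    z.toFunctor.mapIso ε₁ ≪≫ ξ.obj.iso
  have hι : 𝒴.p.IsHomLift (𝟙 (𝒵₂.p.obj σ)) ι.hom := by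
    have h4 : 𝒴.p.IsHomLift (𝟙 (𝒵.p.obj ξ.obj.fst)) (z.map ε₁.hom) :=
      (BasedFunctor.isHomLift_iff z _ _).mpr hε₁
    exact lift_id_congr 𝒴.p (lift_id_comp_id 𝒴.p h4 h1) hσ.symm
  let ζ : (FibCat.fp (BasedFunctor.comp q₁ z) f).obj := ⟨⟨σ, ξ.obj.snd, ι⟩, hι⟩
  refine ⟨ζ, ⟨?_⟩, ⟨?_⟩⟩
  · refine fpIsoMk z f (z := (fpPasteSnd f z q₁).obj ζ) (z' := ξ) ε₁ (Iso.refl _) ?_
    show z.map ε₁.hom ≫ ξ.obj.iso.hom = (z.map ε₁.hom ≫ ξ.obj.iso.hom) ≫ f.map (𝟙 _)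
    rw [f.map_id, Category.comp_id]
  · refine fpIsoMk z f (z := (fpPasteSnd f z q₂).obj ((fpTwist z f q₁ q₂ κ).obj ζ)) (z' := ξ')
      ε₂ δ ?_
    show z.map ε₂.hom ≫ ξ'.obj.iso.hom =
      (bapp κ.inv σ ≫ (z.map ε₁.hom ≫ ξ.obj.iso.hom) ≫ 𝟙 _) ≫ f.map δ.hom
    exact joint_aux (z.map ε₁.hom) ξ.obj.iso.hom (f.map δ.hom) ξ'.obj.iso (bappIso κ σ)
      (z.map ε₂.hom) hcompat

end joint

end Groth.Agent.H65.Locus
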