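import Groth.Agent.H65.LocusBasic
import Groth.Agent.H65.LocusPres
import Groth.Agent.H64.Psh.PSource2
import Groth.Agent.H64.Psh.PProps
import Groth.Agent.H64.Stk.FpSwap
import Groth.Agent.H64.LocQ.Good

set_option autoImplicit false
open CategoryTheory CategoryTheory.Limits Opposite AlgebraicGeometry
universe u

/-! Saturation: the largest open subspace of a presentation of `Z ×_𝒴 𝒳` on which the projection
to `Z` has `P` is stable under the equivalence relation defined by `𝒳`. -/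

namespace Groth.Agent.H65.Locus

open AlgSt Groth.Agent.H32 Groth.Agent.H64 Groth.Agent.H64.Recog Groth.Agent.H64.FpRep
  Groth.Agent.H64.PTh

variable {S : Scheme.{u}}

theorem saturation {P Q R : MorphismProperty (AlgSp.Sp S)}
    (h₂ : ∀ (X Y : AlgSp.Space S) (g : X ⟶ Y), AlgSp.LocP @Smooth g.hom → R g.hom)
    (h₄ : LargestBC P Q R) {𝒳 𝒴 : AlgSt.Cat S} (h𝒴 : FibCat.IsFibGrpd 𝒴.p)
    (f : 𝒳 ⥤ᵇ 𝒴) (Z : AlgSp.Space S) (z : ofSp Z.obj ⥤ᵇ 𝒴)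
    (hz : RepByAlgSpWith (AlgSp.LocP @Smooth) z)
    (F : AlgSp.Space S) (m : F ⟶ Z) (e : ofSp F.obj ⥤ᵇ FibCat.fp z f)
    (he : FibCat.IsEquivOver e)
    (α : BasedFunctor.comp e (FibCat.fpFst z f) ≅ ofSpMap m.hom) (hm : Q m.hom)
    (W : AlgSp.Space S) (w : W ⟶ F) (hw : IsLargest P m w)
    (φ φ' : (ofSp F.obj).obj) (δ : (e.obj φ).obj.snd ≅ (e.obj φ').obj.snd)
    (hδ : 𝒳.p.IsHomLift (𝟙 ((ofSp Z.obj).p.obj (e.obj φ).obj.fst)) δ.hom)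
    (h : InSub w.hom φ') : InSub w.hom φ := by
  have hZf : FibCat.IsFibGrpd (ofSp Z.obj).p := Stk.isFibGrpd_ofPsh _
  -- a presentation of `Z ×_𝒴 Z`
  obtain ⟨Z₂, p₁, e₂, he₂, ⟨β₁⟩, hp₁⟩ := hasP_of_repByAlgSpWith hZf h𝒴
    (stableBC_locP Groth.Agent.H50.goodClass_smooth) isLocalOnBase_fppf_smooth z hz Z z
  let Pr₂ : ofSp Z₂.obj ⥤ᵇ ofSp Z.obj := BasedFunctor.comp e₂ (FibCat.fpSnd z z)
  let p₂₀ : Z₂.obj.obj ⟶ Z.obj.obj := pshMapOf Pr₂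
  obtain ⟨β₂'⟩ := nonempty_iso_ofPshMap Pr₂
  let p₂' : Z₂.obj ⟶ Z.obj := ObjectProperty.homMk p₂₀
  let p₂ : Z₂ ⟶ Z := ObjectProperty.homMk p₂'
  have β₂ : BasedFunctor.comp e₂ (FibCat.fpSnd z z) ≅ ofSpMap p₂.hom := β₂'.symm
  have hp₂ : AlgSp.LocP @Smooth p₂.hom :=
    prop_of_presentation hZf h𝒴 (stableBC_locP Groth.Agent.H50.goodClass_smooth)
      isLocalOnBase_fppf_smooth z hz Z z Z₂ p₂ (BasedFunctor.comp e₂ (fpSwap z z))
      (isEquivOver_comp he₂ (isEquivOver_fpSwap z z)) β₂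
  -- the 2-isomorphism between the two projections
  let κ : BasedFunctor.comp (ofSpMap p₁.hom) z ≅ BasedFunctor.comp (ofSpMap p₂.hom) z :=
    bwrIso β₁.symm z ≪≫ bwlIso e₂ (FibCat.fpIso z z) ≪≫ bwrIso β₂ z
  let c : ofSp Z₂.obj ⥤ᵇ FibCat.fp z z := FibCat.fpLift (ofSpMap p₁.hom) (ofSpMap p₂.hom) κ
  have ic : c ≅ e₂ := Groth.Agent.H64.LocQ.fpFunctorIsoMk z z (K := c) (K' := e₂) β₁.symm
    β₂.symm (fun t => by
      show z.map (bapp β₁.inv t) ≫ (e₂.obj t).obj.iso.hom =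
        (z.map (bapp β₁.inv t) ≫ (e₂.obj t).obj.iso.hom ≫ z.map (bapp β₂.hom t)) ≫
          z.map (bapp β₂.inv t)
      exact Groth.Agent.H64.cancel_aux _ _ _ _ ((z.toFunctor.map_comp _ _).symm.trans
        ((congrArg z.toFunctor.map (bapp_iso_hom_inv β₂ t)).trans (z.toFunctor.map_id _))))
  have hc : FibCat.IsEquivOver c := isEquivOver_of_iso ic.symm he₂
  have hess := fun η => fiberwise_essSurj_of_isEquivOver hc η
  -- the two base changes of the presentation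
  have hF₁ : AlgSp.IsAlgSpace (pullback p₁.hom m.hom) :=
    Groth.Agent.H49.isAlgSpace_of_isPullback (IsPullback.of_hasPullback p₁.hom m.hom)
      Z.property.diag Z₂.property F.property
  have hF₂ : AlgSp.IsAlgSpace (pullback p₂.hom m.hom) :=
    Groth.Agent.H49.isAlgSpace_of_isPullback (IsPullback.of_hasPullback p₂.hom m.hom)
      Z.property.diag Z₂.property F.property
  let F₁ : AlgSp.Space S := ⟨pullback p₁.hom m.hom, hF₁⟩
  let F₂ : AlgSp.Space S := ⟨pullback p₂.hom m.hom, hF₂⟩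
  let fst₁ : F₁ ⟶ Z₂ := ObjectProperty.homMk (pullback.fst p₁.hom m.hom)
  let snd₁ : F₁ ⟶ F := ObjectProperty.homMk (pullback.snd p₁.hom m.hom)
  let fst₂ : F₂ ⟶ Z₂ := ObjectProperty.homMk (pullback.fst p₂.hom m.hom)
  let snd₂ : F₂ ⟶ F := ObjectProperty.homMk (pullback.snd p₂.hom m.hom)
  have sq₁ : IsPullback fst₁.hom snd₁.hom p₁.hom m.hom := IsPullback.of_hasPullback p₁.hom m.hom
  have sq₂ : IsPullback fst₂.hom snd₂.hom p₂.hom m.hom := IsPullback.of_hasPullback p₂.hom m.hom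
  obtain ⟨E₁, hE₁, ⟨a₁⟩, ⟨b₁⟩⟩ := exists_presentation_pullback_both f z p₁.hom m.hom e he α
    fst₁.hom snd₁.hom sq₁
  obtain ⟨E₂, hE₂, ⟨a₂⟩, ⟨b₂⟩⟩ := exists_presentation_pullback_both f z p₂.hom m.hom e he α
    fst₂.hom snd₂.hom sq₂
  let J := fpTwist z f (ofSpMap p₁.hom) (ofSpMap p₂.hom) κ
  have hJ : FibCat.IsEquivOver J := isEquivOver_fpTwist z f _ _ κ
  obtain ⟨ψ₀, hψ₀, ⟨γ⟩⟩ := exists_map_of_presentations E₂ hE₂ (BasedFunctor.comp E₁ J)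
  have hψ₀i : IsIso ψ₀ := hψ₀ (isEquivOver_comp hE₁ hJ)
  let ψ : F₁ ⟶ F₂ := ObjectProperty.homMk ψ₀
  have hψi : IsIso ψ := by
    have : IsIso ((ObjectProperty.ι _).map ψ) := hψ₀i
    exact isIso_of_reflects_iso ψ (ObjectProperty.ι _)
  -- compatibility with the projections to `Z₂`
  have hψfst : ψ ≫ fst₂ = fst₁ := by
    have i1 : BasedFunctor.comp (ofSpMap ψ₀) (ofSpMap fst₂.hom) ≅
        BasedFunctor.comp (ofSpMap ψ₀) (BasedFunctor.comp E₂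
          (FibCat.fpFst (BasedFunctor.comp (ofSpMap p₂.hom) z) f)) :=
      bwlIso (ofSpMap ψ₀) a₂.symm
    have i2 : BasedFunctor.comp (BasedFunctor.comp (ofSpMap ψ₀) E₂)
          (FibCat.fpFst (BasedFunctor.comp (ofSpMap p₂.hom) z) f) ≅
        BasedFunctor.comp (BasedFunctor.comp E₁ J)
          (FibCat.fpFst (BasedFunctor.comp (ofSpMap p₂.hom) z) f) :=
      bwrIso γ _
    have i3 : BasedFunctor.comp (BasedFunctor.comp E₁ J)
          (FibCat.fpFst (BasedFunctor.comp (ofSpMap p₂.hom) z) f) ≅ ofSpMap fst₁.hom := a₁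
    have h5 := pshMapOf_eq_of_iso (i1 ≪≫ i2 ≪≫ i3)
    have h6 : pshMapOf (BasedFunctor.comp (ofSpMap ψ₀) (ofSpMap fst₂.hom)) =
        ψ₀.hom ≫ fst₂.hom.hom := pshMapOf_ofPshMap (ψ₀.hom ≫ fst₂.hom.hom)
    have h7 : pshMapOf (ofSpMap fst₁.hom) = fst₁.hom.hom := pshMapOf_ofPshMap fst₁.hom.hom
    apply ObjectProperty.hom_ext
    apply ObjectProperty.hom_ext
    exact h6.symm.trans (h5.trans h7)
  -- joint surjectivity
  obtain ⟨ζ', ⟨j₁⟩, ⟨j₂⟩⟩ := exists_joint z f (ofSpMap p₁.hom) (ofSpMap p₂.hom) κ hess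
    (e.obj φ) (e.obj φ') δ hδ
  obtain ⟨ζ, εζ, -⟩ := fiberwise_essSurj_of_isEquivOver hE₁ ζ'
  have hfull := full_of_isEquivOver he
  -- the first projection of `ζ` is `φ`
  have k₁ : e.obj ((ofSpMap snd₁.hom).obj ζ) ≅ e.obj φ :=
    (bappIso b₁ ζ).symm ≪≫ (fpPasteSnd f z (ofSpMap p₁.hom)).toFunctor.mapIso εζ ≪≫ j₁
  -- the second projection of `ψ ζ` is `φ'`
  have k₂ : e.obj ((ofSpMap snd₂.hom).obj ((ofSpMap ψ₀).obj ζ)) ≅ e.obj φ' :=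
    (bappIso b₂ ((ofSpMap ψ₀).obj ζ)).symm ≪≫
      (fpPasteSnd f z (ofSpMap p₂.hom)).toFunctor.mapIso (bappIso γ ζ) ≪≫
      (fpPasteSnd f z (ofSpMap p₂.hom)).toFunctor.mapIso (J.toFunctor.mapIso εζ) ≪≫ j₂
  obtain ⟨g₁, -⟩ := e.toFunctor.map_surjective k₁.inv
  obtain ⟨g₂, -⟩ := e.toFunctor.map_surjective k₂.hom
  have h1 : InSub w.hom ((ofSpMap snd₂.hom).obj ((ofSpMap ψ₀).obj ζ)) := inSub_of_hom w.hom g₂ h
  have h2 : InSub w.hom ((ofSpMap snd₁.hom).obj ζ) :=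
    inSub_of_two_squares h₄ m hm p₁ p₂ (h₂ _ _ p₁ hp₁) (h₂ _ _ p₂ hp₂) fst₁ snd₁ fst₂ snd₂
      sq₁.flip sq₂.flip ψ hψfst w hw ζ h1
  exact inSub_of_hom w.hom g₁ h2

end Groth.Agent.H65.Locus
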