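import Groth.Agent.H65.FppfDescGeneral
import Groth.Agent.H65.FppfFamilyDescent
import Groth.Agent.H65.AlgSpBoot2
import Groth.Agent.H53.Points

/-!
# fppf descent of monomorphisms locally of finite type

Let `m : P ⟶ h_Y` be a monomorphism of fppf sheaves and `c i : Y' i ⟶ Y` a jointly surjective family
of flat, locally finitely presented morphisms such that every `P ×_Y Y' i` is a scheme locally of
finite type over `Y' i`.  Then `P` is a scheme (a monomorphism locally of finite type over `Y`).
-/

set_option autoImplicit false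
universe u
open CategoryTheory CategoryTheory.Limits AlgebraicGeometry Opposite

namespace Groth.Agent.H65.FppfDesc

open AlgSp

variable {S : Scheme.{u}}

theorem exists_rep_of_mono_fppf_local {P : Sp S} {Y : Over S} (m : P ⟶ (yon S).obj Y) [Mono m]
    {ι : Type u} (Y' V' : ι → Over S) (c : ∀ i, Y' i ⟶ Y) (hfl : ∀ i, Flat (c i).left)
    (hlfp : ∀ i, LocallyOfFinitePresentation (c i).left)
    (hcov : ∀ y : Y.left, ∃ i, y ∈ Set.range (c i).left)
    (a : ∀ i, V' i ⟶ Y' i) (hlft : ∀ i, LocallyOfFiniteType (a i).left)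
    (t : ∀ i, (yon S).obj (V' i) ⟶ P)
    (sq : ∀ i, IsPullback (t i) ((yon S).map (a i)) m ((yon S).map (c i))) :
    ∃ (G : Over S) (e : (yon S).obj G ≅ P) (γ : G ⟶ Y), e.hom ≫ m = (yon S).map γ ∧ Mono γ ∧
      LocallyOfFiniteType γ.left := by
  have hmono : ∀ i, Mono (a i).left := fun i => by
    have hm2 : Mono ((yon S).map (a i)) :=
      PullbackCone.mono_snd_of_is_pullback_of_mono (sq i).isLimit
    have hm3 : Mono (a i) := Functor.mono_of_mono_map (yon S) hm2
    infer_instance
  -- `P` is an algebraic space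
  have hP : IsAlgSpace P := by
    refine isAlgSpace_of_fppf_descent m Y' V' c hfl hlfp a (fun i => ?_) (fun i => ?_) hlft t sq ?_
    · have := hmono i
      infer_instance
    · have := hmono i
      have := hlft i
      infer_instance
    · intro x
      obtain ⟨i, u', hu'⟩ := hcov (Points.toScheme Y (Points.map m x))
      obtain ⟨z, hz1, -⟩ := Groth.Agent.H53.exists_point_of_isPullback (sq i) x
        (Points.ofScheme _ u') (by
          rw [← Points.ofPt_eq_map_ofScheme, ← Points.ofScheme_toScheme Y (Points.ofPt _ u'),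
            Points.toScheme_ofPt, hu', Points.ofScheme_toScheme])
      refine ⟨i, Points.toScheme _ z, ?_⟩
      rw [Points.ofPt_eq_map_ofScheme, Points.ofScheme_toScheme, hz1]
  -- `m` is locally of finite type on charts
  have hchart : ∀ ⦃U₁ : Over S⦄ (c₁ : (yon S).obj U₁ ⟶ P) (x : U₁ ⟶ Y), RepWith @Etale c₁ →
      c₁ ≫ m = (yon S).map x → LocallyOfFiniteType x.left := by
    intro U₁ c₁ x hc₁ hx
    have key : ∀ i, ∃ (W : Over S) (w₁ : W ⟶ U₁) (w₂ : W ⟶ Y' i),
        IsPullback w₁.left w₂.left x.left (c i).left ∧ LocallyOfFiniteType w₂.left := fun i => by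
      obtain ⟨W, pW, qW, sqW⟩ := Groth.Agent.H53.exists_pullback_yon (t i) c₁ hc₁.rep
      have hpW : Etale pW.left := Groth.Agent.H53.prop_of_isPullback_yon sqW hc₁
      have h2 := sqW.flip.paste_vert (sq i)
      rw [hx, ← Functor.map_comp] at h2
      have h3 : IsPullback qW (pW ≫ a i) x (c i) :=
        IsPullback.of_map (yon S) ((yon S).map_injective (by
          rw [Functor.map_comp, Functor.map_comp]; exact h2.w)) h2
      refine ⟨W, qW, pW ≫ a i, h3.map (Over.forget S), ?_⟩
      rw [Over.comp_left]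
      have := hlft i
      infer_instance
    choose W w₁ w₂ sqW hW using key
    exact of_fppf_family @LocallyOfFiniteType x.left (fun i => (Y' i).left) (fun i => (W i).left)
      (fun i => (c i).left) hfl hlfp hcov (fun i => (w₁ i).left) (fun i => (w₂ i).left) sqW hW
  have hlftm : LocP @LocallyOfFiniteType m := by
    intro U₁ V₁ c₁ d k hc hd hcomm
    obtain ⟨d₀, rfl⟩ := (yon S).map_surjective d
    have h : LocallyOfFiniteType (k ≫ d₀).left :=
      hchart c₁ (k ≫ d₀) hc (by rw [hcomm, Functor.map_comp])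
    rw [Over.comp_left] at h
    exact locallyOfFiniteType_of_comp k.left d₀.left
  obtain ⟨hrep, -, -⟩ := (Groth.Agent.S10613.result
    (X := ⟨P, hP⟩) (Y := (AlgSp.ofScheme S).obj Y) (ObjectProperty.homMk m)).2.2.2
    ⟨hlftm, (inferInstance : Mono m)⟩
  obtain ⟨G, γ, fst', sq'⟩ := hrep (𝟙 ((yon S).obj Y))
  have sq'' : IsPullback fst' ((yon S).map γ) m (𝟙 ((yon S).obj Y)) := sq'
  have hiso : IsIso fst' := sq''.isIso_fst_of_isIso
  have hfac : fst' ≫ m = (yon S).map γ := by rw [sq''.w, Category.comp_id]
  refine ⟨G, asIso fst', γ, hfac, ?_, ?_⟩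
  · have : Mono ((yon S).map γ) := by
      rw [← hfac]
      infer_instance
    exact Functor.mono_of_mono_map (yon S) this
  · exact hchart fst' γ ((RepWith @Etale).of_isIso fst') hfac

end Groth.Agent.H65.FppfDesc
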