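import Mathlib

/-!
# Norms on finite local algebras and on finite products (helper65)

* `norm_local`: in a finite local `k`-algebra `B`, if `b - c ∈ 𝔪` with `c ∈ k` then
  `Algebra.norm k b = c ^ finrank k B`.
* `det_pi'`: determinant of a "diagonal" endomorphism of a dependent finite product.
* `norm_pi'`: norm on a dependent finite product of finite free algebras is the product of norms.
-/

namespace Groth.Agent.H65.NormLocal

universe u v w

theorem norm_local (k : Type u) (B : Type v) [Field k] [CommRing B] [Algebra k B] [IsLocalRing B]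
    [Module.Finite k B] (b : B) (c : k)
    (hm : b - algebraMap k B c ∈ IsLocalRing.maximalIdeal B) :
    Algebra.norm k b = c ^ Module.finrank k B := by
  have hart : IsArtinianRing B := IsArtinianRing.of_finite k B
  have hnil : IsNilpotent (b - algebraMap k B c) := by
    have h1 : IsNilpotent (Ideal.jacobson (⊥ : Ideal B)) := IsArtinianRing.isNilpotent_jacobson_bot
    rw [IsLocalRing.jacobson_eq_maximalIdeal ⊥ bot_ne_top] at h1
    obtain ⟨n, hn⟩ := h1
    refine ⟨n, ?_⟩
    have := Ideal.pow_mem_pow hm n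
    rw [hn] at this
    simpa using this
  rw [Algebra.norm_apply]
  have h2 : Algebra.lmul k B b = algebraMap k (Module.End k B) c -
      (- Algebra.lmul k B (b - algebraMap k B c)) := by
    ext x
    simp [Algebra.smul_def]
  have h3 : IsNilpotent (- Algebra.lmul k B (b - algebraMap k B c)) := by
    rw [isNilpotent_neg_iff]
    exact hnil.map (Algebra.lmul k B)
  rw [h2, ← LinearMap.eval_charpoly, IsNilpotent.charpoly_eq_X_pow_finrank h3]
  simp

theorem det_blockDiagonal'' {R : Type u} [CommRing R] {ι : Type w} [Fintype ι] [DecidableEq ι]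
    {m' : ι → Type v} [∀ i, Fintype (m' i)] [∀ i, DecidableEq (m' i)]
    (d : ∀ i, Matrix (m' i) (m' i) R) : (Matrix.blockDiagonal' d).det = ∏ k, (d k).det := by
  classical
  let _ : LinearOrder ι := LinearOrder.lift' (Fintype.equivFin ι) (Equiv.injective _)
  have hbt : Matrix.BlockTriangular (Matrix.blockDiagonal' d) Sigma.fst := by
    rintro ⟨i, i'⟩ ⟨j, j'⟩ h
    apply Matrix.blockDiagonal'_apply_ne d i' j' fun h' => ne_of_lt h h'.symm
  rw [hbt.det_fintype]
  refine Finset.prod_congr rfl fun k _ => ?_
  have : (Matrix.blockDiagonal' d).toSquareBlock Sigma.fst k =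
      (d k).submatrix (Equiv.sigmaSubtype k) (Equiv.sigmaSubtype k) := by
    ext ⟨⟨i, a⟩, hi⟩ ⟨⟨j, c⟩, hj⟩
    dsimp only at hi hj
    subst hi
    subst hj
    simp [Matrix.toSquareBlock_def, Matrix.blockDiagonal'_apply]
  rw [this, Matrix.det_submatrix_equiv_self]

theorem det_pi' {R : Type u} [CommRing R] {ι : Type w} [Fintype ι] [DecidableEq ι]
    (M : ι → Type v) [∀ i, AddCommGroup (M i)] [∀ i, Module R (M i)] [∀ i, Module.Free R (M i)]
    [∀ i, Module.Finite R (M i)] (f : ∀ i, M i →ₗ[R] M i) :
    (LinearMap.pi (fun i ↦ (f i).comp (LinearMap.proj i))).det = ∏ i, (f i).det := by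
  classical
  let b := fun i => Module.Free.chooseBasis R (M i)
  let B := Pi.basis b
  simp_rw [← LinearMap.det_toMatrix B, ← LinearMap.det_toMatrix (b _)]
  have : LinearMap.toMatrix B B (LinearMap.pi fun i ↦ f i ∘ₗ LinearMap.proj i) =
      Matrix.blockDiagonal' (fun i ↦ LinearMap.toMatrix (b i) (b i) (f i)) := by
    ext ⟨i, a⟩ ⟨j, c⟩
    rw [LinearMap.toMatrix_apply, Matrix.blockDiagonal'_apply]
    by_cases hij : i = j
    · subst hij
      simp [B, Pi.basis_repr, Pi.basis_apply, LinearMap.toMatrix_apply]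
    · simp [B, Pi.basis_repr, Pi.basis_apply, hij]
  rw [this, det_blockDiagonal'']

theorem norm_pi' {R : Type u} [CommRing R] {ι : Type w} [Fintype ι] [DecidableEq ι]
    (S : ι → Type v) [∀ i, CommRing (S i)] [∀ i, Algebra R (S i)] [∀ i, Module.Free R (S i)]
    [∀ i, Module.Finite R (S i)] (x : ∀ i, S i) :
    Algebra.norm R x = ∏ i, Algebra.norm R (x i) := by
  simp_rw [Algebra.norm_apply]
  rw [← det_pi']
  congr 1

end Groth.Agent.H65.NormLocal
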