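import Mathlib

/-!
# Tensoring a projective module with a "limit" (helper65)

`pi_lTensor_injective`: if `ev i : L →ₗ T i` are jointly injective and `M` is projective then
`M ⊗ L → Π i, M ⊗ T i` is injective.
-/

namespace Groth.Agent.H65.ProjLim

open TensorProduct

universe u v w x y

theorem pi_lTensor_injective {R : Type u} [CommRing R] {ι : Type v} (T : ι → Type w)
    [∀ i, AddCommGroup (T i)] [∀ i, Module R (T i)] (L : Type x) [AddCommGroup L] [Module R L]
    (ev : ∀ i, L →ₗ[R] T i) (hev : ∀ l : L, (∀ i, ev i l = 0) → l = 0)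
    (M : Type y) [AddCommGroup M] [Module R M] [Module.Projective R M] :
    Function.Injective
      (LinearMap.pi (fun i => LinearMap.lTensor M (ev i)) : M ⊗[R] L →ₗ[R] Π i, M ⊗[R] T i) := by
  classical
  obtain ⟨s, hs⟩ := Module.projective_def'.mp (inferInstance : Module.Projective R M)
  rw [injective_iff_map_eq_zero]
  intro z hz
  have h1 : ∀ i, LinearMap.lTensor (M →₀ R) (ev i) (LinearMap.rTensor L s z) = 0 := by
    intro i
    have h := congrFun hz i
    simp only [LinearMap.pi_apply, Pi.zero_apply] at h
    rw [← LinearMap.comp_apply, LinearMap.lTensor_comp_rTensor, ← LinearMap.rTensor_comp_lTensor,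
      LinearMap.comp_apply, h, map_zero]
  have h2 : finsuppScalarLeft R L M (LinearMap.rTensor L s z) = 0 := by
    ext j
    apply hev
    intro i
    have key : ∀ w : (M →₀ R) ⊗[R] L, ev i (finsuppScalarLeft R L M w j) =
        finsuppScalarLeft R (T i) M (LinearMap.lTensor _ (ev i) w) j := by
      intro w
      induction w using TensorProduct.induction_on with
      | zero => simp
      | tmul f l => simp [finsuppScalarLeft_apply_tmul_apply]
      | add a b ha hb => simp [ha, hb]
    rw [key, h1 i]
    simp
  have h3 : LinearMap.rTensor L s z = 0 := by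
    simpa using h2
  have h4 : z = LinearMap.rTensor L (Finsupp.linearCombination R id) (LinearMap.rTensor L s z) := by
    rw [← LinearMap.comp_apply, ← LinearMap.rTensor_comp, hs]
    simp
  rw [h4, h3, map_zero]

/-- For a finitely generated projective module `M` and a "limit" `L` of a tower `(T i, F i)`,
the image of `M ⊗ L → Π i, M ⊗ T i` is the set of compatible sequences. -/
theorem mem_range_pi_lTensor_iff {R : Type u} [CommRing R] (T : ℕ → Type w)
    [∀ i, AddCommGroup (T i)] [∀ i, Module R (T i)] (F : ∀ i, T (i + 1) →ₗ[R] T i)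
    (L : Type x) [AddCommGroup L] [Module R L]
    (ev : ∀ i, L →ₗ[R] T i) (hcompat : ∀ (l : L) (i : ℕ), F i (ev (i + 1) l) = ev i l)
    (hcomplete : ∀ t : (Π i, T i), (∀ i, F i (t (i + 1)) = t i) → ∃ l : L, ∀ i, ev i l = t i)
    (M : Type y) [AddCommGroup M] [Module R M] [Module.Finite R M] [Module.Projective R M]
    (y : Π i, M ⊗[R] T i) :
    y ∈ LinearMap.range
      (LinearMap.pi (fun i => LinearMap.lTensor M (ev i)) : M ⊗[R] L →ₗ[R] Π i, M ⊗[R] T i) ↔
      ∀ i, LinearMap.lTensor M (F i) (y (i + 1)) = y i := by
  constructor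
  · rintro ⟨z, rfl⟩ i
    simp only [LinearMap.pi_apply]
    induction z using TensorProduct.induction_on with
    | zero => simp
    | tmul m l => simp [hcompat]
    | add a b ha hb => simp only [map_add, ha, hb]
  · intro hy
    obtain ⟨n, π, s, -, -, hπs⟩ := Module.Finite.exists_comp_eq_id_of_projective R M
    -- coordinate functionals
    let φ : Fin n → (M →ₗ[R] R) := fun j => (LinearMap.proj j).comp s
    let ψ : ∀ (j : Fin n) (i : ℕ), M ⊗[R] T i →ₗ[R] T i := fun j i =>
      (TensorProduct.lid R (T i)).toLinearMap.comp (LinearMap.rTensor (T i) (φ j))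
    have hψ : ∀ j i (m : M) (t : T i), ψ j i (m ⊗ₜ t) = φ j m • t := by
      intro j i m t
      simp [ψ]
    have hψF : ∀ j i (w : M ⊗[R] T (i + 1)),
        F i (ψ j (i + 1) w) = ψ j i (LinearMap.lTensor M (F i) w) := by
      intro j i w
      induction w using TensorProduct.induction_on with
      | zero => simp
      | tmul m t => simp [hψ]
      | add a b ha hb => simp only [map_add, ha, hb]
    have hl : ∀ j : Fin n, ∃ l : L, ∀ i, ev i l = ψ j i (y i) := by
      intro j
      apply hcomplete (fun i => ψ j i (y i))
      intro i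
      rw [hψF, hy]
    choose l hl using hl
    refine ⟨∑ j, π (Pi.single j 1) ⊗ₜ[R] l j, ?_⟩
    funext i
    simp only [LinearMap.pi_apply, map_sum, LinearMap.lTensor_tmul, hl]
    have key : ∀ w : M ⊗[R] T i, ∑ j, π (Pi.single j 1) ⊗ₜ[R] ψ j i w = w := by
      intro w
      induction w using TensorProduct.induction_on with
      | zero => simp
      | tmul m t =>
        simp only [hψ]
        simp_rw [← TensorProduct.smul_tmul, ← TensorProduct.sum_tmul]
        congr 1
        have h1 : π (s m) = m := by
          rw [← LinearMap.comp_apply, hπs, LinearMap.id_apply]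
        conv_rhs => rw [← h1, LinearMap.pi_apply_eq_sum_univ π (s m)]
        refine Finset.sum_congr rfl fun j _ => ?_
        congr 2
        funext k
        simp [Pi.single_apply, eq_comm]
      | add a b ha hb =>
        simp only [map_add, TensorProduct.tmul_add, Finset.sum_add_distrib, ha, hb]
    exact key (y i)

end Groth.Agent.H65.ProjLim
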