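import Mathlib
import Groth.Prelude.Def_SgaExt
import Groth.Agent.H65.PtCount2

/-!
# Trivial point count bound for schemes of finite type over a field (helper65)

`scheme_field_main`: for `X` of finite type over a field `k` of dimension `≤ r` there is `C` with
`#X(k') ≤ C (#k')^r` for every finite extension field `k'` of `k`.
-/

set_option autoImplicit false
universe u v
open CategoryTheory AlgebraicGeometry

namespace Groth.Agent.H65.PtCount

theorem field_case' (k : Type*) [Field k] (A : Type*) [CommRing A] (α : k →+* A)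
    (hα : α.FiniteType) (r : ℕ) (hr : ringKrullDim A ≤ r) :
    ∃ C : ℕ, ∀ (F : Type v) [Field F] [Finite F] (β : k →+* F),
      Finite {φ : A →+* F // φ.comp α = β} ∧
        Nat.card {φ : A →+* F // φ.comp α = β} ≤ C * (Nat.card F) ^ r := by
  let _ : Algebra k A := α.toAlgebra
  have : Algebra.FiniteType k A := hα
  obtain ⟨C, hC⟩ := field_case.{v, _, _} k A r hr
  refine ⟨C, fun F _ _ β => ?_⟩
  let _ : Algebra k F := β.toAlgebra
  obtain ⟨h1, h2⟩ := hC F
  let Φ : {φ : A →+* F // φ.comp α = β} → (A →ₐ[k] F) := fun φ =>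
    { toRingHom := φ.1
      commutes' := fun c => RingHom.congr_fun φ.2 c }
  have hΦ : Function.Injective Φ := by
    intro φ ψ hφψ
    apply Subtype.ext
    ext x
    exact congrArg (fun θ : A →ₐ[k] F => θ x) hφψ
  exact ⟨Finite.of_injective Φ hΦ, (Nat.card_le_card_of_injective Φ hΦ).trans h2⟩

/-- The structure map `k → Γ(X, U)` of an affine open of a `k`-scheme. -/
noncomputable def strMap {k : Type u} [Field k] {X : Scheme.{u}}
    (f : X ⟶ Spec (CommRingCat.of k)) (U : X.Opens) : CommRingCat.of k ⟶ Γ(X, U) :=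
  (Scheme.ΓSpecIso (CommRingCat.of k)).inv ≫ f.appLE ⊤ U le_top

theorem fromSpec_comp {k : Type u} [Field k] {X : Scheme.{u}}
    (f : X ⟶ Spec (CommRingCat.of k)) (U : X.Opens) (hU : IsAffineOpen U) :
    hU.fromSpec ≫ f = Spec.map (strMap f U) := by
  rw [strMap, Spec.map_comp, ← Scheme.isoSpec_Spec_inv, ← IsAffineOpen.fromSpec_top,
    IsAffineOpen.SpecMap_appLE_fromSpec]

theorem card_kpoints_le_sum {k : Type u} [Field k] {X : Scheme.{u}}
    (f : X ⟶ Spec (CommRingCat.of k)) (s : Finset X.affineOpens)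
    (hcov : ∀ x : X, ∃ U ∈ s, x ∈ U.1)
    (F : Type u) [Field F] [Algebra k F]
    (hfin : ∀ U ∈ s, Finite {φ : Γ(X, U.1) →+* F // φ.comp (strMap f U.1).hom = algebraMap k F}) :
    SgaExt.pointCount f F ≤
      ∑ U ∈ s, Nat.card {φ : Γ(X, U.1) →+* F // φ.comp (strMap f U.1).hom = algebraMap k F} := by
  classical
  have hfin' : ∀ U : {U // U ∈ s},
      Finite {φ : Γ(X, U.1.1) →+* F // φ.comp (strMap f U.1.1).hom = algebraMap k F} :=
    fun U => hfin U.1 U.2
  have hcomm : ∀ (U : X.affineOpens) (φ : Γ(X, U.1) →+* F),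
      (Spec.map (CommRingCat.ofHom φ) ≫ U.2.fromSpec) ≫ f =
          Spec.map (CommRingCat.ofHom (algebraMap k F)) ↔
        φ.comp (strMap f U.1).hom = algebraMap k F := by
    intro U φ
    rw [Category.assoc, fromSpec_comp, ← Spec.map_comp]
    constructor
    · intro h
      have := Spec.map_injective h
      exact congrArg CommRingCat.Hom.hom this
    · intro h
      congr 1
      ext x
      exact RingHom.congr_fun h x
  let Ψ : (Σ U : {U // U ∈ s},
      {φ : Γ(X, U.1.1) →+* F // φ.comp (strMap f U.1.1).hom = algebraMap k F}) →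
      { g : Spec (CommRingCat.of F) ⟶ X //
        g ≫ f = Spec.map (CommRingCat.ofHom (algebraMap k F)) } :=
    fun x => ⟨Spec.map (CommRingCat.ofHom x.2.1) ≫ x.1.1.2.fromSpec, (hcomm _ _).mpr x.2.2⟩
  have hΨ : Function.Surjective Ψ := by
    rintro ⟨g, hg⟩
    let pt : Spec (CommRingCat.of F) := default
    obtain ⟨U, hU, hxU⟩ := hcov (g.base pt)
    have hrange : Set.range g.base ⊆ Set.range U.2.fromSpec.base := by
      rw [U.2.range_fromSpec]
      rintro _ ⟨y, rfl⟩
      rw [Subsingleton.elim y pt]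
      exact hxU
    let l := IsOpenImmersion.lift U.2.fromSpec g hrange
    have hl : l ≫ U.2.fromSpec = g := IsOpenImmersion.lift_fac _ _ _
    have hl' : Spec.map (CommRingCat.ofHom (Spec.preimage l).hom) ≫ U.2.fromSpec = g := by
      rw [CommRingCat.ofHom_hom, Spec.map_preimage, hl]
    refine ⟨⟨⟨U, hU⟩, ⟨(Spec.preimage l).hom, ?_⟩⟩, ?_⟩
    · rw [← hcomm, hl']
      exact hg
    · apply Subtype.ext
      exact hl'
  have := Nat.card_le_card_of_surjective Ψ hΨ
  unfold SgaExt.pointCount
  refine this.trans ?_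
  rw [Nat.card_sigma, Finset.sum_coe_sort s (fun U =>
    Nat.card {φ : Γ(X, U.1) →+* F // φ.comp (strMap f U.1).hom = algebraMap k F})]

theorem scheme_field_main {k : Type u} [Field k] {X : Scheme.{u}}
    (f : X ⟶ Spec (CommRingCat.of k)) [LocallyOfFiniteType f] [QuasiCompact f] (r : ℕ)
    (hr : topologicalKrullDim X ≤ r) :
    ∃ C : ℕ, ∀ (k' : Type u) [Field k'] [Algebra k k'] [Finite k'],
      SgaExt.pointCount f k' ≤ C * (Nat.card k') ^ r := by
  classical
  have hcpt : CompactSpace X := QuasiCompact.compactSpace_of_compactSpace f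
  obtain ⟨s0, hs0, hcov0⟩ := isCompact_and_isOpen_iff_finite_and_eq_biUnion_affineOpens.mp
    ⟨(isCompact_univ : IsCompact (Set.univ : Set X)), isOpen_univ⟩
  let s : Finset X.affineOpens := hs0.toFinset
  have hcov : ∀ x : X, ∃ U ∈ s, x ∈ U.1 := by
    intro x
    have hx : x ∈ ⋃ i ∈ s0, (i : Set X) := by rw [← hcov0]; trivial
    simp only [Set.mem_iUnion] at hx
    obtain ⟨U, hU, hxU⟩ := hx
    exact ⟨U, hs0.mem_toFinset.mpr hU, hxU⟩
  have hring : ∀ U : X.affineOpens, ∃ C : ℕ, ∀ (F : Type u) [Field F] [Finite F]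
      (β : k →+* F),
      Finite {φ : Γ(X, U.1) →+* F // φ.comp (strMap f U.1).hom = β} ∧
        Nat.card {φ : Γ(X, U.1) →+* F // φ.comp (strMap f U.1).hom = β} ≤
          C * (Nat.card F) ^ r := by
    intro U
    have hft : (strMap f U.1).hom.FiniteType := by
      have h1 := HasRingHomProperty.appLE (P := @LocallyOfFiniteType) f inferInstance
        ⟨⊤, isAffineOpen_top _⟩ U le_top
      rw [strMap, CommRingCat.hom_comp]
      refine h1.comp (RingHom.FiniteType.of_surjective _ ?_)
      exact (ConcreteCategory.bijective_of_isIso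
        (Scheme.ΓSpecIso (CommRingCat.of k)).inv).surjective
    have hdim : ringKrullDim Γ(X, U.1) ≤ r := by
      refine le_trans ?_ hr
      rw [← PrimeSpectrum.topologicalKrullDim_eq_ringKrullDim]
      exact U.2.fromSpec.isOpenEmbedding.isInducing.topologicalKrullDim_le
    exact field_case'.{u, _, _} k Γ(X, U.1) _ hft r hdim
  choose C hC using hring
  refine ⟨∑ U ∈ s, C U, fun k' _ _ _ => ?_⟩
  have hsum := card_kpoints_le_sum f s hcov k' (fun U _ => (hC U k' (algebraMap k k')).1)
  refine hsum.trans ?_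
  rw [Finset.sum_mul]
  exact Finset.sum_le_sum fun U _ => (hC U k' (algebraMap k k')).2

end Groth.Agent.H65.PtCount
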