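import Groth.Agent.H65.W2Lift

/-!
# The `p`-neighbourhood of the split quadric cone does not lift to `W₂(k)`

`q = ∑ x_i y_i`.  Over `ℤ`, `q ^ p = ∑ (x_i y_i) ^ p + p R`.  A flat lifting forces
`R ∈ (q, x_i^p, y_i^p)` over `k`; but `R q^(p-1)` has a non-zero coefficient at a monomial with all
exponents `< p`, while `(q, x^p, y^p) q^(p-1) ⊆ (x^p, y^p)`.
-/

set_option autoImplicit false
universe u v

open MvPolynomial

namespace Groth.Agent.H65.Quad

section defs

variable (n : ℕ) (S : Type v) [CommRing S]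

/-- `t_i = x_i y_i`. -/
noncomputable def t (i : Fin n) : MvPolynomial (Fin n × Fin 2) S :=
  X (i, (0 : Fin 2)) * X (i, (1 : Fin 2))

/-- `q = ∑ x_i y_i`. -/
noncomputable def q : MvPolynomial (Fin n × Fin 2) S := ∑ i : Fin n, t n S i

/-- The ideal `(x_v ^ p)`. -/
noncomputable def J (p : ℕ) : Ideal (MvPolynomial (Fin n × Fin 2) S) :=
  Ideal.span (Set.range fun v : Fin n × Fin 2 => (X v : MvPolynomial (Fin n × Fin 2) S) ^ p)

variable {n S} {T : Type*} [CommRing T] (f : S →+* T)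

theorem map_t (i : Fin n) : map f (t n S i) = t n T i := by
  simp [t]

theorem map_q : map f (q n S) = q n T := by
  simp [q, map_t]

/-- exponent vector of `t_i` -/
noncomputable def e (i : Fin n) : (Fin n × Fin 2) →₀ ℕ :=
  Finsupp.single (i, (0 : Fin 2)) 1 + Finsupp.single (i, (1 : Fin 2)) 1

variable (S) in
theorem t_eq_monomial (i : Fin n) : t n S i = monomial (e i) 1 := by
  rw [t, e, X, X, monomial_mul, one_mul]

theorem e_apply (i i' : Fin n) (j : Fin 2) : e i (i', j) = if i = i' then 1 else 0 := by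
  rw [e, Finsupp.add_apply, Finsupp.single_apply, Finsupp.single_apply]
  fin_cases j <;> by_cases h : i = i' <;> simp [h]

variable (S) in
theorem coeff_eq_zero_of_mem_J {p : ℕ} {m : (Fin n × Fin 2) →₀ ℕ} (hm : ∀ v, m v < p)
    {g : MvPolynomial (Fin n × Fin 2) S} (hg : g ∈ J n S p) : coeff m g = 0 := by
  by_contra hne
  have hJ : J n S p = Ideal.span ((fun s => monomial s (1 : S)) ''
      (Set.range fun v : Fin n × Fin 2 => Finsupp.single v p)) := by
    rw [J, ← Set.range_comp]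
    congr 1
    ext x
    simp only [Set.mem_range, Function.comp]
    constructor
    · rintro ⟨v, rfl⟩; exact ⟨v, (X_pow_eq_monomial).symm⟩
    · rintro ⟨v, rfl⟩; exact ⟨v, X_pow_eq_monomial⟩
  rw [hJ, mem_ideal_span_monomial_image] at hg
  obtain ⟨s, ⟨v, rfl⟩, hs⟩ := hg m (mem_support_iff.2 hne)
  have := hs v
  rw [Finsupp.single_eq_same] at this
  exact absurd (hm v) (not_lt.2 this)

theorem t_pow_mem_J (p : ℕ) (i : Fin n) : t n S i ^ p ∈ J n S p := by
  rw [t, mul_pow]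
  exact Ideal.mul_mem_right _ _ (Ideal.subset_span ⟨_, rfl⟩)

end defs

section overZ

variable (p : ℕ) [hp : Fact p.Prime] (n : ℕ)

theorem exists_sum_pow_eq {S : Type*} [CommRing S] {ι : Type*} (s : Finset ι) (f : ι → S) :
    ∃ r : S, (∑ i ∈ s, f i) ^ p = ∑ i ∈ s, f i ^ p + (p : S) * r := by
  classical
  induction s using Finset.induction_on with
  | empty => exact ⟨0, by simp [hp.out.ne_zero]⟩
  | insert a s ha ih =>
    obtain ⟨r, hr⟩ := ih
    obtain ⟨r', hr'⟩ := exists_add_pow_prime_eq hp.out (f a) (∑ i ∈ s, f i)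
    refine ⟨r + f a * (∑ i ∈ s, f i) * r', ?_⟩
    rw [Finset.sum_insert ha, Finset.sum_insert ha, hr', hr]
    ring

theorem exists_R : ∃ R : MvPolynomial (Fin n × Fin 2) ℤ,
    q n ℤ ^ p = ∑ i, t n ℤ i ^ p + (p : MvPolynomial (Fin n × Fin 2) ℤ) * R :=
  exists_sum_pow_eq p Finset.univ (t n ℤ)

end overZ

section lifting

open Groth.Agent.H65.W2B

theorem R_mem_of_lift (p : ℕ) [Fact p.Prime] (k : Type u) [Field k] [CharP k p] [PerfectRing k p]
    (n : ℕ) (R : MvPolynomial (Fin n × Fin 2) ℤ)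
    (hR : q n ℤ ^ p = ∑ i, t n ℤ i ^ p + (p : MvPolynomial (Fin n × Fin 2) ℤ) * R)
    (I : Ideal (MvPolynomial (Fin n × Fin 2) k)) (hqI : q n k ∈ I)
    (hXI : ∀ v, (X v : MvPolynomial (Fin n × Fin 2) k) ^ p ∈ I)
    (A' : Type u) [CommRing A'] (ι : FrobAlg.W2 p k →+* A')
    (π : A' →+* (MvPolynomial (Fin n × Fin 2) k ⧸ I))
    (h : FrobAlg.IsLift p k (MvPolynomial (Fin n × Fin 2) k ⧸ I) A' ι π) :
    map (Int.castRingHom k) R ∈ I := by
  have hX : ∀ v, ∃ a : A', π a = Ideal.Quotient.mk I (X v) := fun v => h.surj _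
  choose Xl hXl using hX
  let ψ : MvPolynomial (Fin n × Fin 2) (FrobAlg.W2 p k) →+* A' := eval₂Hom ι Xl
  have hψ : ∀ g, π (ψ g) = Ideal.Quotient.mk I (map (FrobAlg.res p k) g) := by
    have : π.comp ψ = (Ideal.Quotient.mk I).comp (map (FrobAlg.res p k)) := by
      apply MvPolynomial.ringHom_ext
      · intro w
        simp only [ψ, RingHom.comp_apply, coe_eval₂Hom, eval₂_C, map_C]
        rw [← RingHom.comp_apply, h.comm]
        rfl
      · intro v
        simp only [ψ, RingHom.comp_apply, coe_eval₂Hom, eval₂_X, map_X, hXl]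
    exact fun g => RingHom.congr_fun this g
  have hpp : (p : A') * p = 0 := p_mul_p_of_ringHom ι
  have hker : ∀ g, map (FrobAlg.res p k) g ∈ I → ∃ u, ψ g = (p : A') * u := by
    intro g hg
    apply (IsLift.mem_ker_iff h _).1
    rw [hψ, Ideal.Quotient.eq_zero_iff_mem]
    exact hg
  have htwo : 2 ≤ p := (Fact.out : p.Prime).two_le
  have hq0 : ψ (q n (FrobAlg.W2 p k) ^ p) = 0 := by
    obtain ⟨u, hu⟩ := hker (q n _) (by rw [map_q]; exact hqI)
    obtain ⟨j, rfl⟩ : ∃ j, p = 2 + j := ⟨p - 2, by omega⟩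
    rw [map_pow, hu, mul_pow, pow_add, pow_two, hpp, zero_mul, zero_mul]
  have ht0 : ∀ i, ψ (t n (FrobAlg.W2 p k) i ^ p) = 0 := by
    intro i
    obtain ⟨u, hu⟩ := hker (X (i, 0) ^ p) (by rw [map_pow, map_X]; exact hXI _)
    obtain ⟨u', hu'⟩ := hker (X (i, 1) ^ p) (by rw [map_pow, map_X]; exact hXI _)
    rw [t, mul_pow, map_mul, hu, hu']
    linear_combination (u * u') * hpp
  have hRW := congrArg (map (Int.castRingHom (FrobAlg.W2 p k))) hR
  rw [map_pow, map_q, map_add, map_sum, map_mul, map_natCast] at hRW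
  simp only [map_pow, map_t] at hRW
  have h1 := congrArg ψ hRW
  rw [hq0, map_add, map_sum, Finset.sum_eq_zero (fun i _ => ht0 i), zero_add, map_mul,
    map_natCast] at h1
  have h2 := (IsLift.p_mul_eq_zero_iff h _).1 h1.symm
  rw [hψ, Ideal.Quotient.eq_zero_iff_mem, MvPolynomial.map_map] at h2
  have : (FrobAlg.res p k).comp (Int.castRingHom (FrobAlg.W2 p k)) = Int.castRingHom k :=
    RingHom.ext_int _ _
  rwa [this] at h2

end lifting

section nonmem

variable (p : ℕ) [hp : Fact p.Prime] (n : ℕ)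

/-- the exponent pattern `(p-1, p-1, 1, 0, …)` at the indices `i0, i1, i2` -/
def al (i0 i1 i2 : Fin n) (i : Fin n) : ℕ :=
  (if i = i0 then p - 1 else 0) + (if i = i1 then p - 1 else 0) + (if i = i2 then 1 else 0)

omit hp in
theorem sum_al (i0 i1 i2 : Fin n) : ∑ i, al p n i0 i1 i2 i = (p - 1) + (p - 1) + 1 := by
  simp [al, Finset.sum_add_distrib]

omit hp in
theorem al_le (hp2 : 2 ≤ p) {i0 i1 i2 : Fin n} (h01 : i0 ≠ i1) (h02 : i0 ≠ i2) (h12 : i1 ≠ i2)
    (i : Fin n) : al p n i0 i1 i2 i ≤ p - 1 := by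
  unfold al
  by_cases h0 : i = i0
  · subst h0
    simp [h01, h02]
  · by_cases h1 : i = i1
    · subst h1
      simp [h0, h12]
    · by_cases h2 : i = i2
      · subst h2
        simp [h0, h1]; omega
      · simp [h0, h1, h2]

variable {n}

theorem sum_smul_e_apply (k : Fin n → ℕ) (i : Fin n) (j : Fin 2) :
    (∑ i', k i' • e i') (i, j) = k i := by
  rw [Finsupp.finsetSum_apply]
  simp [Finsupp.smul_apply, e_apply]

theorem coeff_q_pow (N : ℕ) (k : Fin n → ℕ) (hk : ∑ i, k i = N) :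
    coeff (∑ i, k i • e i) (q n ℤ ^ N) = (Nat.multinomial Finset.univ k : ℤ) := by
  classical
  rw [q, Finset.sum_pow_eq_sum_piAntidiag, coeff_sum]
  have hterm : ∀ k' : Fin n → ℕ,
      coeff (∑ i, k i • e i) ((Nat.multinomial Finset.univ k' : MvPolynomial (Fin n × Fin 2) ℤ) *
        ∏ i, t n ℤ i ^ k' i) = if k' = k then (Nat.multinomial Finset.univ k' : ℤ) else 0 := by
    intro k'
    have h1 : ∏ i, t n ℤ i ^ k' i = monomial (∑ i, k' i • e i) (1 : ℤ) := by
      rw [monomial_sum_one]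
      refine Finset.prod_congr rfl fun i _ => ?_
      rw [t_eq_monomial, monomial_pow, one_pow]
    have h2 : (Nat.multinomial Finset.univ k' : MvPolynomial (Fin n × Fin 2) ℤ) =
        C (Nat.multinomial Finset.univ k' : ℤ) := by
      rw [map_natCast]
    rw [h1, h2, coeff_C_mul, coeff_monomial]
    by_cases hkk : k' = k
    · subst hkk; simp
    · rw [if_neg hkk, if_neg, mul_zero]
      intro heq
      apply hkk
      funext i
      have := congrArg (fun s => s (i, (0 : Fin 2))) heq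
      simpa [sum_smul_e_apply] using this
  rw [Finset.sum_congr rfl (fun k' _ => hterm k'), Finset.sum_ite_eq']
  rw [if_pos]
  rw [Finset.mem_piAntidiag]
  exact ⟨hk, fun i _ => Finset.mem_univ i⟩

variable (n)

theorem not_sq_dvd_factorial : ¬ p ^ 2 ∣ (2 * p - 1).factorial := by
  have hp2 := hp.out.two_le
  have hlog : Nat.log p (2 * p - 1) < 2 := by
    apply Nat.log_lt_of_lt_pow (by omega)
    have h : 2 * p ≤ p ^ 2 := by rw [pow_two]; exact Nat.mul_le_mul_right p hp2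
    calc 2 * p - 1 < 2 * p := by omega
      _ ≤ p ^ 2 := h
  rw [hp.out.pow_dvd_factorial_iff hlog]
  have : (2 * p - 1) / p = 1 := Nat.div_eq_of_lt_le (by omega) (by omega)
  simp [this]

theorem R_not_mem (k : Type u) [Field k] [CharP k p] (hn : 3 ≤ n)
    (R : MvPolynomial (Fin n × Fin 2) ℤ)
    (hR : q n ℤ ^ p = ∑ i, t n ℤ i ^ p + (p : MvPolynomial (Fin n × Fin 2) ℤ) * R) :
    map (Int.castRingHom k) R ∉ Ideal.span (insert (q n k)
      (Set.range fun v : Fin n × Fin 2 => (X v : MvPolynomial (Fin n × Fin 2) k) ^ p)) := by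
  intro hmem
  have hp2 := hp.out.two_le
  obtain ⟨i0, i1, i2, h01, h02, h12⟩ : ∃ i0 i1 i2 : Fin n, i0 ≠ i1 ∧ i0 ≠ i2 ∧ i1 ≠ i2 :=
    ⟨⟨0, by omega⟩, ⟨1, by omega⟩, ⟨2, by omega⟩, by simp [Fin.ext_iff], by simp [Fin.ext_iff],
      by simp [Fin.ext_iff]⟩
  set a := al p n i0 i1 i2 with ha
  set m : (Fin n × Fin 2) →₀ ℕ := ∑ i, a i • e i with hm_def
  have hm : ∀ v, m v < p := by
    rintro ⟨i, j⟩
    rw [hm_def, sum_smul_e_apply]
    have : a i ≤ p - 1 := al_le p n hp2 h01 h02 h12 i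
    omega
  have hsum : ∑ i, a i = 2 * p - 1 := by
    rw [ha, sum_al]; omega
  -- over ℤ
  have hZ : q n ℤ ^ (2 * p - 1) = (∑ i, t n ℤ i ^ p) * q n ℤ ^ (p - 1) +
      C (p : ℤ) * (R * q n ℤ ^ (p - 1)) := by
    have h1 : 2 * p - 1 = p + (p - 1) := by omega
    have h2 : (C (p : ℤ) : MvPolynomial (Fin n × Fin 2) ℤ) = (p : MvPolynomial (Fin n × Fin 2) ℤ) := by
      rw [← map_natCast (C : ℤ →+* MvPolynomial (Fin n × Fin 2) ℤ)]
    rw [h1, pow_add, hR, h2]; ring
  have hJZ : (∑ i, t n ℤ i ^ p) * q n ℤ ^ (p - 1) ∈ J n ℤ p :=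
    Ideal.mul_mem_right _ _ (Ideal.sum_mem _ fun i _ => t_pow_mem_J p i)
  have hc := congrArg (coeff m) hZ
  rw [coeff_add, coeff_eq_zero_of_mem_J ℤ hm hJZ, zero_add, coeff_C_mul, hm_def,
    coeff_q_pow _ a hsum, ← hm_def] at hc
  set c := coeff m (R * q n ℤ ^ (p - 1)) with hc_def
  have hpc : ¬ (p : ℤ) ∣ c := by
    intro hdvd
    have h2 : ((p ^ 2 : ℕ) : ℤ) ∣ (Nat.multinomial Finset.univ a : ℤ) := by
      rw [hc]; push_cast; rw [pow_two]; exact mul_dvd_mul_left _ hdvd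
    have h3 : p ^ 2 ∣ Nat.multinomial Finset.univ a := Int.natCast_dvd_natCast.1 h2
    have h4 : p ^ 2 ∣ (2 * p - 1).factorial := by
      have := Nat.multinomial_spec Finset.univ a
      rw [hsum] at this
      rw [← this]
      exact Dvd.dvd.mul_left h3 _
    exact not_sq_dvd_factorial p h4
  -- over k
  have hk1 : coeff m (map (Int.castRingHom k) R * q n k ^ (p - 1)) = (c : k) := by
    rw [← map_q (Int.castRingHom k), ← map_pow, ← map_mul, coeff_map]
    rfl
  have hk2 : (c : k) ≠ 0 := by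
    rw [Ne, CharP.intCast_eq_zero_iff k p]; exact hpc
  rw [Ideal.span_insert, Submodule.mem_sup] at hmem
  obtain ⟨y, hy, j, hj, hyj⟩ := hmem
  obtain ⟨b, rfl⟩ := Ideal.mem_span_singleton'.1 hy
  have hqp : q n k ^ p ∈ J n k p := by
    rw [q, sum_pow_char]
    exact Ideal.sum_mem _ (fun i _ => t_pow_mem_J p i)
  have hmemJ : map (Int.castRingHom k) R * q n k ^ (p - 1) ∈ J n k p := by
    rw [← hyj, add_mul]
    refine Ideal.add_mem _ ?_ (Ideal.mul_mem_right _ _ hj)
    have : b * q n k * q n k ^ (p - 1) = b * q n k ^ p := by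
      rw [mul_assoc, ← pow_succ', Nat.sub_add_cancel (by omega)]
    rw [this]
    exact Ideal.mul_mem_left _ _ hqp
  exact hk2 (hk1 ▸ coeff_eq_zero_of_mem_J k hm hmemJ)

end nonmem

end Groth.Agent.H65.Quad
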