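import Groth.Agent.H65.Quadric

/-!
# The split quadric cone is not Frobenius-liftable over `W₂(k)`
-/

set_option autoImplicit false
universe u v

open MvPolynomial

namespace Groth.Agent.H65.Quad

section nonmem

variable (p : ℕ) [hp : Fact p.Prime] {n : ℕ}

theorem coeff_q_pow_of_ne (N : ℕ) (k : Fin n → ℕ) (hk : ∑ i, k i ≠ N) :
    coeff (∑ i, k i • e i) (q n ℤ ^ N) = 0 := by
  classical
  rw [q, Finset.sum_pow_eq_sum_piAntidiag, coeff_sum]
  refine Finset.sum_eq_zero fun k' hk' => ?_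
  have h1 : ∏ i, t n ℤ i ^ k' i = monomial (∑ i, k' i • e i) (1 : ℤ) := by
    rw [monomial_sum_one]
    refine Finset.prod_congr rfl fun i _ => ?_
    rw [t_eq_monomial, monomial_pow, one_pow]
  have h2 : (Nat.multinomial Finset.univ k' : MvPolynomial (Fin n × Fin 2) ℤ) =
      C (Nat.multinomial Finset.univ k' : ℤ) := by
    rw [map_natCast]
  rw [h1, h2, coeff_C_mul, coeff_monomial, if_neg, mul_zero]
  intro heq
  apply hk
  have hkk : k' = k := by
    funext i
    have := congrArg (fun s => s (i, (0 : Fin 2))) heq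
    simpa [sum_smul_e_apply] using this
  rw [← hkk]
  exact (Finset.mem_piAntidiag.1 hk').1

variable (n)

/-- The key monomial: all exponents `< p`, detects `R q^(p-1)`, does not see `q^(p-1)`. -/
theorem key (k : Type u) [Field k] [CharP k p] (hn : 3 ≤ n)
    (R : MvPolynomial (Fin n × Fin 2) ℤ)
    (hR : q n ℤ ^ p = ∑ i, t n ℤ i ^ p + (p : MvPolynomial (Fin n × Fin 2) ℤ) * R) :
    ∃ m : (Fin n × Fin 2) →₀ ℕ, (∀ v, m v < p) ∧
      coeff m (map (Int.castRingHom k) R * q n k ^ (p - 1)) ≠ 0 ∧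
      coeff m (q n k ^ (p - 1)) = 0 := by
  have hp2 := hp.out.two_le
  obtain ⟨i0, i1, i2, h01, h02, h12⟩ : ∃ i0 i1 i2 : Fin n, i0 ≠ i1 ∧ i0 ≠ i2 ∧ i1 ≠ i2 :=
    ⟨⟨0, by omega⟩, ⟨1, by omega⟩, ⟨2, by omega⟩, by simp [Fin.ext_iff], by simp [Fin.ext_iff],
      by simp [Fin.ext_iff]⟩
  set a := al p n i0 i1 i2 with ha
  set m : (Fin n × Fin 2) →₀ ℕ := ∑ i, a i • e i with hm_def
  have hm : ∀ v, m v < p := by
    rintro ⟨i, j⟩
    rw [hm_def, sum_smul_e_apply]
    have : a i ≤ p - 1 := al_le p n hp2 h01 h02 h12 i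
    omega
  have hsum : ∑ i, a i = 2 * p - 1 := by
    rw [ha, sum_al]; omega
  have hZ : q n ℤ ^ (2 * p - 1) = (∑ i, t n ℤ i ^ p) * q n ℤ ^ (p - 1) +
      C (p : ℤ) * (R * q n ℤ ^ (p - 1)) := by
    have h1 : 2 * p - 1 = p + (p - 1) := by omega
    have h2 : (C (p : ℤ) : MvPolynomial (Fin n × Fin 2) ℤ) = (p : MvPolynomial (Fin n × Fin 2) ℤ) := by
      rw [← map_natCast (C : ℤ →+* MvPolynomial (Fin n × Fin 2) ℤ)]
    rw [h1, pow_add, hR, h2]; ring
  have hJZ : (∑ i, t n ℤ i ^ p) * q n ℤ ^ (p - 1) ∈ J n ℤ p :=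
    Ideal.mul_mem_right _ _ (Ideal.sum_mem _ fun i _ => t_pow_mem_J p i)
  have hc := congrArg (coeff m) hZ
  rw [coeff_add, coeff_eq_zero_of_mem_J ℤ hm hJZ, zero_add, coeff_C_mul, hm_def,
    coeff_q_pow _ a hsum, ← hm_def] at hc
  set c := coeff m (R * q n ℤ ^ (p - 1)) with hc_def
  have hpc : ¬ (p : ℤ) ∣ c := by
    intro hdvd
    have h2 : ((p ^ 2 : ℕ) : ℤ) ∣ (Nat.multinomial Finset.univ a : ℤ) := by
      rw [hc]; push_cast; rw [pow_two]; exact mul_dvd_mul_left _ hdvd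
    have h3 : p ^ 2 ∣ Nat.multinomial Finset.univ a := Int.natCast_dvd_natCast.1 h2
    have h4 : p ^ 2 ∣ (2 * p - 1).factorial := by
      have := Nat.multinomial_spec Finset.univ a
      rw [hsum] at this
      rw [← this]
      exact Dvd.dvd.mul_left h3 _
    exact not_sq_dvd_factorial p h4
  have hk1 : coeff m (map (Int.castRingHom k) R * q n k ^ (p - 1)) = (c : k) := by
    rw [← map_q (Int.castRingHom k), ← map_pow, ← map_mul, coeff_map]
    rfl
  have hk2 : (c : k) ≠ 0 := by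
    rw [Ne, CharP.intCast_eq_zero_iff k p]; exact hpc
  refine ⟨m, hm, by rw [hk1]; exact hk2, ?_⟩
  rw [← map_q (Int.castRingHom k), ← map_pow, coeff_map, hm_def,
    coeff_q_pow_of_ne (p - 1) a (by rw [hsum]; omega), map_zero]

theorem pow_sub_C_mem_J (k : Type u) [CommRing k] [CharP k p]
    (g : MvPolynomial (Fin n × Fin 2) k) :
    g ^ p - C (constantCoeff g) ^ p ∈ J n k p := by
  have h2 : ∀ f ∈ Ideal.span (Set.range (X : Fin n × Fin 2 → MvPolynomial (Fin n × Fin 2) k)),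
      f ^ p ∈ J n k p := by
    intro f hf
    induction hf using Submodule.span_induction with
    | mem x hx =>
      obtain ⟨v, rfl⟩ := hx
      exact Ideal.subset_span ⟨v, rfl⟩
    | zero => rw [zero_pow hp.out.ne_zero]; exact Ideal.zero_mem _
    | add x y _ _ hx hy => rw [add_pow_char]; exact Ideal.add_mem _ hx hy
    | smul a x _ hx => rw [smul_eq_mul, mul_pow]; exact Ideal.mul_mem_left _ _ hx
  have h1 : g - C (constantCoeff g) ∈
      Ideal.span (Set.range (X : Fin n × Fin 2 → MvPolynomial (Fin n × Fin 2) k)) := by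
    rw [← Set.image_univ, mem_ideal_span_X_image]
    intro m hm
    by_contra hcon
    push Not at hcon
    have hm0 : m = 0 := by
      ext v; exact hcon v (Set.mem_univ v)
    rw [mem_support_iff, hm0, coeff_sub, coeff_zero_C, ← constantCoeff_eq, sub_self] at hm
    exact hm rfl
  have h3 := h2 _ h1
  rwa [sub_pow_char] at h3

theorem R_add_pow_not_mem (k : Type u) [Field k] [CharP k p] (hn : 3 ≤ n)
    (R : MvPolynomial (Fin n × Fin 2) ℤ)
    (hR : q n ℤ ^ p = ∑ i, t n ℤ i ^ p + (p : MvPolynomial (Fin n × Fin 2) ℤ) * R)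
    (g : MvPolynomial (Fin n × Fin 2) k) :
    map (Int.castRingHom k) R + g ^ p ∉ Ideal.span (insert (q n k)
      (Set.range fun v : Fin n × Fin 2 => (X v : MvPolynomial (Fin n × Fin 2) k) ^ p)) := by
  intro hmem
  have hp2 := hp.out.two_le
  obtain ⟨m, hm, hne, hz⟩ := key p n k hn R hR
  rw [Ideal.span_insert, Submodule.mem_sup] at hmem
  obtain ⟨y, hy, j, hj, hyj⟩ := hmem
  obtain ⟨b, rfl⟩ := Ideal.mem_span_singleton'.1 hy
  have hqp : q n k ^ p ∈ J n k p := by
    rw [q, sum_pow_char]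
    exact Ideal.sum_mem _ (fun i _ => t_pow_mem_J p i)
  have hmemJ : (map (Int.castRingHom k) R + g ^ p) * q n k ^ (p - 1) ∈ J n k p := by
    rw [← hyj, add_mul]
    refine Ideal.add_mem _ ?_ (Ideal.mul_mem_right _ _ hj)
    have : b * q n k * q n k ^ (p - 1) = b * q n k ^ p := by
      rw [mul_assoc, ← pow_succ', Nat.sub_add_cancel (by omega)]
    rw [this]
    exact Ideal.mul_mem_left _ _ hqp
  have hsplit : (map (Int.castRingHom k) R + g ^ p) * q n k ^ (p - 1) =
      map (Int.castRingHom k) R * q n k ^ (p - 1) +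
        (g ^ p - C (constantCoeff g) ^ p) * q n k ^ (p - 1) +
        C (constantCoeff g ^ p) * q n k ^ (p - 1) := by
    rw [map_pow]; ring
  have h0 := coeff_eq_zero_of_mem_J k hm hmemJ
  rw [hsplit, coeff_add, coeff_add,
    coeff_eq_zero_of_mem_J k hm (Ideal.mul_mem_right _ _ (pow_sub_C_mem_J p n k g)),
    coeff_C_mul, hz, mul_zero, add_zero, add_zero] at h0
  exact hne h0

end nonmem

section lifting

open Groth.Agent.H65.W2B

theorem exists_pow_add_R_mem_of_frobLift (p : ℕ) [Fact p.Prime] (k : Type u) [Field k] [CharP k p]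
    [PerfectRing k p] (n : ℕ) (R : MvPolynomial (Fin n × Fin 2) ℤ)
    (hR : q n ℤ ^ p = ∑ i, t n ℤ i ^ p + (p : MvPolynomial (Fin n × Fin 2) ℤ) * R)
    (I : Ideal (MvPolynomial (Fin n × Fin 2) k)) (hI : I = Ideal.span {q n k})
    (A' : Type u) [CommRing A'] (ι : FrobAlg.W2 p k →+* A')
    (π : A' →+* (MvPolynomial (Fin n × Fin 2) k ⧸ I)) (Φ : A' →+* A')
    (hΦ : FrobAlg.IsFrobLift p k (MvPolynomial (Fin n × Fin 2) k ⧸ I) A' ι π Φ) :
    ∃ g : MvPolynomial (Fin n × Fin 2) k,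
      map (Int.castRingHom k) R + g ^ p ∈ Ideal.span (insert (q n k)
        (Set.range fun v : Fin n × Fin 2 => (X v : MvPolynomial (Fin n × Fin 2) k) ^ p)) := by
  have h := hΦ.toIsLift
  have hX : ∀ v, ∃ a : A', π a = Ideal.Quotient.mk I (X v) := fun v => h.surj _
  choose Xl hXl using hX
  let ψ : MvPolynomial (Fin n × Fin 2) (FrobAlg.W2 p k) →+* A' := eval₂Hom ι Xl
  have hψ : ∀ g, π (ψ g) = Ideal.Quotient.mk I (map (FrobAlg.res p k) g) := by
    have : π.comp ψ = (Ideal.Quotient.mk I).comp (map (FrobAlg.res p k)) := by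
      apply MvPolynomial.ringHom_ext
      · intro w
        simp only [ψ, RingHom.comp_apply, coe_eval₂Hom, eval₂_C, map_C]
        rw [← RingHom.comp_apply, h.comm]
        rfl
      · intro v
        simp only [ψ, RingHom.comp_apply, coe_eval₂Hom, eval₂_X, map_X, hXl]
    exact fun g => RingHom.congr_fun this g
  have hpp : (p : A') * p = 0 := p_mul_p_of_ringHom ι
  have htwo : 2 ≤ p := (Fact.out : p.Prime).two_le
  obtain ⟨hh, hhh⟩ : ∃ u, ψ (q n (FrobAlg.W2 p k)) = (p : A') * u := by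
    apply (IsLift.mem_ker_iff h _).1
    rw [hψ, Ideal.Quotient.eq_zero_iff_mem, map_q, hI]
    exact Ideal.mem_span_singleton_self _
  have hΦX : ∀ v, ∃ u, Φ (Xl v) = Xl v ^ p + (p : A') * u := by
    intro v
    have : π (Φ (Xl v) - Xl v ^ p) = 0 := by rw [map_sub, hΦ.red, map_pow, sub_self]
    obtain ⟨u, hu⟩ := (IsLift.mem_ker_iff h _).1 this
    exact ⟨u, by rw [← hu]; ring⟩
  choose U hU using hΦX
  have hψq : ψ (q n (FrobAlg.W2 p k)) = ∑ i, Xl (i, 0) * Xl (i, 1) := by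
    simp [ψ, q, t]
  have hψt : ∀ i, ψ (t n (FrobAlg.W2 p k) i ^ p) = Xl (i, 0) ^ p * Xl (i, 1) ^ p := by
    intro i; simp [ψ, t, mul_pow]
  have e1 : Φ (ψ (q n (FrobAlg.W2 p k))) = ∑ i, Xl (i, 0) ^ p * Xl (i, 1) ^ p +
      (p : A') * ∑ i, (U (i, 0) * Xl (i, 1) ^ p + U (i, 1) * Xl (i, 0) ^ p) := by
    rw [hψq, map_sum, Finset.mul_sum, ← Finset.sum_add_distrib]
    refine Finset.sum_congr rfl fun i _ => ?_
    rw [map_mul, hU, hU]
    linear_combination (U (i, 0) * U (i, 1)) * hpp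
  have e2 : Φ (ψ (q n (FrobAlg.W2 p k))) = (p : A') * Φ hh := by
    rw [hhh, map_mul, map_natCast]
  have hRW := congrArg (map (Int.castRingHom (FrobAlg.W2 p k))) hR
  rw [map_pow, map_q, map_add, map_sum, map_mul, map_natCast] at hRW
  simp only [map_pow, map_t] at hRW
  have e3 := congrArg ψ hRW
  have e4 : ψ (q n (FrobAlg.W2 p k) ^ p) = 0 := by
    obtain ⟨j, rfl⟩ : ∃ j, p = 2 + j := ⟨p - 2, by omega⟩
    rw [map_pow, hhh, mul_pow, pow_add, pow_two, hpp, zero_mul, zero_mul]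
  rw [e4, map_add, map_sum, Finset.sum_congr rfl (fun i _ => hψt i), map_mul, map_natCast] at e3
  set RW := map (Int.castRingHom (FrobAlg.W2 p k)) R with hRWdef
  have e5 : (p : A') * (Φ hh + ψ RW -
      ∑ i, (U (i, 0) * Xl (i, 1) ^ p + U (i, 1) * Xl (i, 0) ^ p)) = 0 := by
    linear_combination e1 - e2 - e3
  have e6 := (IsLift.p_mul_eq_zero_iff h _).1 e5
  obtain ⟨g, hg⟩ := Ideal.Quotient.mk_surjective (π hh)
  have hb : ∀ v, ∃ b, Ideal.Quotient.mk I b = π (U v) := fun v => Ideal.Quotient.mk_surjective _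
  choose bb hbb using hb
  have hcomp : (FrobAlg.res p k).comp (Int.castRingHom (FrobAlg.W2 p k)) = Int.castRingHom k :=
    RingHom.ext_int _ _
  have hz : Ideal.Quotient.mk I (g ^ p + map (Int.castRingHom k) R -
      ∑ i, (bb (i, 0) * X (i, 1) ^ p + bb (i, 1) * X (i, 0) ^ p)) = 0 := by
    rw [← e6, map_sub, map_add, map_sub, map_add, hΦ.red, ← hg, hψ, hRWdef, MvPolynomial.map_map,
      hcomp, map_sum, map_sum, map_pow]
    congr 1
    refine Finset.sum_congr rfl fun i _ => ?_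
    simp only [map_add, map_mul, map_pow, hXl, hbb]
  rw [Ideal.Quotient.eq_zero_iff_mem, hI, Ideal.mem_span_singleton'] at hz
  obtain ⟨a, ha⟩ := hz
  refine ⟨g, ?_⟩
  have : map (Int.castRingHom k) R + g ^ p = a * q n k +
      ∑ i, (bb (i, 0) * X (i, 1) ^ p + bb (i, 1) * X (i, 0) ^ p) := by
    rw [ha]; ring
  rw [this]
  refine Ideal.add_mem _ (Ideal.mul_mem_left _ _ (Ideal.subset_span (Set.mem_insert _ _))) ?_
  refine Ideal.sum_mem _ fun i _ => Ideal.add_mem _ ?_ ?_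
  · exact Ideal.mul_mem_left _ _ (Ideal.subset_span (Set.mem_insert_of_mem _ ⟨_, rfl⟩))
  · exact Ideal.mul_mem_left _ _ (Ideal.subset_span (Set.mem_insert_of_mem _ ⟨_, rfl⟩))

end lifting

end Groth.Agent.H65.Quad
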