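import Groth.Agent.H65.QuotEtale
import Groth.Agent.H65.MonoFppfDescent

/-!
# Fibre products over a sheaf with an fppf presentation

Generalisation of `QuotEtale`: `g : h_U ⟶ Q`, `g₁ : h_{U₁} ⟶ Q` with `h_{U₁} ×_Q h_U = h_R` a scheme.
If `ξ : h_T ⟶ Q` lifts to `U` over a flat, locally finitely presented cover of `T`, then
`h_{U₁} ×_Q h_T` is a scheme.
-/

set_option autoImplicit false
universe u
open CategoryTheory CategoryTheory.Limits AlgebraicGeometry Opposite

namespace Groth.Agent.H65.QuotFppf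

open AlgSp Groth.Agent.H65.QuotEtale

variable {S : Scheme.{u}}

/-- Points of a pullback square of schemes. -/
theorem exists_preimage_of_isPullback {P X Y Z : Scheme.{u}} {fst : P ⟶ X} {snd : P ⟶ Y}
    {f : X ⟶ Z} {g : Y ⟶ Z} (sq : IsPullback fst snd f g) (x : X) (y : Y) (h : f x = g y) :
    ∃ z : P, fst z = x ∧ snd z = y := by
  obtain ⟨z₀, hz1, hz2⟩ := Scheme.Pullback.exists_preimage_pullback x y h
  refine ⟨sq.isoPullback.inv z₀, ?_, ?_⟩
  · rw [← Scheme.Hom.comp_apply, sq.isoPullback_inv_fst, hz1]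
  · rw [← Scheme.Hom.comp_apply, sq.isoPullback_inv_snd, hz2]

section Fix

variable {Q : Sp S} {R U U₁ : Over S} (s : R ⟶ U) (t : R ⟶ U₁) (g₁ : (yon S).obj U₁ ⟶ Q)
  (g : (yon S).obj U ⟶ Q)
  (sqR : IsPullback ((yon S).map t) ((yon S).map s) g₁ g) {T : Over S} (ξ : (yon S).obj T ⟶ Q)
  {T' : Over S} (v : T' ⟶ T) (l : T' ⟶ U)

include sqR in
theorem isPullback_lift (hl : (yon S).map l ≫ g = (yon S).map v ≫ ξ) :
    IsPullback ((yon S).map (pullback.fst s l ≫ t)) ((yon S).map (pullback.snd s l)) g₁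
      ((yon S).map v ≫ ξ) := by
  have h1 := ((IsPullback.of_hasPullback s l).map (yon S)).paste_horiz sqR
  rw [← Functor.map_comp, hl] at h1
  exact h1

/-- The comparison map `h_{R ×_U T'} ⟶ h_{U₁} ×_Q h_T`. -/
noncomputable def tV (hl : (yon S).map l ≫ g = (yon S).map v ≫ ξ) :
    (yon S).obj (pullback s l) ⟶ pullback g₁ ξ :=
  pullback.lift ((yon S).map (pullback.fst s l ≫ t)) ((yon S).map (pullback.snd s l ≫ v)) (by
    have h1 := ((IsPullback.of_hasPullback s l).map (yon S)).w
    rw [Functor.map_comp, Functor.map_comp, Category.assoc, Category.assoc, ← hl,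
      ← Category.assoc, ← Category.assoc, ← h1, Category.assoc, Category.assoc, sqR.w])

theorem tV_fst (hl : (yon S).map l ≫ g = (yon S).map v ≫ ξ) :
    tV s t g₁ g sqR ξ v l hl ≫ pullback.fst g₁ ξ = (yon S).map (pullback.fst s l ≫ t) :=
  pullback.lift_fst _ _ _

theorem tV_snd (hl : (yon S).map l ≫ g = (yon S).map v ≫ ξ) :
    tV s t g₁ g sqR ξ v l hl ≫ pullback.snd g₁ ξ = (yon S).map (pullback.snd s l ≫ v) :=
  pullback.lift_snd _ _ _

theorem isPullback_tV (hl : (yon S).map l ≫ g = (yon S).map v ≫ ξ) :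
    IsPullback (tV s t g₁ g sqR ξ v l hl) ((yon S).map (pullback.snd s l)) (pullback.snd g₁ ξ)
      ((yon S).map v) := by
  refine IsPullback.of_right ?_ ?_ (IsPullback.of_hasPullback g₁ ξ)
  · rw [tV_fst]
    exact isPullback_lift s t g₁ g sqR ξ v l hl
  · rw [tV_snd, Functor.map_comp]

/-- The product form of the local description. -/
theorem isPullback_tV_prod (hl : (yon S).map l ≫ g = (yon S).map v ≫ ξ) :
    IsPullback (tV s t g₁ g sqR ξ v l hl)
      ((yon S).map (prod.lift (pullback.fst s l ≫ t) (pullback.snd s l)))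
      (toProd g₁ ξ) ((yon S).map (prod.map (𝟙 U₁) v)) := by
  have hR := (Groth.Agent.H50.isPullback_prod_snd_with_id v U₁).map (yon S)
  refine (IsPullback.of_right ?_ ?_ hR).flip
  · rw [← Functor.map_comp, prod.lift_snd, toProd_snd]
    exact (isPullback_tV s t g₁ g sqR ξ v l hl).flip
  · apply yon_prod_hom_ext
    · rw [Category.assoc, Category.assoc, toProd_fst, tV_fst, ← Functor.map_comp,
        ← Functor.map_comp, prod.map_fst, Category.comp_id, prod.lift_fst]
    · rw [Category.assoc, Category.assoc, toProd_snd, tV_snd, ← Functor.map_comp,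
        ← Functor.map_comp, prod.map_snd, ← Category.assoc, prod.lift_snd]

/-- The local model `R ×_U T' ⟶ U₁ × T'` is locally of finite type when `t` is. -/
theorem lft_local_model (ht : LocallyOfFiniteType t.left) :
    LocallyOfFiniteType
      (prod.lift (pullback.fst s l ≫ t) (pullback.snd s l) : pullback s l ⟶ U₁ ⨯ T').left := by
  have e : (prod.lift (pullback.fst s l ≫ t) (pullback.snd s l) : pullback s l ⟶ U₁ ⨯ T') =
      prod.lift (pullback.fst s l) (pullback.snd s l) ≫ prod.map t (𝟙 T') := by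
    rw [prod.lift_map, Category.comp_id]
  have h1 : LocallyOfFiniteType (prod.lift (pullback.fst s l) (pullback.snd s l)).left :=
    MorphismProperty.of_isPullback
      (P := MorphismProperty.inverseImage (@LocallyOfFiniteType : MorphismProperty Scheme.{u})
        (Over.forget S))
      (Groth.Agent.H50.isPullback_diag_of_isPullback (IsPullback.of_hasPullback s l))
      (AlgSpBoot.lft_diag_left U)
  have h2 : LocallyOfFiniteType (prod.map t (𝟙 T')).left :=
    MorphismProperty.of_isPullback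
      (P := MorphismProperty.inverseImage (@LocallyOfFiniteType : MorphismProperty Scheme.{u})
        (Over.forget S))
      (IsPullback.of_prod_fst_with_id t T') ht
  rw [e, Over.comp_left]
  infer_instance

end Fix

section Main

variable {Q : Sp S} {R U U₁ : Over S} (s : R ⟶ U) (t : R ⟶ U₁) (g₁ : (yon S).obj U₁ ⟶ Q)
  (g : (yon S).obj U ⟶ Q)

/-- If `h_{U₁} ×_Q h_U` is a scheme `R` with `R ⟶ U₁` locally of finite type, and `ξ : h_T ⟶ Q` lifts
to `U` on a flat, locally finitely presented cover of `T`, then `h_{U₁} ×_Q h_T` is a scheme. -/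
theorem exists_rep_pullback (sqR : IsPullback ((yon S).map t) ((yon S).map s) g₁ g)
    (ht : LocallyOfFiniteType t.left) {T : Over S} (ξ : (yon S).obj T ⟶ Q) {ι : Type u}
    (T' : ι → Over S) (v : ∀ i, T' i ⟶ T) (l : ∀ i, T' i ⟶ U) (hfl : ∀ i, Flat (v i).left)
    (hlfp : ∀ i, LocallyOfFinitePresentation (v i).left)
    (hcov : ∀ p : T.left, ∃ i, p ∈ Set.range (v i).left)
    (hl : ∀ i, (yon S).map (l i) ≫ g = (yon S).map (v i) ≫ ξ) :
    ∃ (G : Over S) (e : (yon S).obj G ≅ pullback g₁ ξ) (γ : G ⟶ U₁ ⨯ T),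
      e.hom ≫ toProd g₁ ξ = (yon S).map γ ∧ Mono γ ∧ LocallyOfFiniteType γ.left := by
  have := mono_toProd g₁ ξ
  refine FppfDesc.exists_rep_of_mono_fppf_local (toProd g₁ ξ) (fun i => U₁ ⨯ T' i)
    (fun i => pullback s (l i)) (fun i => prod.map (𝟙 U₁) (v i)) (fun i => ?_) (fun i => ?_) ?_
    (fun i => prod.lift (pullback.fst s (l i) ≫ t) (pullback.snd s (l i)))
    (fun i => lft_local_model s t (l i) ht)
    (fun i => tV s t g₁ g sqR ξ (v i) (l i) (hl i))
    (fun i => isPullback_tV_prod s t g₁ g sqR ξ (v i) (l i) (hl i))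
  · exact MorphismProperty.of_isPullback
      (P := MorphismProperty.inverseImage (@Flat : MorphismProperty Scheme.{u}) (Over.forget S))
      (Groth.Agent.H50.isPullback_prod_snd_with_id (v i) U₁) (hfl i)
  · exact MorphismProperty.of_isPullback
      (P := MorphismProperty.inverseImage
        (@LocallyOfFinitePresentation : MorphismProperty Scheme.{u}) (Over.forget S))
      (Groth.Agent.H50.isPullback_prod_snd_with_id (v i) U₁) (hlfp i)
  · intro y
    obtain ⟨i, u', hu'⟩ := hcov ((prod.snd : U₁ ⨯ T ⟶ T).left y)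
    have sq := (Groth.Agent.H50.isPullback_prod_snd_with_id (v i) U₁).map (Over.forget S)
    obtain ⟨z, -, hz⟩ := exists_preimage_of_isPullback sq u' y hu'
    exact ⟨i, z, hz⟩

end Main

end Groth.Agent.H65.QuotFppf
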