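import Groth.Prelude.Def_AlgSp
import Groth.Prelude.Def_Desc
import Groth.Agent.H51.SpOpen
import Groth.Agent.H50.Quot
import Groth.Agent.H49.AlgSpCover
import Groth.Agent.H52.Epi
import Groth.Agent.H30.ShfQuot

/-!
# Effectivity of a descent datum of schemes gives representability of a sheaf

Let `π : H ⟶ h_T` be a sheaf over a scheme `T` over `S`, `p : X' ⟶ T` an fppf covering and suppose
`H ×_{h_T} h_{X'}` is represented by a scheme `V'` over `X'`.  Then `V'` carries a descent datum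
relative to `p` (in the functor-of-points form `Desc.SchDD`), and if it is effective, `H` is
representable.
-/

set_option autoImplicit false
universe u
open CategoryTheory CategoryTheory.Limits AlgebraicGeometry Opposite

namespace Groth.Agent.H65.SchDDEff

open AlgSp

variable {S : Scheme.{u}} {T X' V' : Over S} {p : X' ⟶ T} {H : Sp S} {π : H ⟶ (yon S).obj T}
  {g' : V' ⟶ X'} {c : (yon S).obj V' ⟶ H}

section rel

variable (c)

/-- The image in `H` of a point of `V'`, as a section over the source with its induced structure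
over `S`. -/
noncomputable def cv {T₀ : Scheme.{u}} (v : T₀ ⟶ V'.left) :
    H.obj.obj (op (Over.mk (v ≫ V'.hom))) :=
  (J S).uliftYonedaEquiv.{u + 1}
    ((yon S).map (Over.homMk v rfl : Over.mk (v ≫ V'.hom) ⟶ V') ≫ c)

/-- Two points of `V'` have the same image in `H`. -/
def Rel {T₀ : Scheme.{u}} (v₀ v₁ : T₀ ⟶ V'.left) : Prop :=
  v₀ ≫ V'.hom = v₁ ≫ V'.hom ∧ HEq (cv c v₀) (cv c v₁)

theorem Rel.refl {T₀ : Scheme.{u}} (v : T₀ ⟶ V'.left) : Rel c v v := ⟨rfl, HEq.rfl⟩

variable {c} in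
theorem Rel.symm {T₀ : Scheme.{u}} {v₀ v₁ : T₀ ⟶ V'.left} (h : Rel c v₀ v₁) : Rel c v₁ v₀ :=
  ⟨h.1.symm, h.2.symm⟩

variable {c} in
theorem Rel.trans {T₀ : Scheme.{u}} {v₀ v₁ v₂ : T₀ ⟶ V'.left} (h : Rel c v₀ v₁)
    (h' : Rel c v₁ v₂) : Rel c v₀ v₂ :=
  ⟨h.1.trans h'.1, h.2.trans h'.2⟩

theorem cv_heq' (l : Scheme.{u}) (hom : l ⟶ S) (al : l ⟶ V'.left) (hw : al ≫ V'.hom = hom) :
    HEq (cv c al) ((J S).uliftYonedaEquiv.{u + 1}
      ((yon S).map (Over.homMk al hw : Over.mk hom ⟶ V') ≫ c)) := by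
  subst hw
  exact HEq.rfl

theorem cv_heq (A : Over S) (a : A ⟶ V') :
    HEq (cv c a.left) ((J S).uliftYonedaEquiv.{u + 1} ((yon S).map a ≫ c)) := by
  have h := cv_heq' c A.left A.hom a.left (Over.w a)
  have e : (Over.homMk a.left (Over.w a) : Over.mk A.hom ⟶ V') = a := by
    ext
    rfl
  rw [e] at h
  exact h

/-- Translation of the relation into an equality of maps from a common source. -/
theorem rel_iff (A : Over S) (a₀ a₁ : A ⟶ V') :
    Rel c a₀.left a₁.left ↔ (yon S).map a₀ ≫ c = (yon S).map a₁ ≫ c := by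
  constructor
  · rintro ⟨-, h⟩
    have h' := ((cv_heq c A a₀).symm.trans h).trans (cv_heq c A a₁)
    exact ((J S).uliftYonedaEquiv.{u + 1}).injective (eq_of_heq h')
  · intro h
    refine ⟨(Over.w a₀).trans (Over.w a₁).symm, ?_⟩
    refine ((cv_heq c A a₀).trans ?_).trans (cv_heq c A a₁).symm
    rw [h]

variable {c} in
theorem Rel.comp {T₀ T₁ : Scheme.{u}} (g : T₁ ⟶ T₀) {v₀ v₁ : T₀ ⟶ V'.left} (h : Rel c v₀ v₁) :
    Rel c (g ≫ v₀) (g ≫ v₁) := by
  let A : Over S := Over.mk (v₀ ≫ V'.hom)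
  let a₀ : A ⟶ V' := Over.homMk v₀ rfl
  let a₁ : A ⟶ V' := Over.homMk v₁ h.1.symm
  have e := (rel_iff c A a₀ a₁).1 h
  let A' : Over S := Over.mk (g ≫ A.hom)
  let gt : A' ⟶ A := Over.homMk g rfl
  exact (rel_iff c A' (gt ≫ a₀) (gt ≫ a₁)).2 (by
    rw [Functor.map_comp, Functor.map_comp, Category.assoc, Category.assoc, e])

end rel

section dd

variable (sq : IsPullback c ((yon S).map g') π ((yon S).map p))
include sq

theorem exists_rel {T₀ : Scheme.{u}} (x₀ x₁ : T₀ ⟶ X'.left) (h : x₀ ≫ p.left = x₁ ≫ p.left)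
    (v₀ : Desc.Lifts (Over.mk g'.left) x₀) :
    ∃ v₁ : Desc.Lifts (Over.mk g'.left) x₁, Rel c v₀.1 v₁.1 := by
  have hv₀ : v₀.1 ≫ g'.left = x₀ := v₀.2
  let A : Over S := Over.mk (v₀.1 ≫ V'.hom)
  let a₀ : A ⟶ V' := Over.homMk v₀.1 rfl
  have hA : x₁ ≫ X'.hom = v₀.1 ≫ V'.hom := by
    calc x₁ ≫ X'.hom = (x₁ ≫ p.left) ≫ T.hom := by rw [Category.assoc, Over.w p]
      _ = (x₀ ≫ p.left) ≫ T.hom := by rw [h]
      _ = x₀ ≫ X'.hom := by rw [Category.assoc, Over.w p]
      _ = v₀.1 ≫ g'.left ≫ X'.hom := by rw [← Category.assoc, hv₀]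
      _ = v₀.1 ≫ V'.hom := by rw [Over.w g']
  let b₁ : A ⟶ X' := Over.homMk x₁ hA
  have hcomm : ((yon S).map a₀ ≫ c) ≫ π = (yon S).map b₁ ≫ (yon S).map p := by
    rw [Category.assoc, sq.w, ← Functor.map_comp, ← Functor.map_comp, ← Functor.map_comp]
    congr 1
    ext
    change v₀.1 ≫ g'.left ≫ p.left = x₁ ≫ p.left
    rw [← Category.assoc, hv₀, h]
  obtain ⟨a₁, ha₁⟩ := (yon S).map_surjective (sq.lift _ _ hcomm)
  have h1 : (yon S).map a₁ ≫ c = (yon S).map a₀ ≫ c := by rw [ha₁, sq.lift_fst]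
  have h2 : a₁ ≫ g' = b₁ := by
    apply (yon S).map_injective
    rw [Functor.map_comp, ha₁, sq.lift_snd]
  refine ⟨⟨a₁.left, ?_⟩, (rel_iff c A a₀ a₁).2 h1.symm⟩
  exact congrArg CommaMorphism.left h2

theorem rel_unique {T₀ : Scheme.{u}} (x₁ : T₀ ⟶ X'.left)
    (v₁ v₁' : Desc.Lifts (Over.mk g'.left) x₁) (h : Rel c v₁.1 v₁'.1) : v₁ = v₁' := by
  let A : Over S := Over.mk (v₁.1 ≫ V'.hom)
  let a : A ⟶ V' := Over.homMk v₁.1 rfl
  let a' : A ⟶ V' := Over.homMk v₁'.1 h.1.symm
  have e := (rel_iff c A a a').1 h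
  have e2 : a ≫ g' = a' ≫ g' := by
    ext
    exact v₁.2.trans v₁'.2.symm
  have e3 : (yon S).map a = (yon S).map a' :=
    sq.hom_ext e (by rw [← Functor.map_comp, ← Functor.map_comp, e2])
  exact Subtype.ext (congrArg CommaMorphism.left ((yon S).map_injective e3))

/-- The descent datum on `V'` relative to `p` induced by `H`. -/
noncomputable def dd : Desc.SchDD p.left where
  obj := Over.mk g'.left
  φ T₀ x₀ x₁ h :=
    { toFun := fun v => (exists_rel sq x₀ x₁ h v).choose
      invFun := fun v => (exists_rel sq x₁ x₀ h.symm v).choose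
      left_inv := fun v => rel_unique sq x₀ _ _
        (((exists_rel sq x₁ x₀ h.symm _).choose_spec).symm.trans
          ((exists_rel sq x₀ x₁ h v).choose_spec).symm)
      right_inv := fun v => rel_unique sq x₁ _ _
        (((exists_rel sq x₀ x₁ h _).choose_spec).symm.trans
          ((exists_rel sq x₁ x₀ h.symm v).choose_spec).symm) }
  φ_natural T₀ T₁ g x₀ x₁ h h' v v' hv' := by
    have hw : (g ≫ (exists_rel sq x₀ x₁ h v).choose.1) ≫ g'.left = g ≫ x₁ := by
      rw [Category.assoc]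
      exact congrArg (g ≫ ·) (exists_rel sq x₀ x₁ h v).choose.2
    have := rel_unique sq (g ≫ x₁) (exists_rel sq (g ≫ x₀) (g ≫ x₁) h' v').choose
      ⟨g ≫ (exists_rel sq x₀ x₁ h v).choose.1, hw⟩ (by
        refine ((exists_rel sq (g ≫ x₀) (g ≫ x₁) h' v').choose_spec).symm.trans ?_
        rw [hv']
        exact ((exists_rel sq x₀ x₁ h v).choose_spec).comp g)
    exact congrArg Subtype.val this
  φ_self T₀ x v := rel_unique sq x _ _ ((exists_rel sq x x rfl v).choose_spec).symm
  φ_comp T₀ x₀ x₁ x₂ h₀₁ h₁₂ v := rel_unique sq x₂ _ _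
    ((((exists_rel sq x₁ x₂ h₁₂ _).choose_spec).symm.trans
      ((exists_rel sq x₀ x₁ h₀₁ v).choose_spec).symm).trans
      ((exists_rel sq x₀ x₂ (h₀₁.trans h₁₂) v).choose_spec))

theorem dd_obj : (dd sq).obj = Over.mk g'.left := rfl

theorem rel_dd {T₀ : Scheme.{u}} (x₀ x₁ : T₀ ⟶ X'.left) (h : x₀ ≫ p.left = x₁ ≫ p.left)
    (v : Desc.Lifts (Over.mk g'.left) x₀) : Rel c v.1 ((dd sq).φ x₀ x₁ h v).1 :=
  (exists_rel sq x₀ x₁ h v).choose_spec

theorem dd_eq_of_rel {T₀ : Scheme.{u}} (x₀ x₁ : T₀ ⟶ X'.left) (h : x₀ ≫ p.left = x₁ ≫ p.left)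
    (v : Desc.Lifts (Over.mk g'.left) x₀) (v₁ : Desc.Lifts (Over.mk g'.left) x₁)
    (hr : Rel c v.1 v₁.1) : (dd sq).φ x₀ x₁ h v = v₁ :=
  rel_unique sq x₁ _ _ ((rel_dd sq x₀ x₁ h v).symm.trans hr)

end dd

section eff

variable (sq : IsPullback c ((yon S).map g') π ((yon S).map p))

/-- If the descent datum induced by `H` on `V'` is effective, then `H` is representable. -/
theorem exists_iso_yon_of_essImage (hs : Surjective p.left) (hfl : Flat p.left)
    (hfp : LocallyOfFinitePresentation p.left)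
    (heff : (Desc.toDD p.left).essImage (dd sq)) :
    ∃ W : Over S, Nonempty ((yon S).obj W ≅ H) := by
  obtain ⟨W₀, ⟨θ⟩⟩ := heff
  set θh : pullback p.left W₀.hom ⟶ V'.left := θ.hom.hom.left with hθh
  set θi : V'.left ⟶ pullback p.left W₀.hom := θ.inv.hom.left with hθi
  have θh_fst : θh ≫ g'.left = pullback.fst p.left W₀.hom := Over.w θ.hom.hom
  have θhi : θh ≫ θi = 𝟙 _ := by
    have := congrArg (fun k => k.hom.left) θ.hom_inv_id
    exact this
  have hcomm := θ.hom.comm
  -- the schemes over `S`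
  let Z : Over S := Over.mk (pullback.fst p.left W₀.hom ≫ X'.hom)
  let W : Over S := Over.mk (W₀.hom ≫ T.hom)
  let prW : Z ⟶ W := Over.homMk (pullback.snd p.left W₀.hom) (by
    change pullback.snd p.left W₀.hom ≫ W₀.hom ≫ T.hom = pullback.fst p.left W₀.hom ≫ X'.hom
    rw [← Over.w p, ← Category.assoc, ← Category.assoc, pullback.condition])
  let θt : Z ⟶ V' := Over.homMk θh (by
    change θh ≫ V'.hom = pullback.fst p.left W₀.hom ≫ X'.hom
    rw [← Over.w g', ← Category.assoc, θh_fst])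
  let γ : (yon S).obj Z ⟶ H := (yon S).map θt ≫ c
  -- the key equivalence
  have key : ∀ (A : Over S) (z₀ z₁ : A ⟶ Z),
      (yon S).map z₀ ≫ γ = (yon S).map z₁ ≫ γ ↔ z₀ ≫ prW = z₁ ≫ prW := by
    intro A z₀ z₁
    have hγ : ∀ z : A ⟶ Z, (yon S).map z ≫ γ = (yon S).map (z ≫ θt) ≫ c := by
      intro z
      rw [Functor.map_comp, Category.assoc]
    rw [hγ, hγ, ← rel_iff c A (z₀ ≫ θt) (z₁ ≫ θt)]
    change Rel c (z₀.left ≫ θh) (z₁.left ≫ θh) ↔ _
    set x₀ : A.left ⟶ X'.left := z₀.left ≫ pullback.fst p.left W₀.hom with hx₀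
    set x₁ : A.left ⟶ X'.left := z₁.left ≫ pullback.fst p.left W₀.hom with hx₁
    let v₀ : Desc.Lifts (Desc.canonicalDD p.left W₀).obj x₀ := ⟨z₀.left, rfl⟩
    let w₀ : Desc.Lifts (dd sq).obj x₀ := ⟨z₀.left ≫ θh, by
      change (z₀.left ≫ θh) ≫ g'.left = x₀
      rw [Category.assoc, θh_fst]⟩
    let w₁ : Desc.Lifts (dd sq).obj x₁ := ⟨z₁.left ≫ θh, by
      change (z₁.left ≫ θh) ≫ g'.left = x₁
      rw [Category.assoc, θh_fst]⟩
    constructor
    · intro hr
      have h : x₀ ≫ p.left = x₁ ≫ p.left := by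
        have h1 := hr.1
        have e : ∀ z : A ⟶ Z, (z.left ≫ θh) ≫ V'.hom =
            (z.left ≫ pullback.fst p.left W₀.hom ≫ p.left) ≫ T.hom := by
          intro z
          rw [← Over.w g', ← Over.w p]
          simp only [Category.assoc]
          rw [← Category.assoc θh, θh_fst]
        -- use instead the maps to `H` composed with `π`
        have h2 := (rel_iff c A (z₀ ≫ θt) (z₁ ≫ θt)).1 hr
        have h3 := congrArg (fun k => k ≫ π) h2
        simp only [Category.assoc, sq.w] at h3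
        simp only [← Functor.map_comp] at h3
        have h4 := congrArg CommaMorphism.left ((yon S).map_injective h3)
        simp only [Over.comp_left] at h4
        change (z₀.left ≫ θh) ≫ g'.left ≫ p.left = (z₁.left ≫ θh) ≫ g'.left ≫ p.left at h4
        rw [Category.assoc, Category.assoc, ← Category.assoc θh, θh_fst] at h4
        simpa [hx₀, hx₁] using h4
      have h5 := dd_eq_of_rel sq x₀ x₁ h w₀ w₁ hr
      have h6 := hcomm x₀ x₁ h v₀ w₀ rfl
      rw [h5] at h6
      change z₁.left ≫ θh = _ ≫ θh at h6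
      have h7 : (z₁.left ≫ θh) ≫ θi = _ := congrArg (fun k => k ≫ θi) h6
      have e : ∀ k : A.left ⟶ pullback p.left W₀.hom, (k ≫ θh) ≫ θi = k := by
        intro k
        rw [Category.assoc, θhi, Category.comp_id]
      have h7' : z₁.left = (Desc.canMap p.left W₀ x₀ x₁ h v₀).1 :=
        (e _).symm.trans (h7.trans (e _))
      ext
      change z₀.left ≫ pullback.snd p.left W₀.hom = z₁.left ≫ pullback.snd p.left W₀.hom
      rw [h7', Desc.canMap_val, pullback.lift_snd]
    · intro hw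
      have hsnd : z₀.left ≫ pullback.snd p.left W₀.hom = z₁.left ≫ pullback.snd p.left W₀.hom :=
        congrArg CommaMorphism.left hw
      have h : x₀ ≫ p.left = x₁ ≫ p.left := by
        rw [hx₀, hx₁, Category.assoc, Category.assoc, pullback.condition, ← Category.assoc, hsnd,
          Category.assoc]
      have h6 := hcomm x₀ x₁ h v₀ w₀ rfl
      have h8 : (Desc.canMap p.left W₀ x₀ x₁ h v₀).1 = z₁.left := by
        rw [Desc.canMap_val]
        apply pullback.hom_ext
        · rw [pullback.lift_fst]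
        · rw [pullback.lift_snd]
          exact hsnd
      change _ = (Desc.canMap p.left W₀ x₀ x₁ h v₀).1 ≫ θh at h6
      rw [h8] at h6
      have h9 := rel_dd sq x₀ x₁ h w₀
      rw [h6] at h9
      exact h9
  -- both maps out of `h_Z` are epimorphisms
  have hepiW : Epi ((yon S).map prW) :=
    Groth.Agent.H52.epi_yon_map_of_fppf prW
      (MorphismProperty.pullback_snd (P := @Flat) _ _ hfl)
      (MorphismProperty.pullback_snd (P := @LocallyOfFinitePresentation) _ _ hfp)
      (MorphismProperty.pullback_snd (P := @Surjective) _ _ hs)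
  have hepip : Epi ((yon S).map p) := Groth.Agent.H52.epi_yon_map_of_fppf p hfl hfp hs
  have hepic : Epi c := Groth.Agent.H30.ShfQuot.epi_of_isPullback sq
  have hisoθ : IsIso θt := by
    refine ⟨Over.homMk θi (by
      change θi ≫ pullback.fst p.left W₀.hom ≫ X'.hom = V'.hom
      rw [← θh_fst, Category.assoc, Over.w g']
      have hih : θi ≫ θh = 𝟙 _ := by
        have := congrArg (fun k => k.hom.left) θ.inv_hom_id
        exact this
      rw [← Category.assoc, hih, Category.id_comp]), ?_, ?_⟩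
    · ext
      exact θhi
    · ext
      have := congrArg (fun k => k.hom.left) θ.inv_hom_id
      exact this
  have hepiγ : Epi γ := epi_comp _ _
  -- common kernel pair
  have hkW : IsKernelPair ((yon S).map prW) (pullback.fst ((yon S).map prW) ((yon S).map prW))
      (pullback.snd ((yon S).map prW) ((yon S).map prW)) := IsPullback.of_hasPullback _ _
  have hkγ : IsKernelPair γ (pullback.fst ((yon S).map prW) ((yon S).map prW))
      (pullback.snd ((yon S).map prW) ((yon S).map prW)) := by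
    have w : pullback.fst ((yon S).map prW) ((yon S).map prW) ≫ γ =
        pullback.snd ((yon S).map prW) ((yon S).map prW) ≫ γ := by
      apply GrothendieckTopology.hom_ext_uliftYoneda.{u + 1} (J S)
      intro A a
      obtain ⟨z₀, hz₀⟩ := (yon S).map_surjective (a ≫ pullback.fst _ _)
      obtain ⟨z₁, hz₁⟩ := (yon S).map_surjective (a ≫ pullback.snd _ _)
      have e1 : a ≫ pullback.fst ((yon S).map prW) ((yon S).map prW) ≫ γ = (yon S).map z₀ ≫ γ := by
        rw [← Category.assoc, hz₀]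
      have e2 : a ≫ pullback.snd ((yon S).map prW) ((yon S).map prW) ≫ γ = (yon S).map z₁ ≫ γ := by
        rw [← Category.assoc, hz₁]
      rw [e1, e2]
      refine (key A z₀ z₁).2 ?_
      apply (yon S).map_injective
      rw [Functor.map_comp, Functor.map_comp, hz₀, hz₁, Category.assoc, Category.assoc,
        pullback.condition]
    refine Groth.Agent.H51.isPullback_of_forall_yon w ?_
    intro A a b hab
    obtain ⟨z₀, rfl⟩ := (yon S).map_surjective a
    obtain ⟨z₁, rfl⟩ := (yon S).map_surjective b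
    have hz := (key A z₀ z₁).1 hab
    have hz' : (yon S).map z₀ ≫ (yon S).map prW = (yon S).map z₁ ≫ (yon S).map prW := by
      rw [← Functor.map_comp, ← Functor.map_comp, hz]
    refine ⟨pullback.lift _ _ hz', ⟨pullback.lift_fst _ _ _, pullback.lift_snd _ _ _⟩, ?_⟩
    rintro q ⟨hq1, hq2⟩
    apply pullback.hom_ext
    · rw [hq1, pullback.lift_fst]
    · rw [hq2, pullback.lift_snd]
  have := IsRegularEpiCategory.regularEpiOfEpi ((yon S).map prW)
  have := IsRegularEpiCategory.regularEpiOfEpi γ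
  exact ⟨W, ⟨IsColimit.coconePointUniqueUpToIso (IsKernelPair.toCoequalizer' hkW)
    (IsKernelPair.toCoequalizer' hkγ)⟩⟩

end eff

end Groth.Agent.H65.SchDDEff
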