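import Groth.Agent.H65.ShriekUnit
import Groth.Agent.H49.AlgSpRep

/-!
# `j_!` as an equivalence from algebraic spaces over `S` to algebraic spaces over `S'` over `h_S`
-/

set_option autoImplicit false
universe u
open CategoryTheory CategoryTheory.Limits AlgebraicGeometry Opposite

namespace Groth.Agent.H65.BaseChangeSp

open AlgSp

variable {S S' : Scheme.{u}} (g : S ⟶ S')

/-- `h_S` as an algebraic space over `S'`. -/
noncomputable abbrev hSsp : Space S' := (ofScheme S').obj (Over.mk g)

/-- `j_! F` as an algebraic space over `S'`. -/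
noncomputable abbrev jshSp (F : Space S) : Space S' :=
  ⟨(jsh g).obj F.obj, isAlgSpace_jsh g F.property⟩

/-- `j_!` as a functor from algebraic spaces over `S` to algebraic spaces over `S'` over `h_S`. -/
noncomputable def shriekOver : Space S ⥤ Over (hSsp g) where
  obj F := Over.mk (Y := jshSp g F) (ObjectProperty.homMk (π g F.obj))
  map {F G} a := Over.homMk (ObjectProperty.homMk ((jsh g).map a.hom)) (by
    apply ObjectProperty.hom_ext
    exact map_comp_π g a.hom)
  map_id F := by
    apply Over.OverMorphism.ext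
    apply ObjectProperty.hom_ext
    exact (jsh g).map_id F.obj
  map_comp a b := by
    apply Over.OverMorphism.ext
    apply ObjectProperty.hom_ext
    exact (jsh g).map_comp a.hom b.hom

@[simp] theorem shriekOver_map_left_hom {F G : Space S} (a : F ⟶ G) :
    ((shriekOver g).map a).left.hom = (jsh g).map a.hom := rfl

instance : (shriekOver g).Faithful where
  map_injective {F G} a b h := by
    have h1 : (jsh g).map a.hom = (jsh g).map b.hom := by
      rw [← shriekOver_map_left_hom, ← shriekOver_map_left_hom, h]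
    have := mono_unit g G.property
    apply ObjectProperty.hom_ext
    rw [← cancel_mono ((adj g).unit.app G.obj)]
    have e1 := (adj g).unit.naturality a.hom
    have e2 := (adj g).unit.naturality b.hom
    simp only [Functor.id_obj, Functor.id_map, Functor.comp_obj, Functor.comp_map] at e1 e2
    rw [e1, e2, h1]

instance : (shriekOver g).Full where
  map_surjective {F G} b' := by
    let b : (jsh g).obj F.obj ⟶ (jsh g).obj G.obj := b'.left.hom
    have hw : b ≫ π g G.obj = π g F.obj := by
      have := Over.w b'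
      exact congrArg (fun z => z.hom) this
    have hcomm : ((adj g).unit.app F.obj ≫ (jinv g).map b) ≫ (jinv g).map (π g G.obj) =
        toOne F.obj ≫ δ g := by
      rw [Category.assoc, ← Functor.map_comp, hw, unit_comp_π]
    let a : F.obj ⟶ G.obj := (isPullback_unit g G.property).lift _ _ hcomm
    have ha : a ≫ (adj g).unit.app G.obj = (adj g).unit.app F.obj ≫ (jinv g).map b :=
      (isPullback_unit g G.property).lift_fst _ _ hcomm
    refine ⟨ObjectProperty.homMk a, ?_⟩
    apply Over.OverMorphism.ext
    apply ObjectProperty.hom_ext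
    change (jsh g).map a = b
    apply ((adj g).homEquiv _ _).injective
    rw [Adjunction.homEquiv_unit, Adjunction.homEquiv_unit]
    have e1 := (adj g).unit.naturality a
    simp only [Functor.id_obj, Functor.id_map, Functor.comp_obj, Functor.comp_map] at e1
    rw [← e1, ha]

section Via

variable {g} {T' : Over S'} (φ₀ : T' ⟶ Over.mk g)

/-- A scheme over `S'` with a map to `S` over `S'`, viewed over `S`. -/
noncomputable abbrev ovOf : Over S := Over.mk φ₀.left

/-- `j` of it is the original scheme. -/
noncomputable def ovOfIso : (Over.map g).obj (ovOf φ₀) ≅ T' :=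
  Over.isoMk (Iso.refl _) (by
    have := Over.w φ₀
    simp only [Over.mk_hom] at this
    simp [this])

@[simp] theorem ovOfIso_hom_left : (ovOfIso φ₀).hom.left = 𝟙 _ := rfl

@[simp] theorem ovOfIso_inv_left : (ovOfIso φ₀).inv.left = 𝟙 _ := rfl

theorem ovOfIso_hom_comp : (ovOfIso φ₀).hom ≫ φ₀ = strHom g (ovOf φ₀) := by
  ext
  simp

end Via

/-- Essential surjectivity: an algebraic space over `S'` with a map to `h_S` is `j_!` of an
algebraic space over `S`. -/
theorem exists_iso_shriek {F' : Sp S'} (hF' : IsAlgSpace F') (q : F' ⟶ hS g) :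
    ∃ (G : Sp S) (_ : IsAlgSpace G) (θ : (jsh g).obj G ≅ F'), θ.hom ≫ q = π g G := by
  let G : Sp S := pullback ((jinv g).map q) (δ g)
  have sqG : IsPullback (pullback.fst ((jinv g).map q) (δ g)) (pullback.snd ((jinv g).map q) (δ g))
      ((jinv g).map q) (δ g) := IsPullback.of_hasPullback _ _
  have hG : IsAlgSpace G := Groth.Agent.H49.isAlgSpace_of_isPullback sqG
    (isAlgSpace_jinv g (IsAlgSpace.yon_obj (Over.mk g))).diag (isAlgSpace_jinv g hF')
    (IsAlgSpace.yon_obj _)
  let θ : (jsh g).obj G ⟶ F' := ((adj g).homEquiv G F').symm (pullback.fst _ _)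
  have hθ : (adj g).unit.app G ≫ (jinv g).map θ = pullback.fst ((jinv g).map q) (δ g) :=
    ((adj g).homEquiv_unit _ _ _).symm.trans (Equiv.apply_symm_apply _ _)
  have hθπ : θ ≫ q = π g G := by
    apply ((adj g).homEquiv _ _).injective
    rw [Adjunction.homEquiv_unit, Adjunction.homEquiv_unit, Functor.map_comp, ← Category.assoc,
      hθ, unit_comp_π, sqG.w]
    congr 1
    exact toOne_ext _ _
  have hiso : IsIso θ := by
    apply Groth.Agent.H51.isIso_of_forall_yon_bijective
    intro T' y'
    obtain ⟨φ₀, hφ₀⟩ := (yon S').map_surjective (y' ≫ q)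
    -- existence
    have hξ : (homEquiv g (ovOf φ₀) F').symm ((yon S').map (ovOfIso φ₀).hom ≫ y') ≫ (jinv g).map q =
        toOne _ ≫ δ g := by
      apply (homEquiv g (ovOf φ₀) _).injective
      rw [homEquiv_comp, Equiv.apply_symm_apply, homEquiv_toOne_δ, Category.assoc, ← hφ₀,
        ← Functor.map_comp, ovOfIso_hom_comp]
    let z : (yon S).obj (ovOf φ₀) ⟶ G := pullback.lift _ _ hξ
    have hz1 : z ≫ pullback.fst _ _ =
        (homEquiv g (ovOf φ₀) F').symm ((yon S').map (ovOfIso φ₀).hom ≫ y') :=
      pullback.lift_fst _ _ _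
    have hinv : (yon S').map (ovOfIso φ₀).inv ≫ (yon S').map (ovOfIso φ₀).hom = 𝟙 _ := by
      rw [← Functor.map_comp, Iso.inv_hom_id, CategoryTheory.Functor.map_id]
    have hinv' : (yon S').map (ovOfIso φ₀).hom ≫ (yon S').map (ovOfIso φ₀).inv = 𝟙 _ := by
      rw [← Functor.map_comp, Iso.hom_inv_id, CategoryTheory.Functor.map_id]
    refine ⟨(yon S').map (ovOfIso φ₀).inv ≫ homEquiv g (ovOf φ₀) _ (z ≫ (adj g).unit.app G), ?_, ?_⟩
    · change ((yon S').map (ovOfIso φ₀).inv ≫ homEquiv g (ovOf φ₀) _ (z ≫ (adj g).unit.app G)) ≫ θ =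
        y'
      rw [Category.assoc, ← homEquiv_comp, Category.assoc, hθ, hz1, Equiv.apply_symm_apply,
        ← Category.assoc, hinv, Category.id_comp]
    · intro z₁ hz₁
      change z₁ ≫ θ = y' at hz₁
      have hw₁ : (homEquiv g (ovOf φ₀) _).symm ((yon S').map (ovOfIso φ₀).hom ≫ z₁) ≫
          (jinv g).map (π g G) = toOne _ ≫ δ g := by
        apply (homEquiv g (ovOf φ₀) _).injective
        rw [homEquiv_comp, Equiv.apply_symm_apply, homEquiv_toOne_δ, Category.assoc, ← hθπ,
          ← Category.assoc z₁, hz₁, ← hφ₀, ← Functor.map_comp, ovOfIso_hom_comp]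
      obtain ⟨x₁, hx₁⟩ := exists_unit_comp_eq g hG _ hw₁
      have hx₁z : x₁ = z := by
        apply pullback.hom_ext
        · rw [hz1, ← hθ, ← Category.assoc, hx₁]
          apply (homEquiv g (ovOf φ₀) _).injective
          rw [homEquiv_comp, Equiv.apply_symm_apply, Equiv.apply_symm_apply, Category.assoc, hz₁]
        · exact toOne_ext _ _
      rw [← hx₁z, hx₁, Equiv.apply_symm_apply, ← Category.assoc, hinv, Category.id_comp]
  exact ⟨G, hG, asIso θ, hθπ⟩

instance : (shriekOver g).EssSurj where
  mem_essImage X := by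
    obtain ⟨G, hG, θ, hθ⟩ := exists_iso_shriek g X.left.property X.hom.hom
    refine ⟨⟨G, hG⟩, ⟨Over.isoMk (ObjectProperty.isoMk _ θ) ?_⟩⟩
    apply ObjectProperty.hom_ext
    exact hθ

instance : (shriekOver g).IsEquivalence where

end Groth.Agent.H65.BaseChangeSp
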