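import Groth.Agent.H65.ShriekEquiv

/-!
# `j_!` and representable properties of maps from schemes to algebraic spaces
-/

set_option autoImplicit false
universe u
open CategoryTheory CategoryTheory.Limits AlgebraicGeometry Opposite

namespace Groth.Agent.H65.BaseChangeSp

open AlgSp

variable {S S' : Scheme.{u}} (g : S ⟶ S')

/-- The unit square of a representable sheaf. -/
theorem isPullback_unitMap_toOne (T : Over S) :
    IsPullback (unitMap g T) (toOne ((yon S).obj T))
      ((jinv g).map ((yon S').map (strHom g T))) (δ g) := by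
  have h := isPullback_unit g (IsAlgSpace.yon_obj T)
  have e1 : shInv g T ≫ π g ((yon S).obj T) = (yon S').map (strHom g T) := by
    have := atlasMap_comp_π g (𝟙 ((yon S).obj T))
    unfold atlasMap at this
    rwa [CategoryTheory.Functor.map_id, Category.comp_id] at this
  have e2 : π g ((yon S).obj T) = shHom g T ≫ (yon S').map (strHom g T) := by
    rw [← e1, ← Category.assoc]
    have : shHom g T ≫ shInv g T = 𝟙 _ := (shIso g T).hom_inv_id
    rw [this, Category.id_comp]
  refine IsPullback.of_iso h (Iso.refl _) ((jinv g).mapIso (shIso g T)) (Iso.refl _) (Iso.refl _)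
    ?_ ?_ ?_ ?_
  · rw [Iso.refl_hom, Category.id_comp]
    exact ((adj g).homEquiv_unit _ _ _).symm.trans (homEquiv_shHom g T)
  · simp
  · rw [Iso.refl_hom, Category.comp_id, e2, Functor.map_comp]
    rfl
  · simp

/-- The unit square of a map from a scheme to an algebraic space. -/
theorem isPullback_unitMap_atlasMap {F : Sp S} (hF : IsAlgSpace F) {T : Over S}
    (f : (yon S).obj T ⟶ F) :
    IsPullback f (unitMap g T) ((adj g).unit.app F) ((jinv g).map (atlasMap g f)) := by
  have hcomm : f ≫ (adj g).unit.app F = unitMap g T ≫ (jinv g).map (atlasMap g f) := by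
    rw [← homEquiv_symm_eq, atlasMap_eq, Equiv.symm_apply_apply]
  refine IsPullback.of_right ?_ hcomm (isPullback_unit g hF).flip
  have h := (isPullback_unitMap_toOne g T).flip
  have e1 : f ≫ toOne F = toOne _ := toOne_ext _ _
  rw [e1, ← Functor.map_comp, atlasMap_comp_π]
  exact h

/-- If `j_! f` has `P` then so does `f`. -/
theorem repWith_of_atlasMap (P : MorphismProperty Scheme.{u}) [P.IsStableUnderBaseChange]
    {F : Sp S} (hF : IsAlgSpace F) {T : Over S} (f : (yon S).obj T ⟶ F)
    (h : RepWith P (atlasMap g f)) : RepWith P f :=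
  (RepWith P).of_isPullback (isPullback_unitMap_atlasMap g hF f).flip (repWith_jinv_map g P h)

/-- `j_!` preserves pullback squares of schemes over an algebraic space. -/
theorem isPullback_atlasMap_of_isPullback {F : Sp S} (hF : IsAlgSpace F) {T X W : Over S}
    {f : (yon S).obj T ⟶ F} {x : (yon S).obj X ⟶ F} {k : W ⟶ T} {h : W ⟶ X}
    (sq : IsPullback ((yon S).map k) ((yon S).map h) f x) :
    IsPullback ((yon S').map ((Over.map g).map k)) ((yon S').map ((Over.map g).map h))
      (atlasMap g f) (atlasMap g x) := by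
  have w : (yon S').map ((Over.map g).map k) ≫ atlasMap g f =
      (yon S').map ((Over.map g).map h) ≫ atlasMap g x := by
    rw [map_comp_atlasMap, map_comp_atlasMap, sq.w]
  refine Groth.Agent.H51.isPullback_of_forall_yon w ?_
  intro Z' a b hab
  obtain ⟨a₀, rfl⟩ := (yon S').map_surjective a
  obtain ⟨b₀, rfl⟩ := (yon S').map_surjective b
  have hjv : (Over.map g).map (viaHom b₀) = (viaIso b₀).hom ≫ b₀ := (viaIso_hom_comp b₀).symm
  have hstr : a₀ ≫ strHom g T = b₀ ≫ strHom g X := by
    apply (yon S').map_injective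
    rw [Functor.map_comp, Functor.map_comp, ← atlasMap_comp_π g f, ← atlasMap_comp_π g x,
      ← Category.assoc, ← Category.assoc, hab]
  have hstrZ : ((viaIso b₀).hom ≫ b₀) ≫ strHom g X = strHom g (viaOv b₀) := by
    rw [← hjv]
    ext
    simp
  obtain ⟨a₂, ha₂⟩ := exists_map_eq g (W := viaOv b₀) ((viaIso b₀).hom ≫ a₀) (by
    rw [Category.assoc, hstr, ← Category.assoc, hstrZ])
  have hfx : (yon S).map a₂ ≫ f = (yon S).map (viaHom b₀) ≫ x := by
    apply unit_comp_injective g hF
    apply (homEquiv g (viaOv b₀) _).injective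
    rw [← atlasMap_eq, ← atlasMap_eq, ← map_comp_atlasMap, ← map_comp_atlasMap, ha₂, hjv,
      Functor.map_comp, Functor.map_comp, Category.assoc, Category.assoc, hab]
  obtain ⟨l₀, hl₀⟩ := (yon S).map_surjective (sq.lift _ _ hfx)
  have hl₀k : l₀ ≫ k = a₂ := (yon S).map_injective (by rw [Functor.map_comp, hl₀, sq.lift_fst])
  have hl₀h : l₀ ≫ h = viaHom b₀ :=
    (yon S).map_injective (by rw [Functor.map_comp, hl₀, sq.lift_snd])
  refine ⟨(yon S').map ((viaIso b₀).inv ≫ (Over.map g).map l₀), ⟨?_, ?_⟩, ?_⟩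
  · rw [← Functor.map_comp, Category.assoc, ← Functor.map_comp, hl₀k, ha₂, Iso.inv_hom_id_assoc]
  · rw [← Functor.map_comp, Category.assoc, ← Functor.map_comp, hl₀h, hjv, Iso.inv_hom_id_assoc]
  · rintro l₁ ⟨hl₁k, hl₁h⟩
    obtain ⟨m₁, rfl⟩ := (yon S').map_surjective l₁
    have hm₁k : m₁ ≫ (Over.map g).map k = a₀ :=
      (yon S').map_injective (by rw [Functor.map_comp, hl₁k])
    have hm₁h : m₁ ≫ (Over.map g).map h = b₀ :=
      (yon S').map_injective (by rw [Functor.map_comp, hl₁h])
    have hW : (Over.map g).map h ≫ strHom g X = strHom g W := by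
      ext
      simp
    obtain ⟨m₂, hm₂⟩ := exists_map_eq g (W := viaOv b₀) ((viaIso b₀).hom ≫ m₁) (by
      rw [← hW, Category.assoc, ← Category.assoc m₁, hm₁h, ← Category.assoc, hstrZ])
    have hm₂k : m₂ ≫ k = a₂ := overMap_map_injective g (by
      rw [Functor.map_comp, hm₂, ha₂, Category.assoc, hm₁k])
    have hm₂h : m₂ ≫ h = viaHom b₀ := overMap_map_injective g (by
      rw [Functor.map_comp, hm₂, hjv, Category.assoc, hm₁h])
    have hm₂l : m₂ = l₀ := by
      apply (yon S).map_injective
      apply sq.hom_ext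
      · rw [← Functor.map_comp, ← Functor.map_comp, hm₂k, hl₀k]
      · rw [← Functor.map_comp, ← Functor.map_comp, hm₂h, hl₀h]
    rw [← hm₂l, hm₂, Iso.inv_hom_id_assoc]

/-- If `f` has `P` then so does `j_! f`. -/
theorem repWith_atlasMap (P : MorphismProperty Scheme.{u}) [P.IsStableUnderBaseChange]
    {F : Sp S} (hF : IsAlgSpace F) {T : Over S} (f : (yon S).obj T ⟶ F)
    (hf : RepWith P f) : RepWith P (atlasMap g f) := by
  have : P.RespectsIso := MorphismProperty.IsStableUnderBaseChange.respectsIso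
  refine MorphismProperty.relative.of_exists (fun X' ξ' => ?_)
  obtain ⟨φ₀, hφ₀⟩ := (yon S').map_surjective (ξ' ≫ π g F)
  have hξ : (homEquiv g (ovOf φ₀) _).symm ((yon S').map (ovOfIso φ₀).hom ≫ ξ') ≫
      (jinv g).map (π g F) = toOne _ ≫ δ g := by
    apply (homEquiv g (ovOf φ₀) _).injective
    rw [homEquiv_comp, Equiv.apply_symm_apply, homEquiv_toOne_δ, Category.assoc, ← hφ₀,
      ← Functor.map_comp, ovOfIso_hom_comp]
  obtain ⟨x, hx⟩ := exists_unit_comp_eq g hF _ hξ
  have hx' : atlasMap g x = (yon S').map (ovOfIso φ₀).hom ≫ ξ' := by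
    rw [atlasMap_eq, hx, Equiv.apply_symm_apply]
  obtain ⟨W, h, fst, sq⟩ := hf.rep x
  obtain ⟨k, rfl⟩ := (yon S).map_surjective fst
  have hP : P h.left := hf.property x _ h sq
  have sq' := isPullback_atlasMap_of_isPullback g hF sq
  rw [hx'] at sq'
  have sq'' : IsPullback ((yon S').map ((Over.map g).map k))
      ((yon S').map ((Over.map g).map h ≫ (ovOfIso φ₀).hom)) (atlasMap g f) ξ' := by
    rw [Functor.map_comp]
    refine IsPullback.of_iso sq' (Iso.refl _) (Iso.refl _) ((yon S').mapIso (ovOfIso φ₀))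
      (Iso.refl _) ?_ ?_ ?_ ?_ <;> simp
  refine ⟨_, _, _, sq'', ?_⟩
  change P ((Over.map g).map h ≫ (ovOfIso φ₀).hom).left
  simpa using hP

end Groth.Agent.H65.BaseChangeSp
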