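import Groth.Agent.H65.BaseChangeShriek
import Groth.Agent.H65.BaseChangeProd
import Mathlib.CategoryTheory.Sites.PreservesLimits
import Mathlib.CategoryTheory.Sites.RegularEpi
import Groth.Agent.H52.Epi

/-!
# The unit of `j_! ⊣ j⁻¹` on algebraic spaces

For `g : S ⟶ S'` and an algebraic space `F` over `S`, the square
`F ⟶ j⁻¹ j_! F`, `F ⟶ 1`, `j⁻¹ j_! F ⟶ j⁻¹ h_S`, `1 ⟶ j⁻¹ h_S` is a pullback.
-/

set_option autoImplicit false
universe u
open CategoryTheory CategoryTheory.Limits AlgebraicGeometry Opposite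

namespace Groth.Agent.H65.BaseChangeSp

open AlgSp

variable {S S' : Scheme.{u}} (g : S ⟶ S')

/-- The terminal sheaf over `S`. -/
noncomputable abbrev one (S : Scheme.{u}) : Sp S := (yon S).obj (Over.mk (𝟙 S))

/-- The map to the terminal sheaf. -/
noncomputable def isTerminalOne (S : Scheme.{u}) : IsTerminal (one S) :=
  IsTerminal.isTerminalObj (yon S) _ Over.mkIdTerminal

/-- The map to the terminal sheaf. -/
noncomputable def toOne (F : Sp S) : F ⟶ one S := (isTerminalOne S).from F

theorem toOne_ext {F : Sp S} (a b : F ⟶ one S) : a = b :=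
  (isTerminalOne S).hom_ext a b

/-- `h_S` over `S'`. -/
noncomputable abbrev hS : Sp S' := (yon S').obj (Over.mk g)

/-- The canonical section `1 ⟶ j⁻¹ h_S`. -/
noncomputable def δ : one S ⟶ (jinv g).obj (hS g) :=
  ofSec g (F' := hS g) ⟨strHom g (Over.mk (𝟙 S))⟩

/-- The structure map `j_! F ⟶ h_S`. -/
noncomputable def π (F : Sp S) : (jsh g).obj F ⟶ hS g :=
  ((adj g).homEquiv _ _).symm (toOne F ≫ δ g)

theorem unit_comp_π (F : Sp S) :
    (adj g).unit.app F ≫ (jinv g).map (π g F) = toOne F ≫ δ g := by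
  exact ((adj g).homEquiv_unit _ _ _).symm.trans (Equiv.apply_symm_apply _ _)

theorem map_comp_π {F G : Sp S} (a : F ⟶ G) : (jsh g).map a ≫ π g G = π g F := by
  apply ((adj g).homEquiv _ _).injective
  rw [Adjunction.homEquiv_naturality_left]
  unfold π
  rw [Equiv.apply_symm_apply, Equiv.apply_symm_apply, ← Category.assoc]
  congr 1
  exact toOne_ext _ _

/-- `homEquiv` is natural in the sheaf. -/
theorem homEquiv_comp (T : Over S) {F' G' : Sp S'} (ξ : (yon S).obj T ⟶ (jinv g).obj F')
    (φ : F' ⟶ G') : homEquiv g T G' (ξ ≫ (jinv g).map φ) = homEquiv g T F' ξ ≫ φ := by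
  apply (homEquiv g T G').symm.injective
  rw [Equiv.symm_apply_apply, homEquiv_symm_eq, Functor.map_comp, ← Category.assoc,
    ← homEquiv_symm_eq, Equiv.symm_apply_apply]

/-- `homEquiv` is natural in the scheme. -/
theorem homEquiv_map_comp {T T₀ : Over S} (f : T₀ ⟶ T) {F' : Sp S'}
    (ξ : (yon S).obj T ⟶ (jinv g).obj F') :
    homEquiv g T₀ F' ((yon S).map f ≫ ξ) =
      (yon S').map ((Over.map g).map f) ≫ homEquiv g T F' ξ := by
  apply (homEquiv g T₀ F').symm.injective
  rw [Equiv.symm_apply_apply, homEquiv_symm_eq, Functor.map_comp, ← Category.assoc,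
    ← unitMap_naturality, Category.assoc, ← homEquiv_symm_eq, Equiv.symm_apply_apply]

/-- `homEquiv` of the unit map is the identity. -/
theorem homEquiv_unitMap (T : Over S) : homEquiv g T _ (unitMap g T) = 𝟙 _ := by
  apply (homEquiv g T _).symm.injective
  rw [Equiv.symm_apply_apply, homEquiv_symm_eq, CategoryTheory.Functor.map_id, Category.comp_id]

/-- The canonical section of `j⁻¹ h_S` over `T` is the structure map of `T`. -/
theorem homEquiv_toOne_δ (T : Over S) :
    homEquiv g T (hS g) (toOne ((yon S).obj T) ≫ δ g) = (yon S').map (strHom g T) := by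
  have h1 : toOne ((yon S).obj T) = (yon S).map (Over.mkIdTerminal.from T) := toOne_ext _ _
  have h2 : δ g = unitMap g (Over.mk (𝟙 S)) ≫
      (jinv g).map ((yon S').map (strHom g (Over.mk (𝟙 S)))) := by
    apply toSec_injective g
    rw [toSec_comp, toSec_unitMap]
    unfold δ
    rw [toSec_ofSec]
    refine ULift.ext _ _ ?_
    change strHom g (Over.mk (𝟙 S)) = 𝟙 _ ≫ strHom g (Over.mk (𝟙 S))
    rw [Category.id_comp]
  rw [h1, h2, homEquiv_map_comp, homEquiv_comp, homEquiv_unitMap, Category.id_comp,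
    ← Functor.map_comp]
  congr 1
  ext
  have := Over.w (Over.mkIdTerminal.from T)
  simp at this
  simp

/-- The atlas of `j_! F` induced by a map `h_U ⟶ F`. -/
noncomputable def atlasMap {F : Sp S} {U : Over S} (p : (yon S).obj U ⟶ F) :
    (yon S').obj ((Over.map g).obj U) ⟶ (jsh g).obj F := shInv g U ≫ (jsh g).map p

theorem shInv_eq (U : Over S) : shInv g U = homEquiv g U _ ((adj g).unit.app ((yon S).obj U)) := rfl

theorem atlasMap_eq {F : Sp S} {U : Over S} (p : (yon S).obj U ⟶ F) :
    atlasMap g p = homEquiv g U _ (p ≫ (adj g).unit.app F) := by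
  unfold atlasMap
  rw [shInv_eq, ← homEquiv_comp]
  congr 1
  exact ((adj g).unit.naturality p).symm

theorem atlasMap_comp_π {F : Sp S} {U : Over S} (p : (yon S).obj U ⟶ F) :
    atlasMap g p ≫ π g F = (yon S').map (strHom g U) := by
  rw [atlasMap_eq, ← homEquiv_comp, Category.assoc, unit_comp_π, ← Category.assoc,
    ← homEquiv_toOne_δ]
  congr 2
  exact toOne_ext _ _

theorem map_comp_atlasMap {F : Sp S} {U V : Over S} (a : V ⟶ U) (p : (yon S).obj U ⟶ F) :
    (yon S').map ((Over.map g).map a) ≫ atlasMap g p = atlasMap g ((yon S).map a ≫ p) := by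
  rw [atlasMap_eq, atlasMap_eq, Category.assoc, homEquiv_map_comp]

/-- For an atlas `p : h_U ⟶ F` of an algebraic space with `R = U ×_F U`, `j_! F` is the quotient of
`jU` by `jR`, compatibly with the induced atlas. -/
theorem exists_iso_quot {F : Sp S} (hF : IsAlgSpace F) {R U : Over S} (p : (yon S).obj U ⟶ F)
    (hpe : RepWith @Etale p) (hps : RepWith @Surjective p) (s t : R ⟶ U)
    (sq : IsPullback ((yon S).map t) ((yon S).map s) p p) :
    IsEtaleEqvRel ((Over.map g).map s) ((Over.map g).map t) ∧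
      ∃ ψ : QuotSh.quot Scheme.fppfPrecoverage ((Over.map g).map s) ((Over.map g).map t) ≅
        (jsh g).obj F,
        Groth.Agent.H49.quotMap ((Over.map g).map s) ((Over.map g).map t) ≫ ψ.hom =
          atlasMap g p := by
  obtain ⟨hE, ⟨hcol⟩⟩ := Groth.Agent.S9872.result S F hF p hpe hps s t sq
  have hE' := isEtaleEqvRel_map (g := g) hE
  refine ⟨hE', ?_⟩
  have : PreservesColimitsOfSize.{0, 0} (jsh g) := (adj g).leftAdjoint_preservesColimits
  have hcol' := (isColimitMapCoconeCoforkEquiv (jsh g) sq.w) (isColimitOfPreserves (jsh g) hcol)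
  have hq := Groth.Agent.H49.quotMapIsColimit ((Over.map g).map s) ((Over.map g).map t)
  have hqc := Groth.Agent.H49.quotMap_condition ((Over.map g).map s) ((Over.map g).map t)
  set q' := Groth.Agent.H49.quotMap ((Over.map g).map s) ((Over.map g).map t) with hq'
  have w1 : (jsh g).map ((yon S).map t) ≫ shHom g U ≫ q' =
      (jsh g).map ((yon S).map s) ≫ shHom g U ≫ q' := by
    rw [← Category.assoc, shHom_naturality, ← Category.assoc (_ : _ ⟶ _) (shHom g U),
      shHom_naturality, Category.assoc, Category.assoc, hqc]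
  have w2 : (yon S').map ((Over.map g).map s) ≫ shInv g U ≫ (jsh g).map p =
      (yon S').map ((Over.map g).map t) ≫ shInv g U ≫ (jsh g).map p := by
    rw [← Category.assoc, shInv_naturality, ← Category.assoc (_ : _ ⟶ _) (shInv g U),
      shInv_naturality, Category.assoc, Category.assoc, ← Functor.map_comp, ← Functor.map_comp,
      sq.w]
  let φ : (jsh g).obj F ⟶ QuotSh.quot Scheme.fppfPrecoverage ((Over.map g).map s)
      ((Over.map g).map t) := Cofork.IsColimit.desc hcol' (shHom g U ≫ q') w1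
  let ψ : QuotSh.quot Scheme.fppfPrecoverage ((Over.map g).map s) ((Over.map g).map t) ⟶
      (jsh g).obj F := Cofork.IsColimit.desc hq (shInv g U ≫ (jsh g).map p) w2
  have hφ : (jsh g).map p ≫ φ = shHom g U ≫ q' := Cofork.IsColimit.π_desc hcol'
  have hψ : q' ≫ ψ = shInv g U ≫ (jsh g).map p := Cofork.IsColimit.π_desc hq
  have e3 : shHom g U ≫ shInv g U = 𝟙 _ := (shIso g U).hom_inv_id
  have e4 : shInv g U ≫ shHom g U = 𝟙 _ := (shIso g U).inv_hom_id
  refine ⟨⟨ψ, φ, ?_, ?_⟩, hψ⟩
  · apply Cofork.IsColimit.hom_ext hq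
    change q' ≫ ψ ≫ φ = q' ≫ 𝟙 _
    rw [← Category.assoc, hψ, Category.assoc, hφ, ← Category.assoc, e4, Category.id_comp,
      Category.comp_id]
  · apply Cofork.IsColimit.hom_ext hcol'
    change (jsh g).map p ≫ φ ≫ ψ = (jsh g).map p ≫ 𝟙 _
    rw [← Category.assoc, hφ, Category.assoc, hψ, ← Category.assoc, e3, Category.id_comp,
      Category.comp_id]

/-- The induced atlas of `j_! F`: kernel pair, étale, surjective. -/
theorem atlasMap_props {F : Sp S} (hF : IsAlgSpace F) {R U : Over S} (p : (yon S).obj U ⟶ F)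
    (hpe : RepWith @Etale p) (hps : RepWith @Surjective p) (s t : R ⟶ U)
    (sq : IsPullback ((yon S).map t) ((yon S).map s) p p) :
    IsPullback ((yon S').map ((Over.map g).map t)) ((yon S').map ((Over.map g).map s))
        (atlasMap g p) (atlasMap g p) ∧
      RepWith @Etale (atlasMap g p) ∧ RepWith @Surjective (atlasMap g p) := by
  obtain ⟨hE', ψ, hψ⟩ := exists_iso_quot g hF p hpe hps s t sq
  have hQ' := Groth.Agent.S9868.result S' _ _ hE'
  have hpres := Groth.Agent.H49.isPresentation_quotMap hE' hQ'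
  rw [← hψ]
  refine ⟨?_, MorphismProperty.RespectsIso.postcomp _ _ _ hpres.etale,
    MorphismProperty.RespectsIso.postcomp _ _ _ hpres.surjective⟩
  exact IsPullback.of_iso hpres.isPullback (Iso.refl _) (Iso.refl _) (Iso.refl _) ψ
    (by simp) (by simp) (by simp) (by simp)

/-- An étale surjective morphism of schemes over `S` induces an epimorphism of sheaves. -/
theorem epi_yon_map_of_etale_surjective {T W : Over S} (c : W ⟶ T) (h1 : Etale c.left)
    (h2 : Surjective c.left) : Epi ((yon S).map c) :=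
  Groth.Agent.H52.epi_yon_map_of_fppf c inferInstance inferInstance h2

theorem overMap_map_injective {W U : Over S} {a b : W ⟶ U}
    (h : (Over.map g).map a = (Over.map g).map b) : a = b := by
  ext
  have := congrArg CommaMorphism.left h
  simpa using this

/-- A map `jW ⟶ jU` over `S'` compatible with the structure maps to `S` comes from a map over `S`. -/
theorem exists_map_eq {W U : Over S} (a' : (Over.map g).obj W ⟶ (Over.map g).obj U)
    (h : a' ≫ strHom g U = strHom g W) : ∃ a : W ⟶ U, (Over.map g).map a = a' := by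
  have hl : a'.left ≫ U.hom = W.hom := by
    have := congrArg CommaMorphism.left h
    simpa using this
  exact ⟨Over.homMk a'.left hl, by ext; simp⟩

/-- Injectivity of the unit on sections of an algebraic space. -/
theorem unit_comp_injective {F : Sp S} (hF : IsAlgSpace F) {T : Over S}
    {x y : (yon S).obj T ⟶ F}
    (h : x ≫ (adj g).unit.app F = y ≫ (adj g).unit.app F) : x = y := by
  obtain ⟨U, p, hpe, hps⟩ := hF.atlas
  obtain ⟨R, s, fst, sq⟩ := hpe.rep p
  obtain ⟨t, rfl⟩ := (yon S).map_surjective fst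
  obtain ⟨hk, -, -⟩ := atlasMap_props g hF p hpe hps s t sq
  obtain ⟨W₁, c₁, a₁', sq₁⟩ := hpe.rep x
  obtain ⟨a₁, rfl⟩ := (yon S).map_surjective a₁'
  obtain ⟨W, c₂, b', sq₂⟩ := hpe.rep ((yon S).map c₁ ≫ y)
  obtain ⟨b, rfl⟩ := (yon S).map_surjective b'
  have hc₁e : Etale c₁.left := hpe.property x _ c₁ sq₁
  have hc₁s : Surjective c₁.left := hps.property x _ c₁ sq₁
  have hc₂e : Etale c₂.left := hpe.property _ _ c₂ sq₂
  have hc₂s : Surjective c₂.left := hps.property _ _ c₂ sq₂
  have : Epi ((yon S).map (c₂ ≫ c₁)) := by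
    apply epi_yon_map_of_etale_surjective
    · rw [Over.comp_left]; infer_instance
    · rw [Over.comp_left]; infer_instance
  rw [← cancel_epi ((yon S).map (c₂ ≫ c₁))]
  have e1 : (yon S).map (c₂ ≫ c₁) ≫ x = (yon S).map (c₂ ≫ a₁) ≫ p := by
    rw [Functor.map_comp, Functor.map_comp, Category.assoc, Category.assoc, sq₁.w]
  have e2 : (yon S).map (c₂ ≫ c₁) ≫ y = (yon S).map b ≫ p := by
    rw [Functor.map_comp, Category.assoc, sq₂.w]
  rw [e1, e2]
  have e3 : (yon S').map ((Over.map g).map (c₂ ≫ a₁)) ≫ atlasMap g p =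
      (yon S').map ((Over.map g).map b) ≫ atlasMap g p := by
    rw [map_comp_atlasMap, map_comp_atlasMap, ← e1, ← e2, atlasMap_eq, atlasMap_eq,
      Category.assoc, Category.assoc, h]
  obtain ⟨r', hr1, hr2⟩ : ∃ r' : (Over.map g).obj W ⟶ (Over.map g).obj R,
      r' ≫ (Over.map g).map t = (Over.map g).map (c₂ ≫ a₁) ∧
        r' ≫ (Over.map g).map s = (Over.map g).map b := by
    obtain ⟨r₀, hr₀⟩ := (yon S').map_surjective (hk.lift _ _ e3)
    refine ⟨r₀, (yon S').map_injective ?_, (yon S').map_injective ?_⟩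
    · rw [Functor.map_comp, hr₀, hk.lift_fst]
    · rw [Functor.map_comp, hr₀, hk.lift_snd]
  obtain ⟨r, rfl⟩ := exists_map_eq g r' (by
    have : (Over.map g).map t ≫ strHom g U = strHom g R := by ext; simp
    rw [← this, ← Category.assoc, hr1]
    ext; simp)
  have hrt : r ≫ t = c₂ ≫ a₁ := overMap_map_injective g (by rw [Functor.map_comp, hr1])
  have hrs : r ≫ s = b := overMap_map_injective g (by rw [Functor.map_comp, hr2])
  rw [← hrt, ← hrs, Functor.map_comp, Functor.map_comp, Category.assoc, Category.assoc, sq.w]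

theorem mono_unit {F : Sp S} (hF : IsAlgSpace F) : Mono ((adj g).unit.app F) where
  right_cancellation {Z} g₁ g₂ hg := by
    refine (J S).hom_ext_uliftYoneda fun T p => unit_comp_injective g hF ?_
    rw [Category.assoc, Category.assoc, hg]

/-- Sections of `j_! F` over `jT` lying over the structure map of `T` come from sections of `F`. -/
theorem exists_unit_comp_eq {F : Sp S} (hF : IsAlgSpace F) {T : Over S}
    (ξ : (yon S).obj T ⟶ (jinv g).obj ((jsh g).obj F))
    (hξ : ξ ≫ (jinv g).map (π g F) = toOne _ ≫ δ g) :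
    ∃ x : (yon S).obj T ⟶ F, x ≫ (adj g).unit.app F = ξ := by
  obtain ⟨U, p, hpe, hps⟩ := hF.atlas
  obtain ⟨R, s, fst, sq⟩ := hpe.rep p
  obtain ⟨t, rfl⟩ := (yon S).map_surjective fst
  obtain ⟨-, hpe', hps'⟩ := atlasMap_props g hF p hpe hps s t sq
  set s' := homEquiv g T _ ξ with hs'
  have hs'π : s' ≫ π g F = (yon S').map (strHom g T) := by
    rw [hs', ← homEquiv_comp, hξ, homEquiv_toOne_δ]
  obtain ⟨W', c', a'', sq'⟩ := hpe'.rep s'
  obtain ⟨a', rfl⟩ := (yon S').map_surjective a''
  have hc'e : Etale c'.left := hpe'.property _ _ _ sq'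
  have hc's : Surjective c'.left := hps'.property _ _ _ sq'
  have hjc : (Over.map g).map (viaHom c') = (viaIso c').hom ≫ c' := (viaIso_hom_comp c').symm
  obtain ⟨a, ha⟩ := exists_map_eq g (W := viaOv c') ((viaIso c').hom ≫ a') (by
    apply (yon S').map_injective
    rw [Functor.map_comp, Functor.map_comp, Category.assoc, ← atlasMap_comp_π g p,
      ← Category.assoc ((yon S').map a'), sq'.w, Category.assoc, hs'π, ← Functor.map_comp,
      ← Functor.map_comp]
    congr 1)
  have hxW : ((yon S).map a ≫ p) ≫ (adj g).unit.app F = (yon S).map (viaHom c') ≫ ξ := by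
    apply (homEquiv g (viaOv c') _).injective
    rw [homEquiv_map_comp, ← hs', Category.assoc, homEquiv_map_comp, ← atlasMap_eq, ha, hjc,
      Functor.map_comp, Functor.map_comp, Category.assoc, Category.assoc, sq'.w]
  have hepi : Epi ((yon S).map (viaHom c')) := epi_yon_map_of_etale_surjective _ hc'e hc's
  have := mono_unit g hF
  have := IsRegularEpiCategory.regularEpiOfEpi ((yon S).map (viaHom c'))
  have hcompat : ∀ {Z : Sp S} (g₁ g₂ : Z ⟶ (yon S).obj (viaOv c')),
      g₁ ≫ (yon S).map (viaHom c') = g₂ ≫ (yon S).map (viaHom c') →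
        g₁ ≫ (yon S).map a ≫ p = g₂ ≫ (yon S).map a ≫ p := by
    intro Z g₁ g₂ hg
    rw [← cancel_mono ((adj g).unit.app F)]
    have e1 : (g₁ ≫ (yon S).map a ≫ p) ≫ (adj g).unit.app F =
        g₁ ≫ ((yon S).map a ≫ p) ≫ (adj g).unit.app F := by simp only [Category.assoc]
    have e2 : (g₂ ≫ (yon S).map a ≫ p) ≫ (adj g).unit.app F =
        g₂ ≫ ((yon S).map a ≫ p) ≫ (adj g).unit.app F := by simp only [Category.assoc]
    rw [e1, e2, hxW, ← Category.assoc, ← Category.assoc, hg]
  refine ⟨EffectiveEpi.desc ((yon S).map (viaHom c')) ((yon S).map a ≫ p) hcompat, ?_⟩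
  rw [← cancel_epi ((yon S).map (viaHom c')), ← Category.assoc, EffectiveEpi.fac, hxW]

/-- The unit square of an algebraic space is a pullback: `F = 1 ×_{j⁻¹ h_S} j⁻¹ j_! F`. -/
theorem isPullback_unit {F : Sp S} (hF : IsAlgSpace F) :
    IsPullback ((adj g).unit.app F) (toOne F) ((jinv g).map (π g F)) (δ g) := by
  refine Groth.Agent.H51.isPullback_of_forall_yon (unit_comp_π g F) ?_
  intro T a b hab
  have hb : b = toOne _ := toOne_ext _ _
  obtain ⟨x, hx⟩ := exists_unit_comp_eq g hF a (by rw [hab, hb])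
  refine ⟨x, ⟨hx, toOne_ext _ _⟩, ?_⟩
  rintro y ⟨hy, -⟩
  exact unit_comp_injective g hF (hy.trans hx.symm)

end Groth.Agent.H65.BaseChangeSp
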