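import Mathlib

/-!
# A criterion for `Spec.map f` to be an epimorphism of schemes (helper65)

`epi_SpecMap_of`: if `f : R ⟶ S` induces a surjection on prime spectra and injections on all local
rings, then `Spec.map f` is an epimorphism in the category of schemes.
-/

namespace Groth.Agent.H65.SpecEpi

open CategoryTheory AlgebraicGeometry

universe u

set_option backward.isDefEq.respectTransparency.types false in
theorem epi_SpecMap_of {R S : CommRingCat.{u}} (f : R ⟶ S)
    (hsurj : Function.Surjective (PrimeSpectrum.comap f.hom))
    (hinj : ∀ p : PrimeSpectrum S, Function.Injective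
      (Localization.localRingHom (PrimeSpectrum.comap f.hom p).asIdeal p.asIdeal f.hom rfl)) :
    Epi (Spec.map f) := by
  apply CategoryTheory.Functor.epi_of_epi_map (Scheme.forgetToLocallyRingedSpace)
  apply CategoryTheory.Functor.epi_of_epi_map (LocallyRingedSpace.forgetToSheafedSpace)
  apply SheafedSpace.epi_of_base_surjective_of_stalk_mono _ hsurj
  intro x
  apply ConcreteCategory.mono_of_injective
  have h := AlgebraicGeometry.localRingHom_comp_stalkIso f x
  change Function.Injective ((Spec.sheafedSpaceMap f).hom.stalkMap x).hom
  rw [← h]
  exact ((StructureSheaf.stalkIso S x).injective.comp (hinj x)).comp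
    (StructureSheaf.stalkIso R (PrimeSpectrum.comap f.hom x)).symm.injective

end Groth.Agent.H65.SpecEpi
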