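import Mathlib
import Groth.Prelude.Def_W4c1liftfrobW2

/-!
# Arithmetic in `W₂(A)` for a ring `A` of characteristic `p`

Coefficient formulas for sums/products involving elements with zeroth component `0`, and for
multiplication by `p`.
-/

set_option autoImplicit false
universe u v

open WittVector

namespace Groth.Agent.H65.W2A

variable {p : ℕ} [hp : Fact p.Prime] {A : Type u} [CommRing A]

theorem fin2_one_val : ((1 : Fin 2) : ℕ) = 1 := rfl

theorem fin2_zero_val : ((0 : Fin 2) : ℕ) = 0 := rfl

omit hp in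
theorem ext2 {x y : FrobAlg.W2 p A} (h0 : x.coeff 0 = y.coeff 0) (h1 : x.coeff 1 = y.coeff 1) :
    x = y := by
  apply TruncatedWittVector.ext
  intro i
  fin_cases i
  · exact h0
  · exact h1

theorem coeff_zero_truncate (X : WittVector p A) :
    (WittVector.truncate 2 X : FrobAlg.W2 p A).coeff 0 = X.coeff 0 := by
  rw [WittVector.coeff_truncate]; rfl

theorem coeff_one_truncate (X : WittVector p A) :
    (WittVector.truncate 2 X : FrobAlg.W2 p A).coeff 1 = X.coeff 1 := by
  rw [WittVector.coeff_truncate]; rfl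

theorem coeff_zero_truncate_verschiebung (X : WittVector p A) :
    (WittVector.truncate 2 (verschiebung X) : FrobAlg.W2 p A).coeff 0 = 0 := by
  rw [coeff_zero_truncate, verschiebung_coeff_zero]

theorem coeff_one_truncate_verschiebung (X : WittVector p A) :
    (WittVector.truncate 2 (verschiebung X) : FrobAlg.W2 p A).coeff 1 = X.coeff 0 := by
  rw [coeff_one_truncate]
  exact verschiebung_coeff_succ X 0

theorem exists_verschiebung_of_coeff_zero {x : FrobAlg.W2 p A} (hx : x.coeff 0 = 0) :
    ∃ X' : WittVector p A, x = WittVector.truncate 2 (verschiebung X') ∧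
      X'.coeff 0 = x.coeff 1 := by
  obtain ⟨X, rfl⟩ := WittVector.truncate_surjective p 2 A x
  refine ⟨WittVector.mk p fun n => X.coeff (n + 1), ?_, ?_⟩
  · apply ext2
    · rw [hx, coeff_zero_truncate_verschiebung]
    · rw [coeff_one_truncate_verschiebung, coeff_one_truncate, WittVector.coeff_mk]
  · rw [WittVector.coeff_mk, coeff_one_truncate]

theorem coeff_zero_add (x y : FrobAlg.W2 p A) : (x + y).coeff 0 = x.coeff 0 + y.coeff 0 := by
  have := map_add (FrobAlg.res p A) x y
  simpa only [FrobAlg.res_apply] using this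

theorem coeff_zero_mul (x y : FrobAlg.W2 p A) : (x * y).coeff 0 = x.coeff 0 * y.coeff 0 := by
  have := map_mul (FrobAlg.res p A) x y
  simpa only [FrobAlg.res_apply] using this

theorem coeff_zero_natCast (n : ℕ) : ((n : FrobAlg.W2 p A)).coeff 0 = (n : A) := by
  have := map_natCast (FrobAlg.res p A) n
  simpa only [FrobAlg.res_apply] using this

theorem add_coeff_one_of_coeff_zero {x x' : FrobAlg.W2 p A} (hx : x.coeff 0 = 0)
    (hx' : x'.coeff 0 = 0) : (x + x').coeff 1 = x.coeff 1 + x'.coeff 1 := by
  obtain ⟨X, rfl, hX⟩ := exists_verschiebung_of_coeff_zero hx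
  obtain ⟨X', rfl, hX'⟩ := exists_verschiebung_of_coeff_zero hx'
  rw [← map_add, ← map_add, coeff_one_truncate_verschiebung, WittVector.add_coeff_zero, hX, hX']

theorem mul_coeff_one_of_coeff_zero (hpA : (p : A) = 0) (y : FrobAlg.W2 p A) {x : FrobAlg.W2 p A}
    (hx : x.coeff 0 = 0) : (y * x).coeff 1 = y.coeff 0 ^ p * x.coeff 1 := by
  rcases subsingleton_or_nontrivial A with hA | hA
  · exact Subsingleton.elim _ _
  have : CharP A p := (CharP.charP_iff_prime_eq_zero hp.out).mpr hpA
  obtain ⟨X, rfl, hX⟩ := exists_verschiebung_of_coeff_zero hx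
  obtain ⟨Y, rfl⟩ := WittVector.truncate_surjective p 2 A y
  rw [← map_mul, mul_comm, ← verschiebung_mul_frobenius, coeff_one_truncate_verschiebung,
    WittVector.mul_coeff_zero, coeff_frobenius_charP, hX, coeff_zero_truncate, mul_comm]

theorem p_mul_coeff_zero (hpA : (p : A) = 0) (x : FrobAlg.W2 p A) :
    ((p : FrobAlg.W2 p A) * x).coeff 0 = 0 := by
  rw [coeff_zero_mul, coeff_zero_natCast, hpA, zero_mul]

theorem p_mul_coeff_one (hpA : (p : A) = 0) (x : FrobAlg.W2 p A) :
    ((p : FrobAlg.W2 p A) * x).coeff 1 = x.coeff 0 ^ p := by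
  rcases subsingleton_or_nontrivial A with hA | hA
  · exact Subsingleton.elim _ _
  have : CharP A p := (CharP.charP_iff_prime_eq_zero hp.out).mpr hpA
  obtain ⟨X, rfl⟩ := WittVector.truncate_surjective p 2 A x
  have : (p : FrobAlg.W2 p A) * WittVector.truncate 2 X =
      WittVector.truncate 2 (verschiebung (frobenius X)) := by
    rw [verschiebung_frobenius, map_mul, map_natCast, mul_comm]
  rw [this, coeff_one_truncate_verschiebung, coeff_frobenius_charP, coeff_zero_truncate]

/-- `(a, 0)` -/
noncomputable def tt (a : A) : FrobAlg.W2 p A := TruncatedWittVector.mk p ![a, 0]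

omit hp in
theorem tt_coeff_zero (a : A) : (tt (p := p) a).coeff 0 = a := by
  rw [tt, TruncatedWittVector.coeff_mk]; rfl

omit hp in
theorem tt_coeff_one (a : A) : (tt (p := p) a).coeff 1 = 0 := by
  rw [tt, TruncatedWittVector.coeff_mk]; rfl

/-- `(a, c)` -/
noncomputable def mk2 (a c : A) : FrobAlg.W2 p A := TruncatedWittVector.mk p ![a, c]

omit hp in
theorem mk2_coeff_zero (a c : A) : (mk2 (p := p) a c).coeff 0 = a := by
  rw [mk2, TruncatedWittVector.coeff_mk]; rfl

omit hp in
theorem mk2_coeff_one (a c : A) : (mk2 (p := p) a c).coeff 1 = c := by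
  rw [mk2, TruncatedWittVector.coeff_mk]; rfl

end Groth.Agent.H65.W2A
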