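import Mathlib
import Groth.Prelude.Def_W4c1liftfrobW2
import Groth.Agent.H96.WittTrunc

/-!
# Basic facts on `W₂(k)` for a perfect field `k`, flatness over `W₂(k)`, and flat liftings

* `res_surjective`, `ker_res`, `p_mul_p`, `p_ne_zero`, `ideal_cases`
* `flat_iff` : a `W₂(k)`-module is flat iff `p`-torsion = `p`-multiples
* `IsLift` API : `ker_eq_span`, `p_mul_eq_zero_iff`, `flat_of_forall`
-/

set_option autoImplicit false
universe u v

open Groth.Agent.H96 TensorProduct

namespace Groth.Agent.H65.W2B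

section general

variable {R : Type u} {M : Type v} [CommRing R] [AddCommGroup M] [Module R M]

theorem injective_lift_of_span_singleton (a : R)
    (h : ∀ m : M, a • m = 0 →
      (⟨a, Ideal.mem_span_singleton_self a⟩ : Ideal.span {a}) ⊗ₜ[R] m = 0) :
    Function.Injective
      (TensorProduct.lift ((LinearMap.lsmul R M).comp (Ideal.span {a}).subtype)) := by
  have hform : ∀ x : (Ideal.span {a} : Ideal R) ⊗[R] M, ∃ m : M,
      x = (⟨a, Ideal.mem_span_singleton_self a⟩ : Ideal.span {a}) ⊗ₜ[R] m := by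
    intro x
    induction x using TensorProduct.induction_on with
    | zero => exact ⟨0, (TensorProduct.tmul_zero _ _).symm⟩
    | tmul y m =>
      obtain ⟨y, hy⟩ := y
      obtain ⟨r, rfl⟩ := Ideal.mem_span_singleton'.1 hy
      refine ⟨r • m, ?_⟩
      rw [TensorProduct.tmul_smul, TensorProduct.smul_tmul']
      congr 1
    | add x y hx hy =>
      obtain ⟨m, rfl⟩ := hx
      obtain ⟨m', rfl⟩ := hy
      exact ⟨m + m', (TensorProduct.tmul_add _ _ _).symm⟩
  rw [injective_iff_map_eq_zero]
  intro x hx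
  obtain ⟨m, rfl⟩ := hform x
  apply h
  simpa using hx

end general

section W2

variable (p : ℕ) [Fact p.Prime] (k : Type u) [Field k] [CharP k p]

omit [CharP k p] in
theorem res_eq_c0 : FrobAlg.res p k = WittTrunc.c0 p k 1 := by
  ext x
  rw [FrobAlg.res_apply, WittTrunc.c0_apply]

omit [CharP k p] in
theorem res_surjective : Function.Surjective (FrobAlg.res p k) := by
  rw [res_eq_c0]
  exact WittTrunc.c0_surjective p k 1

theorem p_mul_p : (p : FrobAlg.W2 p k) * p = 0 := by
  have h := WittTrunc.p_pow_eq_zero p k 1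
  rw [pow_two] at h
  exact h

theorem p_ne_zero : (p : FrobAlg.W2 p k) ≠ 0 := by
  intro h
  have h1 : ((p : FrobAlg.W2 p k)).coeff 1 = 1 := by
    have : (p : FrobAlg.W2 p k) = WittVector.truncate 2 (p : WittVector p k) := by
      rw [map_natCast]
    rw [this, WittVector.coeff_truncate]
    exact WittVector.coeff_p_one p k
  rw [h, TruncatedWittVector.coeff_zero] at h1
  exact zero_ne_one h1

theorem isUnit_iff (x : FrobAlg.W2 p k) : IsUnit x ↔ FrobAlg.res p k x ≠ 0 := by
  rw [res_eq_c0]
  exact WittTrunc.isUnit_iff p k 1 x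

variable [PerfectRing k p]

theorem ker_res : RingHom.ker (FrobAlg.res p k) = Ideal.span {(p : FrobAlg.W2 p k)} := by
  have h := WittTrunc.maximalIdeal_eq p k 1
  ext x
  rw [RingHom.mem_ker, res_eq_c0, ← WittTrunc.mem_maximalIdeal_iff]
  exact (Ideal.ext_iff.1 h) x

theorem p_mul_eq_zero_iff (x : FrobAlg.W2 p k) :
    (p : FrobAlg.W2 p k) * x = 0 ↔ x ∈ Ideal.span {(p : FrobAlg.W2 p k)} := by
  constructor
  · intro h
    by_contra hx
    rw [← ker_res, RingHom.mem_ker] at hx
    have hu := (isUnit_iff p k x).2 hx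
    exact p_ne_zero p k (hu.mul_left_eq_zero.1 h)
  · intro h
    obtain ⟨y, rfl⟩ := Ideal.mem_span_singleton'.1 h
    rw [mul_comm y, ← mul_assoc, p_mul_p, zero_mul]

theorem ideal_cases (I : Ideal (FrobAlg.W2 p k)) :
    ∃ a : FrobAlg.W2 p k, I = Ideal.span {a} ∧ (a = 0 ∨ a = p ∨ a = 1) := by
  by_cases h1 : I = ⊤
  · exact ⟨1, by rw [h1, Ideal.span_singleton_one], Or.inr (Or.inr rfl)⟩
  by_cases h0 : I = ⊥
  · exact ⟨0, by rw [h0, Ideal.span_singleton_eq_bot.2 rfl], Or.inl rfl⟩
  refine ⟨p, ?_, Or.inr (Or.inl rfl)⟩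
  have hle : I ≤ Ideal.span {(p : FrobAlg.W2 p k)} := by
    intro x hx
    rw [← ker_res, RingHom.mem_ker]
    by_contra hx0
    exact h1 (Ideal.eq_top_of_isUnit_mem _ hx ((isUnit_iff p k x).2 hx0))
  refine le_antisymm hle ?_
  obtain ⟨x, hxI, hx0⟩ := Submodule.exists_mem_ne_zero_of_ne_bot h0
  obtain ⟨y, rfl⟩ := Ideal.mem_span_singleton'.1 (hle hxI)
  have hy : IsUnit y := by
    rw [isUnit_iff]
    intro hy
    apply hx0
    have : y ∈ Ideal.span {(p : FrobAlg.W2 p k)} := by
      rw [← ker_res, RingHom.mem_ker]; exact hy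
    rw [mul_comm]
    exact (p_mul_eq_zero_iff p k y).2 this
  rw [Ideal.span_singleton_le_iff_mem]
  obtain ⟨u, rfl⟩ := hy
  have := I.mul_mem_left (↑u⁻¹) hxI
  rwa [← mul_assoc, Units.inv_mul, one_mul] at this

/-- **Flatness over `W₂(k)`**: a module is flat iff its `p`-torsion consists of multiples of `p`. -/
theorem flat_iff (M : Type v) [AddCommGroup M] [Module (FrobAlg.W2 p k) M] :
    Module.Flat (FrobAlg.W2 p k) M ↔
      ∀ m : M, (p : FrobAlg.W2 p k) • m = 0 → ∃ m' : M, m = (p : FrobAlg.W2 p k) • m' := by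
  constructor
  · intro hflat m hm
    have h := Module.Flat.isTrivialRelation_of_sum_smul_eq_zero (R := FrobAlg.W2 p k) (M := M)
      (ι := Fin 1) (f := fun _ => (p : FrobAlg.W2 p k)) (x := fun _ => m) (by simpa using hm)
    obtain ⟨n, a, y, hxy, hfa⟩ := h
    have hb : ∀ j, ∃ b, b * (p : FrobAlg.W2 p k) = a 0 j := by
      intro j
      have := hfa j
      simp only [Finset.univ_unique, Fin.default_eq_zero, Finset.sum_singleton] at this
      exact Ideal.mem_span_singleton'.1 ((p_mul_eq_zero_iff p k _).1 this)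
    choose b hb using hb
    refine ⟨∑ j, b j • y j, ?_⟩
    have h0 : m = ∑ j, a 0 j • y j := hxy 0
    rw [h0, Finset.smul_sum]
    refine Finset.sum_congr rfl fun j _ => ?_
    rw [← hb j, smul_smul, mul_comm]
  · intro h
    rw [Module.Flat.iff_lift_lsmul_comp_subtype_injective]
    intro I _
    obtain ⟨a, rfl, ha⟩ := ideal_cases p k I
    apply injective_lift_of_span_singleton
    intro m hm
    rcases ha with rfl | rfl | rfl
    · have : (⟨0, Ideal.mem_span_singleton_self 0⟩ : Ideal.span {(0 : FrobAlg.W2 p k)}) = 0 := rfl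
      rw [this, TensorProduct.zero_tmul]
    · obtain ⟨m', rfl⟩ := h m hm
      rw [TensorProduct.tmul_smul, TensorProduct.smul_tmul']
      have : (p : FrobAlg.W2 p k) •
          (⟨(p : FrobAlg.W2 p k), Ideal.mem_span_singleton_self _⟩ :
            Ideal.span {(p : FrobAlg.W2 p k)}) = 0 := by
        apply Subtype.ext
        change (p : FrobAlg.W2 p k) * p = 0
        exact p_mul_p p k
      rw [this, TensorProduct.zero_tmul]
    · rw [one_smul] at hm
      rw [hm, TensorProduct.tmul_zero]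

end W2

end Groth.Agent.H65.W2B
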