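import Groth.Agent.H65.W2Theta

/-!
# Frobenius liftings of quotients of polynomial rings over `W₂(k)`
-/

set_option autoImplicit false
universe u v

open MvPolynomial

namespace Groth.Agent.H65.W2C

open Groth.Agent.H65.W2B

section

variable (p : ℕ) [hp : Fact p.Prime] (k : Type u) [Field k] [CharP k p] (n : ℕ)

local notation "W" => FrobAlg.W2 p k
local notation "R'" => MvPolynomial (Fin n) (FrobAlg.W2 p k)

theorem p_mul_p' : (p : R') * p = 0 := by
  rw [← map_natCast (C : W →+* R'), ← map_mul, W2B.p_mul_p, map_zero]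

/-- The Frobenius lift `x_j ↦ x_j^p + p h_j` (σ₂ on coefficients). -/
noncomputable def Fh (h : Fin n → R') : R' →+* R' :=
  eval₂Hom (C.comp (FrobAlg.sigma p k)) fun j => X j ^ p + (p : R') * h j

theorem res_sigma (w : W) : FrobAlg.res p k (FrobAlg.sigma p k w) = FrobAlg.res p k w ^ p := by
  rw [FrobAlg.res_apply, FrobAlg.res_apply, WittGrp.coeff_frob]

theorem map_res_Fh (h : Fin n → R') (f : R') :
    map (FrobAlg.res p k) (Fh p k n h f) = (map (FrobAlg.res p k) f) ^ p := by
  have hpk : ((p : MvPolynomial (Fin n) k)) = 0 := by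
    rw [← map_natCast (C : k →+* MvPolynomial (Fin n) k), CharP.cast_eq_zero, map_zero]
  have : (map (FrobAlg.res p k)).comp (Fh p k n h) =
      (frobenius (MvPolynomial (Fin n) k) p).comp (map (FrobAlg.res p k)) := by
    apply MvPolynomial.ringHom_ext
    · intro a
      simp only [Fh, RingHom.comp_apply, coe_eval₂Hom, eval₂_C, map_C, frobenius_def, res_sigma,
        map_pow]
    · intro i
      simp only [Fh, RingHom.comp_apply, coe_eval₂Hom, eval₂_X, map_X, frobenius_def, map_add,
        map_pow, map_mul, map_natCast, hpk, zero_mul, add_zero]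
  exact RingHom.congr_fun this f

theorem polyFrob_eq_Fh : FrobAlg.polyFrob p k (Fin n) = Fh p k n 0 := by
  unfold FrobAlg.polyFrob Fh
  congr 1
  funext j
  simp

theorem map_res_polyFrob (f : R') :
    map (FrobAlg.res p k) (FrobAlg.polyFrob p k (Fin n) f) = (map (FrobAlg.res p k) f) ^ p := by
  rw [polyFrob_eq_Fh]; exact map_res_Fh p k n 0 f

variable [PerfectRing k p]

theorem map_res_eq_zero_iff (f : R') :
    map (FrobAlg.res p k) f = 0 ↔ ∃ g : R', f = (p : R') * g := by
  rw [← RingHom.mem_ker, MvPolynomial.ker_map, ker_res, Ideal.map_span, Set.image_singleton,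
    map_natCast, Ideal.mem_span_singleton']
  constructor
  · rintro ⟨g, rfl⟩; exact ⟨g, mul_comm _ _⟩
  · rintro ⟨g, rfl⟩; exact ⟨g, mul_comm _ _⟩

theorem p_mul_polyFrob (f : R') :
    (p : R') * FrobAlg.polyFrob p k (Fin n) f = (p : R') * f ^ p := by
  have h1 : map (FrobAlg.res p k) (FrobAlg.polyFrob p k (Fin n) f - f ^ p) = 0 := by
    rw [map_sub, map_res_polyFrob, map_pow, sub_self]
  obtain ⟨g, hg⟩ := (map_res_eq_zero_iff p k n _).1 h1
  have : (p : R') * (FrobAlg.polyFrob p k (Fin n) f - f ^ p) = 0 := by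
    rw [hg, ← mul_assoc, p_mul_p', zero_mul]
  linear_combination this

omit [PerfectRing k p] in
theorem p_mul_add_pow (a b : R') : (p : R') * (a + b) ^ p = (p : R') * a ^ p + (p : R') * b ^ p := by
  obtain ⟨r, hr⟩ := exists_add_pow_prime_eq hp.out a b
  rw [hr]
  linear_combination (a * b * r) * p_mul_p' p k n

/-- Taylor expansion modulo `p²`. -/
theorem Fh_eq (h : Fin n → R') (f : R') :
    Fh p k n h f = FrobAlg.polyFrob p k (Fin n) f +
      (p : R') * ∑ j, pderiv j f ^ p * h j := by
  induction f using MvPolynomial.induction_on with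
  | C a =>
    have : ∀ j : Fin n, pderiv j (C a : R') ^ p * h j = 0 := by
      intro j; rw [pderiv_C, zero_pow hp.out.ne_zero, zero_mul]
    rw [Finset.sum_congr rfl (fun j _ => this j), Finset.sum_const_zero, mul_zero, add_zero]
    simp [Fh, FrobAlg.polyFrob]
  | add f g hf hg =>
    rw [map_add, map_add, hf, hg]
    have : ∀ j : Fin n, (p : R') * (pderiv j (f + g) ^ p * h j) =
        (p : R') * (pderiv j f ^ p * h j) + (p : R') * (pderiv j g ^ p * h j) := by
      intro j
      rw [map_add]
      linear_combination (h j) * p_mul_add_pow p k n (pderiv j f) (pderiv j g)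
    rw [Finset.mul_sum, Finset.mul_sum, Finset.mul_sum, Finset.sum_congr rfl (fun j _ => this j),
      Finset.sum_add_distrib]
    ring
  | mul_X f i hf =>
    rw [map_mul, map_mul, hf]
    have hX : Fh p k n h (X i) = X i ^ p + (p : R') * h i := by simp [Fh]
    have hX' : FrobAlg.polyFrob p k (Fin n) (X i : R') = X i ^ p := by simp [FrobAlg.polyFrob]
    rw [hX, hX']
    have hsum : (p : R') * ∑ j, pderiv j (f * X i) ^ p * h j =
        (p : R') * (∑ j, pderiv j f ^ p * h j) * X i ^ p + (p : R') * f ^ p * h i := by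
      classical
      have : ∀ j : Fin n, (p : R') * (pderiv j (f * X i) ^ p * h j) =
          (p : R') * (pderiv j f ^ p * h j) * X i ^ p +
            (if j = i then (p : R') * f ^ p * h i else 0) := by
        intro j
        rw [pderiv_mul]
        by_cases hji : j = i
        · subst hji
          rw [pderiv_X_self, if_pos rfl, mul_one]
          have := p_mul_add_pow p k n (pderiv j f * X j) f
          rw [mul_pow] at this
          linear_combination (h j) * this
        · rw [pderiv_X_of_ne (Ne.symm hji), if_neg hji, mul_zero, add_zero, add_zero, mul_pow]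
          ring
      rw [Finset.mul_sum, Finset.sum_congr rfl (fun j _ => this j), Finset.sum_add_distrib,
        Finset.sum_ite_eq' Finset.univ i, if_pos (Finset.mem_univ i), Finset.mul_sum,
        Finset.sum_mul]
    rw [hsum]
    have h1 := p_mul_polyFrob p k n f
    have h2 := p_mul_p' p k n
    linear_combination (h i) * h1 + (h i * ∑ j, pderiv j f ^ p * h j) * h2

end

section main

variable (p : ℕ) [hp : Fact p.Prime] (k : Type u) [Field k] [CharP k p] [PerfectRing k p]
  {n m : ℕ}

omit [PerfectRing k p] in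
theorem Fh_C (h : Fin n → MvPolynomial (Fin n) (FrobAlg.W2 p k)) (a : FrobAlg.W2 p k) :
    Fh p k n h (C a) = C (FrobAlg.sigma p k a) := by
  simp [Fh]

omit [PerfectRing k p] in
theorem Fh_X (h : Fin n → MvPolynomial (Fin n) (FrobAlg.W2 p k)) (j : Fin n) :
    Fh p k n h (X j) = X j ^ p + (p : MvPolynomial (Fin n) (FrobAlg.W2 p k)) * h j := by
  simp [Fh]

theorem frobenius_lifts_iff (f' : Fin m → MvPolynomial (Fin n) (FrobAlg.W2 p k))
    (hflat : ((Ideal.Quotient.mk (Ideal.span (Set.range f'))).comp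
      (MvPolynomial.C : FrobAlg.W2 p k →+* MvPolynomial (Fin n) (FrobAlg.W2 p k))).Flat) :
    (∃ Φ : (MvPolynomial (Fin n) (FrobAlg.W2 p k) ⧸ Ideal.span (Set.range f')) →+*
        (MvPolynomial (Fin n) (FrobAlg.W2 p k) ⧸ Ideal.span (Set.range f')),
      Φ.comp ((Ideal.Quotient.mk (Ideal.span (Set.range f'))).comp MvPolynomial.C) =
        ((Ideal.Quotient.mk (Ideal.span (Set.range f'))).comp MvPolynomial.C).comp (FrobAlg.sigma p k) ∧
      ∀ b, Ideal.quotientMap ((Ideal.span (Set.range f')).map (MvPolynomial.map (FrobAlg.res p k)))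
          (MvPolynomial.map (FrobAlg.res p k)) Ideal.le_comap_map (Φ b) =
        (Ideal.quotientMap ((Ideal.span (Set.range f')).map (MvPolynomial.map (FrobAlg.res p k)))
          (MvPolynomial.map (FrobAlg.res p k)) Ideal.le_comap_map b) ^ p) ↔
    ∃ h : Fin n → MvPolynomial (Fin n) (FrobAlg.W2 p k), ∀ i,
      FrobAlg.polyFrob p k (Fin n) (f' i) - f' i ^ p
        - (p : MvPolynomial (Fin n) (FrobAlg.W2 p k)) * ∑ j, MvPolynomial.pderiv j (f' i) ^ p * h j
        ∈ Ideal.span {(p : MvPolynomial (Fin n) (FrobAlg.W2 p k))} * Ideal.span (Set.range f') := by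
  set J' : Ideal (MvPolynomial (Fin n) (FrobAlg.W2 p k)) := Ideal.span (Set.range f') with hJ'
  have hfl := (flat_iff_ringHom _).1 hflat
  have hpp := p_mul_p' p k n
  have hmapsurj : Function.Surjective (MvPolynomial.map (σ := Fin n) (FrobAlg.res p k)) :=
    MvPolynomial.map_surjective _ (res_surjective p k)
  -- key flatness consequence
  have hK : ∀ f ∈ J', (∃ g, f = (p : MvPolynomial (Fin n) (FrobAlg.W2 p k)) * g) →
      f ∈ Ideal.span {(p : MvPolynomial (Fin n) (FrobAlg.W2 p k))} * J' := by
    rintro f hf ⟨g, rfl⟩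
    have h0 : (p : MvPolynomial (Fin n) (FrobAlg.W2 p k) ⧸ J') * Ideal.Quotient.mk J' g = 0 := by
      rw [← map_natCast (Ideal.Quotient.mk J'), ← map_mul, Ideal.Quotient.eq_zero_iff_mem]
      exact hf
    obtain ⟨y, hy⟩ := hfl _ h0
    obtain ⟨g', rfl⟩ := Ideal.Quotient.mk_surjective y
    rw [← map_natCast (Ideal.Quotient.mk J'), ← map_mul, Ideal.Quotient.eq] at hy
    have : (p : MvPolynomial (Fin n) (FrobAlg.W2 p k)) * g =
        (p : MvPolynomial (Fin n) (FrobAlg.W2 p k)) * (g - p * g') := by
      linear_combination g' * hpp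
    rw [this]
    exact Ideal.mul_mem_mul (Ideal.mem_span_singleton_self _) hy
  have hfpow : ∀ i, f' i ^ p ∈ J' := fun i =>
    Ideal.pow_mem_of_mem _ (Ideal.subset_span (Set.mem_range_self i)) _ hp.out.pos
  constructor
  · rintro ⟨Φ, hsemi, hred⟩
    -- lifts of Φ (x_j)
    have hG : ∀ j : Fin n, ∃ hj : MvPolynomial (Fin n) (FrobAlg.W2 p k),
        Ideal.Quotient.mk J' (X j ^ p + (p : MvPolynomial (Fin n) (FrobAlg.W2 p k)) * hj) =
          Φ (Ideal.Quotient.mk J' (X j)) := by
      intro j
      obtain ⟨G, hG⟩ := Ideal.Quotient.mk_surjective (Φ (Ideal.Quotient.mk J' (X j)))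
      have h1 := hred (Ideal.Quotient.mk J' (X j))
      rw [← hG, Ideal.quotientMap_mk, Ideal.quotientMap_mk, ← map_pow, Ideal.Quotient.eq,
        ← map_pow, ← map_sub, Ideal.mem_map_iff_of_surjective _ hmapsurj] at h1
      obtain ⟨jj, hjj, hjje⟩ := h1
      have h2 : MvPolynomial.map (FrobAlg.res p k) (G - X j ^ p - jj) = 0 := by
        rw [map_sub, hjje, sub_self]
      obtain ⟨hj, hhj⟩ := (map_res_eq_zero_iff p k n _).1 h2
      refine ⟨hj, ?_⟩
      rw [← hG, Ideal.Quotient.eq, ← hhj]
      have : G - X j ^ p - jj - G = -(X j ^ p) - jj := by ring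
      have h3 : X j ^ p + (G - X j ^ p - jj) - G = -jj := by ring
      rw [h3]
      exact J'.neg_mem hjj
    choose h hh using hG
    have hcomp : Φ.comp (Ideal.Quotient.mk J') = (Ideal.Quotient.mk J').comp (Fh p k n h) := by
      apply MvPolynomial.ringHom_ext
      · intro a
        have := RingHom.congr_fun hsemi a
        simp only [RingHom.comp_apply] at this
        simp only [RingHom.comp_apply, Fh_C]
        exact this
      · intro j
        simp only [RingHom.comp_apply, Fh_X]
        exact (hh j).symm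
    refine ⟨fun j => - h j, fun i => ?_⟩
    have h1 : Fh p k n h (f' i) ∈ J' := by
      rw [← Ideal.Quotient.eq_zero_iff_mem, ← RingHom.comp_apply, ← hcomp, RingHom.comp_apply,
        Ideal.Quotient.eq_zero_iff_mem.2 (Ideal.subset_span (Set.mem_range_self i)), map_zero]
    rw [Fh_eq] at h1
    have h2 : FrobAlg.polyFrob p k (Fin n) (f' i) - f' i ^ p
        - (p : MvPolynomial (Fin n) (FrobAlg.W2 p k)) * ∑ j, pderiv j (f' i) ^ p * (- h j) =
        (FrobAlg.polyFrob p k (Fin n) (f' i) +
          (p : MvPolynomial (Fin n) (FrobAlg.W2 p k)) * ∑ j, pderiv j (f' i) ^ p * h j) -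
          f' i ^ p := by
      simp only [mul_neg, Finset.sum_neg_distrib]
      ring
    rw [h2]
    apply hK _ (J'.sub_mem h1 (hfpow i))
    have h3 : MvPolynomial.map (FrobAlg.res p k)
        (FrobAlg.polyFrob p k (Fin n) (f' i) - f' i ^ p) = 0 := by
      rw [map_sub, map_res_polyFrob, map_pow, sub_self]
    obtain ⟨g, hg⟩ := (map_res_eq_zero_iff p k n _).1 h3
    refine ⟨g + ∑ j, pderiv j (f' i) ^ p * h j, ?_⟩
    linear_combination hg
  · rintro ⟨h, hh⟩
    have hle : J' ≤ J'.comap (Fh p k n fun j => - h j) := by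
      rw [hJ', Ideal.span_le]
      rintro _ ⟨i, rfl⟩
      rw [SetLike.mem_coe, Ideal.mem_comap, Fh_eq]
      have h1 := (Ideal.mul_le_inf.trans inf_le_right) (hh i)
      have h2 : FrobAlg.polyFrob p k (Fin n) (f' i) +
          (p : MvPolynomial (Fin n) (FrobAlg.W2 p k)) * ∑ j, pderiv j (f' i) ^ p * (- h j) =
          (FrobAlg.polyFrob p k (Fin n) (f' i) - f' i ^ p
            - (p : MvPolynomial (Fin n) (FrobAlg.W2 p k)) * ∑ j, pderiv j (f' i) ^ p * h j) +
            f' i ^ p := by
        simp only [mul_neg, Finset.sum_neg_distrib]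
        ring
      rw [h2]
      exact J'.add_mem h1 (hfpow i)
    refine ⟨Ideal.quotientMap J' (Fh p k n fun j => - h j) hle, ?_, ?_⟩
    · ext a
      simp only [RingHom.comp_apply, Ideal.quotientMap_mk, Fh_C]
    · intro b
      obtain ⟨f, rfl⟩ := Ideal.Quotient.mk_surjective b
      rw [Ideal.quotientMap_mk, Ideal.quotientMap_mk, Ideal.quotientMap_mk, map_res_Fh, map_pow]

end main

end Groth.Agent.H65.W2C
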