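import Groth.Agent.H65.W2CI

/-!
# Frobenius liftability of complete intersections over `W₂(k)`
-/

set_option autoImplicit false
universe u v

open MvPolynomial

namespace Groth.Agent.H65.W2C

open Groth.Agent.H65.W2B

section forward

variable (p : ℕ) [hp : Fact p.Prime] (k : Type u) [Field k] [CharP k p] [PerfectRing k p]
  {n m : ℕ}

/-- Forward direction, for an arbitrary presentation `ψ : W₂(k)[x] → B'` of a Frobenius lifting. -/
theorem exists_h_of_frobLift {A : Type u} [CommRing A] [Algebra k A] {B' : Type u} [CommRing B']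
    {ι : FrobAlg.W2 p k →+* B'} {π : B' →+* A} (Φ : B' →+* B')
    (hΦ : FrobAlg.IsFrobLift p k A B' ι π Φ)
    (ψ : MvPolynomial (Fin n) (FrobAlg.W2 p k) →+* B') (hψsurj : Function.Surjective ψ)
    (hψC : ∀ a, ψ (C a) = ι a)
    (f' : Fin m → MvPolynomial (Fin n) (FrobAlg.W2 p k))
    (hker : RingHom.ker ψ = Ideal.span (Set.range f')) :
    ∃ h : Fin n → MvPolynomial (Fin n) (FrobAlg.W2 p k), ∀ i,
      FrobAlg.polyFrob p k (Fin n) (f' i) - f' i ^ p
        - (p : MvPolynomial (Fin n) (FrobAlg.W2 p k)) * ∑ j, MvPolynomial.pderiv j (f' i) ^ p * h j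
        ∈ Ideal.span {(p : MvPolynomial (Fin n) (FrobAlg.W2 p k))} * Ideal.span (Set.range f') := by
  have hB := hΦ.toIsLift
  have hpp := p_mul_p' p k n
  have hmemJ : ∀ x, x ∈ Ideal.span (Set.range f') ↔ ψ x = 0 := fun x => by
    rw [← hker, RingHom.mem_ker]
  have hK : ∀ f ∈ Ideal.span (Set.range f'),
      (∃ g, f = (p : MvPolynomial (Fin n) (FrobAlg.W2 p k)) * g) →
      f ∈ Ideal.span {(p : MvPolynomial (Fin n) (FrobAlg.W2 p k))} * Ideal.span (Set.range f') := by
    rintro f hf ⟨g, rfl⟩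
    rw [hmemJ, map_mul, map_natCast, IsLift.p_mul_eq_zero_iff hB, IsLift.mem_ker_iff hB] at hf
    obtain ⟨b, hb⟩ := hf
    obtain ⟨g', rfl⟩ := hψsurj b
    have h1 : g - (p : MvPolynomial (Fin n) (FrobAlg.W2 p k)) * g' ∈
        Ideal.span (Set.range f') := by
      rw [hmemJ, map_sub, map_mul, map_natCast, hb, sub_self]
    have : (p : MvPolynomial (Fin n) (FrobAlg.W2 p k)) * g =
        (p : MvPolynomial (Fin n) (FrobAlg.W2 p k)) * (g - p * g') := by
      linear_combination g' * hpp
    rw [this]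
    exact Ideal.mul_mem_mul (Ideal.mem_span_singleton_self _) h1
  have hfpow : ∀ i, f' i ^ p ∈ Ideal.span (Set.range f') := fun i =>
    Ideal.pow_mem_of_mem _ (Ideal.subset_span (Set.mem_range_self i)) _ hp.out.pos
  have hG : ∀ j : Fin n, ∃ hj : MvPolynomial (Fin n) (FrobAlg.W2 p k),
      ψ (X j ^ p + (p : MvPolynomial (Fin n) (FrobAlg.W2 p k)) * hj) = Φ (ψ (X j)) := by
    intro j
    have h1 : π (Φ (ψ (X j)) - ψ (X j) ^ p) = 0 := by
      rw [map_sub, hΦ.red, map_pow, sub_self]
    obtain ⟨b, hb⟩ := (IsLift.mem_ker_iff hB _).1 h1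
    obtain ⟨hj, rfl⟩ := hψsurj b
    refine ⟨hj, ?_⟩
    rw [map_add, map_pow, map_mul, map_natCast, ← hb]
    ring
  choose h hh using hG
  have hcomp : Φ.comp ψ = ψ.comp (Fh p k n h) := by
    apply MvPolynomial.ringHom_ext
    · intro a
      simp only [RingHom.comp_apply, Fh_C, hψC]
      have := RingHom.congr_fun hΦ.semi a
      simpa only [RingHom.comp_apply] using this
    · intro j
      simp only [RingHom.comp_apply, Fh_X]
      exact (hh j).symm
  refine ⟨fun j => - h j, fun i => ?_⟩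
  have h1 : Fh p k n h (f' i) ∈ Ideal.span (Set.range f') := by
    rw [hmemJ, ← RingHom.comp_apply, ← hcomp, RingHom.comp_apply,
      (hmemJ _).1 (Ideal.subset_span (Set.mem_range_self i)), map_zero]
  rw [Fh_eq] at h1
  have h2 : FrobAlg.polyFrob p k (Fin n) (f' i) - f' i ^ p
      - (p : MvPolynomial (Fin n) (FrobAlg.W2 p k)) * ∑ j, pderiv j (f' i) ^ p * (- h j) =
      (FrobAlg.polyFrob p k (Fin n) (f' i) +
        (p : MvPolynomial (Fin n) (FrobAlg.W2 p k)) * ∑ j, pderiv j (f' i) ^ p * h j) -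
        f' i ^ p := by
    simp only [mul_neg, Finset.sum_neg_distrib]
    ring
  rw [h2]
  apply hK _ (Ideal.sub_mem _ h1 (hfpow i))
  have h3 : MvPolynomial.map (FrobAlg.res p k)
      (FrobAlg.polyFrob p k (Fin n) (f' i) - f' i ^ p) = 0 := by
    rw [map_sub, map_res_polyFrob, map_pow, sub_self]
  obtain ⟨g, hg⟩ := (map_res_eq_zero_iff p k n _).1 h3
  refine ⟨g + ∑ j, pderiv j (f' i) ^ p * h j, ?_⟩
  linear_combination hg

end forward

section flat

variable (p : ℕ) [hp : Fact p.Prime] (k : Type u) [Field k] [CharP k p] [PerfectRing k p]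
  {n m : ℕ}

omit [CharP k p] [PerfectRing k p] in
theorem map_res_surjective :
    Function.Surjective (MvPolynomial.map (σ := Fin n) (FrobAlg.res p k)) :=
  MvPolynomial.map_surjective _ (res_surjective p k)

theorem exists_of_map_mem (I' : Ideal (MvPolynomial (Fin n) (FrobAlg.W2 p k)))
    (x : MvPolynomial (Fin n) (FrobAlg.W2 p k))
    (hx : MvPolynomial.map (FrobAlg.res p k) x ∈ I'.map (MvPolynomial.map (FrobAlg.res p k))) :
    ∃ j ∈ I', ∃ y, x = j + (p : MvPolynomial (Fin n) (FrobAlg.W2 p k)) * y := by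
  rw [Ideal.mem_map_iff_of_surjective _ (map_res_surjective p k)] at hx
  obtain ⟨j, hj, hjx⟩ := hx
  have h1 : MvPolynomial.map (FrobAlg.res p k) (x - j) = 0 := by rw [map_sub, hjx, sub_self]
  obtain ⟨y, hy⟩ := (map_res_eq_zero_iff p k n _).1 h1
  exact ⟨j, hj, y, by rw [← hy]; ring⟩

theorem exists_of_p_mul_eq_zero (x : MvPolynomial (Fin n) (FrobAlg.W2 p k))
    (hx : (p : MvPolynomial (Fin n) (FrobAlg.W2 p k)) * x = 0) :
    ∃ y, x = (p : MvPolynomial (Fin n) (FrobAlg.W2 p k)) * y := by
  rw [← map_res_eq_zero_iff]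
  ext d
  rw [coeff_map, coeff_zero]
  have h1 := congrArg (coeff d) hx
  rw [← map_natCast (C : FrobAlg.W2 p k →+* MvPolynomial (Fin n) (FrobAlg.W2 p k)), coeff_C_mul,
    coeff_zero, W2B.p_mul_eq_zero_iff, ← ker_res, RingHom.mem_ker] at h1
  exact h1

open RingTheory.Sequence in
/-- Lifts of a (weakly) regular sequence cut out a flat quotient: the inductive statement. -/
theorem regular_lift_flat (f : Fin m → MvPolynomial (Fin n) k)
    (hreg : IsWeaklyRegular (MvPolynomial (Fin n) k) (List.ofFn f))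
    (f' : Fin m → MvPolynomial (Fin n) (FrobAlg.W2 p k))
    (hf' : ∀ i, MvPolynomial.map (FrobAlg.res p k) (f' i) = f i) :
    ∀ i ≤ m, ∀ x : MvPolynomial (Fin n) (FrobAlg.W2 p k),
      (p : MvPolynomial (Fin n) (FrobAlg.W2 p k)) * x ∈ Ideal.ofList ((List.ofFn f').take i) →
      ∃ j ∈ Ideal.ofList ((List.ofFn f').take i), ∃ y,
        x = j + (p : MvPolynomial (Fin n) (FrobAlg.W2 p k)) * y := by
  have hpk : ((p : MvPolynomial (Fin n) k)) = 0 := by
    rw [← map_natCast (C : k →+* MvPolynomial (Fin n) k), CharP.cast_eq_zero, map_zero]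
  have hmapJ : ∀ i, (Ideal.ofList ((List.ofFn f').take i)).map
      (MvPolynomial.map (FrobAlg.res p k)) = Ideal.ofList ((List.ofFn f).take i) := by
    intro i
    rw [Ideal.map_ofList, List.map_take, List.map_ofFn]
    congr 3
    funext j
    exact hf' j
  intro i
  induction i with
  | zero =>
    intro _ x hx
    rw [List.take_zero, Ideal.ofList_nil, Ideal.mem_bot] at hx
    obtain ⟨y, hy⟩ := exists_of_p_mul_eq_zero p k x hx
    exact ⟨0, Ideal.zero_mem _, y, by rw [zero_add, hy]⟩
  | succ i ih =>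
    intro hi x hx
    have hi' : i < m := hi
    have hlen : i < (List.ofFn f').length := by rw [List.length_ofFn]; exact hi'
    have hlen2 : i < (List.ofFn f).length := by rw [List.length_ofFn]; exact hi'
    rw [List.take_succ_eq_append_getElem hlen, Ideal.ofList_append, Ideal.ofList_singleton,
      List.getElem_ofFn] at hx ⊢
    rw [Submodule.mem_sup] at hx
    obtain ⟨j, hj, z, hz, hjz⟩ := hx
    obtain ⟨a, rfl⟩ := Ideal.mem_span_singleton'.1 hz
    -- reduce mod p
    have h1 := congrArg (MvPolynomial.map (FrobAlg.res p k)) hjz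
    rw [map_add, map_mul, map_mul, map_natCast, hpk, zero_mul, hf'] at h1
    have h2 : f ⟨i, hi'⟩ • MvPolynomial.map (FrobAlg.res p k) a ∈
        (Ideal.ofList ((List.ofFn f).take i) • ⊤ :
          Submodule (MvPolynomial (Fin n) k) (MvPolynomial (Fin n) k)) := by
      have h1' : MvPolynomial.map (FrobAlg.res p k) a * f ⟨i, hi'⟩ =
          - MvPolynomial.map (FrobAlg.res p k) j := by linear_combination h1
      rw [smul_eq_mul, smul_eq_mul, Ideal.mul_top, mul_comm, h1']
      apply neg_mem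
      rw [← hmapJ]
      exact Ideal.mem_map_of_mem _ hj
    have hr := hreg.regular_mod_prev i hlen2
    rw [List.getElem_ofFn] at hr
    have h3 := mem_of_isSMulRegular_quotient_of_smul_mem hr h2
    rw [smul_eq_mul, Ideal.mul_top, ← hmapJ] at h3
    obtain ⟨j₂, hj₂, b, hb⟩ := exists_of_map_mem p k _ a h3
    -- p (x - b f') ∈ J'_i
    have h4 : (p : MvPolynomial (Fin n) (FrobAlg.W2 p k)) * (x - b * f' ⟨i, hi'⟩) ∈
        Ideal.ofList ((List.ofFn f').take i) := by
      have : (p : MvPolynomial (Fin n) (FrobAlg.W2 p k)) * (x - b * f' ⟨i, hi'⟩) =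
          j + j₂ * f' ⟨i, hi'⟩ := by
        rw [mul_sub, ← hjz, hb]; ring
      rw [this]
      exact Ideal.add_mem _ hj (Ideal.mul_mem_right _ _ hj₂)
    obtain ⟨j₃, hj₃, y, hy⟩ := ih (Nat.le_of_succ_le hi) _ h4
    refine ⟨j₃ + b * f' ⟨i, hi'⟩, ?_, y, ?_⟩
    · rw [Submodule.mem_sup]
      exact ⟨j₃, hj₃, b * f' ⟨i, hi'⟩, Ideal.mem_span_singleton'.2 ⟨b, rfl⟩, rfl⟩
    · linear_combination hy

end flat

section main

variable (p : ℕ) [hp : Fact p.Prime] (k : Type u) [Field k] [CharP k p] [PerfectRing k p]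
  {n m : ℕ}

theorem le_comap_Fh_neg (f' : Fin m → MvPolynomial (Fin n) (FrobAlg.W2 p k))
    (h : Fin n → MvPolynomial (Fin n) (FrobAlg.W2 p k))
    (hh : ∀ i, FrobAlg.polyFrob p k (Fin n) (f' i) - f' i ^ p
        - (p : MvPolynomial (Fin n) (FrobAlg.W2 p k)) * ∑ j, MvPolynomial.pderiv j (f' i) ^ p * h j
        ∈ Ideal.span {(p : MvPolynomial (Fin n) (FrobAlg.W2 p k))} * Ideal.span (Set.range f')) :
    Ideal.span (Set.range f') ≤ (Ideal.span (Set.range f')).comap (Fh p k n fun j => - h j) := by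
  rw [Ideal.span_le]
  rintro _ ⟨i, rfl⟩
  rw [SetLike.mem_coe, Ideal.mem_comap, Fh_eq]
  have h1 := (Ideal.mul_le_inf.trans inf_le_right) (hh i)
  have h2 : FrobAlg.polyFrob p k (Fin n) (f' i) +
      (p : MvPolynomial (Fin n) (FrobAlg.W2 p k)) * ∑ j, pderiv j (f' i) ^ p * (- h j) =
      (FrobAlg.polyFrob p k (Fin n) (f' i) - f' i ^ p
        - (p : MvPolynomial (Fin n) (FrobAlg.W2 p k)) * ∑ j, pderiv j (f' i) ^ p * h j) +
        f' i ^ p := by
    simp only [mul_neg, Finset.sum_neg_distrib]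
    ring
  rw [h2]
  exact Ideal.add_mem _ h1
    (Ideal.pow_mem_of_mem _ (Ideal.subset_span (Set.mem_range_self i)) _ hp.out.pos)

open RingTheory.Sequence in
theorem isFLiftable_ci_iff (f : Fin m → MvPolynomial (Fin n) k)
    (hreg : RingTheory.Sequence.IsRegular (MvPolynomial (Fin n) k) (List.ofFn f)) :
    FrobAlg.IsFLiftable p k (MvPolynomial (Fin n) k ⧸ Ideal.span (Set.range f)) ↔
    ∃ (f' : Fin m → MvPolynomial (Fin n) (FrobAlg.W2 p k))
      (h : Fin n → MvPolynomial (Fin n) (FrobAlg.W2 p k)),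
      (∀ i, MvPolynomial.map (FrobAlg.res p k) (f' i) = f i) ∧
      ∀ i, FrobAlg.polyFrob p k (Fin n) (f' i) - f' i ^ p
        - (p : MvPolynomial (Fin n) (FrobAlg.W2 p k)) * ∑ j, MvPolynomial.pderiv j (f' i) ^ p * h j
        ∈ Ideal.span {(p : MvPolynomial (Fin n) (FrobAlg.W2 p k))} * Ideal.span (Set.range f') := by
  have hpk : ((p : MvPolynomial (Fin n) k)) = 0 := by
    rw [← map_natCast (C : k →+* MvPolynomial (Fin n) k), CharP.cast_eq_zero, map_zero]
  have hpp := p_mul_p' p k n
  constructor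
  · rintro ⟨B', _, ι, π, Φ, hΦ⟩
    have hB := hΦ.toIsLift
    have hX : ∀ v, ∃ a : B', π a = Ideal.Quotient.mk (Ideal.span (Set.range f)) (X v) :=
      fun v => hB.surj _
    choose Xl hXl using hX
    let ψ : MvPolynomial (Fin n) (FrobAlg.W2 p k) →+* B' := eval₂Hom ι Xl
    have hψC : ∀ a, ψ (C a) = ι a := fun a => by simp [ψ]
    have hπψ : ∀ g, π (ψ g) =
        Ideal.Quotient.mk (Ideal.span (Set.range f)) (MvPolynomial.map (FrobAlg.res p k) g) := by
      have : π.comp ψ = (Ideal.Quotient.mk (Ideal.span (Set.range f))).comp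
          (MvPolynomial.map (FrobAlg.res p k)) := by
        apply MvPolynomial.ringHom_ext
        · intro w
          simp only [ψ, RingHom.comp_apply, coe_eval₂Hom, eval₂_C, map_C]
          rw [← RingHom.comp_apply, hB.comm]
          rfl
        · intro v
          simp only [ψ, RingHom.comp_apply, coe_eval₂Hom, eval₂_X, map_X, hXl]
      exact fun g => RingHom.congr_fun this g
    -- one approximation step
    have hstep : ∀ b : B', ∃ g b₁, b = ψ g + (p : B') * b₁ := by
      intro b
      obtain ⟨g₀, hg₀⟩ := Ideal.Quotient.mk_surjective (π b)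
      obtain ⟨g, rfl⟩ := map_res_surjective p k g₀
      have h1 : π (b - ψ g) = 0 := by rw [map_sub, hπψ, hg₀, sub_self]
      obtain ⟨b₁, hb₁⟩ := (IsLift.mem_ker_iff hB _).1 h1
      exact ⟨g, b₁, by rw [← hb₁]; ring⟩
    have hψsurj : Function.Surjective ψ := by
      intro b
      obtain ⟨g₀, b₁, rfl⟩ := hstep b
      obtain ⟨g₁, b₂, rfl⟩ := hstep b₁
      refine ⟨g₀ + (p : MvPolynomial (Fin n) (FrobAlg.W2 p k)) * g₁, ?_⟩
      rw [map_add, map_mul, map_natCast]
      linear_combination (-b₂) * p_mul_p_of_ringHom ι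
    -- lifts of the f i in the kernel
    have hf'ex : ∀ i, ∃ fi : MvPolynomial (Fin n) (FrobAlg.W2 p k),
        MvPolynomial.map (FrobAlg.res p k) fi = f i ∧ ψ fi = 0 := by
      intro i
      obtain ⟨f0, hf0⟩ := map_res_surjective p k (f i)
      have h1 : π (ψ f0) = 0 := by
        rw [hπψ, hf0, Ideal.Quotient.eq_zero_iff_mem]
        exact Ideal.subset_span (Set.mem_range_self i)
      obtain ⟨b, hb⟩ := (IsLift.mem_ker_iff hB _).1 h1
      obtain ⟨g, rfl⟩ := hψsurj b
      refine ⟨f0 - (p : MvPolynomial (Fin n) (FrobAlg.W2 p k)) * g, ?_, ?_⟩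
      · rw [map_sub, map_mul, map_natCast, hpk, zero_mul, sub_zero, hf0]
      · rw [map_sub, map_mul, map_natCast, hb, sub_self]
    choose f' hf' hψf' using hf'ex
    have hJmap : (Ideal.span (Set.range f')).map (MvPolynomial.map (FrobAlg.res p k)) =
        Ideal.span (Set.range f) := by
      rw [Ideal.map_span, ← Set.range_comp]
      congr 2
      funext i
      exact hf' i
    have hdecomp : ∀ x, π (ψ x) = 0 → ∃ j ∈ Ideal.span (Set.range f'), ∃ y,
        x = j + (p : MvPolynomial (Fin n) (FrobAlg.W2 p k)) * y := by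
      intro x hx
      rw [hπψ, Ideal.Quotient.eq_zero_iff_mem, ← hJmap] at hx
      exact exists_of_map_mem p k _ x hx
    have hle : Ideal.span (Set.range f') ≤ RingHom.ker ψ := by
      rw [Ideal.span_le]
      rintro _ ⟨i, rfl⟩
      exact hψf' i
    have hker : RingHom.ker ψ = Ideal.span (Set.range f') := by
      apply le_antisymm _ hle
      intro x hx
      rw [RingHom.mem_ker] at hx
      obtain ⟨j, hj, y, rfl⟩ := hdecomp x (by rw [hx, map_zero])
      have hψj : ψ j = 0 := hle hj
      rw [map_add, hψj, zero_add, map_mul, map_natCast, IsLift.p_mul_eq_zero_iff hB] at hx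
      obtain ⟨j', hj', z, rfl⟩ := hdecomp y hx
      have : j + (p : MvPolynomial (Fin n) (FrobAlg.W2 p k)) * (j' + p * z) = j + p * j' := by
        linear_combination z * hpp
      rw [this]
      exact Ideal.add_mem _ hj (Ideal.mul_mem_left _ _ hj')
    obtain ⟨h, hh⟩ := exists_h_of_frobLift p k Φ hΦ ψ hψsurj hψC f' hker
    exact ⟨f', h, hf', hh⟩
  · rintro ⟨f', h, hf', hh⟩
    have hJmap : (Ideal.span (Set.range f')).map (MvPolynomial.map (FrobAlg.res p k)) =
        Ideal.span (Set.range f) := by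
      rw [Ideal.map_span, ← Set.range_comp]
      congr 2
      funext i
      exact hf' i
    have hofList : Ideal.ofList ((List.ofFn f').take m) = Ideal.span (Set.range f') := by
      rw [List.take_of_length_le (by rw [List.length_ofFn])]
      have : {r | r ∈ List.ofFn f'} = Set.range f' := by
        ext r
        exact List.mem_ofFn' f' r
      rw [Ideal.ofList, this]
    have hflatJ : ∀ x : MvPolynomial (Fin n) (FrobAlg.W2 p k),
        (p : MvPolynomial (Fin n) (FrobAlg.W2 p k)) * x ∈ Ideal.span (Set.range f') →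
        ∃ j ∈ Ideal.span (Set.range f'), ∃ y,
          x = j + (p : MvPolynomial (Fin n) (FrobAlg.W2 p k)) * y := by
      have := regular_lift_flat p k f hreg.toIsWeaklyRegular f' hf' m le_rfl
      rwa [hofList] at this
    have hlift : ∀ a ∈ Ideal.span (Set.range f'),
        ((Ideal.Quotient.mk (Ideal.span (Set.range f))).comp
          (MvPolynomial.map (FrobAlg.res p k))) a = 0 := by
      intro a ha
      rw [RingHom.comp_apply, Ideal.Quotient.eq_zero_iff_mem, ← hJmap]
      exact Ideal.mem_map_of_mem _ ha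
    have hmkp : ∀ x y : MvPolynomial (Fin n) (FrobAlg.W2 p k), ∀ j ∈ Ideal.span (Set.range f'),
        x = j + (p : MvPolynomial (Fin n) (FrobAlg.W2 p k)) * y →
        Ideal.Quotient.mk (Ideal.span (Set.range f')) x =
          (p : MvPolynomial (Fin n) (FrobAlg.W2 p k) ⧸ Ideal.span (Set.range f')) *
            Ideal.Quotient.mk (Ideal.span (Set.range f')) y := by
      intro x y j hj hx
      rw [← map_natCast (Ideal.Quotient.mk (Ideal.span (Set.range f'))), ← map_mul,
        Ideal.Quotient.eq, hx]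
      simpa using hj
    set π : (MvPolynomial (Fin n) (FrobAlg.W2 p k) ⧸ Ideal.span (Set.range f')) →+*
        (MvPolynomial (Fin n) k ⧸ Ideal.span (Set.range f)) :=
      Ideal.Quotient.lift (Ideal.span (Set.range f'))
        ((Ideal.Quotient.mk (Ideal.span (Set.range f))).comp (MvPolynomial.map (FrobAlg.res p k)))
        hlift with hπ
    have hπmk : ∀ x, π (Ideal.Quotient.mk _ x) =
        Ideal.Quotient.mk (Ideal.span (Set.range f)) (MvPolynomial.map (FrobAlg.res p k) x) :=
      fun x => rfl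
    have hkerπ : ∀ b, π b = 0 → ∃ y, b =
        (p : MvPolynomial (Fin n) (FrobAlg.W2 p k) ⧸ Ideal.span (Set.range f')) * y := by
      intro b hb
      obtain ⟨x, rfl⟩ := Ideal.Quotient.mk_surjective b
      rw [hπmk, Ideal.Quotient.eq_zero_iff_mem, ← hJmap] at hb
      obtain ⟨j, hj, y, hy⟩ := exists_of_map_mem p k _ x hb
      exact ⟨_, hmkp x y j hj hy⟩
    refine ⟨MvPolynomial (Fin n) (FrobAlg.W2 p k) ⧸ Ideal.span (Set.range f'), inferInstance,
      (Ideal.Quotient.mk _).comp C, π,
      Ideal.quotientMap _ (Fh p k n fun j => - h j) (le_comap_Fh_neg p k f' h hh),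
      ⟨?_, ?_, ?_, ?_⟩, ?_, ?_⟩
    · -- flat
      rw [flat_iff_ringHom]
      intro b hb
      obtain ⟨x, rfl⟩ := Ideal.Quotient.mk_surjective b
      rw [← map_natCast (Ideal.Quotient.mk (Ideal.span (Set.range f'))), ← map_mul,
        Ideal.Quotient.eq_zero_iff_mem] at hb
      obtain ⟨j, hj, y, hy⟩ := hflatJ x hb
      exact ⟨_, hmkp x y j hj hy⟩
    · -- surjective
      intro a
      obtain ⟨a, rfl⟩ := Ideal.Quotient.mk_surjective a
      obtain ⟨x, rfl⟩ := map_res_surjective p k a
      exact ⟨Ideal.Quotient.mk _ x, hπmk x⟩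
    · -- kernel
      rw [ker_res, Ideal.map_span, Set.image_singleton, map_natCast]
      ext b
      rw [RingHom.mem_ker, Ideal.mem_span_singleton']
      constructor
      · intro hb
        obtain ⟨y, rfl⟩ := hkerπ b hb
        exact ⟨y, mul_comm _ _⟩
      · rintro ⟨y, rfl⟩
        rw [map_mul, map_natCast,
          natCast_eq_zero_of_algebra p k (MvPolynomial (Fin n) k ⧸ Ideal.span (Set.range f)),
          mul_zero]
    · -- compatibility
      ext w
      simp only [RingHom.comp_apply]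
      rw [hπmk, map_C]
      rfl
    · -- semilinear
      ext a
      simp only [RingHom.comp_apply, Ideal.quotientMap_mk, Fh_C]
    · -- reduction
      intro b
      obtain ⟨x, rfl⟩ := Ideal.Quotient.mk_surjective b
      rw [Ideal.quotientMap_mk, hπmk, hπmk, map_res_Fh, map_pow]

end main

end Groth.Agent.H65.W2C
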