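import Groth.Agent.H65.W2Lift

/-!
# Descent of `W₂`-liftability along a ring map with a linear retraction
-/

set_option autoImplicit false
universe u v

namespace Groth.Agent.H65.W2B

section

variable (p : ℕ) [Fact p.Prime] (k : Type u) [Field k] [CharP k p] [PerfectRing k p]
    (A B : Type u) [CommRing A] [CommRing B] [Algebra k A] [Algebra k B]
    [Algebra A B] [IsScalarTower k A B]
    (r : B →ₗ[A] A) (hr : ∀ a : A, r (algebraMap A B a) = a)
    (B' : Type u) [CommRing B']
    (ιB : FrobAlg.W2 p k →+* B') (πB : B' →+* B) (hB : FrobAlg.IsLift p k B B' ιB πB)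

/-- The preimage of `A ⊆ B` in `B'`. -/
def preA : Subring B' := (algebraMap A B).range.comap πB

variable {p k A B B' πB} in
omit [Fact p.Prime] [CharP k p] [PerfectRing k p] [Algebra k A] [Algebra k B]
  [IsScalarTower k A B] [Field k] in
theorem mem_preA {y : B'} : y ∈ preA A B B' πB ↔ ∃ a : A, algebraMap A B a = πB y := by
  rw [preA, Subring.mem_comap, RingHom.mem_range]

/-- The ideal `p · (lifts of ker r)` of `preA`. -/
def idK : Ideal (preA A B B' πB) where
  carrier := {y | ∃ w : B', (y : B') = (p : B') * w ∧ r (πB w) = 0}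
  add_mem' := by
    rintro y₁ y₂ ⟨w₁, e₁, z₁⟩ ⟨w₂, e₂, z₂⟩
    refine ⟨w₁ + w₂, ?_, ?_⟩
    · rw [Subring.coe_add, e₁, e₂, mul_add]
    · rw [map_add, map_add, z₁, z₂, add_zero]
  zero_mem' := ⟨0, by simp, by simp⟩
  smul_mem' := by
    rintro c y ⟨w, e, z⟩
    obtain ⟨a, ha⟩ := mem_preA.1 c.2
    refine ⟨c * w, ?_, ?_⟩
    · rw [smul_eq_mul, Subring.coe_mul, e]; ring
    · rw [map_mul, ← ha, ← Algebra.smul_def, map_smul, z, smul_zero]

variable {p A B r B' πB} in
omit [Fact p.Prime] in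
theorem mem_idK {y : preA A B B' πB} :
    y ∈ idK p A B r B' πB ↔ ∃ w : B', (y : B') = (p : B') * w ∧ r (πB w) = 0 := Iff.rfl

/-- `y ↦ r (πB y)` as a ring hom `preA → A`. -/
def psi : preA A B B' πB →+* A where
  toFun y := r (πB y)
  map_one' := by
    rw [Subring.coe_one, map_one, ← map_one (algebraMap A B), hr]
  map_mul' y₁ y₂ := by
    obtain ⟨a₁, ha₁⟩ := mem_preA.1 y₁.2
    obtain ⟨a₂, ha₂⟩ := mem_preA.1 y₂.2
    rw [Subring.coe_mul, map_mul, ← ha₁, ← ha₂, ← map_mul, hr, hr, hr]
  map_zero' := by simp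
  map_add' y₁ y₂ := by simp

variable {A B r B' πB} in
theorem psi_apply (y : preA A B B' πB) : psi A B r hr B' πB y = r (πB y) := rfl

variable {A B r B' πB} in
theorem algebraMap_psi (y : preA A B B' πB) :
    algebraMap A B (psi A B r hr B' πB y) = πB y := by
  obtain ⟨a, ha⟩ := mem_preA.1 y.2
  rw [psi_apply, ← ha, hr]

include hB in
omit [CharP k p] [PerfectRing k p] in
theorem iotaB_mem (w : FrobAlg.W2 p k) : ιB w ∈ preA A B B' πB := by
  rw [mem_preA]
  refine ⟨algebraMap k A (FrobAlg.res p k w), ?_⟩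
  rw [← IsScalarTower.algebraMap_apply, ← RingHom.comp_apply, ← hB.comm, RingHom.comp_apply]

/-- The descended lifting. -/
abbrev descA : Type u := preA A B B' πB ⧸ idK p A B r B' πB

/-- The projection `descA → A`. -/
def descPi : descA p A B r B' πB →+* A :=
  Ideal.Quotient.lift (idK p A B r B' πB) (psi A B r hr B' πB) (by
    rintro y ⟨w, e, -⟩
    rw [psi_apply, e, map_mul, map_natCast, natCast_eq_zero_of_algebra p k B, zero_mul, map_zero])

/-- The structure map `W₂(k) → descA`. -/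
noncomputable def descIota : FrobAlg.W2 p k →+* descA p A B r B' πB :=
  (Ideal.Quotient.mk (idK p A B r B' πB)).comp
    (ιB.codRestrict (preA A B B' πB) (iotaB_mem p k A B B' ιB πB hB))

omit [Fact (Nat.Prime p)] [PerfectRing k p] [Algebra k A] [IsScalarTower k A B] in
theorem descPi_mk (y : preA A B B' πB) :
    descPi p k A B r hr B' πB (Ideal.Quotient.mk _ y) = r (πB y) := rfl

include hB in
omit [Algebra k A] [IsScalarTower k A B] in
theorem descPi_ker (x : descA p A B r B' πB) (hx : descPi p k A B r hr B' πB x = 0) :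
    ∃ y, x = (p : descA p A B r B' πB) * y := by
  obtain ⟨y, rfl⟩ := Ideal.Quotient.mk_surjective x
  rw [descPi_mk] at hx
  have h0 : πB y = 0 := by
    rw [← algebraMap_psi hr y, psi_apply, hx, map_zero]
  obtain ⟨w, hw⟩ := (IsLift.mem_ker_iff hB _).1 h0
  obtain ⟨v, hv⟩ := hB.surj (algebraMap A B (r (πB w)))
  have hvmem : v ∈ preA A B B' πB := mem_preA.2 ⟨_, hv.symm⟩
  refine ⟨Ideal.Quotient.mk _ ⟨v, hvmem⟩, ?_⟩
  rw [← map_natCast (Ideal.Quotient.mk (idK p A B r B' πB)), ← map_mul, Ideal.Quotient.eq,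
    mem_idK]
  refine ⟨w - v, ?_, ?_⟩
  · rw [AddSubgroupClass.coe_sub, Subring.coe_mul, Subring.coe_natCast, hw, mul_sub]
  · rw [map_sub, map_sub, hv, hr, sub_self]

include hB in
theorem isLift_descA :
    FrobAlg.IsLift p k A (descA p A B r B' πB) (descIota p k A B r B' ιB πB hB)
      (descPi p k A B r hr B' πB) := by
  have hpA : (p : A) = 0 := natCast_eq_zero_of_algebra p k A
  have hpi_p : descPi p k A B r hr B' πB (p : descA p A B r B' πB) = 0 := by
    rw [map_natCast, hpA]
  refine ⟨?_, ?_, ?_, ?_⟩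
  · -- flat
    rw [flat_iff_ringHom]
    intro x hx
    apply descPi_ker p k A B r hr B' ιB πB hB
    obtain ⟨y, rfl⟩ := Ideal.Quotient.mk_surjective x
    rw [← map_natCast (Ideal.Quotient.mk (idK p A B r B' πB)), ← map_mul,
      Ideal.Quotient.eq_zero_iff_mem, mem_idK] at hx
    obtain ⟨w, e, z⟩ := hx
    rw [Subring.coe_mul, Subring.coe_natCast] at e
    have h1 : (p : B') * ((y : B') - w) = 0 := by rw [mul_sub, e, sub_self]
    rw [IsLift.p_mul_eq_zero_iff hB, map_sub, sub_eq_zero] at h1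
    rw [descPi_mk, h1, z]
  · -- surjective
    intro a
    obtain ⟨v, hv⟩ := hB.surj (algebraMap A B a)
    refine ⟨Ideal.Quotient.mk _ ⟨v, mem_preA.2 ⟨_, hv.symm⟩⟩, ?_⟩
    rw [descPi_mk]
    change r (πB v) = a
    rw [hv, hr]
  · -- kernel
    rw [ker_res, Ideal.map_span, Set.image_singleton, map_natCast]
    ext x
    rw [RingHom.mem_ker, Ideal.mem_span_singleton']
    constructor
    · intro hx
      obtain ⟨y, rfl⟩ := descPi_ker p k A B r hr B' ιB πB hB x hx
      exact ⟨y, mul_comm _ _⟩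
    · rintro ⟨y, rfl⟩
      rw [map_mul, hpi_p, mul_zero]
  · -- compatibility
    ext w
    change descPi p k A B r hr B' πB (Ideal.Quotient.mk _ ⟨ιB w, _⟩) = _
    rw [descPi_mk]
    change r (πB (ιB w)) = _
    rw [← RingHom.comp_apply, hB.comm, RingHom.comp_apply, IsScalarTower.algebraMap_apply k A B, hr]
    rfl

end

/-- Descent of `W₂`-liftability along a map with a linear retraction. -/
theorem isW2Liftable_of_retraction
    (p : ℕ) [Fact p.Prime] (k : Type u) [Field k] [CharP k p] [PerfectRing k p]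
    (A B : Type u) [CommRing A] [CommRing B] [Algebra k A] [Algebra k B]
    [Algebra A B] [IsScalarTower k A B]
    (r : B →ₗ[A] A) (hr : ∀ a : A, r (algebraMap A B a) = a)
    (hB : FrobAlg.IsW2Liftable p k B) : FrobAlg.IsW2Liftable p k A := by
  obtain ⟨B', _, ιB, πB, hB'⟩ := hB
  exact ⟨descA p A B r B' πB, inferInstance, descIota p k A B r B' ιB πB hB',
    descPi p k A B r hr B' πB, isLift_descA p k A B r hr B' ιB πB hB'⟩

end Groth.Agent.H65.W2B
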