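import Groth.Agent.H65.W2Basic

/-!
# Flat liftings over `W₂(k)`: API and descent along a linear retraction

* `flat_iff_ringHom`, `IsLift.ker_eq_span`, `IsLift.mem_ker_iff`, `IsLift.p_mul_eq_zero_iff`
* `exists_frobLift_of_retraction` (descent of Frobenius liftings along a linearly split map)
* `isW2Liftable_of_retraction` (descent of liftability along a linearly split map)
-/

set_option autoImplicit false
universe u v

namespace Groth.Agent.H65.W2B

section lift

variable {p : ℕ} [Fact p.Prime] {k : Type u} [Field k] [CharP k p] [PerfectRing k p]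
  {A : Type v} [CommRing A] [Algebra k A] {B : Type v} [CommRing B]
  {ι : FrobAlg.W2 p k →+* B} {π : B →+* A}

theorem natCast_eq_zero_of_algebra (p : ℕ) (k : Type u) [Field k] [CharP k p]
    (A : Type v) [CommRing A] [Algebra k A] : (p : A) = 0 := by
  rw [← map_natCast (algebraMap k A), CharP.cast_eq_zero, map_zero]

omit [PerfectRing k p] in
theorem p_mul_p_of_ringHom (ι : FrobAlg.W2 p k →+* B) : (p : B) * p = 0 := by
  rw [← map_natCast ι, ← map_mul, W2B.p_mul_p, map_zero]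

theorem flat_iff_ringHom (ι : FrobAlg.W2 p k →+* B) :
    ι.Flat ↔ ∀ x : B, (p : B) * x = 0 → ∃ y, x = p * y := by
  let _ := ι.toAlgebra
  change Module.Flat (FrobAlg.W2 p k) B ↔ _
  rw [flat_iff]
  have : ∀ x : B, (p : FrobAlg.W2 p k) • x = (p : B) * x := fun x => by
    rw [Algebra.smul_def, RingHom.algebraMap_toAlgebra, map_natCast]
  simp only [this]

theorem IsLift.ker_eq_span (h : FrobAlg.IsLift p k A B ι π) :
    RingHom.ker π = Ideal.span {(p : B)} := by
  rw [h.ker_eq, ker_res, Ideal.map_span, Set.image_singleton, map_natCast]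

theorem IsLift.mem_ker_iff (h : FrobAlg.IsLift p k A B ι π) (x : B) :
    π x = 0 ↔ ∃ y, x = p * y := by
  rw [← RingHom.mem_ker, IsLift.ker_eq_span h, Ideal.mem_span_singleton']
  constructor
  · rintro ⟨y, rfl⟩; exact ⟨y, mul_comm _ _⟩
  · rintro ⟨y, rfl⟩; exact ⟨y, mul_comm _ _⟩

theorem IsLift.p_mul_eq_zero_iff (h : FrobAlg.IsLift p k A B ι π) (x : B) :
    (p : B) * x = 0 ↔ π x = 0 := by
  constructor
  · intro hx
    rw [IsLift.mem_ker_iff h]
    exact (flat_iff_ringHom ι).1 h.flat x hx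
  · intro hx
    obtain ⟨y, rfl⟩ := (IsLift.mem_ker_iff h x).1 hx
    rw [← mul_assoc, p_mul_p_of_ringHom ι, zero_mul]

end lift

section retraction

variable (p : ℕ) [Fact p.Prime] {k : Type u} [Field k] [CharP k p] [PerfectRing k p]
    {A B : Type u} [CommRing A] [CommRing B] [Algebra k A] [Algebra k B]
    [Algebra A B] [IsScalarTower k A B]
    (r : B →ₗ[A] A)
    {A' B' : Type u} [CommRing A'] [CommRing B']
    (πA : A' →+* A) (πB : B' →+* B) (φ' : A' →+* B')

/-- `y ≡ φ' x` modulo `p ·` (lifts of `ker r`). -/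
def Rel (y : B') (x : A') : Prop :=
  ∃ w : B', y - φ' x = (p : B') * w ∧ r (πB w) = 0

variable {p r πA πB φ'}

omit [Fact p.Prime] [CharP k p] [PerfectRing k p] [Algebra k A] [Algebra k B]
  [IsScalarTower k A B] in
theorem rel_zero : Rel p r πB φ' 0 0 := ⟨0, by simp, by simp⟩

omit [Fact p.Prime] [CharP k p] [PerfectRing k p] [Algebra k A] [Algebra k B]
  [IsScalarTower k A B] in
theorem rel_phi (x : A') : Rel p r πB φ' (φ' x) x := ⟨0, by simp, by simp⟩

omit [Fact p.Prime] [CharP k p] [PerfectRing k p] [Algebra k A] [Algebra k B]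
  [IsScalarTower k A B] in
theorem rel_add {y₁ y₂ : B'} {x₁ x₂ : A'} (h₁ : Rel p r πB φ' y₁ x₁) (h₂ : Rel p r πB φ' y₂ x₂) :
    Rel p r πB φ' (y₁ + y₂) (x₁ + x₂) := by
  obtain ⟨w₁, e₁, z₁⟩ := h₁
  obtain ⟨w₂, e₂, z₂⟩ := h₂
  refine ⟨w₁ + w₂, ?_, ?_⟩
  · rw [map_add, mul_add, ← e₁, ← e₂]; ring
  · rw [map_add, map_add, z₁, z₂, add_zero]

omit [Fact p.Prime] [CharP k p] [PerfectRing k p] [Algebra k A] [Algebra k B]
  [IsScalarTower k A B] in
theorem rel_pi (hpB : (p : B) = 0) (hφπ : πB.comp φ' = (algebraMap A B).comp πA)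
    {y : B'} {x : A'} (h : Rel p r πB φ' y x) : πB y = algebraMap A B (πA x) := by
  obtain ⟨w, e, -⟩ := h
  have h1 : πB (φ' x) = algebraMap A B (πA x) := by
    rw [← RingHom.comp_apply, hφπ, RingHom.comp_apply]
  have h2 : πB (y - φ' x) = 0 := by
    rw [e, map_mul, map_natCast, hpB, zero_mul]
  rw [map_sub, sub_eq_zero] at h2
  rw [h2, h1]

omit [Fact p.Prime] [CharP k p] [PerfectRing k p] [Algebra k A] [Algebra k B]
  [IsScalarTower k A B] in
theorem rel_mul (hpB : (p : B) = 0) (hφπ : πB.comp φ' = (algebraMap A B).comp πA)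
    {y₁ y₂ : B'} {x₁ x₂ : A'} (h₁ : Rel p r πB φ' y₁ x₁) (h₂ : Rel p r πB φ' y₂ x₂) :
    Rel p r πB φ' (y₁ * y₂) (x₁ * x₂) := by
  have hy₂ := rel_pi hpB hφπ h₂
  obtain ⟨w₁, e₁, z₁⟩ := h₁
  obtain ⟨w₂, e₂, z₂⟩ := h₂
  refine ⟨w₁ * y₂ + φ' x₁ * w₂, ?_, ?_⟩
  · rw [map_mul]
    linear_combination y₂ * e₁ + φ' x₁ * e₂
  · have h1 : πB (φ' x₁) = algebraMap A B (πA x₁) := by
      rw [← RingHom.comp_apply, hφπ, RingHom.comp_apply]
    rw [map_add, map_mul, map_mul, hy₂, h1, map_add, mul_comm (πB w₁), ← Algebra.smul_def,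
      ← Algebra.smul_def, map_smul, map_smul, z₁, z₂, smul_zero, smul_zero, add_zero]

omit [IsScalarTower k A B] in
theorem rel_unique (hr : ∀ a : A, r (algebraMap A B a) = a)
    {ιA : FrobAlg.W2 p k →+* A'} (hA : FrobAlg.IsLift p k A A' ιA πA)
    {ιB : FrobAlg.W2 p k →+* B'} (hB : FrobAlg.IsLift p k B B' ιB πB)
    (hφπ : πB.comp φ' = (algebraMap A B).comp πA)
    {y : B'} {x x' : A'} (h : Rel p r πB φ' y x) (h' : Rel p r πB φ' y x') : x = x' := by
  have hcomm : ∀ a : A', πB (φ' a) = algebraMap A B (πA a) := fun a => by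
    rw [← RingHom.comp_apply, hφπ, RingHom.comp_apply]
  have hinj : ∀ a : A, algebraMap A B a = 0 → a = 0 := fun a ha => by
    rw [← hr a, ha, map_zero]
  obtain ⟨w, e, z⟩ := h
  obtain ⟨w', e', z'⟩ := h'
  -- φ' (x' - x) = p * (w - w')
  have hd : φ' (x' - x) = (p : B') * (w - w') := by
    rw [map_sub]; linear_combination e - e'
  have hz : r (πB (w - w')) = 0 := by rw [map_sub, map_sub, z, z', sub_zero]
  have h1 : πA (x' - x) = 0 := by
    apply hinj
    rw [← hcomm, hd, map_mul, map_natCast, natCast_eq_zero_of_algebra p k B, zero_mul]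
  obtain ⟨e₁, he₁⟩ := (IsLift.mem_ker_iff hA _).1 h1
  have h2 : (p : B') * (φ' e₁ - (w - w')) = 0 := by
    rw [mul_sub, ← hd, he₁, map_mul, map_natCast, sub_self]
  rw [IsLift.p_mul_eq_zero_iff hB, map_sub, sub_eq_zero, hcomm] at h2
  have h3 : πA e₁ = 0 := by
    rw [← hr (πA e₁), h2, hz]
  obtain ⟨e₂, he₂⟩ := (IsLift.mem_ker_iff hA _).1 h3
  have : x' - x = 0 := by
    rw [he₁, he₂, ← mul_assoc, p_mul_p_of_ringHom ιA, zero_mul]
  exact (sub_eq_zero.1 this).symm

omit [IsScalarTower k A B] in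
theorem rel_exists (hr : ∀ a : A, r (algebraMap A B a) = a)
    {ιA : FrobAlg.W2 p k →+* A'} (hA : FrobAlg.IsLift p k A A' ιA πA)
    {ιB : FrobAlg.W2 p k →+* B'} (hB : FrobAlg.IsLift p k B B' ιB πB)
    (hφπ : πB.comp φ' = (algebraMap A B).comp πA)
    {y : B'} (hy : ∃ a : A, πB y = algebraMap A B a) : ∃ x : A', Rel p r πB φ' y x := by
  have hcomm : ∀ a : A', πB (φ' a) = algebraMap A B (πA a) := fun a => by
    rw [← RingHom.comp_apply, hφπ, RingHom.comp_apply]
  obtain ⟨a, ha⟩ := hy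
  obtain ⟨x₀, rfl⟩ := hA.surj a
  have h0 : πB (y - φ' x₀) = 0 := by rw [map_sub, ha, hcomm, sub_self]
  obtain ⟨w, hw⟩ := (IsLift.mem_ker_iff hB _).1 h0
  obtain ⟨x₁, hx₁⟩ := hA.surj (r (πB w))
  refine ⟨x₀ + p * x₁, w - φ' x₁, ?_, ?_⟩
  · rw [map_add, map_mul, map_natCast]
    linear_combination hw
  · rw [map_sub, map_sub, hcomm, hr, hx₁, sub_self]

end retraction

/-- Descent of Frobenius liftings along a map with a linear retraction. -/
theorem exists_frobLift_of_retraction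
    (p : ℕ) [Fact p.Prime] (k : Type u) [Field k] [CharP k p] [PerfectRing k p]
    (A B : Type u) [CommRing A] [CommRing B] [Algebra k A] [Algebra k B]
    [Algebra A B] [IsScalarTower k A B]
    (r : B →ₗ[A] A) (hr : ∀ a : A, r (algebraMap A B a) = a)
    (A' B' : Type u) [CommRing A'] [CommRing B']
    (ιA : FrobAlg.W2 p k →+* A') (πA : A' →+* A) (hA : FrobAlg.IsLift p k A A' ιA πA)
    (ιB : FrobAlg.W2 p k →+* B') (πB : B' →+* B) (hB : FrobAlg.IsLift p k B B' ιB πB)
    (φ' : A' →+* B') (hφι : φ'.comp ιA = ιB) (hφπ : πB.comp φ' = (algebraMap A B).comp πA)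
    (ΦB : B' →+* B') (hΦB : FrobAlg.IsFrobLift p k B B' ιB πB ΦB) :
    ∃ ΦA : A' →+* A', FrobAlg.IsFrobLift p k A A' ιA πA ΦA := by
  have hcomm : ∀ a : A', πB (φ' a) = algebraMap A B (πA a) := fun a => by
    rw [← RingHom.comp_apply, hφπ, RingHom.comp_apply]
  have hinj : Function.Injective (algebraMap A B) := fun a b hab => by
    rw [← hr a, hab, hr]
  have hex : ∀ x : A', ∃ x', Rel p r πB φ' (ΦB (φ' x)) x' := fun x =>
    rel_exists hr hA hB hφπ ⟨(πA x) ^ p, by rw [hΦB.red, hcomm, map_pow]⟩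
  choose F hF using hex
  have huniq : ∀ {y : B'} {x x' : A'}, Rel p r πB φ' y x → Rel p r πB φ' y x' → x = x' :=
    fun h h' => rel_unique hr hA hB hφπ h h'
  refine ⟨{ toFun := F, map_one' := ?_, map_mul' := ?_, map_zero' := ?_, map_add' := ?_ }, hA, ?_, ?_⟩
  · refine huniq (hF 1) ?_
    have : ΦB (φ' 1) = φ' 1 := by rw [map_one, map_one]
    rw [this]
    exact rel_phi 1
  · intro x y
    refine huniq (hF (x * y)) ?_
    rw [map_mul, map_mul]
    exact rel_mul (natCast_eq_zero_of_algebra p k B) hφπ (hF x) (hF y)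
  · refine huniq (hF 0) ?_
    rw [map_zero, map_zero]
    exact rel_zero
  · intro x y
    refine huniq (hF (x + y)) ?_
    rw [map_add, map_add]
    exact rel_add (hF x) (hF y)
  · ext w
    change F (ιA w) = ιA (FrobAlg.sigma p k w)
    refine huniq (hF (ιA w)) ?_
    have h1 : φ' (ιA w) = ιB w := by rw [← RingHom.comp_apply, hφι]
    have h2 : ΦB (ιB w) = ιB (FrobAlg.sigma p k w) := by
      rw [← RingHom.comp_apply, hΦB.semi, RingHom.comp_apply]
    rw [h1, h2, ← hφι, RingHom.comp_apply]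
    exact rel_phi _
  · intro x
    change πA (F x) = πA x ^ p
    apply hinj
    rw [← rel_pi (natCast_eq_zero_of_algebra p k B) hφπ (hF x), hΦB.red, hcomm, map_pow]

end Groth.Agent.H65.W2B
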