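import Groth.Agent.H65.W2Arith
import Groth.Agent.H65.W2Lift

/-!
# The ring of twisted Witt vectors of a Frobenius-split algebra is a flat lifting over `W₂(k)`
-/

set_option autoImplicit false
universe u v

namespace Groth.Agent.H65.W2A

open Groth.Agent.H65.W2B

section

variable (p : ℕ) [hp : Fact p.Prime] (A : Type u) [CommRing A] (hpA : (p : A) = 0) (φ : A →+ A)
  (hφ : ∀ a b : A, φ (a ^ p * b) = a * φ b)

include hpA hφ in
theorem mem_splitIdeal_iff (x : FrobAlg.W2 p A) :
    x ∈ FrobAlg.splitIdeal p A φ ↔ x.coeff 0 = 0 ∧ φ (x.coeff 1) = 0 := by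
  constructor
  · intro hx
    unfold FrobAlg.splitIdeal at hx
    induction hx using Submodule.span_induction with
    | mem y hy =>
      obtain ⟨h0, h1⟩ := hy
      rw [FrobAlg.res_apply] at h0
      exact ⟨h0, h1⟩
    | zero =>
      rw [TruncatedWittVector.coeff_zero, TruncatedWittVector.coeff_zero, map_zero]
      exact ⟨rfl, rfl⟩
    | add y z _ _ hy hz =>
      refine ⟨by rw [coeff_zero_add, hy.1, hz.1, add_zero], ?_⟩
      rw [add_coeff_one_of_coeff_zero hy.1 hz.1, map_add, hy.2, hz.2, add_zero]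
    | smul a y _ hy =>
      rw [smul_eq_mul]
      refine ⟨by rw [coeff_zero_mul, hy.1, mul_zero], ?_⟩
      rw [mul_coeff_one_of_coeff_zero hpA a hy.1, hφ, hy.2, mul_zero]
  · rintro ⟨h0, h1⟩
    apply Ideal.subset_span
    exact ⟨by rw [FrobAlg.res_apply]; exact h0, h1⟩

end

theorem isLift_split (p : ℕ) [Fact p.Prime] (k : Type u) [Field k] [CharP k p] [PerfectRing k p]
    (A : Type u) [CommRing A] [Algebra k A] (φ : A →+ A)
    (hφ : ∀ a b : A, φ (a ^ p * b) = a * φ b) (hφ1 : φ 1 = 1) :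
    FrobAlg.IsLift p k A (FrobAlg.W2 p A ⧸ FrobAlg.splitIdeal p A φ)
      ((Ideal.Quotient.mk (FrobAlg.splitIdeal p A φ)).comp
        (WittGrp.truncMap p 2 (algebraMap k A)))
      (FrobAlg.splitRes p A φ) := by
  have hpA : (p : A) = 0 := natCast_eq_zero_of_algebra p k A
  have hmem := mem_splitIdeal_iff p A hpA φ hφ
  have hres_mk : ∀ x : FrobAlg.W2 p A,
      FrobAlg.splitRes p A φ (Ideal.Quotient.mk _ x) = x.coeff 0 := by
    intro x
    rw [FrobAlg.splitRes, Ideal.Quotient.lift_mk, FrobAlg.res_apply]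
  have hφpow : ∀ a : A, φ (a ^ p) = a := by
    intro a
    have := hφ a 1
    rwa [mul_one, hφ1, mul_one] at this
  -- kernel elements are multiples of p
  have hker : ∀ x : FrobAlg.W2 p A ⧸ FrobAlg.splitIdeal p A φ,
      FrobAlg.splitRes p A φ x = 0 →
        ∃ y, x = (p : FrobAlg.W2 p A ⧸ FrobAlg.splitIdeal p A φ) * y := by
    intro x hx
    obtain ⟨x, rfl⟩ := Ideal.Quotient.mk_surjective x
    rw [hres_mk] at hx
    refine ⟨Ideal.Quotient.mk _ (tt (φ (x.coeff 1))), ?_⟩
    rw [← map_natCast (Ideal.Quotient.mk (FrobAlg.splitIdeal p A φ)), ← map_mul,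
      Ideal.Quotient.eq, hmem]
    set y : FrobAlg.W2 p A := (p : FrobAlg.W2 p A) * tt (φ (x.coeff 1)) with hy
    have hy0 : y.coeff 0 = 0 := p_mul_coeff_zero hpA _
    have hy1 : y.coeff 1 = φ (x.coeff 1) ^ p := by
      rw [hy, p_mul_coeff_one hpA, tt_coeff_zero]
    have hd0 : (x - y).coeff 0 = 0 := by
      have := coeff_zero_add (x - y) y
      rw [sub_add_cancel, hx, hy0, add_zero] at this
      exact this.symm
    refine ⟨hd0, ?_⟩
    have h1 := add_coeff_one_of_coeff_zero hd0 hy0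
    rw [sub_add_cancel, hy1] at h1
    have : (x - y).coeff 1 = x.coeff 1 - φ (x.coeff 1) ^ p := eq_sub_of_add_eq h1.symm
    rw [this, map_sub, hφpow, sub_self]
  have hpi_p : FrobAlg.splitRes p A φ (p : FrobAlg.W2 p A ⧸ FrobAlg.splitIdeal p A φ) = 0 := by
    rw [map_natCast, hpA]
  refine ⟨?_, ?_, ?_, ?_⟩
  · -- flat
    rw [flat_iff_ringHom]
    intro x hx
    apply hker
    obtain ⟨x, rfl⟩ := Ideal.Quotient.mk_surjective x
    rw [← map_natCast (Ideal.Quotient.mk (FrobAlg.splitIdeal p A φ)), ← map_mul,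
      Ideal.Quotient.eq_zero_iff_mem, hmem, p_mul_coeff_one hpA, hφpow] at hx
    rw [hres_mk]
    exact hx.2
  · -- surjective
    intro a
    exact ⟨Ideal.Quotient.mk _ (tt a), by rw [hres_mk, tt_coeff_zero]⟩
  · -- kernel
    rw [ker_res, Ideal.map_span, Set.image_singleton, map_natCast]
    ext x
    rw [RingHom.mem_ker, Ideal.mem_span_singleton']
    constructor
    · intro hx
      obtain ⟨y, rfl⟩ := hker x hx
      exact ⟨y, mul_comm _ _⟩
    · rintro ⟨y, rfl⟩
      rw [map_mul, hpi_p, mul_zero]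
  · -- compatibility
    ext w
    simp only [RingHom.comp_apply]
    rw [hres_mk, WittGrp.coeff_truncMap, FrobAlg.res_apply]

end Groth.Agent.H65.W2A
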