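import Groth.Agent.H65.W2Arith
import Groth.Agent.H65.W2Lift

/-!
# Frobenius liftings and homomorphisms to `W₂(A)`

For a flat lifting `(B, ι, π)` of `A` over `W₂(k)`:
* `ringHom_W2k_ext` : ring homs `W₂(k) → B` agreeing after `π` are equal;
* `g h : W₂(A) →+* B`, `(a₀, a₁) ↦ ã₀^p + p ã₁`;
* `exists_frobLift_iff_exists_theta`.
-/

set_option autoImplicit false
universe u v

open WittVector

namespace Groth.Agent.H65.W2T

open Groth.Agent.H65.W2B Groth.Agent.H65.W2A

section

variable {p : ℕ} [hp : Fact p.Prime] {k : Type u} [Field k] [CharP k p] [PerfectRing k p]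
  {A : Type u} [CommRing A] [Algebra k A] {B : Type u} [CommRing B]
  {ι : FrobAlg.W2 p k →+* B} {π : B →+* A} (h : FrobAlg.IsLift p k A B ι π)

include h

theorem p_mul_eq_of_pi_eq {b b' : B} (hb : π b = π b') : (p : B) * b = p * b' := by
  have h1 : π (b - b') = 0 := by rw [map_sub, hb, sub_self]
  obtain ⟨c, hc⟩ := (IsLift.mem_ker_iff h _).1 h1
  have hpp := p_mul_p_of_ringHom ι
  have : (p : B) * (b - b') = 0 := by rw [hc, ← mul_assoc, hpp, zero_mul]
  linear_combination this

theorem pow_p_eq_of_pi_eq {b b' : B} (hb : π b = π b') : b ^ p = b' ^ p := by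
  have hpA : (p : A) = 0 := natCast_eq_zero_of_algebra p k A
  have h1 : π (b - b') = 0 := by rw [map_sub, hb, sub_self]
  obtain ⟨c, hc⟩ := (IsLift.mem_ker_iff h _).1 h1
  have hpp := p_mul_p_of_ringHom ι
  have hs : π (∑ i ∈ Finset.range p, b ^ i * b' ^ (p - 1 - i)) = 0 := by
    rw [map_sum]
    have : ∀ i ∈ Finset.range p, π (b ^ i * b' ^ (p - 1 - i)) = π b ^ (p - 1) := by
      intro i hi
      rw [Finset.mem_range] at hi
      rw [map_mul, map_pow, map_pow, ← hb, ← pow_add]
      congr 1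
      omega
    rw [Finset.sum_congr rfl this, Finset.sum_const, Finset.card_range, nsmul_eq_mul, hpA,
      zero_mul]
  obtain ⟨d, hd⟩ := (IsLift.mem_ker_iff h _).1 hs
  have hg := Commute.geom_sum₂_mul (Commute.all b b') p
  rw [hd, hc] at hg
  have : b ^ p - b' ^ p = 0 := by
    rw [← hg]; linear_combination (d * c) * hpp
  exact sub_eq_zero.1 this

/-- Ring homomorphisms from `W₂(k)` (`k` perfect) to a flat lifting are determined modulo `p`. -/
theorem ringHom_W2k_ext (f₁ f₂ : FrobAlg.W2 p k →+* B) (hf : π.comp f₁ = π.comp f₂) :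
    f₁ = f₂ := by
  ext w
  obtain ⟨c, hc⟩ := surjective_frobenius k p (FrobAlg.res p k w)
  obtain ⟨x, hx⟩ := res_surjective p k c
  have hmem : w - x ^ p ∈ RingHom.ker (FrobAlg.res p k) := by
    rw [RingHom.mem_ker, map_sub, map_pow, hx, ← frobenius_def, hc, sub_self]
  rw [ker_res, Ideal.mem_span_singleton'] at hmem
  obtain ⟨y, hy⟩ := hmem
  have hw : w = x ^ p + (p : FrobAlg.W2 p k) * y := by linear_combination -hy
  rw [hw, map_add, map_add, map_pow, map_pow, map_mul, map_mul, map_natCast, map_natCast]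
  congr 1
  · exact pow_p_eq_of_pi_eq h (RingHom.congr_fun hf x)
  · exact p_mul_eq_of_pi_eq h (RingHom.congr_fun hf y)

/-- a set-theoretic section of `π` -/
noncomputable def sec (a : A) : B := (h.surj a).choose

omit [CharP k p] [PerfectRing k p] in
theorem pi_sec (a : A) : π (sec h a) = a := (h.surj a).choose_spec

/-- the function underlying `g` -/
noncomputable def gfun (x : FrobAlg.W2 p A) : B :=
  sec h (x.coeff 0) ^ p + (p : B) * sec h (x.coeff 1)

theorem gfun_eq (x : FrobAlg.W2 p A) {b₀ b₁ : B} (h0 : π b₀ = x.coeff 0) (h1 : π b₁ = x.coeff 1) :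
    gfun h x = b₀ ^ p + (p : B) * b₁ := by
  rw [gfun, pow_p_eq_of_pi_eq h (b := sec h (x.coeff 0)) (b' := b₀) (by rw [pi_sec, h0]),
    p_mul_eq_of_pi_eq h (b := sec h (x.coeff 1)) (b' := b₁) (by rw [pi_sec, h1])]

theorem gfun_truncate_map (Z : WittVector p B) :
    gfun h (WittVector.truncate 2 (WittVector.map π Z)) = WittVector.ghostComponent 1 Z := by
  rw [gfun_eq h _ (b₀ := Z.coeff 0) (b₁ := Z.coeff 1)
    (by rw [coeff_zero_truncate, WittVector.map_coeff])
    (by rw [coeff_one_truncate, WittVector.map_coeff]),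
    WittVector.ghostComponent_apply, wittPolynomial_one]
  simp only [map_add, map_mul, map_pow, MvPolynomial.aeval_X, map_natCast]
  ring

omit [CharP k p] [PerfectRing k p] in
theorem exists_lift (x : FrobAlg.W2 p A) :
    ∃ Z : WittVector p B, WittVector.truncate 2 (WittVector.map π Z) = x := by
  obtain ⟨X, rfl⟩ := WittVector.truncate_surjective p 2 A x
  obtain ⟨Z, rfl⟩ := WittVector.map_surjective π h.surj X
  exact ⟨Z, rfl⟩

/-- The ring homomorphism `W₂(A) → B`, `(a₀, a₁) ↦ ã₀^p + p ã₁`. -/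
noncomputable def g : FrobAlg.W2 p A →+* B where
  toFun := gfun h
  map_one' := by
    have := gfun_truncate_map h 1
    rwa [map_one, map_one, map_one] at this
  map_mul' x y := by
    obtain ⟨X, rfl⟩ := exists_lift h x
    obtain ⟨Y, rfl⟩ := exists_lift h y
    rw [← map_mul, ← map_mul, gfun_truncate_map, gfun_truncate_map, gfun_truncate_map, map_mul]
  map_zero' := by
    have := gfun_truncate_map h 0
    rwa [map_zero, map_zero, map_zero] at this
  map_add' x y := by
    obtain ⟨X, rfl⟩ := exists_lift h x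
    obtain ⟨Y, rfl⟩ := exists_lift h y
    rw [← map_add, ← map_add, gfun_truncate_map, gfun_truncate_map, gfun_truncate_map, map_add]

theorem g_apply (x : FrobAlg.W2 p A) :
    g h x = sec h (x.coeff 0) ^ p + (p : B) * sec h (x.coeff 1) := rfl

theorem pi_g (x : FrobAlg.W2 p A) : π (g h x) = x.coeff 0 ^ p := by
  rw [g_apply, map_add, map_pow, pi_sec, map_mul, map_natCast,
    natCast_eq_zero_of_algebra p k A, zero_mul, add_zero]

theorem g_injective {x y : FrobAlg.W2 p A} (h0 : x.coeff 0 = y.coeff 0) (hg : g h x = g h y) :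
    x = y := by
  apply ext2 h0
  rw [g_apply, g_apply, h0] at hg
  have h1 : (p : B) * (sec h (x.coeff 1) - sec h (y.coeff 1)) = 0 := by
    linear_combination hg
  rw [IsLift.p_mul_eq_zero_iff h, map_sub, pi_sec, pi_sec, sub_eq_zero] at h1
  exact h1

theorem g_exists (b : B) (a : A) (hba : π b = a ^ p) :
    ∃ x : FrobAlg.W2 p A, g h x = b ∧ x.coeff 0 = a := by
  have h1 : π (b - sec h a ^ p) = 0 := by rw [map_sub, map_pow, pi_sec, hba, sub_self]
  obtain ⟨c, hc⟩ := (IsLift.mem_ker_iff h _).1 h1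
  refine ⟨mk2 a (π c), ?_, mk2_coeff_zero a (π c)⟩
  rw [g_apply, mk2_coeff_zero, mk2_coeff_one, p_mul_eq_of_pi_eq h (pi_sec h (π c)), ← hc]
  ring

end

/-- **Frobenius liftings ↔ homomorphisms to `W₂(A)`.** -/
theorem exists_frobLift_iff_exists_theta
    (p : ℕ) [Fact p.Prime] (k : Type u) [Field k] [CharP k p] [PerfectRing k p]
    (A B : Type u) [CommRing A] [Algebra k A] [CommRing B]
    (ι : FrobAlg.W2 p k →+* B) (π : B →+* A) (hB : FrobAlg.IsLift p k A B ι π) :
    (∃ Φ : B →+* B, FrobAlg.IsFrobLift p k A B ι π Φ) ↔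
      ∃ θ : B →+* FrobAlg.W2 p A,
        (FrobAlg.res p A).comp θ = π ∧ θ.comp ι = WittGrp.truncMap p 2 (algebraMap k A) := by
  have hpiι : ∀ w, π (ι w) = algebraMap k A (FrobAlg.res p k w) := fun w => by
    rw [← RingHom.comp_apply, hB.comm, RingHom.comp_apply]
  have hressig : ∀ w, FrobAlg.res p k (FrobAlg.sigma p k w) = FrobAlg.res p k w ^ p := fun w => by
    rw [FrobAlg.res_apply, FrobAlg.res_apply, WittGrp.coeff_frob]
  constructor
  · rintro ⟨Φ, hΦ⟩
    have hex : ∀ b : B, ∃ x : FrobAlg.W2 p A, g hB x = Φ b ∧ x.coeff 0 = π b :=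
      fun b => g_exists hB (Φ b) (π b) (hΦ.red b)
    choose θ hθg hθ0 using hex
    have hinj : ∀ {x y : FrobAlg.W2 p A}, x.coeff 0 = y.coeff 0 → g hB x = g hB y → x = y :=
      fun h0 hg => g_injective hB h0 hg
    refine ⟨{ toFun := θ, map_one' := ?_, map_mul' := ?_, map_zero' := ?_, map_add' := ?_ },
      ?_, ?_⟩
    · apply hinj
      · rw [hθ0, map_one]
        have := map_one (FrobAlg.res p A)
        rw [FrobAlg.res_apply] at this
        exact this.symm
      · rw [hθg, map_one, map_one]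
    · intro b c
      apply hinj
      · rw [hθ0, coeff_zero_mul, hθ0, hθ0, map_mul]
      · rw [hθg, map_mul, map_mul, hθg, hθg]
    · apply hinj
      · rw [hθ0, map_zero, TruncatedWittVector.coeff_zero]
      · rw [hθg, map_zero, map_zero]
    · intro b c
      apply hinj
      · rw [hθ0, coeff_zero_add, hθ0, hθ0, map_add]
      · rw [hθg, map_add, map_add, hθg, hθg]
    · ext b
      change FrobAlg.res p A (θ b) = π b
      rw [FrobAlg.res_apply, hθ0]
    · ext1 w
      change θ (ι w) = WittGrp.truncMap p 2 (algebraMap k A) w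
      apply hinj
      · rw [hθ0, WittGrp.coeff_truncMap, hpiι, FrobAlg.res_apply]
      · rw [hθg]
        have h1 : Φ (ι w) = ι (FrobAlg.sigma p k w) := by
          rw [← RingHom.comp_apply, hΦ.semi, RingHom.comp_apply]
        rw [h1]
        have h2 : ι.comp (FrobAlg.sigma p k) =
            (g hB).comp (WittGrp.truncMap p 2 (algebraMap k A)) := by
          apply ringHom_W2k_ext hB
          ext w'
          simp only [RingHom.comp_apply]
          rw [pi_g, WittGrp.coeff_truncMap, hpiι, hressig, map_pow, FrobAlg.res_apply]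
        exact RingHom.congr_fun h2 w
  · rintro ⟨θ, hθ1, -⟩
    have hθ0 : ∀ b, (θ b).coeff 0 = π b := fun b => by
      rw [← FrobAlg.res_apply, ← RingHom.comp_apply, hθ1]
    refine ⟨(g hB).comp θ, hB, ?_, ?_⟩
    · apply ringHom_W2k_ext hB
      ext w
      simp only [RingHom.comp_apply]
      rw [pi_g, hθ0, hpiι, hpiι, hressig, map_pow]
    · intro b
      rw [RingHom.comp_apply, pi_g, hθ0]

end Groth.Agent.H65.W2T
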