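import Mathlib

/-!
# Weil restriction of a finitely presented algebra along a finite free ring map

For commutative rings `K → B` with `B` finite free over `K` and a finitely presented `B`-algebra
`B1`, we construct a finitely presented `K`-algebra `W` and `ι : B1 →ₐ[B] B ⊗[K] W` such that
`φ ↦ (id ⊗ φ) ∘ ι` is a bijection `(W →ₐ[K] C) ≃ (B1 →ₐ[B] B ⊗[K] C)` for all `K`-algebras `C`.
If `B1` is formally étale over `B`, then `W` is formally étale over `K`.
-/

universe u v w

open scoped TensorProduct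
open MvPolynomial

namespace Groth.Agent.H65.WeilRestrAlg

noncomputable section

section Coord

variable {K : Type*} {B : Type*} [CommRing K] [CommRing B] [Algebra K B]
variable {κ : Type*} [Fintype κ] (b : Module.Basis κ K B)
variable (C : Type*) [CommRing C] [Algebra K C]

/-- The `k`-th coordinate `B ⊗[K] C → C` with respect to the `C`-basis `b k ⊗ 1`. -/
def coord (k : κ) : B ⊗[K] C →ₗ[K] C :=
  (TensorProduct.lid K C).toLinearMap ∘ₗ LinearMap.rTensor C (b.coord k)

omit [Fintype κ] in
@[simp] lemma coord_tmul (k : κ) (x : B) (c : C) :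
    coord b C k (x ⊗ₜ c) = b.repr x k • c := by
  simp [coord]

lemma sum_coord (z : B ⊗[K] C) : ∑ k, b k ⊗ₜ[K] coord b C k z = z := by
  induction z using TensorProduct.induction_on with
  | zero => simp
  | tmul x c =>
    simp only [coord_tmul]
    conv_rhs => rw [← b.sum_repr x, TensorProduct.sum_tmul]
    refine Finset.sum_congr rfl fun k _ => ?_
    rw [TensorProduct.smul_tmul]
  | add x y hx hy =>
    simp only [map_add, TensorProduct.tmul_add, Finset.sum_add_distrib, hx, hy]

lemma eq_zero_of_coord (z : B ⊗[K] C) (h : ∀ k, coord b C k z = 0) : z = 0 := by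
  rw [← sum_coord b C z]; simp [h]

lemma eq_of_coord (z z' : B ⊗[K] C) (h : ∀ k, coord b C k z = coord b C k z') : z = z' := by
  rw [← sub_eq_zero]
  apply eq_zero_of_coord b C
  intro k
  rw [map_sub, h k, sub_self]

lemma coord_sum_tmul [DecidableEq κ] (c : κ → C) (k : κ) :
    coord b C k (∑ l, b l ⊗ₜ[K] c l) = c k := by
  simp [map_sum, coord_tmul, Finsupp.single_apply]

variable {C} in
omit [Fintype κ] in
lemma coord_map {C' : Type*} [CommRing C'] [Algebra K C'] (φ : C →ₐ[K] C') (k : κ)
    (z : B ⊗[K] C) :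
    coord b C' k (Algebra.TensorProduct.map (AlgHom.id B B) φ z) = φ (coord b C k z) := by
  induction z using TensorProduct.induction_on with
  | zero => simp
  | tmul x c => simp [coord_tmul, map_smul]
  | add x y hx hy => simp only [map_add, hx, hy]

end Coord

section Construction

variable {K B B1 : Type*} [CommRing K] [CommRing B] [Algebra K B] [CommRing B1] [Algebra B B1]
variable {κ : Type*} [Fintype κ] (b : Module.Basis κ K B)
variable {σ : Type*}

/-- The universal map `B[X_i] → B ⊗[K] K[Y_{ik}]`, `X_i ↦ ∑ₖ b k ⊗ Y_{ik}`. -/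
def ιP : MvPolynomial σ B →ₐ[B] B ⊗[K] MvPolynomial (σ × κ) K :=
  MvPolynomial.aeval (fun i => ∑ k, b k ⊗ₜ[K] (X (i, k) : MvPolynomial (σ × κ) K))

@[simp] lemma ιP_X (i : σ) :
    ιP b (X i : MvPolynomial σ B) = ∑ k, b k ⊗ₜ[K] (X (i, k) : MvPolynomial (σ × κ) K) := by
  simp [ιP]

variable (s : Finset (MvPolynomial σ B))

/-- The ideal of relations: the coordinates of the images of the relations `h ∈ s`. -/
def J : Ideal (MvPolynomial (σ × κ) K) :=
  Ideal.span (Set.range fun p : s × κ => coord b _ p.2 (ιP b (p.1 : MvPolynomial σ B)))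

lemma J_fg : (J b s).FG := Submodule.fg_span (Set.finite_range _)

/-- The Weil restriction algebra. -/
abbrev W : Type _ := MvPolynomial (σ × κ) K ⧸ J b s

/-- The quotient map `K[Y_{ik}] → W`. -/
def q : MvPolynomial (σ × κ) K →ₐ[K] W b s := Ideal.Quotient.mkₐ K (J b s)

lemma q_surjective : Function.Surjective (q b s) := Ideal.Quotient.mkₐ_surjective K (J b s)

/-- `B[X_i] → B ⊗[K] W`. -/
def ιPW : MvPolynomial σ B →ₐ[B] B ⊗[K] W b s :=
  (Algebra.TensorProduct.map (AlgHom.id B B) (q b s)).comp (ιP b)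

lemma ιPW_eq_zero (h : MvPolynomial σ B) (hh : h ∈ s) : ιPW b s h = 0 := by
  apply eq_zero_of_coord b
  intro k
  rw [ιPW, AlgHom.comp_apply, coord_map]
  exact Ideal.Quotient.eq_zero_iff_mem.mpr (Ideal.subset_span ⟨(⟨h, hh⟩, k), rfl⟩)

variable (f : MvPolynomial σ B →ₐ[B] B1) (hf : Function.Surjective f)
  (hs : Ideal.span (s : Set (MvPolynomial σ B)) = RingHom.ker f)

include hs in
lemma ker_le : RingHom.ker f ≤ RingHom.ker (ιPW b s) := by
  rw [← hs, Ideal.span_le]
  intro h hh
  exact ιPW_eq_zero b s h hh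

/-- The universal `B`-algebra map `B1 → B ⊗[K] W`. -/
def ι : B1 →ₐ[B] B ⊗[K] W b s :=
  (Ideal.Quotient.liftₐ (RingHom.ker f) (ιPW b s) (fun _ ha => ker_le b s f hs ha)).comp
    (Ideal.quotientKerAlgEquivOfSurjective hf).symm.toAlgHom

lemma ι_apply (p : MvPolynomial σ B) : ι b s f hf hs (f p) = ιPW b s p := by
  have : (Ideal.quotientKerAlgEquivOfSurjective hf).symm (f p) = Ideal.Quotient.mk _ p := by
    apply (Ideal.quotientKerAlgEquivOfSurjective hf).injective
    rw [AlgEquiv.apply_symm_apply]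
    rfl
  rw [ι, AlgHom.comp_apply]
  change Ideal.Quotient.liftₐ _ _ _ ((Ideal.quotientKerAlgEquivOfSurjective hf).symm (f p)) = _
  rw [this]
  rfl

section Universal

variable (C : Type*) [CommRing C] [Algebra K C]

/-- The comparison map `(W →ₐ[K] C) → (B1 →ₐ[B] B ⊗[K] C)`. -/
def Φ (φ : W b s →ₐ[K] C) : B1 →ₐ[B] B ⊗[K] C :=
  (Algebra.TensorProduct.map (AlgHom.id B B) φ).comp (ι b s f hf hs)

lemma map_comp_map {C₁ C₂ C₃ : Type*} [CommRing C₁] [Algebra K C₁] [CommRing C₂] [Algebra K C₂]
    [CommRing C₃] [Algebra K C₃] (φ : C₁ →ₐ[K] C₂) (ψ : C₂ →ₐ[K] C₃) :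
    (Algebra.TensorProduct.map (AlgHom.id B B) ψ).comp
      (Algebra.TensorProduct.map (AlgHom.id B B) φ) =
    Algebra.TensorProduct.map (AlgHom.id B B) (ψ.comp φ) := by
  ext x
  simp

lemma Φ_injective : Function.Injective (Φ b s f hf hs C) := by
  classical
  intro φ φ' h
  have key : ∀ i k, φ (q b s (X (i, k))) = φ' (q b s (X (i, k))) := by
    intro i k
    have h1 := congrArg (fun ψ => coord b C k (ψ (f (X i)))) h
    simp only [Φ, AlgHom.comp_apply, ι_apply, ιPW, ιP_X, map_sum,
      Algebra.TensorProduct.map_tmul, AlgHom.id_apply] at h1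
    rw [← map_sum, ← map_sum, coord_sum_tmul b C (fun l => φ (q b s (X (i, l)))),
      coord_sum_tmul b C (fun l => φ' (q b s (X (i, l))))] at h1
    exact h1
  have h2 : φ.comp (q b s) = φ'.comp (q b s) :=
    MvPolynomial.algHom_ext (fun ⟨i, k⟩ => key i k)
  apply AlgHom.ext
  intro w
  obtain ⟨p, rfl⟩ := q_surjective b s w
  exact AlgHom.congr_fun h2 p

lemma Φ_surjective : Function.Surjective (Φ b s f hf hs C) := by
  classical
  intro ψ
  let φP : MvPolynomial (σ × κ) K →ₐ[K] C :=
    MvPolynomial.aeval (fun p => coord b C p.2 (ψ (f (X p.1))))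
  have h1 : ((Algebra.TensorProduct.map (AlgHom.id B B) φP).comp (ιP b) :
      MvPolynomial σ B →ₐ[B] B ⊗[K] C) = ψ.comp f := by
    apply MvPolynomial.algHom_ext
    intro i
    simp only [AlgHom.comp_apply, ιP_X, map_sum, Algebra.TensorProduct.map_tmul,
      AlgHom.id_apply, φP, aeval_X]
    exact sum_coord b C _
  have h2 : ∀ a ∈ J b s, φP a = 0 := by
    have : J b s ≤ RingHom.ker φP := by
      rw [J, Ideal.span_le]
      rintro _ ⟨⟨⟨h, hh⟩, k⟩, rfl⟩
      simp only [SetLike.mem_coe, RingHom.mem_ker]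
      rw [← coord_map, ← AlgHom.comp_apply, h1, AlgHom.comp_apply]
      have h0 : f h = 0 := by
        have : h ∈ RingHom.ker f := hs ▸ Ideal.subset_span hh
        exact this
      rw [h0, map_zero, map_zero]
    exact fun a ha => this ha
  let φ : W b s →ₐ[K] C := Ideal.Quotient.liftₐ (J b s) φP h2
  refine ⟨φ, ?_⟩
  have h3 : φ.comp (q b s) = φP := by
    apply AlgHom.ext
    intro x
    rfl
  apply AlgHom.ext
  intro y
  obtain ⟨p, rfl⟩ := hf y
  rw [Φ, AlgHom.comp_apply, ι_apply, ιPW, AlgHom.comp_apply, ← AlgHom.comp_apply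
    (Algebra.TensorProduct.map (AlgHom.id B B) φ), map_comp_map, h3, ← AlgHom.comp_apply, h1,
    AlgHom.comp_apply]

lemma Φ_bijective : Function.Bijective (Φ b s f hf hs C) :=
  ⟨Φ_injective b s f hf hs C, Φ_surjective b s f hf hs C⟩

lemma Φ_comp {C C' : Type*} [CommRing C] [Algebra K C] [CommRing C'] [Algebra K C']
    (φ : W b s →ₐ[K] C) (ψ : C →ₐ[K] C') :
    Φ b s f hf hs C' (ψ.comp φ) =
      (Algebra.TensorProduct.map (AlgHom.id B B) ψ).comp (Φ b s f hf hs C φ) := by
  rw [Φ, Φ, ← AlgHom.comp_assoc, map_comp_map]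

end Universal

section Etale

omit [Fintype κ] in
lemma isNilpotent_ker_map_mk (C : Type*) [CommRing C] [Algebra K C] (N : Ideal C)
    (hN : N ^ 2 = ⊥) :
    IsNilpotent (RingHom.ker ((Algebra.TensorProduct.map (AlgHom.id B B)
      (Ideal.Quotient.mkₐ K N) : B ⊗[K] C →ₐ[B] B ⊗[K] (C ⧸ N)) :
        B ⊗[K] C →+* B ⊗[K] (C ⧸ N))) := by
  have h1 : RingHom.ker ((Algebra.TensorProduct.map (AlgHom.id B B)
      (Ideal.Quotient.mkₐ K N) : B ⊗[K] C →ₐ[B] B ⊗[K] (C ⧸ N)) :
        B ⊗[K] C →+* B ⊗[K] (C ⧸ N)) =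
      RingHom.ker (Algebra.TensorProduct.map (AlgHom.id K B) (Ideal.Quotient.mkₐ K N)) := by
    ext x
    simp only [RingHom.mem_ker]
    have : ∀ x : B ⊗[K] C, (Algebra.TensorProduct.map (AlgHom.id B B)
        (Ideal.Quotient.mkₐ K N) : B ⊗[K] C →ₐ[B] B ⊗[K] (C ⧸ N)) x =
        Algebra.TensorProduct.map (AlgHom.id K B) (Ideal.Quotient.mkₐ K N) x := by
      intro x
      induction x using TensorProduct.induction_on with
      | zero => simp
      | tmul x c => simp
      | add x y hx hy => simp only [map_add, hx, hy]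
    exact (this x) ▸ Iff.rfl
  rw [h1, Algebra.TensorProduct.lTensor_ker _ (Ideal.Quotient.mkₐ_surjective K N),
    ← RingHom.ker_coe_toRingHom, Ideal.Quotient.mkₐ_ker]
  refine ⟨2, ?_⟩
  rw [← Ideal.map_pow, hN, Ideal.map_bot, Ideal.zero_eq_bot]

include hf hs in
/-- If `B1` is formally étale over `B`, the Weil restriction `W` is formally étale over `K`. -/
lemma formallyEtale [Algebra.FormallyEtale B B1] : Algebra.FormallyEtale K (W b s) := by
  rw [Algebra.FormallyEtale.iff_comp_bijective]
  intro C _ _ N hN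
  let g : B ⊗[K] C →ₐ[B] B ⊗[K] (C ⧸ N) :=
    Algebra.TensorProduct.map (AlgHom.id B B) (Ideal.Quotient.mkₐ K N)
  have hg : Function.Surjective g :=
    Algebra.TensorProduct.map_surjective _ _ Function.surjective_id
      (Ideal.Quotient.mkₐ_surjective K N)
  have hker : IsNilpotent (RingHom.ker (g : B ⊗[K] C →+* B ⊗[K] (C ⧸ N))) :=
    isNilpotent_ker_map_mk C N hN
  have nat : ∀ φ : W b s →ₐ[K] C, Φ b s f hf hs (C ⧸ N) ((Ideal.Quotient.mkₐ K N).comp φ) =
      g.comp (Φ b s f hf hs C φ) := fun φ => Φ_comp b s f hf hs φ _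
  constructor
  · intro φ φ' h
    apply Φ_injective b s f hf hs C
    apply Algebra.FormallyUnramified.lift_unique' g hker
    rw [← nat, ← nat, h]
  · intro ψ
    obtain ⟨φ, hφ⟩ := Φ_surjective b s f hf hs C
      (Algebra.FormallySmooth.liftOfSurjective (Φ b s f hf hs _ ψ) g hg hker)
    refine ⟨φ, ?_⟩
    apply Φ_injective b s f hf hs (C ⧸ N)
    rw [nat, hφ, Algebra.FormallySmooth.comp_liftOfSurjective]

end Etale

end Construction

section Canonical

variable (K : Type u) (B : Type v) (B1 : Type w) [CommRing K] [CommRing B] [Algebra K B]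
  [Module.Free K B] [Module.Finite K B] [CommRing B1] [Algebra B B1]
  [Algebra.FinitePresentation B B1]

/-- Chosen number of generators of `B1` over `B`. -/
def presN : ℕ := (Algebra.FinitePresentation.out (R := B) (A := B1)).choose

/-- Chosen presentation of `B1` over `B`. -/
def presF : MvPolynomial (Fin (presN B B1)) B →ₐ[B] B1 :=
  (Algebra.FinitePresentation.out (R := B) (A := B1)).choose_spec.choose

lemma presF_surjective : Function.Surjective (presF B B1) :=
  (Algebra.FinitePresentation.out (R := B) (A := B1)).choose_spec.choose_spec.1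

/-- Chosen finite set of relations of `B1` over `B`. -/
def presS : Finset (MvPolynomial (Fin (presN B B1)) B) :=
  (Algebra.FinitePresentation.out (R := B) (A := B1)).choose_spec.choose_spec.2.choose

lemma presS_span :
    Ideal.span (presS B B1 : Set (MvPolynomial (Fin (presN B B1)) B)) =
      RingHom.ker (presF B B1) :=
  (Algebra.FinitePresentation.out (R := B) (A := B1)).choose_spec.choose_spec.2.choose_spec

/-- A canonical (chosen) Weil restriction `Res_{B/K} B1` as a `K`-algebra. -/
abbrev WR : Type (max u v) := W (Module.Free.chooseBasis K B) (presS B B1)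

/-- The universal `B`-algebra map `B1 → B ⊗[K] WR K B B1`. -/
def WR.ι : B1 →ₐ[B] B ⊗[K] WR K B B1 :=
  WeilRestrAlg.ι (Module.Free.chooseBasis K B) (presS B B1) (presF B B1) (presF_surjective B B1)
    (presS_span B B1)

/-- Universal property of the Weil restriction (any universe for the test algebra `C`). -/
theorem WR.bijective (C : Type*) [CommRing C] [Algebra K C] :
    Function.Bijective (fun φ : WR K B B1 →ₐ[K] C =>
      (Algebra.TensorProduct.map (AlgHom.id B B) φ).comp (WR.ι K B B1)) :=
  Φ_bijective (Module.Free.chooseBasis K B) (presS B B1) (presF B B1) (presF_surjective B B1)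
    (presS_span B B1) C

/-- The universal property as an equivalence. -/
def WR.equiv (C : Type*) [CommRing C] [Algebra K C] :
    (WR K B B1 →ₐ[K] C) ≃ (B1 →ₐ[B] B ⊗[K] C) :=
  Equiv.ofBijective _ (WR.bijective K B B1 C)

lemma WR.equiv_apply (C : Type*) [CommRing C] [Algebra K C] (φ : WR K B B1 →ₐ[K] C) :
    WR.equiv K B B1 C φ =
      (Algebra.TensorProduct.map (AlgHom.id B B) φ).comp (WR.ι K B B1) := rfl

/-- Naturality of the universal property in the test algebra. -/
lemma WR.equiv_comp {C C' : Type*} [CommRing C] [Algebra K C] [CommRing C'] [Algebra K C']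
    (φ : WR K B B1 →ₐ[K] C) (ψ : C →ₐ[K] C') :
    WR.equiv K B B1 C' (ψ.comp φ) =
      (Algebra.TensorProduct.map (AlgHom.id B B) ψ).comp (WR.equiv K B B1 C φ) := by
  rw [WR.equiv_apply, WR.equiv_apply, ← AlgHom.comp_assoc, map_comp_map]

instance WR.finitePresentation : Algebra.FinitePresentation K (WR K B B1) :=
  Algebra.FinitePresentation.quotient (J_fg _ _)

instance WR.formallyEtale [Algebra.FormallyEtale B B1] : Algebra.FormallyEtale K (WR K B B1) :=
  WeilRestrAlg.formallyEtale (Module.Free.chooseBasis K B) (presS B B1) (presF B B1)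
    (presF_surjective B B1) (presS_span B B1)

instance WR.etale [Algebra.Etale B B1] : Algebra.Etale K (WR K B B1) where

end Canonical

section Main

variable (K B B1 : Type u) [CommRing K] [CommRing B] [Algebra K B]
  [Module.Free K B] [Module.Finite K B] [CommRing B1] [Algebra B B1]
  [Algebra.FinitePresentation B B1]

/-- **Weil restriction of algebras.** For `B` finite free over `K` and `B1` a finitely presented
`B`-algebra there is a finitely presented `K`-algebra `W` with `ι : B1 →ₐ[B] B ⊗[K] W`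
inducing bijections `(W →ₐ[K] C) ≃ (B1 →ₐ[B] B ⊗[K] C)`; `W` is formally étale over `K` if `B1`
is formally étale over `B`. -/
theorem exists_weilRestr :
    ∃ (W : Type u) (_ : CommRing W) (_ : Algebra K W) (ι : B1 →ₐ[B] B ⊗[K] W),
      Algebra.FinitePresentation K W ∧
      (∀ (C : Type u) [CommRing C] [Algebra K C], Function.Bijective
        (fun φ : W →ₐ[K] C => (Algebra.TensorProduct.map (AlgHom.id B B) φ).comp ι)) ∧
      (Algebra.FormallyEtale B B1 → Algebra.FormallyEtale K W) := by
  obtain ⟨n, f, hf, hfg⟩ := Algebra.FinitePresentation.out (R := B) (A := B1)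
  obtain ⟨s, hs⟩ := hfg
  let b := Module.Free.chooseBasis K B
  refine ⟨W b s, inferInstance, inferInstance, ι b s f hf hs, ?_,
    fun C _ _ => Φ_bijective b s f hf hs C, fun h => formallyEtale b s f hf hs⟩
  exact Algebra.FinitePresentation.quotient (J_fg b s)

/-- Étale version of `exists_weilRestr`. -/
theorem exists_weilRestr_etale [Algebra.Etale B B1] :
    ∃ (W : Type u) (_ : CommRing W) (_ : Algebra K W) (ι : B1 →ₐ[B] B ⊗[K] W),
      Algebra.Etale K W ∧
      (∀ (C : Type u) [CommRing C] [Algebra K C], Function.Bijective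
        (fun φ : W →ₐ[K] C => (Algebra.TensorProduct.map (AlgHom.id B B) φ).comp ι)) :=
  ⟨WR K B B1, inferInstance, inferInstance, WR.ι K B B1, inferInstance,
    fun C _ _ => WR.bijective K B B1 C⟩

end Main

end

end Groth.Agent.H65.WeilRestrAlg
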