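import Groth.Agent.H65.WeilRestrAlg

/-!
# Weil restriction of an étale algebra pulled back along a second map (unbundled core)

Rings `R → K` (étale), `K → B` (finite free) and a second, unrelated map `R → B`.
`B1 = B ⊗[R] K` is étale over `B`, and `W = Res_{B/K} B1` represents
`C ↦ {μ : K →+* B ⊗[K] C | μ ∘ (R → K) = (- ⊗ 1) ∘ (R → B)}`.
-/

universe u
open scoped TensorProduct

namespace Groth.Agent.H65.WeilRestrCore

open Groth.Agent.H65.WeilRestrAlg

noncomputable section

variable (R K B : Type u) [CommRing R] [CommRing K] [CommRing B] [Algebra R K] [Algebra R B]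
  [Algebra K B] [Module.Free K B] [Module.Finite K B] [Algebra.Etale R K]

/-- `B1 = B ⊗[R] K`, an étale `B`-algebra. -/
abbrev B1 : Type u := B ⊗[R] K

/-- The Weil restriction `W = Res_{B/K}(B ⊗[R] K)`. -/
abbrev W : Type u := WR K B (B1 R K B)

instance : Algebra.Etale K (W R K B) := inferInstance

/-- The universal map `K → B ⊗[K] W`. -/
def lamW : K →+* B ⊗[K] W R K B :=
  (WR.ι K B (B1 R K B)).toRingHom.comp
    (Algebra.TensorProduct.includeRight : K →ₐ[R] B ⊗[R] K).toRingHom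

lemma lamW_algebraMap (r : R) :
    lamW R K B (algebraMap R K r) = algebraMap R B r ⊗ₜ[K] (1 : W R K B) := by
  have h1 : (Algebra.TensorProduct.includeRight : K →ₐ[R] B ⊗[R] K) (algebraMap R K r) =
      algebraMap B (B ⊗[R] K) (algebraMap R B r) := by
    rw [AlgHom.commutes, Algebra.TensorProduct.algebraMap_apply,
      Algebra.TensorProduct.algebraMap_apply]
    simp
  change (WR.ι K B (B1 R K B)) ((Algebra.TensorProduct.includeRight : K →ₐ[R] B ⊗[R] K)
    (algebraMap R K r)) = _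
  rw [h1, AlgHom.commutes, Algebra.TensorProduct.algebraMap_apply]
  simp

variable {R K B}

/-- The `B`-algebra map `B1 → B ⊗[K] C` attached to `μ`. -/
def ψOf (C : Type u) [CommRing C] [Algebra K C] (μ : K →+* B ⊗[K] C)
    (hμ : ∀ r : R, μ (algebraMap R K r) = algebraMap R B r ⊗ₜ[K] (1 : C)) :
    B1 R K B →ₐ[B] B ⊗[K] C :=
  Algebra.TensorProduct.lift (Algebra.ofId B (B ⊗[K] C))
    ({ μ with
        commutes' := fun r => by
          change μ (algebraMap R K r) = _
          rw [hμ r, Algebra.TensorProduct.algebraMap_apply] } : K →ₐ[R] B ⊗[K] C)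
    (fun _ _ => Commute.all _ _)

omit [Module.Free K B] [Module.Finite K B] [Algebra.Etale R K] in
lemma ψOf_includeRight (C : Type u) [CommRing C] [Algebra K C] (μ : K →+* B ⊗[K] C)
    (hμ : ∀ r : R, μ (algebraMap R K r) = algebraMap R B r ⊗ₜ[K] (1 : C)) (k : K) :
    ψOf C μ hμ ((1 : B) ⊗ₜ[R] k) = μ k := by
  simp only [ψOf, Algebra.TensorProduct.lift_tmul, map_one, AlgHom.coe_mk, one_mul]

omit [Algebra K B] [Module.Free K B] [Module.Finite K B] [Algebra.Etale R K] in
/-- Two `B`-algebra maps out of `B ⊗[R] K` agreeing on `1 ⊗ k` are equal. -/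
lemma algHom_ext_includeRight {Z : Type u} [CommRing Z] [Algebra B Z]
    (f f' : B1 R K B →ₐ[B] Z) (h : ∀ k : K, f ((1 : B) ⊗ₜ[R] k) = f' ((1 : B) ⊗ₜ[R] k)) :
    f = f' := by
  apply AlgHom.ext
  intro x
  induction x using TensorProduct.induction_on with
  | zero => simp
  | tmul b k =>
    have h1 : b ⊗ₜ[R] k = b • ((1 : B) ⊗ₜ[R] k) := by
      rw [TensorProduct.smul_tmul', smul_eq_mul, mul_one]
    rw [h1, map_smul, map_smul, h k]
  | add x y hx hy => rw [map_add, map_add, hx, hy]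

/-- **Universal property.** -/
theorem existsUnique_of (C : Type u) [CommRing C] [Algebra K C] (μ : K →+* B ⊗[K] C)
    (hμ : ∀ r : R, μ (algebraMap R K r) = algebraMap R B r ⊗ₜ[K] (1 : C)) :
    ∃! φ : W R K B →ₐ[K] C,
      (Algebra.TensorProduct.map (AlgHom.id B B) φ).toRingHom.comp (lamW R K B) = μ := by
  let φ : W R K B →ₐ[K] C := (WR.equiv K B (B1 R K B) C).symm (ψOf C μ hμ)
  have hφ : WR.equiv K B (B1 R K B) C φ = ψOf C μ hμ := Equiv.apply_symm_apply _ _
  refine ⟨φ, ?_, ?_⟩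
  · apply RingHom.ext
    intro k
    change (Algebra.TensorProduct.map (AlgHom.id B B) φ) ((WR.ι K B (B1 R K B))
      ((1 : B) ⊗ₜ[R] k)) = μ k
    have h2 := AlgHom.congr_fun hφ ((1 : B) ⊗ₜ[R] k)
    rw [WR.equiv_apply, AlgHom.comp_apply] at h2
    rw [h2, ψOf_includeRight]
  · intro φ' hφ'
    apply (WR.equiv K B (B1 R K B) C).injective
    rw [hφ]
    apply algHom_ext_includeRight
    intro k
    rw [ψOf_includeRight, WR.equiv_apply, AlgHom.comp_apply]
    exact RingHom.congr_fun hφ' k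

variable (R K B)

/-- `(W', lam')` is a Weil restriction datum: `W'` represents
`C ↦ {μ : K →+* B ⊗[K] C | μ ∘ (R → K) = (- ⊗ 1) ∘ (R → B)}` via `lam'`. -/
def IsRes (W' : Type u) [CommRing W'] [Algebra K W'] (lam' : K →+* B ⊗[K] W') : Prop :=
  (∀ r : R, lam' (algebraMap R K r) = algebraMap R B r ⊗ₜ[K] (1 : W')) ∧
    ∀ (C : Type u) [CommRing C] [Algebra K C] (μ : K →+* B ⊗[K] C),
      (∀ r : R, μ (algebraMap R K r) = algebraMap R B r ⊗ₜ[K] (1 : C)) →
      ∃! φ : W' →ₐ[K] C,
        (Algebra.TensorProduct.map (AlgHom.id B B) φ).toRingHom.comp lam' = μ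

theorem isRes_W : IsRes R K B (W R K B) (lamW R K B) :=
  ⟨lamW_algebraMap R K B, fun C _ _ μ hμ => existsUnique_of C μ hμ⟩

variable {R K B}

omit [Module.Free K B] [Module.Finite K B] [Algebra.Etale R K] in
/-- Transport of a Weil restriction datum along an isomorphism of `K`-algebras. -/
theorem IsRes.of_equiv {W₁ W₂ : Type u} [CommRing W₁] [Algebra K W₁] [CommRing W₂] [Algebra K W₂]
    {lam₁ : K →+* B ⊗[K] W₁} (h : IsRes R K B W₁ lam₁) (θ : W₁ ≃ₐ[K] W₂) :
    IsRes R K B W₂
      ((Algebra.TensorProduct.map (AlgHom.id B B) θ.toAlgHom).toRingHom.comp lam₁) := by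
  refine ⟨fun r => ?_, fun C _ _ μ hμ => ?_⟩
  · change (Algebra.TensorProduct.map (AlgHom.id B B) θ.toAlgHom) (lam₁ (algebraMap R K r)) = _
    rw [h.1 r]
    simp
  · obtain ⟨φ, hφ, huniq⟩ := h.2 C μ hμ
    have key : ∀ φ₂ : W₂ →ₐ[K] C,
        (Algebra.TensorProduct.map (AlgHom.id B B) φ₂).toRingHom.comp
          ((Algebra.TensorProduct.map (AlgHom.id B B) θ.toAlgHom).toRingHom.comp lam₁) =
        (Algebra.TensorProduct.map (AlgHom.id B B) (φ₂.comp θ.toAlgHom)).toRingHom.comp lam₁ := by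
      intro φ₂
      rw [← RingHom.comp_assoc]
      congr 1
      have := map_comp_map (K := K) (B := B) θ.toAlgHom φ₂
      exact congrArg AlgHom.toRingHom this
    refine ⟨φ.comp θ.symm.toAlgHom, ?_, ?_⟩
    · beta_reduce
      rw [key]
      have h1 : (φ.comp θ.symm.toAlgHom).comp θ.toAlgHom = φ := by
        apply AlgHom.ext; intro x; simp
      rw [h1]; exact hφ
    · intro φ₂ hφ₂
      rw [key] at hφ₂
      have h2 := huniq _ hφ₂
      rw [← h2]
      apply AlgHom.ext; intro x; simp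

end

end Groth.Agent.H65.WeilRestrCore
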