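import Groth.Agent.H65.WeilRestrPoint
import Groth.Agent.H50.GLocFinal

/-!
# Scheme-level Weil restriction with the point clause (`exists_res`, request R1 of helper50)
-/

set_option autoImplicit false
universe u
open CategoryTheory CategoryTheory.Limits AlgebraicGeometry

namespace Groth.Agent.H65.WeilRestrFinal

open Groth.Agent.H65.WeilRestrSch Groth.Agent.H65.WeilRestrPoint

theorem exists_res {U U₁ V : Scheme.{u}} [IsAffine U] [IsAffine U₁] [IsAffine V]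
    (g₁ : U₁ ⟶ U) [Etale g₁] (π : V ⟶ U₁) [IsFinite π]
    (hfree : letI := π.appTop.hom.toAlgebra; Module.Free Γ(U₁, ⊤) Γ(V, ⊤)) (τ : V ⟶ U) :
    ∃ (U₂ : Scheme.{u}) (p : U₂ ⟶ U₁) (lam : pullback π p ⟶ U₁), IsAffine U₂ ∧ Etale p ∧
      lam ≫ g₁ = pullback.fst π p ≫ τ ∧
      (∀ (T : Scheme.{u}) [IsAffine T] (a : T ⟶ U₁) (μ : pullback π a ⟶ U₁),
        μ ≫ g₁ = pullback.fst π a ≫ τ → ∃! b : T ⟶ U₂, b ≫ p = a ∧
          ∀ x : pullback π a ⟶ pullback π p, x ≫ pullback.fst π p = pullback.fst π a →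
            x ≫ pullback.snd π p = pullback.snd π a ≫ b → x ≫ lam = μ) ∧
      ∀ (eV : U₁ ⟶ V) (_ : eV ≫ π = 𝟙 U₁) (_ : eV ≫ τ = g₁) (u₁ : ↥U₁)
        (_ : ∀ v : ↥V, π v = u₁ → v = eV u₁),
        ∃ (u₂ : ↥U₂) (hw : (U₂.fromSpecResidueField u₂ ≫ p ≫ eV) ≫ π =
            U₂.fromSpecResidueField u₂ ≫ p),
          p u₂ = u₁ ∧ IsIso (p.residueFieldMap u₂) ∧
          pullback.lift (U₂.fromSpecResidueField u₂ ≫ p ≫ eV) (U₂.fromSpecResidueField u₂) hw ≫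
            lam = U₂.fromSpecResidueField u₂ ≫ p := by
  obtain ⟨U₂, p, lam, hA, hE, hlam, huniv⟩ := exists_res_univ g₁ π hfree τ
  exact ⟨U₂, p, lam, hA, hE, hlam, huniv, fun eV heπ heτ u₁ hfib =>
    point_of_univ g₁ π τ p lam huniv eV heπ heτ u₁ hfib⟩

theorem r1Hyp : Groth.Agent.H50.GLoc.R1Hyp.{u} := by
  intro U U₁ V _ _ _ g₁ _ π _ hfree τ
  exact exists_res g₁ π hfree τ

end Groth.Agent.H65.WeilRestrFinal
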