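import Groth.Agent.H65.WeilRestrSch
import Groth.Agent.H64.Boot5.SectionPt

/-!
# The POINT clause of the scheme-level Weil restriction
-/

set_option autoImplicit false
universe u
open CategoryTheory CategoryTheory.Limits AlgebraicGeometry
open scoped TensorProduct

namespace Groth.Agent.H65.WeilRestrPoint

open Groth.Agent.H65.WeilRestrSch Groth.Agent.H64.Boot5

/-- In a ring with a single prime ideal which is Noetherian, the kernel of a surjection onto
a nontrivial ring is nilpotent. -/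
theorem isNilpotent_ker_of_subsingleton {A C : Type u} [CommRing A] [CommRing C] [Nontrivial C]
    [IsNoetherianRing A] [Subsingleton (PrimeSpectrum A)] (f : A →+* C) :
    IsNilpotent (RingHom.ker f) := by
  have hle : RingHom.ker f ≤ nilradical A := by
    have hne : RingHom.ker f ≠ ⊤ := RingHom.ker_ne_top f
    obtain ⟨M, hM, hle⟩ := Ideal.exists_le_maximal _ hne
    rw [nilradical_eq_sInf]
    intro x hx
    rw [Ideal.mem_sInf]
    intro J hJ
    have : (⟨J, hJ⟩ : PrimeSpectrum A) = ⟨M, hM.isPrime⟩ := Subsingleton.elim _ _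
    have hJM : J = M := congrArg PrimeSpectrum.asIdeal this
    rw [hJM]
    exact hle hx
  obtain ⟨n, hn⟩ := IsNoetherianRing.isNilpotent_nilradical A
  refine ⟨n, ?_⟩
  have := Ideal.pow_right_mono hle n
  rw [hn] at this
  exact le_bot_iff.mp this

section Point

variable {U U₁ V U₂ : Scheme.{u}} [IsAffine U] [IsAffine U₁] [IsAffine V] [IsAffine U₂]
  (g₁ : U₁ ⟶ U) [Etale g₁] (π : V ⟶ U₁) [IsFinite π] (τ : V ⟶ U)

/-- The fibre of `π` over a point with a single preimage on the section `eV`: the infinitesimal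
lift `μ₀`. -/
theorem exists_mu0 (eV : U₁ ⟶ V) (heπ : eV ≫ π = 𝟙 U₁) (heτ : eV ≫ τ = g₁) (u₁ : ↥U₁)
    (hfib : ∀ v : ↥V, π v = u₁ → v = eV u₁) :
    ∃ μ₀ : pullback π (U₁.fromSpecResidueField u₁) ⟶ U₁,
      μ₀ ≫ g₁ = pullback.fst π (U₁.fromSpecResidueField u₁) ≫ τ ∧
      sectionLift π eV (U₁.fromSpecResidueField u₁) heπ ≫ μ₀ = U₁.fromSpecResidueField u₁ := by
  set a := U₁.fromSpecResidueField u₁ with ha
  set ε := sectionLift π eV a heπ with hε
  -- the fibre has a single point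
  have hpt : ∀ q : ↥(pullback π a), q = ε (pullback.snd π a q) := by
    intro q
    apply eq_sectionLift_apply
    have h1 : π (pullback.fst π a q) = u₁ := by
      rw [← Scheme.Hom.comp_apply, pullback.condition, Scheme.Hom.comp_apply]
      exact Scheme.fromSpecResidueField_apply _ _
    exact ⟨u₁, (hfib _ h1).symm⟩
  haveI : Subsingleton ↥(pullback π a) := by
    refine ⟨fun q q' => ?_⟩
    rw [hpt q, hpt q']
    congr 1
    exact Subsingleton.elim _ _
  haveI : Subsingleton (PrimeSpectrum Γ(pullback π a, ⊤)) :=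
    (pullback π a).isoSpec.inv.homeomorph.injective.subsingleton
  -- `Γ(P)` is Noetherian
  have hfin : (pullback.snd π a).appTop.hom.Finite := Scheme.Hom.finite_appTop _
  haveI : IsNoetherianRing Γ(Spec (U₁.residueField u₁), ⊤) :=
    isNoetherianRing_of_ringEquiv (U₁.residueField u₁)
      (Scheme.ΓSpecIso (U₁.residueField u₁)).symm.commRingCatIsoToRingEquiv
  haveI : IsNoetherianRing Γ(pullback π a, ⊤) := by
    letI := (pullback.snd π a).appTop.hom.toAlgebra
    haveI : Module.Finite Γ(Spec (U₁.residueField u₁), ⊤) Γ(pullback π a, ⊤) := hfin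
    exact IsNoetherianRing.of_finite Γ(Spec (U₁.residueField u₁), ⊤) _
  haveI : Nontrivial Γ(Spec (U₁.residueField u₁), ⊤) :=
    (Scheme.ΓSpecIso (U₁.residueField u₁)).commRingCatIsoToRingEquiv.symm.injective.nontrivial
  have hnil : IsNilpotent (RingHom.ker ε.appTop.hom) := isNilpotent_ker_of_subsingleton _
  have hsurj : Function.Surjective ε.appTop.hom := by
    intro c
    refine ⟨(pullback.snd π a).appTop.hom c, ?_⟩
    have := congrArg (fun ψ => ψ.appTop.hom c) (sectionLift_snd π eV a heπ)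
    simp only [Scheme.Hom.comp_appTop] at this
    exact this
  -- the infinitesimal lift
  letI aU1 : Algebra Γ(U, ⊤) Γ(U₁, ⊤) := g₁.appTop.hom.toAlgebra
  haveI : Algebra.Etale Γ(U, ⊤) Γ(U₁, ⊤) :=
    (HasRingHomProperty.iff_of_isAffine (P := @Etale) (f := g₁)).mp inferInstance
  letI aP : Algebra Γ(U, ⊤) Γ(pullback π a, ⊤) := (pullback.fst π a ≫ τ).appTop.hom.toAlgebra
  letI aT : Algebra Γ(U, ⊤) Γ(Spec (U₁.residueField u₁), ⊤) := (a ≫ g₁).appTop.hom.toAlgebra
  have hετ : ε ≫ pullback.fst π a ≫ τ = a ≫ g₁ := by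
    rw [hε, sectionLift_fst_assoc, heτ]
  let fA : Γ(U₁, ⊤) →ₐ[Γ(U, ⊤)] Γ(Spec (U₁.residueField u₁), ⊤) :=
    { a.appTop.hom with
      commutes' := fun r => by
        change a.appTop.hom (g₁.appTop.hom r) = (a ≫ g₁).appTop.hom r
        rw [Scheme.Hom.comp_appTop]
        rfl }
  let gA : Γ(pullback π a, ⊤) →ₐ[Γ(U, ⊤)] Γ(Spec (U₁.residueField u₁), ⊤) :=
    { ε.appTop.hom with
      commutes' := fun r => by
        change ε.appTop.hom ((pullback.fst π a ≫ τ).appTop.hom r) = (a ≫ g₁).appTop.hom r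
        rw [← hετ, Scheme.Hom.comp_appTop (f := ε)]
        rfl }
  let L : Γ(U₁, ⊤) →ₐ[Γ(U, ⊤)] Γ(pullback π a, ⊤) :=
    Algebra.FormallySmooth.liftOfSurjective fA gA hsurj hnil
  have hL : ∀ k, ε.appTop.hom (L k) = a.appTop.hom k := fun k =>
    Algebra.FormallySmooth.liftOfSurjective_apply fA gA hsurj hnil k
  obtain ⟨μ₀, hμ₀⟩ := exists_hom_appTop_eq (Z := pullback π a) (Y := U₁)
    (CommRingCat.ofHom L.toRingHom)
  have hμ₀' : ∀ k, μ₀.appTop.hom k = L k := by
    intro k; rw [hμ₀]; rfl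
  refine ⟨μ₀, ?_, ?_⟩
  · apply ext_of_isAffine
    rw [Scheme.Hom.comp_appTop]
    ext r
    change μ₀.appTop.hom (g₁.appTop.hom r) = (pullback.fst π a ≫ τ).appTop.hom r
    rw [hμ₀']
    exact L.commutes r
  · apply ext_of_isAffine
    rw [Scheme.Hom.comp_appTop]
    ext k
    change ε.appTop.hom (μ₀.appTop.hom k) = a.appTop.hom k
    rw [hμ₀', hL]

/-- **POINT clause** from the universal property. -/
theorem point_of_univ (p : U₂ ⟶ U₁) (lam : pullback π p ⟶ U₁)
    (huniv : ∀ (T : Scheme.{u}) [IsAffine T] (a : T ⟶ U₁) (μ : pullback π a ⟶ U₁),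
      μ ≫ g₁ = pullback.fst π a ≫ τ →
      ∃! b : T ⟶ U₂, b ≫ p = a ∧
        ∀ x : pullback π a ⟶ pullback π p, x ≫ pullback.fst π p = pullback.fst π a →
          x ≫ pullback.snd π p = pullback.snd π a ≫ b → x ≫ lam = μ)
    (eV : U₁ ⟶ V) (heπ : eV ≫ π = 𝟙 U₁) (heτ : eV ≫ τ = g₁) (u₁ : ↥U₁)
    (hfib : ∀ v : ↥V, π v = u₁ → v = eV u₁) :
    ∃ (u₂ : ↥U₂) (hw : (U₂.fromSpecResidueField u₂ ≫ p ≫ eV) ≫ π =
        U₂.fromSpecResidueField u₂ ≫ p),
      p u₂ = u₁ ∧ IsIso (p.residueFieldMap u₂) ∧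
      pullback.lift (U₂.fromSpecResidueField u₂ ≫ p ≫ eV) (U₂.fromSpecResidueField u₂) hw ≫ lam =
        U₂.fromSpecResidueField u₂ ≫ p := by
  obtain ⟨μ₀, hμ₀g, hεμ₀⟩ := exists_mu0 g₁ π τ eV heπ heτ u₁ hfib
  obtain ⟨b₀, ⟨hb₀p, hb₀x⟩, -⟩ := huniv _ (U₁.fromSpecResidueField u₁) μ₀ hμ₀g
  obtain ⟨hpu, hiso⟩ := isIso_residueFieldMap_of_section p u₁ b₀ hb₀p
  set u₂ := b₀ (IsLocalRing.closedPoint (U₁.residueField u₁)) with hu₂
  have hw : (U₂.fromSpecResidueField u₂ ≫ p ≫ eV) ≫ π = U₂.fromSpecResidueField u₂ ≫ p := by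
    rw [Category.assoc, Category.assoc, heπ, Category.comp_id]
  refine ⟨u₂, hw, hpu, hiso, ?_⟩
  let b₀' : Spec (.of ↑(U₁.residueField u₁)) ⟶ U₂ := b₀
  set φ : U₂.residueField u₂ ⟶ U₁.residueField u₁ :=
    Scheme.descResidueField (K := ↑(U₁.residueField u₁)) (Scheme.stalkClosedPointTo b₀') with hφ
  have h1 : Spec.map φ ≫ U₂.fromSpecResidueField u₂ = b₀ :=
    Scheme.descResidueField_stalkClosedPointTo_fromSpecResidueField ↑(U₁.residueField u₁) U₂ b₀'
  haveI := epi_specMap_residueField _ _ φ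
  rw [← cancel_epi (Spec.map φ)]
  let x₀ : pullback π (U₁.fromSpecResidueField u₁) ⟶ pullback π p :=
    pullback.lift (pullback.fst π _) (pullback.snd π _ ≫ b₀)
      (by rw [Category.assoc, hb₀p, pullback.condition])
  have hx₀ : x₀ ≫ lam = μ₀ := hb₀x x₀ (pullback.lift_fst _ _ _) (pullback.lift_snd _ _ _)
  have h2 : Spec.map φ ≫ pullback.lift (U₂.fromSpecResidueField u₂ ≫ p ≫ eV)
      (U₂.fromSpecResidueField u₂) hw =
      sectionLift π eV (U₁.fromSpecResidueField u₁) heπ ≫ x₀ := by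
    apply pullback.hom_ext
    · rw [Category.assoc, pullback.lift_fst, Category.assoc, pullback.lift_fst, sectionLift_fst,
        reassoc_of% h1, reassoc_of% hb₀p]
    · rw [Category.assoc, pullback.lift_snd, Category.assoc, pullback.lift_snd,
        sectionLift_snd_assoc, h1]
  rw [reassoc_of% h2, hx₀, hεμ₀, reassoc_of% h1, hb₀p]

end Point

end Groth.Agent.H65.WeilRestrPoint
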