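import Groth.Prelude.Def_AlgSpRep
import Groth.Agent.H49.AlgSpCover
import Groth.Agent.H49.AlgSpCoprod
import Groth.Agent.H50.QCKer2

/-!
# A Zariski sheaf which is fppf-locally covered by fppf subsheaves (with inclusions representable by
algebraic spaces) is an fppf sheaf
-/

set_option autoImplicit false
universe u v
open CategoryTheory CategoryTheory.Limits AlgebraicGeometry Opposite

namespace Groth.Agent.H65.ZarFppfSheaf

open AlgSp

variable {S : Scheme.{u}}

/-- An open cover generates a covering sieve of the big Zariski site over `S`. -/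
theorem ofArrows_opens_mem_Jzar {T : Over S} {σ : Type*} (O : σ → T.left.Opens)
    (hO : ∀ t : ↥T.left, ∃ i, t ∈ O i) :
    Sieve.ofArrows (fun i => Groth.Agent.H50.opensOv T (O i))
      (fun i => Groth.Agent.H50.opensOvι T (O i)) ∈ QuotSh.J Scheme.zariskiPrecoverage S T := by
  rw [GrothendieckTopology.mem_over_iff, Sieve.overEquiv_ofArrows]
  have : Presieve.ofArrows (fun i => ((O i : T.left.Opens) : Scheme.{u})) (fun i => (O i).ι) ∈
      Scheme.zariskiPrecoverage T.left :=
    (Scheme.ofArrows_mem_precoverage_iff (P := @IsOpenImmersion)).2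
      ⟨fun t => by
        obtain ⟨i, hi⟩ := hO t
        exact ⟨i, ⟨⟨t, hi⟩, rfl⟩⟩, fun i => inferInstance⟩
  exact Precoverage.generate_mem_toGrothendieck this

/-- Factor an fppf morphism through its (open) image. -/
theorem exists_factor_openImage {T : Over S} {U' : Scheme.{u}} (g : U' ⟶ T.left) (hfl : Flat g)
    (hfp : LocallyOfFinitePresentation g) :
    ∃ (W : T.left.Opens) (g' : Over.mk (g ≫ T.hom) ⟶ Groth.Agent.H50.opensOv T W),
      g' ≫ Groth.Agent.H50.opensOvι T W = (Over.homMk g : Over.mk (g ≫ T.hom) ⟶ T) ∧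
      (W : Set ↥T.left) = Set.range g ∧ Flat g'.left ∧ LocallyOfFinitePresentation g'.left ∧
      Surjective g'.left := by
  let W : T.left.Opens := ⟨Set.range g, g.isOpenMap.isOpen_range⟩
  have hsub : Set.range g ⊆ Set.range W.ι := by
    rw [Scheme.Opens.range_ι]
    exact subset_rfl
  let g₀ : U' ⟶ (W : Scheme.{u}) := IsOpenImmersion.lift W.ι g hsub
  have hg₀ : g₀ ≫ W.ι = g := IsOpenImmersion.lift_fac _ _ _
  have hm : MorphismProperty.monomorphisms Scheme.{u} W.ι :=
    MorphismProperty.monomorphisms.infer_property _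
  have h1 : Flat g₀ :=
    MorphismProperty.of_postcomp (W := @Flat) (W' := MorphismProperty.monomorphisms Scheme.{u})
      g₀ W.ι hm (by rw [hg₀]; exact hfl)
  have h2 : LocallyOfFinitePresentation g₀ :=
    MorphismProperty.of_postcomp (W := @LocallyOfFinitePresentation)
      (W' := MorphismProperty.monomorphisms Scheme.{u}) g₀ W.ι hm (by rw [hg₀]; exact hfp)
  have h3 : Surjective g₀ := by
    refine ⟨fun w => ?_⟩
    obtain ⟨x, hx⟩ : W.ι w ∈ Set.range g := w.2
    refine ⟨x, ?_⟩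
    apply W.ι.isOpenEmbedding.injective
    rw [← Scheme.Hom.comp_apply, hg₀, hx]
  refine ⟨W, Over.homMk g₀ (by
    change g₀ ≫ W.ι ≫ T.hom = g ≫ T.hom
    rw [← Category.assoc, hg₀]), ?_, rfl, h1, h2, h3⟩
  ext
  exact hg₀

/-- Transport along equal arrows in a family of elements. -/
theorem fam_congr {F : PSp S} {T : Over S} {R : Sieve T} (x : Presieve.FamilyOfElements F R.arrows)
    {T' : Over S} {f f' : T' ⟶ T} (e : f = f') (hf : R f) (hf' : R f') : x f hf = x f' hf' := by
  subst e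
  rfl

theorem mono_app_injective {F G : PSp S} (m : F ⟶ G) [Mono m] (T : Over S) :
    Function.Injective (m.app (op T)) := by
  have : Mono (m.app (op T)) := inferInstance
  exact (mono_iff_injective _).1 this

/-- **Lifting lemma.** If `m : Fi ⟶ F` is a monomorphism representable by algebraic spaces, a
section of `F` which lies in `Fi` locally for the fppf topology lies in `Fi`. -/
theorem mem_range_of_locally {F Fi : PSp S} (m : Fi ⟶ F) [Mono m] (hb : RepBySp m) {W : Over S}
    (c : F.obj (op W)) (R : Sieve W) (hR : R ∈ J S W)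
    (h : ∀ ⦃T' : Over S⦄ (f : T' ⟶ W), R f → F.map f.op c ∈ Set.range (m.app (op T'))) :
    c ∈ Set.range (m.app (op W)) := by
  set ξ : (pyon S).obj W ⟶ F := uliftYonedaEquiv.symm c with hξdef
  have sq := IsPullback.of_hasPullback m ξ
  obtain ⟨hV, -⟩ := hb ξ _ _ sq
  have hVs := (isSheaf_iff_isSheaf_of_type _ _).1 hV
  have hpb : ∀ T' : Over S, IsPullback ((pullback.fst m ξ).app (op T'))
      ((pullback.snd m ξ).app (op T')) (m.app (op T')) (ξ.app (op T')) :=
    fun T' => sq.map ((evaluation _ _).obj (op T'))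
  have hξ : ∀ {T' : Over S} (f : T' ⟶ W), ξ.app (op T') ⟨f⟩ = F.map f.op c := fun f => rfl
  choose y hy using h
  have hz : ∀ ⦃T' : Over S⦄ (f : T' ⟶ W) (hf : R f), ∃ z,
      (pullback.fst m ξ).app (op T') z = y f hf ∧ (pullback.snd m ξ).app (op T') z = ⟨f⟩ :=
    fun T' f hf => Types.exists_of_isPullback (hpb T') _ _ (by rw [hy, hξ])
  choose z hz1 hz2 using hz
  let fam : Presieve.FamilyOfElements (pullback m ξ) R.arrows := fun T' f hf => z f hf
  have hcompat : fam.Compatible := by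
    rw [Presieve.compatible_iff_sieveCompatible]
    intro T' T'' f g hf
    apply Types.ext_of_isPullback (hpb T'')
    · change (pullback.fst m ξ).app (op T'') (z (g ≫ f) _) =
        (pullback.fst m ξ).app (op T'') ((pullback m ξ).map g.op (z f hf))
      rw [hz1, NatTrans.naturality_apply, hz1]
      apply mono_app_injective m
      rw [hy, NatTrans.naturality_apply, hy, op_comp, Functor.map_comp_apply]
    · change (pullback.snd m ξ).app (op T'') (z (g ≫ f) _) =
        (pullback.snd m ξ).app (op T'') ((pullback m ξ).map g.op (z f hf))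
      rw [hz2, NatTrans.naturality_apply, hz2]
      rfl
  let w := (hVs R hR).amalgamate fam hcompat
  have hw : ∀ ⦃T' : Over S⦄ (f : T' ⟶ W) (hf : R f), (pullback m ξ).map f.op w = z f hf :=
    fun T' f hf => (hVs R hR).valid_glue hcompat f hf
  have hsep : Presieve.IsSeparated (J S) ((pyon S).obj W) :=
    ((isSheaf_iff_isSheaf_of_type _ _).1 ((yon S).obj W).property).isSeparated
  have hw1 : (pullback.snd m ξ).app (op W) w = ⟨𝟙 W⟩ := by
    apply (hsep R hR).ext
    intro T' f hf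
    rw [← NatTrans.naturality_apply, hw f hf, hz2]
    refine ULift.ext _ _ ?_
    change f = f ≫ 𝟙 W
    rw [Category.comp_id]
  refine ⟨(pullback.fst m ξ).app (op W) w, ?_⟩
  have e := ConcreteCategory.congr_hom (hpb W).w w
  simp only [types_comp_apply] at e
  rw [e, hw1, hξ, op_id, F.map_id]
  rfl

theorem fppfPrecoverage_props {X : Scheme.{u}} {R : Presieve X}
    (hR : R ∈ Scheme.fppfPrecoverage X) :
    (∀ x : ↥X, ∃ (Y : Scheme.{u}) (g : Y ⟶ X), R g ∧ x ∈ Set.range g) ∧
      ∀ ⦃Y : Scheme.{u}⦄ (g : Y ⟶ X), R g → Flat g ∧ LocallyOfFinitePresentation g := by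
  constructor
  · intro x
    have hjs : R ∈ Scheme.jointlySurjectivePrecoverage X := hR.1
    rw [Scheme.jointlySurjectivePrecoverage,
      Presieve.mem_comap_jointlySurjectivePrecoverage_iff] at hjs
    obtain ⟨Y, g, hg, y, hy⟩ := hjs x
    exact ⟨Y, g, hg, y, hy⟩
  · intro Y g hg
    exact hR.2 hg

section Main

variable {F : PSp S} {ι : Type v} {Fi : ι → PSp S} (m : ∀ i, Fi i ⟶ F) [∀ i, Mono (m i)]
  (ha : ∀ i, Presheaf.IsSheaf (J S) (Fi i)) (hb : ∀ i, RepBySp (m i))
include ha

/-- A compatible family on a covering sieve all of whose members lie in a fixed `Fi` has an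
amalgamation. -/
theorem exists_amalgamation_of_mem_range {W : Over S} (i : ι) (R₀ : Sieve W) (hR₀ : R₀ ∈ J S W)
    (x : Presieve.FamilyOfElements F R₀.arrows) (hx : x.Compatible)
    (hmem : ∀ ⦃T' : Over S⦄ (f : T' ⟶ W) (hf : R₀ f),
      x f hf ∈ Set.range ((m i).app (op T'))) :
    ∃ σ : F.obj (op W), x.IsAmalgamation σ := by
  choose a ha' using hmem
  have hFi := (isSheaf_iff_isSheaf_of_type _ _).1 (ha i)
  let fam : Presieve.FamilyOfElements (Fi i) R₀.arrows := fun T' f hf => a f hf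
  have hcompat : fam.Compatible := by
    rw [Presieve.compatible_iff_sieveCompatible]
    intro T' T'' f g hf
    apply mono_app_injective (m i)
    change (m i).app _ (a (g ≫ f) _) = (m i).app _ ((Fi i).map g.op (a f hf))
    rw [ha', NatTrans.naturality_apply, ha']
    exact (Presieve.compatible_iff_sieveCompatible _).1 hx f g hf
  refine ⟨(m i).app _ ((hFi R₀ hR₀).amalgamate fam hcompat), fun T' f hf => ?_⟩
  rw [← NatTrans.naturality_apply, (hFi R₀ hR₀).valid_glue hcompat f hf]
  exact ha' f hf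

include hb

/-- Two sections which agree locally, one of them being locally in a fixed `Fi`, agree. -/
theorem eq_of_locally {W : Over S} (i : ι) (R₀ : Sieve W) (hR₀ : R₀ ∈ J S W) (x y : F.obj (op W))
    (hx : ∀ ⦃T' : Over S⦄ (f : T' ⟶ W), R₀ f → F.map f.op x ∈ Set.range ((m i).app (op T')))
    (hxy : ∀ ⦃T' : Over S⦄ (f : T' ⟶ W), R₀ f → F.map f.op x = F.map f.op y) : x = y := by
  obtain ⟨a, rfl⟩ := mem_range_of_locally (m i) (hb i) x R₀ hR₀ hx
  obtain ⟨b, rfl⟩ := mem_range_of_locally (m i) (hb i) y R₀ hR₀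
    (fun T' f hf => by rw [← hxy f hf]; exact hx f hf)
  congr 1
  have hsep := ((isSheaf_iff_isSheaf_of_type _ _).1 (ha i)).isSeparated
  apply (hsep R₀ hR₀).ext
  intro T' f hf
  apply mono_app_injective (m i)
  rw [NatTrans.naturality_apply, NatTrans.naturality_apply]
  exact hxy f hf

variable (h1 : Presheaf.IsSheaf (QuotSh.J Scheme.zariskiPrecoverage S) F)
  (hc : ∀ (T : Over S) (x : F.obj (op T)), ∃ R ∈ (J S) T,
    ∀ ⦃T' : Over S⦄ (f : T' ⟶ T), R.arrows f → ∃ i, F.map f.op x ∈ Set.range ((m i).app (op T')))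
include h1 hc

/-- **Separatedness.** -/
theorem eq_of_forall_map_eq {T : Over S} (R : Sieve T) (hR : R ∈ J S T) (x y : F.obj (op T))
    (hxy : ∀ ⦃T' : Over S⦄ (f : T' ⟶ T), R f → F.map f.op x = F.map f.op y) : x = y := by
  obtain ⟨Rx, hRx, hx⟩ := hc T x
  have hR' : R ⊓ Rx ∈ J S T := (J S).intersection_covering hR hRx
  obtain ⟨R'', hR'', hle⟩ := Groth.Agent.H49.exists_fppf_cover_of_mem _ hR'
  obtain ⟨hjs, hP⟩ := fppfPrecoverage_props hR''
  have key : ∀ k : (Σ U' : Scheme.{u}, {g : U' ⟶ T.left // R'' g}), ∃ W : T.left.Opens,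
      (W : Set ↥T.left) = Set.range k.2.1 ∧
      F.map (Groth.Agent.H50.opensOvι T W).op x = F.map (Groth.Agent.H50.opensOvι T W).op y := by
    rintro ⟨U', g, hg⟩
    obtain ⟨W, g', hg', hW, h1', h2', h3'⟩ := exists_factor_openImage g (hP g hg).1 (hP g hg).2
    refine ⟨W, hW, ?_⟩
    obtain ⟨hgR, hgRx⟩ := hle g hg
    obtain ⟨i, hi⟩ := hx _ hgRx
    refine eq_of_locally m ha hb i (Sieve.generate (Presieve.singleton g'))
      (Groth.Agent.H49.mem_J_of_fppf_cover g' h1' h2' h3' _
        (Sieve.le_generate _ _ _ (Presieve.singleton.mk))) _ _ ?_ ?_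
    · rintro T' f ⟨Z, k, _, ⟨⟩, rfl⟩
      obtain ⟨a, ha'⟩ := hi
      refine ⟨(Fi i).map k.op a, ?_⟩
      rw [NatTrans.naturality_apply, ha', ← Functor.map_comp_apply, ← Functor.map_comp_apply,
        ← op_comp, ← op_comp, Category.assoc, hg']
    · rintro T' f ⟨Z, k, _, ⟨⟩, rfl⟩
      rw [← Functor.map_comp_apply, ← Functor.map_comp_apply, ← op_comp, Category.assoc, hg',
        op_comp, Functor.map_comp_apply, Functor.map_comp_apply, hxy _ hgR]
  choose O hO hOeq using key
  have hZ := ofArrows_opens_mem_Jzar O (fun t => by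
    obtain ⟨Y, g, hg, ht⟩ := hjs t
    refine ⟨⟨Y, g, hg⟩, ?_⟩
    change t ∈ (O ⟨Y, g, hg⟩ : Set ↥T.left)
    rw [hO]
    exact ht)
  have hsepZ := ((isSheaf_iff_isSheaf_of_type _ _).1 h1).isSeparated
  apply (hsepZ _ hZ).ext
  rintro T' f ⟨Z, k, _, ⟨i⟩, rfl⟩
  rw [op_comp, Functor.map_comp_apply, Functor.map_comp_apply, hOeq]

theorem isSeparated : Presieve.IsSeparated (J S) F := by
  intro T R hR fam t₁ t₂ h₁ h₂
  exact eq_of_forall_map_eq m ha hb h1 hc R hR t₁ t₂ (fun T' f hf => (h₁ f hf).trans (h₂ f hf).symm)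

/-- **Existence of amalgamations.** -/
theorem exists_amalgamation {T : Over S} (R : Sieve T) (hR : R ∈ J S T)
    (x : Presieve.FamilyOfElements F R.arrows) (hx : x.Compatible) :
    ∃ s, x.IsAmalgamation s := by
  have hxs := (Presieve.compatible_iff_sieveCompatible _).1 hx
  choose Rf hRf hRfx using fun (T' : Over S) (f : T' ⟶ T) (hf : R f) => hc T' (x f hf)
  let B : Sieve T := Sieve.bind R.arrows (fun T' f hf => Rf T' f hf)
  have hB : B ∈ J S T := (J S).bind_covering hR (fun T' f hf => hRf T' f hf)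
  have hBR : B ≤ R := by
    rintro T' h ⟨Y, k, f, hf, hk, rfl⟩
    exact R.downward_closed hf k
  have hBx : ∀ ⦃T' : Over S⦄ (h : T' ⟶ T) (hh : B h),
      ∃ i, x h (hBR _ hh) ∈ Set.range ((m i).app (op T')) := by
    rintro T' h ⟨Y, k, f, hf, hk, rfl⟩
    obtain ⟨i, hi⟩ := hRfx Y f hf k hk
    refine ⟨i, ?_⟩
    rw [hxs f k hf]
    exact hi
  obtain ⟨R'', hR'', hle⟩ := Groth.Agent.H49.exists_fppf_cover_of_mem B hB
  obtain ⟨hjs, hP⟩ := fppfPrecoverage_props hR''
  have key : ∀ k : (Σ U' : Scheme.{u}, {g : U' ⟶ T.left // R'' g}), ∃ (W : T.left.Opens)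
      (g' : Over.mk (k.2.1 ≫ T.hom) ⟶ Groth.Agent.H50.opensOv T W)
      (σ : F.obj (op (Groth.Agent.H50.opensOv T W))),
      (W : Set ↥T.left) = Set.range k.2.1 ∧
      g' ≫ Groth.Agent.H50.opensOvι T W = (Over.homMk k.2.1 : Over.mk (k.2.1 ≫ T.hom) ⟶ T) ∧
      Sieve.generate (Presieve.singleton g') ∈ J S (Groth.Agent.H50.opensOv T W) ∧
      ∀ ⦃Z : Over S⦄ (h : Z ⟶ Groth.Agent.H50.opensOv T W),
        Sieve.generate (Presieve.singleton g') h →
        ∀ hR : R (h ≫ Groth.Agent.H50.opensOvι T W),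
          F.map h.op σ = x (h ≫ Groth.Agent.H50.opensOvι T W) hR := by
    rintro ⟨U', g, hg⟩
    obtain ⟨W, g', hg', hW, h1', h2', h3'⟩ := exists_factor_openImage g (hP g hg).1 (hP g hg).2
    have hgB : B (Over.homMk g : Over.mk (g ≫ T.hom) ⟶ T) := hle g hg
    obtain ⟨i, a, hi⟩ := hBx _ hgB
    have hJ : Sieve.generate (Presieve.singleton g') ∈ J S (Groth.Agent.H50.opensOv T W) :=
      Groth.Agent.H49.mem_J_of_fppf_cover g' h1' h2' h3' _
        (Sieve.le_generate _ _ _ (Presieve.singleton.mk))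
    have hRkR : ∀ ⦃Z : Over S⦄ (h : Z ⟶ Groth.Agent.H50.opensOv T W),
        Sieve.generate (Presieve.singleton g') h → R (h ≫ Groth.Agent.H50.opensOvι T W) := by
      rintro Z h ⟨Z', l, _, ⟨⟩, rfl⟩
      rw [Category.assoc, hg']
      exact R.downward_closed (hBR _ hgB) l
    let xk : Presieve.FamilyOfElements F (Sieve.generate (Presieve.singleton g')).arrows :=
      fun Z h hh => x (h ≫ Groth.Agent.H50.opensOvι T W) (hRkR h hh)
    have hxk : xk.Compatible := by
      rw [Presieve.compatible_iff_sieveCompatible]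
      intro Z Z' h l hh
      change x ((l ≫ h) ≫ Groth.Agent.H50.opensOvι T W) _ =
        F.map l.op (x (h ≫ Groth.Agent.H50.opensOvι T W) _)
      rw [← hxs (h ≫ Groth.Agent.H50.opensOvι T W) l (hRkR h hh)]
      exact fam_congr x (Category.assoc _ _ _) _ _
    have hmem : ∀ ⦃Z : Over S⦄ (h : Z ⟶ Groth.Agent.H50.opensOv T W)
        (hh : Sieve.generate (Presieve.singleton g') h),
        xk h hh ∈ Set.range ((m i).app (op Z)) := by
      rintro Z h ⟨Z', l, _, ⟨⟩, rfl⟩
      refine ⟨(Fi i).map l.op a, ?_⟩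
      rw [NatTrans.naturality_apply, hi, ← hxs _ l (hBR _ hgB)]
      exact fam_congr x (by rw [Category.assoc, hg']) _ _
    obtain ⟨σ, hσ⟩ := exists_amalgamation_of_mem_range m ha i _ hJ xk hxk hmem
    exact ⟨W, g', σ, hW, hg', hJ, fun Z h hh hR' => hσ h hh⟩
  choose O g' σ hO hg' hJ hσ using key
  -- Zariski gluing
  have hcover : ∀ t : ↥T.left, ∃ k, t ∈ O k := fun t => by
    obtain ⟨Y, g, hg, ht⟩ := hjs t
    refine ⟨⟨Y, g, hg⟩, ?_⟩
    change t ∈ (O ⟨Y, g, hg⟩ : Set ↥T.left)
    rw [hO]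
    exact ht
  have hZ := ofArrows_opens_mem_Jzar O hcover
  have h1s := (isSheaf_iff_isSheaf_of_type _ _).1 h1
  have hshf : Presieve.IsSheafFor F (Presieve.ofArrows (fun k => Groth.Agent.H50.opensOv T (O k))
      (fun k => Groth.Agent.H50.opensOvι T (O k))) :=
    (Presieve.isSheafFor_iff_generate _).2 (h1s _ hZ)
  rw [Presieve.isSheafFor_arrows_iff] at hshf
  have hcomp : Presieve.Arrows.Compatible F (fun k => Groth.Agent.H50.opensOvι T (O k)) σ := by
    intro k k' Z gi gj e
    refine eq_of_forall_map_eq m ha hb h1 hc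
      ((Sieve.generate (Presieve.singleton (g' k))).pullback gi ⊓
        (Sieve.generate (Presieve.singleton (g' k'))).pullback gj)
      ((J S).intersection_covering ((J S).pullback_stable gi (hJ k))
        ((J S).pullback_stable gj (hJ k'))) _ _ ?_
    rintro Z' l ⟨hl1, hl2⟩
    have hR1 : R ((l ≫ gi) ≫ Groth.Agent.H50.opensOvι T (O k)) := by
      obtain ⟨Z'', l', _, ⟨⟩, e'⟩ := hl1
      rw [← e', Category.assoc, hg']
      exact R.downward_closed (hBR _ (hle _ k.2.2)) l'
    have hR2 : R ((l ≫ gj) ≫ Groth.Agent.H50.opensOvι T (O k')) := by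
      rw [Category.assoc, ← e, ← Category.assoc]
      exact hR1
    rw [← Functor.map_comp_apply, ← Functor.map_comp_apply, ← op_comp, ← op_comp,
      hσ k (l ≫ gi) hl1 hR1, hσ k' (l ≫ gj) hl2 hR2]
    exact fam_congr x (by rw [Category.assoc, Category.assoc, e]) _ _
  obtain ⟨s, hs, -⟩ := hshf σ hcomp
  refine ⟨s, fun T' f hf => ?_⟩
  have hB' : Sieve.ofArrows (fun k : (Σ U' : Scheme.{u}, {g : U' ⟶ T.left // R'' g}) =>
      Over.mk (k.2.1 ≫ T.hom)) (fun k => (Over.homMk k.2.1 : Over.mk (k.2.1 ≫ T.hom) ⟶ T)) ∈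
      J S T := by
    apply Groth.Agent.H50.ofArrows_mem_J
    · intro k
      exact hP _ k.2.2
    · intro t
      obtain ⟨Y, g, hg, ht⟩ := hjs t
      exact ⟨⟨Y, g, hg⟩, ht⟩
  refine eq_of_forall_map_eq m ha hb h1 hc _ ((J S).pullback_stable f hB') _ _ ?_
  rintro T'' l ⟨Z, k', _, ⟨k⟩, e⟩
  have hR1 : R ((k' ≫ g' k) ≫ Groth.Agent.H50.opensOvι T (O k)) := by
    rw [Category.assoc, hg', e]
    exact R.downward_closed hf l
  rw [← Functor.map_comp_apply, ← op_comp, ← e, ← hg' k, ← Category.assoc, op_comp,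
    Functor.map_comp_apply, hs k,
    hσ k (k' ≫ g' k) ⟨_, k', g' k, Presieve.singleton.mk, rfl⟩ hR1, ← hxs f l hf]
  exact fam_congr x (by rw [Category.assoc, hg', e]) _ _

theorem isSheaf : Presheaf.IsSheaf (J S) F := by
  rw [isSheaf_iff_isSheaf_of_type]
  intro T R hR
  rw [← Presieve.isSeparatedFor_and_exists_isAmalgamation_iff_isSheafFor]
  exact ⟨isSeparated m ha hb h1 hc R hR, fun x hx => exists_amalgamation m ha hb h1 hc R hR x hx⟩

end Main

end Groth.Agent.H65.ZarFppfSheaf
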